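import Mathlib
import Cfsg.Prelude.Def_ParabolicCharacters
import Cfsg.Agent.Lib.H10.GL2

/-! The cosets of the upper triangular subgroup of `GL₂`: the projective line. -/

set_option autoImplicit false

namespace Cfsg.Agent.H10

open Matrix Cfsg

variable {F : Type*} [Field F]

lemma mem_upper_iff (g : GL (Fin 2) F) :
    g ∈ upperTriangularGL 2 F ↔ (g : Matrix (Fin 2) (Fin 2) F) 1 0 = 0 := by
  change (g : Matrix (Fin 2) (Fin 2) F).BlockTriangular id ↔ _
  constructor
  · intro h
    exact h (by simp)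
  · intro h i j hij
    fin_cases i <;> fin_cases j <;> simp_all

/-- Two cosets agree iff the first columns are proportional. -/
lemma coset_eq_iff (h₁ h₂ : GL (Fin 2) F) :
    (QuotientGroup.mk h₁ : GL (Fin 2) F ⧸ upperTriangularGL 2 F) = QuotientGroup.mk h₂ ↔
      (h₁ : Matrix (Fin 2) (Fin 2) F) 0 0 * (h₂ : Matrix (Fin 2) (Fin 2) F) 1 0 =
        (h₁ : Matrix (Fin 2) (Fin 2) F) 1 0 * (h₂ : Matrix (Fin 2) (Fin 2) F) 0 0 := by
  rw [QuotientGroup.eq, mem_upper_iff]
  have key : (h₂ : Matrix (Fin 2) (Fin 2) F) =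
      (h₁ : Matrix (Fin 2) (Fin 2) F) * ((h₁⁻¹ * h₂ : GL (Fin 2) F) : Matrix (Fin 2) (Fin 2) F) := by
    rw [← Units.val_mul, mul_inv_cancel_left]
  set y := ((h₁⁻¹ * h₂ : GL (Fin 2) F) : Matrix (Fin 2) (Fin 2) F) with hy
  have e0 := congrFun (congrFun key 0) 0
  have e1 := congrFun (congrFun key 1) 0
  simp only [Matrix.mul_apply, Fin.sum_univ_two] at e0 e1
  have hdet : (h₁ : Matrix (Fin 2) (Fin 2) F).det ≠ 0 :=
    ((Matrix.isUnit_iff_isUnit_det _).mp h₁.isUnit).ne_zero
  rw [Matrix.det_fin_two] at hdet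
  constructor
  · intro h
    rw [e0, e1, h]
    ring
  · intro h
    rw [e0, e1] at h
    have : (h₁ : Matrix (Fin 2) (Fin 2) F) 0 0 * (h₁ : Matrix (Fin 2) (Fin 2) F) 1 1 -
        (h₁ : Matrix (Fin 2) (Fin 2) F) 0 1 * (h₁ : Matrix (Fin 2) (Fin 2) F) 1 0 ≠ 0 := hdet
    apply mul_left_cancel₀ this
    linear_combination h

/-- Coset representatives. -/
def lineRep : Option F → GL (Fin 2) F
  | none => 1
  | some t => Matrix.GeneralLinearGroup.mkOfDetNeZero !![t, 1; 1, 0] (by simp [Matrix.det_fin_two])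

@[simp] lemma lineRep_none : (lineRep (none : Option F) : GL (Fin 2) F) = 1 := rfl
@[simp] lemma lineRep_some (t : F) :
    ((lineRep (some t) : GL (Fin 2) F) : Matrix (Fin 2) (Fin 2) F) = !![t, 1; 1, 0] := rfl

lemma lineRep_bij : Function.Bijective
    (fun x : Option F => (QuotientGroup.mk (lineRep x) : GL (Fin 2) F ⧸ upperTriangularGL 2 F)) := by
  constructor
  · rintro (_ | t) (_ | t') h
    · rfl
    · have := (coset_eq_iff _ _).mp h
      simp at this
    · have := (coset_eq_iff _ _).mp h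
      simp at this
    · have := (coset_eq_iff _ _).mp h
      simp at this
      rw [this]
  · intro c
    obtain ⟨h, rfl⟩ := QuotientGroup.mk_surjective c
    by_cases hc : (h : Matrix (Fin 2) (Fin 2) F) 1 0 = 0
    · refine ⟨none, (coset_eq_iff _ _).mpr ?_⟩
      simp [hc]
    · refine ⟨some ((h : Matrix (Fin 2) (Fin 2) F) 0 0 / (h : Matrix (Fin 2) (Fin 2) F) 1 0), (coset_eq_iff _ _).mpr ?_⟩
      simp
      field_simp

/-- The projective line parametrizes the cosets. -/
noncomputable def lineEquiv : Option F ≃ (GL (Fin 2) F ⧸ upperTriangularGL 2 F) :=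
  Equiv.ofBijective _ lineRep_bij

/-- Which lines are fixed. -/
def lineFixed (g : GL (Fin 2) F) : Option F → Prop
  | none => (g : Matrix (Fin 2) (Fin 2) F) 1 0 = 0
  | some t => (g : Matrix (Fin 2) (Fin 2) F) 0 0 * t + (g : Matrix (Fin 2) (Fin 2) F) 0 1 =
      ((g : Matrix (Fin 2) (Fin 2) F) 1 0 * t + (g : Matrix (Fin 2) (Fin 2) F) 1 1) * t

lemma lineRep_fixed_iff (g : GL (Fin 2) F) (x : Option F) :
    g • (lineEquiv x) = lineEquiv x ↔ lineFixed g x := by
  change g • (QuotientGroup.mk (lineRep x) : GL (Fin 2) F ⧸ upperTriangularGL 2 F) = QuotientGroup.mk (lineRep x) ↔ _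
  rw [MulAction.Quotient.smul_mk, smul_eq_mul, coset_eq_iff]
  cases x with
  | none =>
    simp [lineFixed, eq_comm]
  | some t =>
    simp [lineFixed, Matrix.mul_apply, Fin.sum_univ_two]

/-- The fixed points of `g` on the cosets correspond to the fixed lines. -/
noncomputable def fixedEquiv (g : GL (Fin 2) F) :
    {x : Option F // lineFixed g x} ≃ MulAction.fixedBy (GL (Fin 2) F ⧸ upperTriangularGL 2 F) g :=
  lineEquiv.subtypeEquiv (fun x => (lineRep_fixed_iff g x).symm)

lemma fixedPointCharacter_eq (g : GL (Fin 2) F) :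
    fixedPointCharacter (upperTriangularGL 2 F) g = (Nat.card {x : Option F // lineFixed g x} : ℂ) := by
  unfold fixedPointCharacter
  rw [Nat.card_congr (fixedEquiv g)]

end Cfsg.Agent.H10
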