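import Cfsg.Agent.Lib.H10.SubF1

/-!
# The Chevalley group of type `G₂` in characteristic two: basic relations
-/

set_option autoImplicit false
set_option linter.style.haveILetI false
set_option linter.unusedSimpArgs false
set_option linter.unusedSectionVars false
set_option linter.unusedVariables false

open Cfsg.Lie Cfsg.Agent.H04.Chev

namespace Cfsg.Agent.H10.G2C

variable {T : Tabs} {U : Tabs3}

/-- the Weyl group of type `G₂` as a list of permutations of the roots -/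
def WLG : List (List ℕ) :=
  [[0, 1, 2, 3, 4, 5, 6, 7, 8, 9, 10, 11], [0, 5, 3, 2, 7, 1, 10, 4, 9, 8, 6, 11], [1, 0, 2, 4, 3, 6, 5, 8, 7, 9, 11, 10],
  [1, 6, 4, 2, 8, 0, 11, 3, 9, 7, 5, 10], [5, 0, 3, 7, 2, 10, 1, 9, 4, 8, 11, 6],
  [5, 10, 7, 3, 9, 0, 11, 2, 8, 4, 1, 6], [6, 1, 4, 8, 2, 11, 0, 9, 3, 7, 10, 5],
  [6, 11, 8, 4, 9, 1, 10, 2, 7, 3, 0, 5], [10, 5, 7, 9, 3, 11, 0, 8, 2, 4, 6, 1],
  [10, 11, 9, 7, 8, 5, 6, 3, 4, 2, 0, 1], [11, 6, 8, 9, 4, 10, 1, 7, 2, 3, 5, 0],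
  [11, 10, 9, 8, 7, 6, 5, 4, 3, 2, 1, 0]]

lemma WLG_closed : ∀ a ∈ WLG, a.map (chevG2.reflectRoot 0) ∈ WLG ∧ a.map (chevG2.reflectRoot 1) ∈ WLG := by
  decide +kernel

lemma WLG_len : ∀ a ∈ WLG, a.length = 12 := by
  decide +kernel

lemma WLG_one : List.range 12 ∈ WLG := by
  decide +kernel

lemma WLG_11 : ∀ a ∈ WLG, a.getD 11 0 = 11 → a = List.range 12 ∨ a = (List.range 12).map (chevG2.reflectRoot 0) := by
  decide +kernel

lemma WLG_9 : ∀ a ∈ WLG, a.getD 9 0 = 9 → a = List.range 12 ∨ a = (List.range 12).map (chevG2.reflectRoot 1) := by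
  decide +kernel

lemma WLG_long : ∀ a ∈ WLG, a.getD 11 0 ≠ 9 := by
  decide +kernel

lemma WLG_triple : ∀ a ∈ WLG, a.getD 9 0 < 6 ∨ a.getD 9 0 = 9 ∨
    (a.getD 9 0 = 8 ∧ a.getD 10 0 = 6 ∧ a.getD 11 0 = 11) ∨ (a.getD 9 0 = 7 ∧ a.getD 10 0 = 5 ∧ a.getD 11 0 = 10) ∨
    (a.getD 9 0 = 8 ∧ a.getD 10 0 = 11 ∧ a.getD 11 0 = 6) ∨ (a.getD 9 0 = 7 ∧ a.getD 10 0 = 10 ∧ a.getD 11 0 = 5) := by
  decide +kernel

lemma getD_map' {a : List ℕ} (f : ℕ → ℕ) {s : ℕ} (hs : s < a.length) : (a.map f).getD s 0 = f (a.getD s 0) := by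
  simp [List.getD, hs]

section
variable (C : Checks chevG2 T) (C2 : Checks2 chevG2 T) (C3 : Checks3 chevG2 T U)
variable {F : Type*} [Field F]

lemma h12 : chevG2.nroots = 12 := by decide
lemma hrk : chevG2.rank = 2 := by decide
lemma hsimple0 : chevG2.simple 0 = 7 := by decide
lemma hsimple1 : chevG2.simple 1 = 6 := by decide
lemma hhalf : chevG2.nroots / 2 = 6 := by decide

include C C3 in
/-- the elements of the Weyl group -/
lemma w_list {w : Equiv.Perm (Fin chevG2.nroots)} (hw : w ∈ WW C) :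
    ∃ a ∈ WLG, ∀ s : Fin chevG2.nroots, ((w s : Fin chevG2.nroots) : ℕ) = a.getD s.1 0 := by
  obtain ⟨l, hl, rfl⟩ := exists_word C hw
  clear hw
  induction l with
  | nil =>
    refine ⟨_, WLG_one, ?_⟩
    intro s
    have hs : s.1 < 12 := s.2
    simp [wordP_nil, List.getD, hs]
  | cons i l ih =>
    have hi : i < chevG2.rank := hl i List.mem_cons_self
    obtain ⟨a, ha, hs⟩ := ih (fun j hj => hl j (List.mem_cons_of_mem _ hj))
    have hi' : i = 0 ∨ i = 1 := by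
      have : i < 2 := hi
      omega
    refine ⟨a.map (chevG2.reflectRoot i), ?_, ?_⟩
    · rcases hi' with rfl | rfl
      · exact (WLG_closed a ha).1
      · exact (WLG_closed a ha).2
    · intro s
      have hs' : s.1 < a.length := by
        rw [WLG_len a ha]
        exact s.2
      rw [getD_map' _ hs', wordP_cons, Equiv.Perm.mul_apply, wPn_apply C hi, C3.w_reflect i hi _ (Fin.isLt _), hs s]

include C C3 in
/-- the permutation of a monomial element -/
lemma nact_list {n : GL chevG2.Idx F} (hn : n ∈ chevG2.monomialSubgroup F) {π π' : ℕ → ℕ} {d : ℕ → Fˣ} (a : NAct C n π π' d) :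
    ∃ l ∈ WLG, ∃ w ∈ WW C, RepN C F w n ∧ (∀ s : Fin chevG2.nroots, ((w s : Fin chevG2.nroots) : ℕ) = l.getD s.1 0) ∧
      ∀ s, s < 12 → π s = l.getD s 0 := by
  obtain ⟨w, hw, hrep⟩ := RepN.of_N C C3 hn
  obtain ⟨l, hl, e⟩ := w_list C C3 hw
  refine ⟨l, hl, w, hw, hrep, e, ?_⟩
  intro s hs
  obtain ⟨-, π₁, d₁, a₁⟩ := hrep
  have h1 : piOf w s = π s := NAct.perm_unique a₁ a hs
  rw [← h1, ← e ⟨s, hs⟩]
  exact piOf_apply w ⟨s, hs⟩

include C C2 C3 in
/-- the trivial element of the Weyl group -/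
lemma n_triv {n : GL chevG2.Idx F} {w : Equiv.Perm (Fin chevG2.nroots)} (hrep : RepN C F w n)
    (e : ∀ s : Fin chevG2.nroots, ((w s : Fin chevG2.nroots) : ℕ) = (List.range 12).getD s.1 0) : n ∈ chevG2.diagonalSubgroup F := by
  have hw : w = 1 := by
    ext s
    rw [e s]
    have hs : s.1 < 12 := s.2
    simp [List.getD, hs]
  rw [hw] at hrep
  have := RepN.unique C2 C3 (RepN.one C) hrep
  simpa using this

include C C2 C3 in
/-- a reflection of the Weyl group -/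
lemma n_refl {i : ℕ} (hi : i < chevG2.rank) {n : GL chevG2.Idx F} {w : Equiv.Perm (Fin chevG2.nroots)} (hrep : RepN C F w n)
    (e : ∀ s : Fin chevG2.nroots, ((w s : Fin chevG2.nroots) : ℕ) = ((List.range 12).map (chevG2.reflectRoot i)).getD s.1 0) :
    (nG C (chevG2.simple i) (1 : F))⁻¹ * n ∈ chevG2.diagonalSubgroup F := by
  have hw : w = wPn C i := by
    ext s
    rw [e s, wPn_apply C hi, C3.w_reflect i hi _ (Fin.isLt _)]
    have hs : s.1 < 12 := s.2
    simp [List.getD, hs]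
  rw [hw] at hrep
  exact RepN.unique C2 C3 (RepN.simple C hi) hrep

lemma getD_range {s : ℕ} (hs : s < 12) : (List.range 12).getD s 0 = s := by
  simp [List.getD, hs]

lemma getD_refl (i : ℕ) {s : ℕ} (hs : s < 12) : ((List.range 12).map (chevG2.reflectRoot i)).getD s 0 = chevG2.reflectRoot i s := by
  simp [List.getD, hs]

include C C2 C3 in
/-- the monomial elements fixing the highest root -/
lemma n_eleven {n : GL chevG2.Idx F} (hn : n ∈ chevG2.monomialSubgroup F) {π π' : ℕ → ℕ} {d : ℕ → Fˣ} (a : NAct C n π π' d)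
    (h : π 11 = 11) : n ∈ chevG2.diagonalSubgroup F ∨ (nG C 7 (1 : F))⁻¹ * n ∈ chevG2.diagonalSubgroup F := by
  obtain ⟨l, hl, w, hw, hrep, e, e'⟩ := nact_list C C3 hn a
  have h1 : l.getD 11 0 = 11 := by
    rw [← e' 11 (by norm_num)]
    exact h
  rcases WLG_11 l hl h1 with rfl | rfl
  · exact Or.inl (n_triv C C2 C3 hrep e)
  · right
    have := n_refl C C2 C3 (i := 0) (by decide) hrep e
    rwa [hsimple0] at this

include C C2 C3 in
/-- the monomial elements fixing the root `2a + b` -/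
lemma n_nine {n : GL chevG2.Idx F} (hn : n ∈ chevG2.monomialSubgroup F) {π π' : ℕ → ℕ} {d : ℕ → Fˣ} (a : NAct C n π π' d)
    (h : π 9 = 9) : (n ∈ chevG2.diagonalSubgroup F ∧ ∀ r, 6 ≤ r → r < 12 → 6 ≤ π r) ∨
      ((nG C 6 (1 : F))⁻¹ * n ∈ chevG2.diagonalSubgroup F ∧ ∀ r, 7 ≤ r → r < 12 → 6 ≤ π r) := by
  obtain ⟨l, hl, w, hw, hrep, e, e'⟩ := nact_list C C3 hn a
  have h1 : l.getD 9 0 = 9 := by
    rw [← e' 9 (by norm_num)]
    exact h
  rcases WLG_9 l hl h1 with rfl | rfl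
  · refine Or.inl ⟨n_triv C C2 C3 hrep e, ?_⟩
    intro r h6 hr
    rw [e' r hr, getD_range hr]
    exact h6
  · right
    have := n_refl C C2 C3 (i := 1) (by decide) hrep e
    rw [hsimple1] at this
    refine ⟨this, ?_⟩
    intro r h6 hr
    rw [e' r hr, getD_refl 1 hr]
    interval_cases r <;> decide

omit C2 C3 in
/-- root elements are involutions -/
lemma xG_inv2 [CharP F 2] (r : ℕ) (t : F) : (xG C r t)⁻¹ = xG C r t := by
  rw [xG_inv, CharTwo.neg_eq]

omit C2 C3 in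
/-- commuting root elements -/
lemma comm0 {r s : ℕ} (hr : r < chevG2.nroots) (hs : s < chevG2.nroots) (h1 : s ≠ r) (h2 : s ≠ negF chevG2 r)
    (hc : chevG2.commTerms r s = []) (t u : F) : xG C s u * xG C r t = xG C r t * xG C s u := by
  rw [xG_comm C hr hs h1 h2 t u]
  unfold Cfsg.Lie.ChevalleyDatum.commWord
  rw [hc]
  simp

end

section
variable (C : Checks chevG2 T)
variable {F : Type*} [Field F] [CharP F 2]

lemma three_eq : (3 : F) = 1 := by
  have : (3 : F) = 1 + 2 := by norm_num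
  rw [this, CharTwo.two_eq_zero, add_zero]

lemma c67 (t u : F) : xG C 7 u * xG C 6 t = xG C 6 t * xG C 7 u * xG C 8 (t * u) * xG C 9 (t * u ^ 2) * xG C 10 (t * u ^ 3) := by
  rw [xG_comm C (r := 6) (s := 7) (by decide) (by decide) (by decide) (by decide) t u]
  unfold Cfsg.Lie.ChevalleyDatum.commWord
  rw [show chevG2.commTerms 6 7 = [(8, 1, 1, 1), (9, 1, 1, 2), (10, -1, 1, 3), (11, -2, 2, 3)] by decide +kernel]
  simp [mul_assoc, CharTwo.neg_eq, CharTwo.two_eq_zero]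

lemma c78 (t u : F) : xG C 8 u * xG C 7 t = xG C 7 t * xG C 8 u * xG C 10 (t ^ 2 * u) * xG C 11 (t * u ^ 2) := by
  rw [xG_comm C (r := 7) (s := 8) (by decide) (by decide) (by decide) (by decide) t u]
  unfold Cfsg.Lie.ChevalleyDatum.commWord
  rw [show chevG2.commTerms 7 8 = [(9, -2, 1, 1), (10, -3, 2, 1), (11, 3, 1, 2)] by decide +kernel]
  simp [mul_assoc, CharTwo.neg_eq, CharTwo.two_eq_zero, three_eq]

lemma c79 (t u : F) : xG C 9 u * xG C 7 t = xG C 7 t * xG C 9 u * xG C 10 (t * u) := by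
  rw [xG_comm C (r := 7) (s := 9) (by decide) (by decide) (by decide) (by decide) t u]
  unfold Cfsg.Lie.ChevalleyDatum.commWord
  rw [show chevG2.commTerms 7 9 = [(10, 3, 1, 1)] by decide +kernel]
  simp [mul_assoc, CharTwo.neg_eq, CharTwo.two_eq_zero, three_eq]

lemma c89 (t u : F) : xG C 9 u * xG C 8 t = xG C 8 t * xG C 9 u * xG C 11 (t * u) := by
  rw [xG_comm C (r := 8) (s := 9) (by decide) (by decide) (by decide) (by decide) t u]
  unfold Cfsg.Lie.ChevalleyDatum.commWord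
  rw [show chevG2.commTerms 8 9 = [(11, 3, 1, 1)] by decide +kernel]
  simp [mul_assoc, CharTwo.neg_eq, CharTwo.two_eq_zero, three_eq]

lemma c610 (t u : F) : xG C 10 u * xG C 6 t = xG C 6 t * xG C 10 u * xG C 11 (t * u) := by
  rw [xG_comm C (r := 6) (s := 10) (by decide) (by decide) (by decide) (by decide) t u]
  unfold Cfsg.Lie.ChevalleyDatum.commWord
  rw [show chevG2.commTerms 6 10 = [(11, 1, 1, 1)] by decide +kernel]
  simp [mul_assoc, CharTwo.neg_eq, CharTwo.two_eq_zero, three_eq]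

end

end Cfsg.Agent.H10.G2C
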