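import Cfsg.Agent.Lib.H10.G2C1

/-!
# The Chevalley group of type `G₂` in characteristic two: reductions for centralizers of involutions
-/

set_option autoImplicit false
set_option linter.style.haveILetI false
set_option linter.unusedSimpArgs false
set_option linter.unusedSectionVars false
set_option linter.unusedVariables false

open Cfsg.Lie Cfsg.Agent.H04.Chev

namespace Cfsg.Agent.H10.G2C

variable {T : Tabs} {U : Tabs3}

section
variable (C : Checks chevG2 T) (C2 : Checks2 chevG2 T) (C3 : Checks3 chevG2 T U)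
variable {F : Type*} [Field F]

lemma nG_mem_of {Y : Subgroup (GL chevG2.Idx F)} {r : ℕ} (h1 : ∀ t : F, xG C r t ∈ Y) (h2 : ∀ t : F, xG C (chevG2.neg r) t ∈ Y)
    (t : F) : nG C r t ∈ Y := by
  have : nG C r t = xG C r t * (xG C (chevG2.neg r) (-t⁻¹) * xG C r t) := by
    simp [nG, Cfsg.Lie.ChevalleyDatum.nWord]
  rw [this]
  exact mul_mem (h1 t) (mul_mem (h2 _) (h1 t))

lemma hG_mem_of {Y : Subgroup (GL chevG2.Idx F)} {r : ℕ} (h1 : ∀ t : F, xG C r t ∈ Y) (h2 : ∀ t : F, xG C (chevG2.neg r) t ∈ Y)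
    (t : F) : hG C r t ∈ Y := by
  rw [hG_eq]
  exact mul_mem (nG_mem_of C h1 h2 t) (nG_mem_of C h1 h2 _)

lemma Vfrom_anti {m m' : ℕ} (h : m ≤ m') : Vfrom C m' F ≤ Vfrom C m F := by
  unfold Vfrom
  apply Subgroup.closure_mono
  rintro _ ⟨q, t, h1, h2, rfl⟩
  exact ⟨q, t, by omega, h2, rfl⟩

include C2 in
lemma U_iff {g : GL chevG2.Idx F} : g ∈ chevG2.posUnipotent F ↔ g ∈ Vfrom C 6 F := by
  have := mem_posUnipotent_iff_Vfrom C C2 (g := g)
  rwa [hhalf] at this

include C C2 C3 in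
/-- which root elements lie in the filtration -/
lemma root_in_V {p m : ℕ} (hp : p < 12) (hm6 : 6 ≤ m) (hm : m < 12) {a : F} (ha : a ≠ 0) (h : xG C p a ∈ Vfrom C m F) : m ≤ p := by
  by_contra hlt
  have hlt' : p < m := not_le.mp hlt
  by_cases h6 : p < 6
  · have h1 : xG C p a ∈ chevG2.negUnipotent F := xG_mem_neg C ((C2.neg_iff p).mpr (by rw [hhalf]; exact h6)) a
    have h2 : xG C p a ∈ chevG2.posUnipotent F := (U_iff C C2).mpr (Vfrom_anti C hm6 h)
    have h3 : xG C p a ∈ chevG2.borelSubgroup F ⊓ chevG2.negUnipotent F := Subgroup.mem_inf.mpr ⟨U_le_B h2, h1⟩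
    rw [borel_inf_neg C C2 C3, Subgroup.mem_bot] at h3
    have h4 : xG C p a = xG C p (0 : F) := by rw [h3, xG_zero]
    exact ha (xG_inj C C2 hp h4)
  · exact ha (xG_not_Vfrom C C2 (by rw [hhalf]; omega) hp hlt' h)

include C2 in
/-- a leading term vanishes -/
lemma lead {s m : ℕ} (hs0 : 6 ≤ s) (hs : s < 12) (hsm : s < m) {a : F} {v : GL chevG2.Idx F} (hv : v ∈ Vfrom C (s + 1) F)
    (h : xG C s a * v ∈ Vfrom C m F) : a = 0 := by
  apply eq_zero_of_xG_mem C C2 (by rw [hhalf]; omega) hs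
  have h1 := mul_mem (Vfrom_anti C (show s + 1 ≤ m by omega) h) (inv_mem hv)
  simpa using h1

include C C2 C3 in
/-- moving a monomial element -/
lemma reduce_n {b n n₀ : GL chevG2.Idx F} (hb : b ∈ chevG2.borelSubgroup F) (h0 : n₀ ∈ chevG2.monomialSubgroup F)
    (h : n ∈ chevG2.diagonalSubgroup F ∨ n₀⁻¹ * n ∈ chevG2.diagonalSubgroup F) :
    ∃ b' ∈ chevG2.borelSubgroup F, ∃ n₁ : GL chevG2.Idx F, (n₁ = 1 ∨ n₁ = n₀) ∧ b * n = b' * n₁ := by
  rcases h with h | h
  · exact ⟨b * n, mul_mem hb (H_le_B h), 1, Or.inl rfl, by simp⟩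
  · refine ⟨b * (n₀ * (n₀⁻¹ * n) * n₀⁻¹), mul_mem hb (H_le_B (N_conj_H C C3 h0 h)), n₀, Or.inr rfl, ?_⟩
    group

include C3 in
lemma tv_capply (c : ℕ → Fˣ) {s : ℕ} (hs : s < 12) :
    tv U chevG2 (capply chevG2 c) s = c 0 ^ chevG2.cartan 0 s * c 1 ^ chevG2.cartan 1 s := by
  unfold capply
  rw [show List.range chevG2.rank = [0, 1] by decide]
  simp only [List.map_cons, List.map_nil, List.prod_cons, List.prod_nil, mul_one]
  rw [tv_mul, tv_psiI C3 (by decide) hs, tv_psiI C3 (by decide) hs]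

include C C3 in
lemma hProd_G2 (c : ℕ → Fˣ) : hProd U chevG2 c = hG C 7 (c 0 : F) * hG C 6 (c 1 : F) := by
  rw [hProd_eq C C3]
  rw [show List.range chevG2.rank = [0, 1] by decide]
  simp only [List.map_cons, List.map_nil, List.prod_cons, List.prod_nil, mul_one]
  rw [hsimple0, hsimple1]

include C C2 C3 in
/-- splitting an element of the Borel subgroup commuting with a root element -/
lemma borel_split {r : ℕ} (hr0 : 6 ≤ r) (hr : r < 12) {v : GL chevG2.Idx F} (hv : v ∈ chevG2.posUnipotent F) (c : ℕ → Fˣ)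
    (h : (v * hProd U chevG2 c) * xG C r 1 = xG C r 1 * (v * hProd U chevG2 c)) :
    tv U chevG2 (capply chevG2 c) r = 1 ∧ hProd U chevG2 c * xG C r 1 = xG C r 1 * hProd U chevG2 c ∧ v * xG C r 1 = xG C r 1 * v := by
  have hk : hProd U chevG2 c * xG C r (1 : F) * (hProd U chevG2 c)⁻¹ = xG C r (((tv U chevG2 (capply chevG2 c) r : Fˣ) : F) * 1) := by
    unfold hProd
    exact torusG_conj C C3 hr (capply chevG2 c) 1
  have e : v⁻¹ * xG C r (1 : F) * v = xG C r (((tv U chevG2 (capply chevG2 c) r : Fˣ) : F) * 1) := by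
    rw [← hk]
    have h1 : v⁻¹ * (xG C r (1 : F) * (v * hProd U chevG2 c)) * (hProd U chevG2 c)⁻¹ = v⁻¹ * xG C r (1 : F) * v := by group
    rw [← h1, ← h]
    group
  have h5 := comm_x_Vfrom C C2 (by rw [hhalf]; exact hr0) hr ((mem_posUnipotent_iff_Vfrom C C2).mp hv) (1 : F)
  rw [e, xG_inv, xG_add] at h5
  have h6 := eq_zero_of_xG_mem C C2 (by rw [hhalf]; exact hr0) hr h5
  have h7 : ((tv U chevG2 (capply chevG2 c) r : Fˣ) : F) = 1 := by
    have : ((tv U chevG2 (capply chevG2 c) r : Fˣ) : F) * 1 + -1 = 0 := h6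
    linear_combination this
  have h8 : tv U chevG2 (capply chevG2 c) r = 1 := Units.ext h7
  rw [h8] at hk
  have h9 : hProd U chevG2 c * xG C r (1 : F) = xG C r 1 * hProd U chevG2 c := by
    have := hk
    rw [Units.val_one, one_mul, mul_inv_eq_iff_eq_mul] at this
    exact this
  refine ⟨h8, h9, ?_⟩
  rw [h8, Units.val_one, one_mul] at e
  calc v * xG C r (1 : F) = v * (v⁻¹ * xG C r (1 : F) * v) := by rw [e]
    _ = xG C r 1 * v := by group

end

end Cfsg.Agent.H10.G2C
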