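import Cfsg.Agent.Lib.H10.G2C2

/-!
# The Chevalley group of type `G₂` in characteristic two: the centralizer of a long root element
-/

set_option autoImplicit false
set_option linter.style.haveILetI false
set_option linter.unusedSimpArgs false
set_option linter.unusedSectionVars false
set_option linter.unusedVariables false

open Cfsg.Lie Cfsg.Agent.H04.Chev

namespace Cfsg.Agent.H10.G2C

variable {T : Tabs} {U : Tabs3}

section
variable (C : Checks chevG2 T) (C2 : Checks2 chevG2 T) (C3 : Checks3 chevG2 T U)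
variable {F : Type*} [Field F]

include C2 in
/-- the highest root element is central in `U` -/
lemma U_comm_z {u : GL chevG2.Idx F} (hu : u ∈ chevG2.posUnipotent F) : u * xG C 11 (1 : F) = xG C 11 1 * u := by
  have h1 := comm_x_Vfrom C C2 (k := 11) (by decide) (by decide) ((mem_posUnipotent_iff_Vfrom C C2).mp hu) (1 : F)
  rw [show 11 + 1 = chevG2.nroots by decide, Vfrom_top, Subgroup.mem_bot] at h1
  have h2 : u⁻¹ * xG C 11 (1 : F) * u = xG C 11 1 := by
    rwa [mul_inv_eq_one] at h1
  calc u * xG C 11 (1 : F) = u * (u⁻¹ * xG C 11 (1 : F) * u) := by rw [h2]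
    _ = xG C 11 1 * u := by group

include C C2 C3 in
/-- the centralizer of the highest root element, first inclusion -/
theorem cent_z_le {g : GL chevG2.Idx F} (hg : g ∈ chevG2.group F) (hc : g * xG C 11 (1 : F) = xG C 11 1 * g) :
    g ∈ chevG2.posUnipotent F ⊔ chevG2.rootSubgroup F 4 := by
  set z : GL chevG2.Idx F := xG C 11 (1 : F) with hz
  obtain ⟨b, hb, n, hn, π, π', d, a, u, hu, rfl⟩ := bruhat_exists C C2 C3 hg
  have hu' : u ∈ chevG2.posUnipotent F := RS_le_U C C2 (fun r _ h => h.1) hu
  have huz : u * z = z * u := U_comm_z C C2 hu'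
  have h1 : (b * n) * z = z * (b * n) := by
    apply mul_right_cancel (b := u)
    calc b * n * z * u = b * n * (z * u) := by group
      _ = b * n * (u * z) := by rw [huz]
      _ = b * n * u * z := by group
      _ = z * (b * n * u) := hc
      _ = z * (b * n) * u := by group
  have h2 : n * z * n⁻¹ = b⁻¹ * z * b := by
    have : b⁻¹ * (z * (b * n)) * n⁻¹ = b⁻¹ * z * b := by group
    rw [← this, ← h1]
    group
  rw [hz, a.conj 11 (by decide)] at h2
  have h3 := B_conj_Vfrom C C2 C3 (inv_mem hb) (r := 11) (by decide) (by decide) (1 : F)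
  rw [inv_inv, ← h2] at h3
  have h4 : 11 ≤ π 11 := root_in_V C C2 C3 (a.lt 11 (by decide)) (by norm_num) (by norm_num)
    (mul_ne_zero (Units.ne_zero _) one_ne_zero) h3
  have hp : π 11 = 11 := by
    have : π 11 < 12 := a.lt 11 (by decide)
    omega
  have hn7 : nG C 7 (1 : F) ∈ chevG2.monomialSubgroup F := nG_mem_monomial C (by decide)
  obtain ⟨b', hb', n₁, hn₁, e⟩ := reduce_n C C2 C3 hb hn7 (n_eleven C C2 C3 hn a hp)
  have hY7 : ∀ t : F, xG C 7 t ∈ chevG2.posUnipotent F ⊔ chevG2.rootSubgroup F 4 := fun t =>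
    Subgroup.mem_sup_left (xG_mem_pos C ((C2.pos_iff 7).mpr (by decide)) t)
  have hY4 : ∀ t : F, xG C (chevG2.neg 7) t ∈ chevG2.posUnipotent F ⊔ chevG2.rootSubgroup F 4 := fun t =>
    Subgroup.mem_sup_right ((mem_rootSubgroup C).mpr ⟨t, rfl⟩)
  have hc7 : ∀ t : F, xG C 7 t ∈ Subgroup.centralizer ({z} : Set (GL chevG2.Idx F)) := fun t => by
    rw [Subgroup.mem_centralizer_singleton_iff]
    exact comm0 C (r := 11) (s := 7) (by decide) (by decide) (by decide) (by decide) (by decide +kernel) 1 t
  have hc4 : ∀ t : F, xG C (chevG2.neg 7) t ∈ Subgroup.centralizer ({z} : Set (GL chevG2.Idx F)) := fun t => by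
    rw [Subgroup.mem_centralizer_singleton_iff]
    exact comm0 C (r := 11) (s := 4) (by decide) (by decide) (by decide) (by decide) (by decide +kernel) 1 t
  have hn₁Y : n₁ ∈ chevG2.posUnipotent F ⊔ chevG2.rootSubgroup F 4 := by
    rcases hn₁ with rfl | rfl
    · exact one_mem _
    · exact nG_mem_of C hY7 hY4 1
  have hn₁z : n₁ * z = z * n₁ := by
    have : n₁ ∈ Subgroup.centralizer ({z} : Set (GL chevG2.Idx F)) := by
      rcases hn₁ with rfl | rfl
      · exact one_mem _
      · exact nG_mem_of C hc7 hc4 1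
    exact Subgroup.mem_centralizer_singleton_iff.mp this
  have h5 : b' * z = z * b' := by
    apply mul_right_cancel (b := n₁)
    calc b' * z * n₁ = b' * (z * n₁) := by group
      _ = b' * (n₁ * z) := by rw [hn₁z]
      _ = (b' * n₁) * z := by group
      _ = z * (b' * n₁) := by rw [← e, h1]
      _ = z * b' * n₁ := by group
  obtain ⟨v, hv, k, hk, rfl⟩ := (mem_borel_iff C C2 C3).mp hb'
  rw [diagonal_eq C C3] at hk
  obtain ⟨c, rfl⟩ := mem_HT.mp hk
  obtain ⟨h6, -, -⟩ := borel_split C C2 C3 (r := 11) (by norm_num) (by norm_num) hv c h5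
  rw [tv_capply C3 c (by norm_num), show chevG2.cartan 0 11 = 0 by decide, show chevG2.cartan 1 11 = 1 by decide] at h6
  simp only [zpow_zero, zpow_one, one_mul] at h6
  rw [e]
  refine mul_mem (mul_mem (mul_mem (Subgroup.mem_sup_left hv) ?_) hn₁Y) (Subgroup.mem_sup_left hu')
  rw [hProd_G2 C C3, h6, Units.val_one, hG_one C (by decide), mul_one]
  exact hG_mem_of C hY7 hY4 _

include C C2 C3 in
/-- the centralizer of the highest root element -/
theorem cent_z : chevG2.group F ⊓ Subgroup.centralizer ({xG C 11 (1 : F)} : Set (GL chevG2.Idx F)) =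
    chevG2.posUnipotent F ⊔ chevG2.rootSubgroup F 4 := by
  apply le_antisymm
  · rintro g ⟨h1, h2⟩
    exact cent_z_le C C2 C3 h1 (Subgroup.mem_centralizer_singleton_iff.mp h2)
  · apply sup_le
    · intro u hu
      exact Subgroup.mem_inf.mpr ⟨U_le_group C hu, Subgroup.mem_centralizer_singleton_iff.mpr (U_comm_z C C2 hu)⟩
    · intro g hg
      obtain ⟨t, rfl⟩ := (mem_rootSubgroup C).mp hg
      refine Subgroup.mem_inf.mpr ⟨xG_mem_group C (by decide) t, Subgroup.mem_centralizer_singleton_iff.mpr ?_⟩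
      exact comm0 C (r := 11) (s := 4) (by decide) (by decide) (by decide) (by decide) (by decide +kernel) 1 t

end

end Cfsg.Agent.H10.G2C
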