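import Cfsg.Agent.Lib.H10.G2C3

/-!
# The Chevalley group of type `G₂` in characteristic two: the centralizer of a short root element
-/

set_option autoImplicit false
set_option linter.style.haveILetI false
set_option linter.unusedSimpArgs false
set_option linter.unusedSectionVars false
set_option linter.unusedVariables false

open Cfsg.Lie Cfsg.Agent.H04.Chev

namespace Cfsg.Agent.H10.G2C

variable {T : Tabs} {U : Tabs3}

section
variable (C : Checks chevG2 T) (C2 : Checks2 chevG2 T) (C3 : Checks3 chevG2 T U)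
variable {F : Type*} [Field F]

lemma c910 (t u : F) : xG C 10 u * xG C 9 t = xG C 9 t * xG C 10 u :=
  comm0 C (r := 9) (s := 10) (by decide) (by decide) (by decide) (by decide) (by decide +kernel) t u

lemma c911 (t u : F) : xG C 11 u * xG C 9 t = xG C 9 t * xG C 11 u :=
  comm0 C (r := 9) (s := 11) (by decide) (by decide) (by decide) (by decide) (by decide +kernel) t u

lemma c1011 (t u : F) : xG C 11 u * xG C 10 t = xG C 10 t * xG C 11 u :=
  comm0 C (r := 10) (s := 11) (by decide) (by decide) (by decide) (by decide) (by decide +kernel) t u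

/-- the root elements of the abelian normal subgroup -/
noncomputable def tri (α β γ : F) : GL chevG2.Idx F := xG C 9 α * (xG C 10 β * xG C 11 γ)

lemma tri_mul (α β γ α' β' γ' : F) : tri C α β γ * tri C α' β' γ' = tri C (α + α') (β + β') (γ + γ') := by
  unfold tri
  rw [← xG_add, ← xG_add, ← xG_add]
  have e1 : xG C 11 γ * xG C 9 α' = xG C 9 α' * xG C 11 γ := c911 C α' γ
  have e2 : xG C 10 β * xG C 9 α' = xG C 9 α' * xG C 10 β := c910 C α' β
  have e3 : xG C 11 γ * xG C 10 β' = xG C 10 β' * xG C 11 γ := c1011 C β' γ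
  calc xG C 9 α * (xG C 10 β * xG C 11 γ) * (xG C 9 α' * (xG C 10 β' * xG C 11 γ'))
      = xG C 9 α * (xG C 10 β * (xG C 11 γ * xG C 9 α')) * (xG C 10 β' * xG C 11 γ') := by group
    _ = xG C 9 α * ((xG C 10 β * xG C 9 α') * xG C 11 γ) * (xG C 10 β' * xG C 11 γ') := by rw [e1]; group
    _ = xG C 9 α * xG C 9 α' * (xG C 10 β * (xG C 11 γ * xG C 10 β') * xG C 11 γ') := by rw [e2]; group
    _ = _ := by rw [e3]; group

include C2 in
lemma tri_one {α β γ : F} (h : tri C α β γ = 1) : α = 0 ∧ β = 0 ∧ γ = 0 := by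
  unfold tri at h
  have h9 : α = 0 := by
    apply lead C C2 (s := 9) (m := 12) (by norm_num) (by norm_num) (by norm_num) (v := xG C 10 β * xG C 11 γ)
    · exact mul_mem (xG_mem_Vfrom C (by norm_num) (by decide) _) (xG_mem_Vfrom C (by norm_num) (by decide) _)
    · rw [h]
      exact one_mem _
  rw [h9, xG_zero, one_mul] at h
  have h10 : β = 0 := by
    apply lead C C2 (s := 10) (m := 12) (by norm_num) (by norm_num) (by norm_num) (v := xG C 11 γ)
    · exact xG_mem_Vfrom C (by norm_num) (by decide) _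
    · rw [h]
      exact one_mem _
  rw [h10, xG_zero, one_mul] at h
  refine ⟨h9, h10, ?_⟩
  exact xG_inj C C2 (r := 11) (by decide) (by rw [h, xG_zero])

include C C2 C3 in
/-- the negative part of a product -/
lemma neg_part {n : GL chevG2.Idx F} {π π' : ℕ → ℕ} {d : ℕ → Fˣ} (a : NAct C n π π' d) {τ₉ τ₁₀ τ₁₁ : F}
    (h : n * tri C τ₉ τ₁₀ τ₁₁ * n⁻¹ ∈ chevG2.posUnipotent F) :
    (π 9 < 6 → τ₉ = 0) ∧ (π 10 < 6 → τ₁₀ = 0) ∧ (π 11 < 6 → τ₁₁ = 0) := by
  classical
  have hm : ∀ r, 6 ≤ r → r < 12 → ∀ τ : F, xG C r (if π r < 6 then τ else 0) ∈ RS C (Rminus chevG2 π) F := by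
    intro r h6 hr τ
    split_ifs with h1
    · exact xG_mem_RS C hr ⟨by rw [hhalf]; exact h6, by rw [hhalf]; exact h1⟩ τ
    · rw [xG_zero]
      exact one_mem _
  have hp : ∀ r, 6 ≤ r → r < 12 → ∀ τ : F, xG C r (if π r < 6 then 0 else τ) ∈ RS C (Rplus chevG2 π) F := by
    intro r h6 hr τ
    split_ifs with h1
    · rw [xG_zero]
      exact one_mem _
    · exact xG_mem_RS C hr ⟨by rw [hhalf]; exact h6, by rw [hhalf]; exact not_lt.mp h1⟩ τ
  have hm' : tri C (if π 9 < 6 then τ₉ else 0) (if π 10 < 6 then τ₁₀ else 0) (if π 11 < 6 then τ₁₁ else 0) ∈ RS C (Rminus chevG2 π) F :=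
    mul_mem (hm 9 (by norm_num) (by norm_num) _) (mul_mem (hm 10 (by norm_num) (by norm_num) _) (hm 11 (by norm_num) (by norm_num) _))
  have hp' : tri C (if π 9 < 6 then 0 else τ₉) (if π 10 < 6 then 0 else τ₁₀) (if π 11 < 6 then 0 else τ₁₁) ∈ RS C (Rplus chevG2 π) F :=
    mul_mem (hp 9 (by norm_num) (by norm_num) _) (mul_mem (hp 10 (by norm_num) (by norm_num) _) (hp 11 (by norm_num) (by norm_num) _))
  have e0 : ∀ (q : Prop) [Decidable q] (τ : F), (if q then 0 else τ) + (if q then τ else 0) = τ := by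
    intro q _ τ
    split_ifs <;> simp
  have e1 : tri C τ₉ τ₁₀ τ₁₁ = tri C (if π 9 < 6 then 0 else τ₉) (if π 10 < 6 then 0 else τ₁₀) (if π 11 < 6 then 0 else τ₁₁) *
      tri C (if π 9 < 6 then τ₉ else 0) (if π 10 < 6 then τ₁₀ else 0) (if π 11 < 6 then τ₁₁ else 0) := by
    rw [tri_mul, e0, e0, e0]
  have h1 := conj_Rminus C C2 C3 a hm'
  have h2 := conj_Rplus C C2 C3 a hp'
  rw [e1] at h
  have h3 : n * tri C (if π 9 < 6 then τ₉ else 0) (if π 10 < 6 then τ₁₀ else 0) (if π 11 < 6 then τ₁₁ else 0) * n⁻¹ ∈ chevG2.posUnipotent F := by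
    have := mul_mem (inv_mem h2) h
    convert this using 1
    group
  have h4 := Subgroup.mem_inf.mpr ⟨U_le_B h3, h1⟩
  rw [borel_inf_neg C C2 C3, Subgroup.mem_bot] at h4
  have h5 : tri C (if π 9 < 6 then τ₉ else 0) (if π 10 < 6 then τ₁₀ else 0) (if π 11 < 6 then τ₁₁ else 0) = 1 := by
    have h6 := h4
    rw [mul_inv_eq_one] at h6
    exact mul_left_cancel (h6.trans (mul_one n).symm)
  obtain ⟨h7, h8, h9⟩ := tri_one C C2 h5
  refine ⟨fun hh => ?_, fun hh => ?_, fun hh => ?_⟩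
  · rwa [if_pos hh] at h7
  · rwa [if_pos hh] at h8
  · rwa [if_pos hh] at h9

include C2 in
/-- the conjugates of the short root element under `U` -/
lemma y_form {u : GL chevG2.Idx F} (hu : u ∈ chevG2.posUnipotent F) : ∃ e f : F, u * xG C 9 (1 : F) * u⁻¹ = tri C 1 e f := by
  have h1 := comm_x_Vfrom C C2 (k := 9) (by decide) (by decide) ((mem_posUnipotent_iff_Vfrom C C2).mp (inv_mem hu)) (1 : F)
  rw [inv_inv] at h1
  obtain ⟨e, v, hv, he⟩ := Vfrom_decomp C C2 (m := 10) (by decide) (by decide) h1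
  obtain ⟨f, v', hv', hf⟩ := Vfrom_decomp C C2 (m := 11) (by decide) (by decide) hv
  rw [show 11 + 1 = chevG2.nroots by decide, Vfrom_top, Subgroup.mem_bot] at hv'
  refine ⟨e, f, ?_⟩
  have e1 : u * xG C 9 (1 : F) * u⁻¹ = (u * xG C 9 (1 : F) * u⁻¹ * (xG C 9 (1 : F))⁻¹) * xG C 9 1 := by group
  rw [e1, he, hf, hv', mul_one]
  unfold tri
  rw [mul_assoc, c911, ← mul_assoc, c910, mul_assoc]

include C C2 C3 in
/-- the monomial part of an element of the centralizer of the short root element -/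
lemma pi9_of {n : GL chevG2.Idx F} (hn : n ∈ chevG2.monomialSubgroup F) {π π' : ℕ → ℕ} {d : ℕ → Fˣ} (a : NAct C n π π' d)
    {e f : F} (h : n * tri C 1 e f * n⁻¹ ∈ Vfrom C 9 F) : π 9 = 9 := by
  obtain ⟨l, hl, w, hw, hrep, -, e'⟩ := nact_list C C3 hn a
  obtain ⟨hn9, hn10, hn11⟩ := neg_part C C2 C3 a (τ₉ := 1) (τ₁₀ := e) (τ₁₁ := f) ((U_iff C C2).mpr (Vfrom_anti C (by norm_num) h))
  have hconj : n * tri C 1 e f * n⁻¹ = xG C (π 9) ((d 9 : F) * 1) * (xG C (π 10) ((d 10 : F) * e) * xG C (π 11) ((d 11 : F) * f)) := by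
    rw [← a.conj 9 (by decide), ← a.conj 10 (by decide), ← a.conj 11 (by decide)]
    unfold tri
    group
  rw [hconj] at h
  have hδ : (d 9 : F) * 1 ≠ 0 := mul_ne_zero (Units.ne_zero _) one_ne_zero
  set δ : F := (d 9 : F) * 1 with hδd
  have e9 := e' 9 (by norm_num)
  have e10 := e' 10 (by norm_num)
  have e11 := e' 11 (by norm_num)
  have c68 : ∀ x y : F, xG C 8 x * xG C 6 y = xG C 6 y * xG C 8 x := fun x y =>
    comm0 C (r := 6) (s := 8) (by decide) (by decide) (by decide) (by decide) (by decide +kernel) y x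
  have c116 : ∀ x y : F, xG C 11 x * xG C 6 y = xG C 6 y * xG C 11 x := fun x y =>
    comm0 C (r := 6) (s := 11) (by decide) (by decide) (by decide) (by decide) (by decide +kernel) y x
  have v811 : ∀ x : F, xG C 11 x ∈ Vfrom C 9 F := fun x => xG_mem_Vfrom C (by norm_num) (by decide) x
  rcases WLG_triple l hl with h0 | h0 | ⟨h1, h2, h3⟩ | ⟨h1, h2, h3⟩ | ⟨h1, h2, h3⟩ | ⟨h1, h2, h3⟩
  · rw [← e9] at h0
    exact absurd (hn9 h0) one_ne_zero
  · rw [← e9] at h0
    exact h0
  · -- (8, 6, 11)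
    rw [← e9] at h1
    rw [← e10] at h2
    rw [← e11] at h3
    rw [h1, h2, h3] at h
    exfalso
    rw [← mul_assoc, c68, mul_assoc] at h
    have h6 := lead C C2 (s := 6) (m := 9) (by norm_num) (by norm_num) (by norm_num)
      (mul_mem (xG_mem_Vfrom C (by norm_num) (by decide) _) (xG_mem_Vfrom C (by norm_num) (by decide) _)) h
    rw [h6, xG_zero, one_mul] at h
    exact hδ (lead C C2 (s := 8) (m := 9) (by norm_num) (by norm_num) (by norm_num)
      (xG_mem_Vfrom C (by norm_num) (by decide) _) h)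
  · -- (7, 5, 10)
    rw [← e9] at h1
    rw [← e10] at h2
    rw [← e11] at h3
    have he0 : e = 0 := hn10 (by rw [h2]; norm_num)
    rw [h1, h3, he0, mul_zero, xG_zero, one_mul] at h
    exfalso
    exact hδ (lead C C2 (s := 7) (m := 9) (by norm_num) (by norm_num) (by norm_num)
      (xG_mem_Vfrom C (by norm_num) (by decide) _) h)
  · -- (8, 11, 6)
    rw [← e9] at h1
    rw [← e10] at h2
    rw [← e11] at h3
    rw [h1, h2, h3] at h
    exfalso
    rw [c116, ← mul_assoc, c68, mul_assoc] at h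
    have h6 := lead C C2 (s := 6) (m := 9) (by norm_num) (by norm_num) (by norm_num)
      (mul_mem (xG_mem_Vfrom C (by norm_num) (by decide) _) (xG_mem_Vfrom C (by norm_num) (by decide) _)) h
    rw [h6, xG_zero, one_mul] at h
    exact hδ (lead C C2 (s := 8) (m := 9) (by norm_num) (by norm_num) (by norm_num)
      (xG_mem_Vfrom C (by norm_num) (by decide) _) h)
  · -- (7, 10, 5)
    rw [← e9] at h1
    rw [← e10] at h2
    rw [← e11] at h3
    have he0 : f = 0 := hn11 (by rw [h3]; norm_num)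
    rw [h1, h2, he0, mul_zero, xG_zero, mul_one] at h
    exfalso
    exact hδ (lead C C2 (s := 7) (m := 9) (by norm_num) (by norm_num) (by norm_num)
      (xG_mem_Vfrom C (by norm_num) (by decide) _) h)

end

end Cfsg.Agent.H10.G2C
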