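import Cfsg.Agent.Lib.H10.G2C4

/-!
# The Chevalley group of type `G₂` in characteristic two: the centralizer of a short root element, continued
-/

set_option autoImplicit false
set_option linter.style.haveILetI false
set_option linter.unusedSimpArgs false
set_option linter.unusedSectionVars false
set_option linter.unusedVariables false

open Cfsg.Lie Cfsg.Agent.H04.Chev

namespace Cfsg.Agent.H10.G2C

variable {T : Tabs} {U : Tabs3}

section
variable (C : Checks chevG2 T) (C2 : Checks2 chevG2 T) (C3 : Checks3 chevG2 T U)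
variable {F : Type*} [Field F]

/-- the subgroup which is the centralizer of the short root element -/
def Yt (F : Type*) [Field F] : Subgroup (GL chevG2.Idx F) :=
  chevG2.rootSubgroup F 9 ⊔ chevG2.rootSubgroup F 10 ⊔ chevG2.rootSubgroup F 11 ⊔ chevG2.rootSubgroup F 6 ⊔ chevG2.rootSubgroup F 5

lemma x9_Y (t : F) : xG C 9 t ∈ Yt F :=
  Subgroup.mem_sup_left (Subgroup.mem_sup_left (Subgroup.mem_sup_left (Subgroup.mem_sup_left ((mem_rootSubgroup C).mpr ⟨t, rfl⟩))))

lemma x10_Y (t : F) : xG C 10 t ∈ Yt F :=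
  Subgroup.mem_sup_left (Subgroup.mem_sup_left (Subgroup.mem_sup_left (Subgroup.mem_sup_right ((mem_rootSubgroup C).mpr ⟨t, rfl⟩))))

lemma x11_Y (t : F) : xG C 11 t ∈ Yt F :=
  Subgroup.mem_sup_left (Subgroup.mem_sup_left (Subgroup.mem_sup_right ((mem_rootSubgroup C).mpr ⟨t, rfl⟩)))

lemma x6_Y (t : F) : xG C 6 t ∈ Yt F :=
  Subgroup.mem_sup_left (Subgroup.mem_sup_right ((mem_rootSubgroup C).mpr ⟨t, rfl⟩))

lemma x5_Y (t : F) : xG C 5 t ∈ Yt F :=
  Subgroup.mem_sup_right ((mem_rootSubgroup C).mpr ⟨t, rfl⟩)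

lemma Vfrom9_le_Y : Vfrom C 9 F ≤ Yt F := by
  unfold Vfrom
  rw [Subgroup.closure_le]
  rintro _ ⟨r, t, h1, h2, rfl⟩
  have : r < 12 := h2
  have hr : r = 9 ∨ r = 10 ∨ r = 11 := by omega
  rcases hr with rfl | rfl | rfl
  · exact x9_Y C t
  · exact x10_Y C t
  · exact x11_Y C t

lemma c69 (t u : F) : xG C 6 u * xG C 9 t = xG C 9 t * xG C 6 u :=
  comm0 C (r := 9) (s := 6) (by decide) (by decide) (by decide) (by decide) (by decide +kernel) t u

lemma c59 (t u : F) : xG C 5 u * xG C 9 t = xG C 9 t * xG C 5 u :=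
  comm0 C (r := 9) (s := 5) (by decide) (by decide) (by decide) (by decide) (by decide +kernel) t u

lemma c810 (t u : F) : xG C 10 u * xG C 8 t = xG C 8 t * xG C 10 u :=
  comm0 C (r := 8) (s := 10) (by decide) (by decide) (by decide) (by decide) (by decide +kernel) t u

lemma Y_comm {g : GL chevG2.Idx F} (hg : g ∈ Yt F) : g * xG C 9 (1 : F) = xG C 9 1 * g := by
  have : Yt F ≤ Subgroup.centralizer ({xG C 9 (1 : F)} : Set (GL chevG2.Idx F)) := by
    unfold Yt
    have h : ∀ r, (∀ t : F, xG C r t * xG C 9 (1 : F) = xG C 9 1 * xG C r t) →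
        chevG2.rootSubgroup F r ≤ Subgroup.centralizer ({xG C 9 (1 : F)} : Set (GL chevG2.Idx F)) := by
      intro r hr g hg
      obtain ⟨t, rfl⟩ := (mem_rootSubgroup C).mp hg
      exact Subgroup.mem_centralizer_singleton_iff.mpr (hr t)
    refine sup_le (sup_le (sup_le (sup_le (h 9 ?_) (h 10 ?_)) (h 11 ?_)) (h 6 ?_)) (h 5 ?_)
    · intro t
      rw [xG_add, xG_add, add_comm]
    · intro t
      exact c910 C 1 t
    · intro t
      exact c911 C 1 t
    · intro t
      exact c69 C 1 t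
    · intro t
      exact c59 C 1 t
  exact Subgroup.mem_centralizer_singleton_iff.mp (this hg)

variable [CharP F 2]

include C2 in
/-- the elements of `U` centralizing the short root element -/
lemma v_form {v : GL chevG2.Idx F} (hv : v ∈ chevG2.posUnipotent F) (h : v * xG C 9 (1 : F) = xG C 9 1 * v) : v ∈ Yt F := by
  have hv6 := (U_iff C C2).mp hv
  obtain ⟨s₆, v₁, hv₁, rfl⟩ := Vfrom_decomp C C2 (m := 6) (by decide) (by decide) hv6
  obtain ⟨s₇, v₂, hv₂, rfl⟩ := Vfrom_decomp C C2 (m := 7) (by decide) (by decide) hv₁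
  obtain ⟨s₈, v₃, hv₃, rfl⟩ := Vfrom_decomp C C2 (m := 8) (by decide) (by decide) hv₂
  have hv3 : v₃ ∈ Yt F := Vfrom9_le_Y C hv₃
  have h3 : v₃ * xG C 9 (1 : F) = xG C 9 1 * v₃ := Y_comm C hv3
  have e1 := c79 C s₇ (1 : F)
  have e2 := c89 C s₈ (1 : F)
  have e3 := c810 C s₈ (s₇ * 1)
  have e4 : xG C 6 s₆ * xG C 9 (1 : F) = xG C 9 1 * xG C 6 s₆ := c69 C 1 s₆
  have key : xG C 11 (s₈ * 1) * xG C 10 (s₇ * 1) = 1 := by
    have h1 : xG C 7 s₇ * (xG C 8 s₈ * xG C 9 (1 : F)) = xG C 9 1 * (xG C 7 s₇ * xG C 8 s₈) := by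
      have h2 : xG C 6 s₆ * (xG C 7 s₇ * (xG C 8 s₈ * v₃)) * xG C 9 (1 : F) = xG C 6 s₆ * (xG C 9 (1 : F) * (xG C 7 s₇ * xG C 8 s₈)) * v₃ := by
        rw [h, ← mul_assoc (xG C 9 (1 : F)), ← e4]
        group
      have h4 : xG C 7 s₇ * (xG C 8 s₈ * (v₃ * xG C 9 (1 : F))) = xG C 9 (1 : F) * (xG C 7 s₇ * xG C 8 s₈) * v₃ := by
        have := h2
        simp only [mul_assoc, mul_right_inj] at this
        simp only [mul_assoc]
        exact this
      rw [h3] at h4
      apply mul_right_cancel (b := v₃)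
      simpa only [mul_assoc] using h4
    rw [← mul_assoc (xG C 9 (1 : F)), e1, mul_assoc (xG C 7 s₇), mul_assoc (xG C 7 s₇), mul_right_inj, mul_assoc, e3, ← mul_assoc (xG C 9 (1 : F)), e2] at h1
    have h5 : xG C 8 s₈ * xG C 9 (1 : F) * xG C 11 (s₈ * 1) * xG C 10 (s₇ * 1) = xG C 8 s₈ * xG C 9 (1 : F) := by
      exact h1.symm
    rw [mul_assoc] at h5
    exact mul_left_cancel (h5.trans (mul_one _).symm)
  rw [c1011] at key
  have h10 : s₇ * 1 = 0 := by
    apply lead C C2 (s := 10) (m := 12) (by norm_num) (by norm_num) (by norm_num) (v := xG C 11 (s₈ * 1))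
    · exact xG_mem_Vfrom C (by norm_num) (by decide) _
    · rw [key]
      exact one_mem _
  rw [h10, xG_zero, one_mul] at key
  have h11 : s₈ * 1 = 0 := xG_inj C C2 (r := 11) (by decide) (by rw [key, xG_zero])
  rw [mul_one] at h10 h11
  rw [h10, h11, xG_zero, xG_zero, one_mul, one_mul]
  exact mul_mem (x6_Y C s₆) hv3

include C C2 C3 in
/-- the centralizer of the short root element, first inclusion -/
theorem cent_t_le {g : GL chevG2.Idx F} (hg : g ∈ chevG2.group F) (hc : g * xG C 9 (1 : F) = xG C 9 1 * g) : g ∈ Yt F := by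
  set z : GL chevG2.Idx F := xG C 9 (1 : F) with hz
  obtain ⟨b, hb, n, hn, π, π', d, a, u, hu, rfl⟩ := bruhat_exists C C2 C3 hg
  have hu' : u ∈ chevG2.posUnipotent F := RS_le_U C C2 (fun r _ h => h.1) hu
  obtain ⟨e, f, hy⟩ := y_form C C2 hu'
  have h0 : n * tri C 1 e f * n⁻¹ = b⁻¹ * z * b := by
    rw [← hy, ← hz]
    have h1 : b⁻¹ * (b * n * u * z) * u⁻¹ * n⁻¹ = n * (u * z * u⁻¹) * n⁻¹ := by group
    rw [← h1, hc]
    group
  have hV : n * tri C 1 e f * n⁻¹ ∈ Vfrom C 9 F := by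
    rw [h0]
    have h3 := B_conj_Vfrom C C2 C3 (inv_mem hb) (r := 9) (by decide) (by decide) (1 : F)
    rwa [inv_inv] at h3
  have hp : π 9 = 9 := pi9_of C C2 C3 hn a hV
  have hn6 : nG C 6 (1 : F) ∈ chevG2.monomialSubgroup F := nG_mem_monomial C (by decide)
  have hcase := n_nine C C2 C3 hn a hp
  have huX : u ∈ RS C (fun r => r = 6) F := by
    apply RS_mono C F ?_ hu
    intro r hr hh
    rcases hcase with ⟨-, h2⟩ | ⟨-, h2⟩
    · have h3 := h2 r (by have := hh.1; rwa [hhalf] at this) hr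
      have h4 := hh.2
      rw [hhalf] at h4
      omega
    · have h5 := hh.1
      rw [hhalf] at h5
      by_contra h7
      have h3 := h2 r (by omega) hr
      have h4 := hh.2
      rw [hhalf] at h4
      omega
  have hu6 : u ∈ Yt F := by
    have hle : RS C (fun r => r = 6) F ≤ Yt F := by
      unfold RS
      rw [Subgroup.closure_le]
      rintro _ ⟨r, t, h1, rfl, rfl⟩
      exact x6_Y C t
    exact hle huX
  have huz : u * z = z * u := Y_comm C hu6
  have h1 : (b * n) * z = z * (b * n) := by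
    apply mul_right_cancel (b := u)
    calc b * n * z * u = b * n * (z * u) := by group
      _ = b * n * (u * z) := by rw [huz]
      _ = b * n * u * z := by group
      _ = z * (b * n * u) := hc
      _ = z * (b * n) * u := by group
  have hcase' : n ∈ chevG2.diagonalSubgroup F ∨ (nG C 6 (1 : F))⁻¹ * n ∈ chevG2.diagonalSubgroup F := by
    rcases hcase with ⟨h2, -⟩ | ⟨h2, -⟩
    · exact Or.inl h2
    · exact Or.inr h2
  obtain ⟨b', hb', n₁, hn₁, e⟩ := reduce_n C C2 C3 hb hn6 hcase'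
  have hY6 : ∀ t : F, xG C 6 t ∈ Yt F := x6_Y C
  have hY5 : ∀ t : F, xG C (chevG2.neg 6) t ∈ Yt F := x5_Y C
  have hn₁Y : n₁ ∈ Yt F := by
    rcases hn₁ with rfl | rfl
    · exact one_mem _
    · exact nG_mem_of C hY6 hY5 1
  have hn₁z : n₁ * z = z * n₁ := Y_comm C hn₁Y
  have h5 : b' * z = z * b' := by
    apply mul_right_cancel (b := n₁)
    calc b' * z * n₁ = b' * (z * n₁) := by group
      _ = b' * (n₁ * z) := by rw [hn₁z]
      _ = (b' * n₁) * z := by group
      _ = z * (b' * n₁) := by rw [← e, h1]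
      _ = z * b' * n₁ := by group
  obtain ⟨v, hv, k, hk, rfl⟩ := (mem_borel_iff C C2 C3).mp hb'
  rw [diagonal_eq C C3] at hk
  obtain ⟨c, rfl⟩ := mem_HT.mp hk
  obtain ⟨h6, -, h7⟩ := borel_split C C2 C3 (r := 9) (by norm_num) (by norm_num) hv c h5
  rw [tv_capply C3 c (by norm_num), show chevG2.cartan 0 9 = 1 by decide, show chevG2.cartan 1 9 = 0 by decide] at h6
  simp only [zpow_zero, zpow_one, mul_one] at h6
  rw [e]
  refine mul_mem (mul_mem (mul_mem (v_form C C2 hv h7) ?_) hn₁Y) hu6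
  rw [hProd_G2 C C3, h6, Units.val_one, hG_one C (by decide), one_mul]
  exact hG_mem_of C hY6 hY5 _

include C C2 C3 in
/-- the centralizer of the short root element -/
theorem cent_t : chevG2.group F ⊓ Subgroup.centralizer ({xG C 9 (1 : F)} : Set (GL chevG2.Idx F)) = Yt F := by
  apply le_antisymm
  · rintro g ⟨h1, h2⟩
    exact cent_t_le C C2 C3 h1 (Subgroup.mem_centralizer_singleton_iff.mp h2)
  · intro g hg
    refine Subgroup.mem_inf.mpr ⟨?_, Subgroup.mem_centralizer_singleton_iff.mpr (Y_comm C hg)⟩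
    have hle : Yt F ≤ chevG2.group F := by
      unfold Yt
      have h : ∀ r, r < 12 → chevG2.rootSubgroup F r ≤ chevG2.group F := by
        intro r hr g hg
        obtain ⟨t, rfl⟩ := (mem_rootSubgroup C).mp hg
        exact xG_mem_group C hr t
      exact sup_le (sup_le (sup_le (sup_le (h 9 (by norm_num)) (h 10 (by norm_num))) (h 11 (by norm_num))) (h 6 (by norm_num))) (h 5 (by norm_num))
    exact hle hg

end

end Cfsg.Agent.H10.G2C
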