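import Mathlib

/-! Sylow subgroups of `GL_n(q)` for large primes are homocyclic. -/

set_option autoImplicit false
set_option linter.unusedSectionVars false

namespace Cfsg.Agent.H10

open Polynomial

section val

variable {r : ℕ} [Fact r.Prime] {q : ℕ}

lemma ordQ_pos (hrq : ¬ r ∣ q) : 0 < orderOf (q : ZMod r) := by
  have hr : (r : ℕ).Prime := Fact.out
  have h0 : (q : ZMod r) ≠ 0 := by
    rwa [Ne, ZMod.natCast_eq_zero_iff]
  apply orderOf_pos_iff.2
  rw [isOfFinOrder_iff_pow_eq_one]
  exact ⟨r - 1, Nat.sub_pos_of_lt hr.one_lt, ZMod.pow_card_sub_one_eq_one h0⟩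

lemma q_pos_of (hrq : ¬ r ∣ q) : 1 ≤ q := by
  rcases Nat.eq_zero_or_pos q with h | h
  · subst h
    exact absurd (dvd_zero _) hrq
  · exact h

lemma dvd_pow_sub_one_iff (hrq : ¬ r ∣ q) (k : ℕ) : r ∣ q ^ k - 1 ↔ orderOf (q : ZMod r) ∣ k := by
  have hq := q_pos_of hrq
  rw [orderOf_dvd_iff_pow_eq_one, ← ZMod.natCast_eq_zero_iff, Nat.cast_sub (Nat.one_le_pow _ _ hq)]
  push_cast
  exact sub_eq_zero

lemma pow_sub_one_ne_zero (hq : 2 ≤ q) {k : ℕ} (hk : k ≠ 0) : q ^ k - 1 ≠ 0 := by
  have : 1 < q ^ k := Nat.one_lt_pow hk hq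
  omega

/-- `v_r(q^d - 1) = v_r(Φ_d(q))`. -/
lemma val_ord (hrq : ¬ r ∣ q) (hq : 2 ≤ q) :
    padicValNat r (q ^ orderOf (q : ZMod r) - 1) =
      padicValNat r ((cyclotomic (orderOf (q : ZMod r)) ℤ).eval (q : ℤ)).natAbs := by
  set d := orderOf (q : ZMod r) with hd
  have hd0 : 0 < d := ordQ_pos hrq
  have hr : (r : ℕ).Prime := Fact.out
  have hprod := prod_cyclotomic_eq_X_pow_sub_one hd0 ℤ
  rw [← Nat.insert_self_properDivisors hd0.ne', Finset.prod_insert Nat.self_notMem_properDivisors] at hprod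
  have hev := congrArg (eval (q : ℤ)) hprod
  rw [eval_mul, eval_prod] at hev
  simp only [eval_sub, eval_pow, eval_X, eval_one] at hev
  set T : ℤ := ∏ e ∈ d.properDivisors, eval (q : ℤ) (cyclotomic e ℤ) with hT
  have hnat : q ^ d - 1 = ((cyclotomic d ℤ).eval (q : ℤ)).natAbs * T.natAbs := by
    rw [← Int.natAbs_mul, hev]
    have h1 : ((q : ℤ) ^ d - 1) = ((q ^ d - 1 : ℕ) : ℤ) := by
      rw [Nat.cast_sub (Nat.one_le_pow _ _ (by omega))]
      push_cast
      ring
    rw [h1, Int.natAbs_natCast]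
  have hne := pow_sub_one_ne_zero hq hd0.ne'
  rw [hnat] at hne ⊢
  have hne1 := left_ne_zero_of_mul hne
  have hne2 := right_ne_zero_of_mul hne
  rw [padicValNat.mul hne1 hne2]
  have hT0 : padicValNat r T.natAbs = 0 := by
    apply padicValNat.eq_zero_of_not_dvd
    intro hdvd
    have h1 : (r : ℤ) ∣ T := Int.natCast_dvd.2 hdvd
    have hrp : Prime (r : ℤ) := Nat.prime_iff_prime_int.1 hr
    obtain ⟨e, he, h3⟩ := (Prime.dvd_finsetProd_iff hrp _).1 h1
    have h4 : (r : ℤ) ∣ (q : ℤ) ^ e - 1 := by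
      have h5 := eval_dvd (x := (q : ℤ)) (cyclotomic.dvd_X_pow_sub_one e ℤ)
      simp only [eval_sub, eval_pow, eval_X, eval_one] at h5
      exact h3.trans h5
    have hed : d ∣ e := by
      rw [hd, orderOf_dvd_iff_pow_eq_one]
      have h6 := (ZMod.intCast_zmod_eq_zero_iff_dvd ((q : ℤ) ^ e - 1) r).2 h4
      push_cast at h6
      exact sub_eq_zero.1 h6
    have he' := Nat.mem_properDivisors.1 he
    have he0 : 0 < e := Nat.pos_of_dvd_of_pos he'.1 hd0
    exact absurd (Nat.le_of_dvd he0 hed) (by omega)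
  rw [hT0, add_zero]

lemma val_mult (hrq : ¬ r ∣ q) (hq : 2 ≤ q) {j : ℕ} (hj : ¬ r ∣ j) :
    padicValNat r (q ^ (orderOf (q : ZMod r) * j) - 1) =
      padicValNat r (q ^ orderOf (q : ZMod r) - 1) := by
  set d := orderOf (q : ZMod r) with hd
  have hd0 : 0 < d := ordQ_pos hrq
  have hj0 : j ≠ 0 := by
    rintro rfl
    exact hj (dvd_zero _)
  have h1 : 1 ≤ q ^ d := Nat.one_le_pow _ _ (by omega)
  let S := ∑ i ∈ Finset.range j, (q ^ d) ^ i
  have hS : q ^ (d * j) - 1 = S * (q ^ d - 1) := by
    have h2 := geom_sum_mul_add (q ^ d - 1) j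
    rw [Nat.sub_add_cancel h1] at h2
    have h3 : (q ^ d) ^ j = q ^ (d * j) := (pow_mul _ _ _).symm
    rw [h3] at h2
    change S * (q ^ d - 1) + 1 = _ at h2
    omega
  have hne := pow_sub_one_ne_zero hq (mul_ne_zero hd0.ne' hj0)
  rw [hS] at hne ⊢
  rw [padicValNat.mul (left_ne_zero_of_mul hne) (right_ne_zero_of_mul hne)]
  have hS0 : padicValNat r S = 0 := by
    apply padicValNat.eq_zero_of_not_dvd
    intro hdvd
    apply hj
    have h3 : ((S : ℕ) : ZMod r) = 0 := (ZMod.natCast_eq_zero_iff _ _).2 hdvd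
    have h4 : (q : ZMod r) ^ d = 1 := pow_orderOf_eq_one _
    simp only [S, Nat.cast_sum, Nat.cast_pow, h4, one_pow, Finset.sum_const, Finset.card_range, nsmul_eq_mul,
      mul_one] at h3
    exact (ZMod.natCast_eq_zero_iff _ _).1 h3
  rw [hS0, zero_add]

/-- The valuation of `q^k - 1`. -/
lemma val_pow_sub_one (hrq : ¬ r ∣ q) (hq : 2 ≤ q) {k : ℕ} (hk : ¬ (orderOf (q : ZMod r) ∣ k) ∨
      ¬ r ∣ k / orderOf (q : ZMod r)) :
    padicValNat r (q ^ k - 1) = if orderOf (q : ZMod r) ∣ k then
      padicValNat r ((cyclotomic (orderOf (q : ZMod r)) ℤ).eval (q : ℤ)).natAbs else 0 := by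
  by_cases hdk : orderOf (q : ZMod r) ∣ k
  · rw [if_pos hdk]
    obtain ⟨j, rfl⟩ := hdk
    have hj : ¬ r ∣ j := by
      rcases hk with h | h
      · exact absurd (dvd_mul_right _ _) h
      · rwa [Nat.mul_div_cancel_left _ (ordQ_pos hrq)] at h
    rw [val_mult hrq hq hj, val_ord hrq hq]
  · rw [if_neg hdk]
    apply padicValNat.eq_zero_of_not_dvd
    rwa [dvd_pow_sub_one_iff hrq]

lemma val_prod {ι : Type*} (s : Finset ι) (f : ι → ℕ) (hf : ∀ i ∈ s, f i ≠ 0) :
    padicValNat r (∏ i ∈ s, f i) = ∑ i ∈ s, padicValNat r (f i) := by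
  classical
  induction s using Finset.induction_on with
  | empty => simp
  | insert a s ha ih =>
    rw [Finset.prod_insert ha, Finset.sum_insert ha, padicValNat.mul (hf a (Finset.mem_insert_self _ _))
      (Finset.prod_ne_zero_iff.2 (fun i hi => hf i (Finset.mem_insert_of_mem hi))),
      ih (fun i hi => hf i (Finset.mem_insert_of_mem hi))]

/-- The `r`-part of `∏_{k ≤ n} (q^k - 1)`. -/
lemma val_prod_Ioc (hrq : ¬ r ∣ q) (hq : 2 ≤ q) (n : ℕ) (hn : n / orderOf (q : ZMod r) < r) :
    ∑ k ∈ Finset.Ioc 0 n, padicValNat r (q ^ k - 1) =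
      (n / orderOf (q : ZMod r)) * padicValNat r ((cyclotomic (orderOf (q : ZMod r)) ℤ).eval (q : ℤ)).natAbs := by
  have h1 : ∀ k ∈ Finset.Ioc 0 n, padicValNat r (q ^ k - 1) = if orderOf (q : ZMod r) ∣ k then
      padicValNat r ((cyclotomic (orderOf (q : ZMod r)) ℤ).eval (q : ℤ)).natAbs else 0 := by
    intro k hk
    obtain ⟨hk0, hkn⟩ := Finset.mem_Ioc.1 hk
    apply val_pow_sub_one hrq hq
    by_cases hdk : orderOf (q : ZMod r) ∣ k
    · right
      obtain ⟨j, rfl⟩ := hdk
      rw [Nat.mul_div_cancel_left _ (ordQ_pos hrq)]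
      intro hdvd
      have hj0 : 0 < j := Nat.pos_of_ne_zero (by
        rintro rfl
        simp at hk0)
      have h2 := Nat.le_of_dvd hj0 hdvd
      have h3 : j ≤ n / orderOf (q : ZMod r) := by
        rw [Nat.le_div_iff_mul_le (ordQ_pos hrq), mul_comm]
        exact hkn
      omega
    · left
      exact hdk
  rw [Finset.sum_congr rfl h1, ← Finset.sum_filter, Finset.sum_const, Nat.Ioc_filter_dvd_card_eq_div,
    smul_eq_mul]

/-- The order of `GL_n(q)` at `r`. -/
lemma val_GL {F : Type*} [Field F] [Fintype F] (hqF : Fintype.card F = q) (hrq : ¬ r ∣ q) (n : ℕ)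
    (hn : n / orderOf (q : ZMod r) < r) :
    (Nat.card (GL (Fin n) F)).factorization r =
      (n / orderOf (q : ZMod r)) * padicValNat r ((cyclotomic (orderOf (q : ZMod r)) ℤ).eval (q : ℤ)).natAbs := by
  have hr : (r : ℕ).Prime := Fact.out
  have hq : 2 ≤ q := by
    rw [← hqF]
    exact Fintype.one_lt_card
  rw [Nat.factorization_def _ hr, Matrix.card_GL_field, hqF, ← val_prod_Ioc hrq hq n hn]
  have hne : ∀ i : Fin n, q ^ n - q ^ (i : ℕ) ≠ 0 := by
    intro i
    have : q ^ (i : ℕ) < q ^ n := Nat.pow_lt_pow_right (by omega) i.2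
    omega
  rw [val_prod _ _ (fun i _ => hne i)]
  have h1 : ∀ i : Fin n, padicValNat r (q ^ n - q ^ (i : ℕ)) = padicValNat r (q ^ (n - i) - 1) := by
    intro i
    have e : q ^ n - q ^ (i : ℕ) = q ^ (i : ℕ) * (q ^ (n - i) - 1) := by
      rw [Nat.mul_sub, mul_one, ← pow_add]
      congr 2
      have := i.2
      omega
    have hne' := hne i
    rw [e] at hne' ⊢
    rw [padicValNat.mul (left_ne_zero_of_mul hne') (right_ne_zero_of_mul hne'),
      padicValNat.pow, padicValNat.eq_zero_of_not_dvd hrq]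
    simp
  rw [Finset.sum_congr rfl (fun i _ => h1 i), Fin.sum_univ_eq_sum_range (fun i => padicValNat r (q ^ (n - i) - 1)) n]
  apply Finset.sum_nbij' (fun i => n - i) (fun k => n - k)
  · intro i hi
    have := Finset.mem_range.1 hi
    rw [Finset.mem_Ioc]
    omega
  · intro k hk
    obtain ⟨h3, h4⟩ := Finset.mem_Ioc.1 hk
    rw [Finset.mem_range]
    omega
  · intro i hi
    have := Finset.mem_range.1 hi
    omega
  · intro k hk
    obtain ⟨h3, h4⟩ := Finset.mem_Ioc.1 hk
    omega
  · intro i _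
    rfl

end val

section sylow

/-- An injective copy of the right order is Sylow, so every Sylow subgroup is isomorphic to it. -/
theorem sylow_iso_of_injective {G H : Type*} [Group G] [Finite G] [Group H] (r : ℕ) [Fact r.Prime]
    (φ : H →* G) (hφ : Function.Injective φ)
    (hcard : Nat.card H = r ^ (Nat.card G).factorization r) (P : Sylow r G) :
    Nonempty (↥(P : Subgroup G) ≃* H) := by
  have h1 : Nat.card φ.range = r ^ (Nat.card G).factorization r := by
    rw [← hcard]
    exact (Nat.card_congr (MonoidHom.ofInjective hφ).toEquiv).symm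
  let Q : Sylow r G := Sylow.ofCard φ.range h1
  have h2 : (P : Subgroup G) ≃* (Q : Subgroup G) := Sylow.equiv P Q
  exact ⟨h2.trans (MonoidHom.ofInjective hφ).symm⟩

/-- A subgroup of the right order in a bigger group, mapped injectively. -/
theorem sylow_iso_of_map {G G' H : Type*} [Group G] [Finite G] [Group G'] [Finite G'] [Group H] (r : ℕ) [Fact r.Prime]
    (ψ : G →* G') (hψ : Function.Injective ψ)
    (hval : (Nat.card G').factorization r = (Nat.card G).factorization r)
    (hG' : ∀ P' : Sylow r G', Nonempty (↥(P' : Subgroup G') ≃* H)) (P : Sylow r G) :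
    Nonempty (↥(P : Subgroup G) ≃* H) := by
  have h1 : Nat.card ((P : Subgroup G).map ψ) = r ^ (Nat.card G').factorization r := by
    rw [Subgroup.card_map_of_injective hψ, hval, P.card_eq_multiplicity]
  obtain ⟨e⟩ := hG' (Sylow.ofCard _ h1)
  exact ⟨(Subgroup.equivMapOfInjective (P : Subgroup G) ψ hψ).trans e⟩

end sylow

section hom

variable {F : Type*} [Field F] [Fintype F]

/-- A cyclic subgroup of a finite field's unit group. -/
lemma exists_cyclic_hom (K : Type*) [Field K] [Fintype K] {m : ℕ} (hm : m ∣ Fintype.card K - 1) :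
    ∃ ψ : Multiplicative (ZMod m) →* Kˣ, Function.Injective ψ := by
  classical
  have hcard : Nat.card Kˣ = Fintype.card K - 1 := by
    rw [Nat.card_eq_fintype_card, Fintype.card_units]
  obtain ⟨g, hg⟩ := IsCyclic.exists_ofOrder_eq_natCard (α := Kˣ)
  have hK : 1 < Fintype.card K := Fintype.one_lt_card
  have hpos : 0 < Fintype.card K - 1 := by omega
  obtain ⟨c, hc⟩ := hm
  have hc0 : c ≠ 0 := by
    rintro rfl
    simp at hc
    omega
  have hm0 : m ≠ 0 := by
    rintro rfl
    simp at hc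
    omega
  let x := g ^ c
  have hx : orderOf x = m := by
    have h1 : c ∣ orderOf g := by
      rw [hg, hcard, hc]
      exact dvd_mul_left _ _
    rw [orderOf_pow_of_dvd hc0 h1, hg, hcard, hc]
    exact Nat.mul_div_cancel _ (Nat.pos_of_ne_zero hc0)
  have hC : Nat.card (Subgroup.zpowers x) = m := by
    rw [Nat.card_zpowers, hx]
  rw [← hC]
  exact ⟨(Subgroup.zpowers x).subtype.comp (zmodCyclicMulEquiv inferInstance).toMonoidHom,
    (Subgroup.subtype_injective _).comp (zmodCyclicMulEquiv inferInstance).injective⟩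

/-- The block multiplication map. -/
noncomputable def blockMul (K : Type*) [Field K] [Algebra F K] (e s : ℕ) :
    (Fin e → Kˣ) →* Module.End F ((Fin e → K) × (Fin s → F)) where
  toFun u :=
    { toFun := fun x => (fun i => (u i : K) * x.1 i, x.2)
      map_add' := fun x y => by
        ext i
        · simp [mul_add]
        · rfl
      map_smul' := fun c x => by
        ext i
        · simp [Algebra.smul_def, mul_left_comm]
        · rfl }
  map_one' := by
    ext x
    · simp
    · simp
    · simp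
    · simp
  map_mul' u v := by
    ext x
    · simp [mul_assoc]
    · simp [mul_assoc]
    · simp
    · simp

/-- The homocyclic subgroup of `GL_n(F)`. -/
theorem exists_homocyclic_GL (n e d : ℕ) (hd : 1 ≤ d) (hed : e * d ≤ n) {m : ℕ}
    (hm : m ∣ Fintype.card F ^ d - 1) :
    ∃ φ : (Fin e → Multiplicative (ZMod m)) →* GL (Fin n) F, Function.Injective φ := by
  classical
  obtain ⟨p, hp⟩ := CharP.exists F
  have hpp : Fact p.Prime := ⟨CharP.char_is_prime F p⟩
  have hne : NeZero d := ⟨by omega⟩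
  let K := FiniteField.Extension F p d
  have hfr : Module.finrank F K = d := FiniteField.finrank_extension F p d
  haveI : Fintype K := Fintype.ofFinite K
  have hcardK : Fintype.card K = Fintype.card F ^ d := by
    rw [← Nat.card_eq_fintype_card, FiniteField.natCard_extension, Nat.card_eq_fintype_card]
  rw [← hcardK] at hm
  obtain ⟨ψ, hψ⟩ := exists_cyclic_hom K hm
  let s := n - e * d
  let W := (Fin e → K) × (Fin s → F)
  have hfrW : Module.finrank F W = n := by
    simp only [W]
    rw [Module.finrank_prod, Module.finrank_pi_fintype]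
    simp only [hfr, Finset.sum_const, Finset.card_univ, Fintype.card_fin, smul_eq_mul, Module.finrank_fintype_fun_eq_card]
    omega
  let b : Module.Basis (Fin n) F W := Module.finBasisOfFinrankEq F W hfrW
  let f : (Fin e → Kˣ) →* Matrix (Fin n) (Fin n) F :=
    (LinearMap.toMatrixAlgEquiv b : Module.End F W →ₐ[F] Matrix (Fin n) (Fin n) F).toMonoidHom.comp
      (blockMul K e s)
  have hf : Function.Injective f := by
    intro u v h
    have h1 : blockMul (F := F) K e s u = blockMul K e s v := (LinearMap.toMatrixAlgEquiv b).injective h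
    funext i
    apply Units.ext
    have h2 := congrArg (fun L : Module.End F W => (L (Pi.single i 1, 0)).1 i) h1
    simpa [blockMul] using h2
  let g : (Fin e → Multiplicative (ZMod m)) →* (Fin e → Kˣ) :=
    { toFun := fun a i => ψ (a i)
      map_one' := by
        funext i
        simp
      map_mul' := fun a a' => by
        funext i
        simp }
  have hg : Function.Injective g := by
    intro a a' h
    funext i
    exact hψ (congrFun h i)
  refine ⟨(f.comp g).toHomUnits, ?_⟩
  intro a a' h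
  apply hg
  apply hf
  exact congrArg Units.val h

lemma card_homocyclic (e m : ℕ) : Nat.card (Fin e → Multiplicative (ZMod m)) = m ^ e := by
  rw [Nat.card_pi]
  simp [Nat.card_congr (Multiplicative.toAdd (α := ZMod m)), Nat.card_zmod]

end hom

section main

variable {F : Type*} [Field F] [Fintype F] {q : ℕ}

/-- The Sylow `r`-subgroups of `GL_n(q)`, when the exponents are prime to `r`. -/
theorem sylow_GL (hqF : Fintype.card F = q) (n r : ℕ) [Fact r.Prime] (hrq : ¬ r ∣ q)
    (hn : n / orderOf (q : ZMod r) < r) (P : Sylow r (GL (Fin n) F)) :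
    Nonempty (↥(P : Subgroup (GL (Fin n) F)) ≃*
      (Fin (n / orderOf (q : ZMod r)) →
        Multiplicative (ZMod (r ^ padicValNat r ((cyclotomic (orderOf (q : ZMod r)) ℤ).eval (q : ℤ)).natAbs)))) := by
  have hq : 2 ≤ q := by
    rw [← hqF]
    exact Fintype.one_lt_card
  have hd := ordQ_pos hrq
  have hm : r ^ padicValNat r ((cyclotomic (orderOf (q : ZMod r)) ℤ).eval (q : ℤ)).natAbs ∣
      Fintype.card F ^ orderOf (q : ZMod r) - 1 := by
    rw [hqF, ← val_ord hrq hq]
    exact pow_padicValNat_dvd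
  obtain ⟨φ, hφ⟩ := exists_homocyclic_GL (F := F) n (n / orderOf (q : ZMod r)) (orderOf (q : ZMod r)) hd
    (Nat.div_mul_le_self _ _) hm
  apply sylow_iso_of_injective r φ hφ _ P
  rw [card_homocyclic, val_GL hqF hrq n hn, ← pow_mul, mul_comm]

end main

end Cfsg.Agent.H10
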