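import Mathlib
import Cfsg.Agent.Lib.H10.CharGen
import Cfsg.Agent.Lib.H10.Borel2
import Cfsg.Agent.S2330

/-! Principal series of `GL₂` over a finite field. -/

set_option autoImplicit false
set_option linter.unusedSectionVars false
set_option linter.unusedSimpArgs false

namespace Cfsg.Agent.H10

open Cfsg Cfsg.Agent.H21 Matrix

open scoped ComplexConjugate Classical

section MulCharSums

variable {F : Type*} [Field F] [Fintype F]

noncomputable instance fintypeMulCharH10 : Fintype (MulChar F ℂ) := Fintype.ofFinite _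

noncomputable instance fintypeIrrGLH10 : Fintype (IrrCharacter (GL (Fin 2) F)) := Fintype.ofFinite _

lemma mulChar_unit_conj (α : MulChar F ℂ) (a : Fˣ) : α (a : F) * conj (α (a : F)) = 1 := by
  have h1 : conj (α (a : F)) = α⁻¹ (a : F) := by
    have := MulChar.star_apply' α (a : F)
    exact this
  rw [h1, ← MulChar.mul_apply, mul_inv_cancel, MulChar.one_apply (Units.isUnit a)]

lemma mulChar_norm (α : MulChar F ℂ) (a : Fˣ) : ‖α (a : F)‖ = 1 := by
  have h1 := mulChar_unit_conj α a
  rw [Complex.mul_conj, Complex.normSq_eq_norm_sq] at h1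
  have h2 : ‖α (a : F)‖ ^ 2 = 1 := by exact_mod_cast h1
  have h3 := norm_nonneg (α (a : F))
  nlinarith

lemma mulChar_sum_units (χ : MulChar F ℂ) :
    ∑ a : Fˣ, χ (a : F) = if χ = 1 then ((Fintype.card F - 1 : ℕ) : ℂ) else 0 := by
  classical
  have h0 : ∑ a : F, χ a = ∑ a : Fˣ, χ (a : F) := by
    rw [← Finset.sum_subset (Finset.subset_univ (Finset.univ.map ⟨Units.val, Units.val_injective⟩))]
    · rw [Finset.sum_map]
      rfl
    · intro x _ hx
      have : ¬ IsUnit x := by
        rintro ⟨u, rfl⟩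
        exact hx (Finset.mem_map.mpr ⟨u, Finset.mem_univ _, rfl⟩)
      exact χ.map_nonunit this
  split_ifs with h
  · subst h
    simp only [MulChar.one_apply (Units.isUnit _), Finset.sum_const, Finset.card_univ,
      Fintype.card_units, nsmul_eq_mul, mul_one]
  · rw [← h0]
    exact MulChar.sum_eq_zero_of_ne_one h

/-- Orthogonality of multiplicative characters over the units. -/
lemma mulChar_ortho (α α' : MulChar F ℂ) :
    ∑ a : Fˣ, α (a : F) * conj (α' (a : F)) = if α = α' then ((Fintype.card F - 1 : ℕ) : ℂ) else 0 := by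
  have h1 : ∀ a : Fˣ, α (a : F) * conj (α' (a : F)) = (α * α'⁻¹) (a : F) := by
    intro a
    rw [MulChar.mul_apply]
    congr 1
    exact MulChar.star_apply' α' (a : F)
  simp only [h1]
  rw [mulChar_sum_units]
  by_cases h : α = α'
  · subst h
    simp
  · have : α * α'⁻¹ ≠ 1 := by
      intro h2
      exact h (mul_inv_eq_one.mp h2)
    simp [h, this]

lemma card_mulChar : Nat.card (MulChar F ℂ) = Fintype.card F - 1 := by
  rw [MulChar.card_eq_card_units_of_hasEnoughRootsOfUnity, Nat.card_eq_fintype_card,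
    Fintype.card_units]

lemma sum_mulChar_apply (a : Fˣ) :
    ∑ χ : MulChar F ℂ, χ (a : F) = if a = 1 then ((Fintype.card F - 1 : ℕ) : ℂ) else 0 := by
  split_ifs with h
  · subst h
    simp only [Units.val_one, MulChar.map_one, Finset.sum_const, Finset.card_univ, nsmul_eq_mul,
      mul_one]
    rw [← Nat.card_eq_fintype_card, card_mulChar]
  · have ha : (a : F) ≠ 1 := fun h2 => h (Units.ext h2)
    obtain ⟨χ₀, hχ₀⟩ := MulChar.exists_apply_ne_one_of_hasEnoughRootsOfUnity F ℂ ha
    have h1 : χ₀ (a : F) * ∑ χ : MulChar F ℂ, χ (a : F) = ∑ χ : MulChar F ℂ, χ (a : F) := by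
      rw [Finset.mul_sum]
      refine Fintype.sum_equiv (Equiv.mulLeft χ₀) _ _ ?_
      intro χ
      simp [MulChar.mul_apply]
    have h2 : (χ₀ (a : F) - 1) * ∑ χ : MulChar F ℂ, χ (a : F) = 0 := by
      rw [sub_mul, h1]; ring
    exact (mul_eq_zero.mp h2).resolve_left (sub_ne_zero.mpr hχ₀)

/-- Fourier inversion on the group of units. -/
lemma eq_zero_of_forall_mulChar (g : Fˣ → ℂ)
    (h : ∀ α : MulChar F ℂ, ∑ a : Fˣ, α (a : F) * g a = 0) (a₀ : Fˣ) : g a₀ = 0 := by
  have hq : ((Fintype.card F - 1 : ℕ) : ℂ) ≠ 0 := by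
    have hq : 2 ≤ Fintype.card F := Fintype.one_lt_card
    have : Fintype.card F - 1 ≠ 0 := by omega
    exact_mod_cast this
  have h1 : ∑ α : MulChar F ℂ, α ((a₀⁻¹ : Fˣ) : F) * ∑ a : Fˣ, α (a : F) * g a = 0 := by
    simp [h]
  have h2 : ∑ α : MulChar F ℂ, α ((a₀⁻¹ : Fˣ) : F) * ∑ a : Fˣ, α (a : F) * g a =
      ((Fintype.card F - 1 : ℕ) : ℂ) * g a₀ := by
    simp only [Finset.mul_sum]
    rw [Finset.sum_comm]
    have h3 : ∀ a : Fˣ, ∑ α : MulChar F ℂ, α ((a₀⁻¹ : Fˣ) : F) * (α (a : F) * g a) =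
        (if a₀⁻¹ * a = 1 then ((Fintype.card F - 1 : ℕ) : ℂ) else 0) * g a := by
      intro a
      rw [← sum_mulChar_apply, Finset.sum_mul]
      refine Finset.sum_congr rfl fun α _ => ?_
      rw [Units.val_mul, map_mul]
      ring
    simp only [h3]
    rw [Finset.sum_eq_single a₀]
    · simp
    · intro b _ hb
      rw [if_neg, zero_mul]
      intro h4
      apply hb
      exact (inv_mul_eq_one.mp h4).symm
    · intro h4
      exact absurd (Finset.mem_univ _) h4
  rw [h1] at h2
  exact (mul_eq_zero.mp h2.symm).resolve_left hq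

end MulCharSums

section Theta

variable {F : Type*} [Field F]

/-- The linear character of the Borel subgroup. -/
noncomputable def thetaB (α β : MulChar F ℂ) : upperTriangularGL 2 F → ℂ :=
  fun b => α (((b : GL (Fin 2) F) : Matrix (Fin 2) (Fin 2) F) 0 0) *
    β (((b : GL (Fin 2) F) : Matrix (Fin 2) (Fin 2) F) 1 1)

lemma upper_mul_entries (a b : upperTriangularGL 2 F) :
    (((a * b : upperTriangularGL 2 F) : GL (Fin 2) F) : Matrix (Fin 2) (Fin 2) F) 0 0 =
      ((a : GL (Fin 2) F) : Matrix (Fin 2) (Fin 2) F) 0 0 *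
        ((b : GL (Fin 2) F) : Matrix (Fin 2) (Fin 2) F) 0 0 ∧
    (((a * b : upperTriangularGL 2 F) : GL (Fin 2) F) : Matrix (Fin 2) (Fin 2) F) 1 1 =
      ((a : GL (Fin 2) F) : Matrix (Fin 2) (Fin 2) F) 1 1 *
        ((b : GL (Fin 2) F) : Matrix (Fin 2) (Fin 2) F) 1 1 := by
  have ha := (mem_upper_iff _).mp a.2
  have hb := (mem_upper_iff _).mp b.2
  simp [Matrix.mul_apply, Fin.sum_univ_two, ha, hb]

lemma thetaB_mul (α β : MulChar F ℂ) (a b : upperTriangularGL 2 F) :
    thetaB α β (a * b) = thetaB α β a * thetaB α β b := by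
  unfold thetaB
  rw [(upper_mul_entries a b).1, (upper_mul_entries a b).2, map_mul, map_mul]
  ring

lemma thetaB_one (α β : MulChar F ℂ) : thetaB α β 1 = 1 := by
  unfold thetaB
  simp

lemma thetaB_isCharacter (α β : MulChar F ℂ) : IsCharacter (upperTriangularGL 2 F) (thetaB α β) :=
  isCharacter_of_mul _ (thetaB_mul α β) (thetaB_one α β)

lemma thetaB_conj (α β : MulChar F ℂ) (h k : upperTriangularGL 2 F) :
    thetaB α β (k⁻¹ * h * k) = thetaB α β h := by
  rw [thetaB_mul, thetaB_mul, mul_comm (thetaB α β k⁻¹), mul_assoc, mul_comm (thetaB α β k⁻¹)]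
  rw [← thetaB_mul, mul_inv_cancel, thetaB_one, mul_one]

lemma lineRep_some_inv (t : F) :
    (((lineRep (some t) : GL (Fin 2) F)⁻¹ : GL (Fin 2) F) : Matrix (Fin 2) (Fin 2) F) =
      !![0, 1; 1, -t] := by
  apply Units.inv_eq_of_mul_eq_one_right
  ext i j
  fin_cases i <;> fin_cases j <;> simp [Matrix.mul_apply, Fin.sum_univ_two]

variable [Fintype F] [Fintype (GL (Fin 2) F)]

/-- Extension by zero of `thetaB`. -/
lemma extend_thetaB (α β : MulChar F ℂ) (y : GL (Fin 2) F) :
    extendByZero (upperTriangularGL 2 F) (thetaB α β) y =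
      if (y : Matrix (Fin 2) (Fin 2) F) 1 0 = 0 then
        α ((y : Matrix (Fin 2) (Fin 2) F) 0 0) * β ((y : Matrix (Fin 2) (Fin 2) F) 1 1) else 0 := by
  split_ifs with h
  · exact extendByZero_coe _ (thetaB α β) ⟨y, (mem_upper_iff y).mpr h⟩
  · exact extendByZero_of_not_mem _ _ (fun hy => h ((mem_upper_iff y).mp hy))

/-- The principal series function. -/
noncomputable def ps (α β : MulChar F ℂ) : GL (Fin 2) F → ℂ :=
  indFun (upperTriangularGL 2 F) (thetaB α β)

/-- The formula for the principal series values. -/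
theorem ps_apply (α β : MulChar F ℂ) (g : GL (Fin 2) F) :
    ps α β g =
      (if (g : Matrix (Fin 2) (Fin 2) F) 1 0 = 0 then
        α ((g : Matrix (Fin 2) (Fin 2) F) 0 0) * β ((g : Matrix (Fin 2) (Fin 2) F) 1 1) else 0) +
      ∑ t : F, if (g : Matrix (Fin 2) (Fin 2) F) 0 0 * t + (g : Matrix (Fin 2) (Fin 2) F) 0 1 =
          ((g : Matrix (Fin 2) (Fin 2) F) 1 0 * t + (g : Matrix (Fin 2) (Fin 2) F) 1 1) * t then
        α ((g : Matrix (Fin 2) (Fin 2) F) 1 0 * t + (g : Matrix (Fin 2) (Fin 2) F) 1 1) *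
          β ((g : Matrix (Fin 2) (Fin 2) F) 0 0 - (g : Matrix (Fin 2) (Fin 2) F) 1 0 * t) else 0 := by
  have : Fintype (upperTriangularGL 2 F) := Fintype.ofFinite _
  unfold ps
  rw [indFun_eq_sum_transversal _ lineRep lineRep_bij _ (thetaB_conj α β)]
  rw [Fintype.sum_option]
  congr 1
  · rw [extend_thetaB]
    simp
  · refine Finset.sum_congr rfl fun t _ => ?_
    rw [extend_thetaB]
    have e : (((lineRep (some t) : GL (Fin 2) F)⁻¹ * g * lineRep (some t) : GL (Fin 2) F) :
        Matrix (Fin 2) (Fin 2) F) = !![0, 1; 1, -t] * (g : Matrix (Fin 2) (Fin 2) F) * !![t, 1; 1, 0] := by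
      rw [Units.val_mul, Units.val_mul, lineRep_some_inv, lineRep_some]
    rw [e]
    simp only [Matrix.mul_apply, Fin.sum_univ_two]
    simp
    refine if_congr ?_ ?_ rfl
    · constructor <;> intro h <;> linear_combination h
    · congr 2
      ring

/-- Elements of the Borel subgroup. -/
noncomputable def borelMk (a d : Fˣ) (x : F) : upperTriangularGL 2 F :=
  ⟨Matrix.GeneralLinearGroup.mkOfDetNeZero !![(a : F), x; 0, (d : F)]
    (by simp [Matrix.det_fin_two]), (mem_upper_iff _).mpr (by simp [Matrix.GeneralLinearGroup.mkOfDetNeZero])⟩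

@[simp] lemma borelMk_coe (a d : Fˣ) (x : F) :
    (((borelMk a d x : upperTriangularGL 2 F) : GL (Fin 2) F) : Matrix (Fin 2) (Fin 2) F) =
      !![(a : F), x; 0, (d : F)] := rfl

/-- The parametrization of the Borel subgroup. -/
noncomputable def borelEquiv : Fˣ × Fˣ × F ≃ upperTriangularGL 2 F :=
  Equiv.ofBijective (fun p => borelMk p.1 p.2.1 p.2.2) (by
    constructor
    · rintro ⟨a, d, x⟩ ⟨a', d', x'⟩ h
      have h1 := congrArg (fun b : upperTriangularGL 2 F =>
        ((b : GL (Fin 2) F) : Matrix (Fin 2) (Fin 2) F)) h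
      have h00 := congrFun (congrFun h1 0) 0
      have h11 := congrFun (congrFun h1 1) 1
      have h01 := congrFun (congrFun h1 0) 1
      simp at h00 h11 h01
      rw [Units.ext h00, Units.ext h11, h01]
    · rintro ⟨b, hb⟩
      have h10 := (mem_upper_iff b).mp hb
      have hdet : (b : Matrix (Fin 2) (Fin 2) F).det ≠ 0 :=
        ((Matrix.isUnit_iff_isUnit_det _).mp b.isUnit).ne_zero
      rw [Matrix.det_fin_two, h10, mul_zero, sub_zero] at hdet
      refine ⟨(Units.mk0 _ (left_ne_zero_of_mul hdet), Units.mk0 _ (right_ne_zero_of_mul hdet),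
        (b : Matrix (Fin 2) (Fin 2) F) 0 1), ?_⟩
      apply Subtype.ext
      apply Units.ext
      ext i j
      fin_cases i <;> fin_cases j <;> simp [h10])

lemma sum_borel [Fintype (upperTriangularGL 2 F)] (f : upperTriangularGL 2 F → ℂ) :
    ∑ b, f b = ∑ a : Fˣ, ∑ d : Fˣ, ∑ x : F, f (borelMk a d x) := by
  rw [← Equiv.sum_comp borelEquiv, Fintype.sum_prod_type]
  refine Finset.sum_congr rfl fun a _ => ?_
  rw [Fintype.sum_prod_type]
  rfl

lemma card_borel : Nat.card (upperTriangularGL 2 F) =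
    (Fintype.card F - 1) * ((Fintype.card F - 1) * Fintype.card F) := by
  rw [← Nat.card_congr borelEquiv, Nat.card_prod, Nat.card_prod]
  simp [Nat.card_eq_fintype_card, Fintype.card_units]

lemma ps_class (α β : MulChar F ℂ) : IsClassFunction (GL (Fin 2) F) (ps α β) :=
  indFun_isClass _ _

lemma ps_isCharacter (α β : MulChar F ℂ) : IsCharacter (GL (Fin 2) F) (ps α β) := by
  have : Fintype (upperTriangularGL 2 F) := Fintype.ofFinite _
  exact isCharacter_indFun _ (thetaB_isCharacter α β)

/-- Value of the principal series on the Borel subgroup. -/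
lemma ps_borel (α β : MulChar F ℂ) (a d : Fˣ) (x : F) :
    ps α β ((borelMk a d x : upperTriangularGL 2 F) : GL (Fin 2) F) =
      α (a : F) * β (d : F) +
        ∑ t : F, if (a : F) * t + x = (d : F) * t then α (d : F) * β (a : F) else 0 := by
  rw [ps_apply]
  simp

lemma q_sub_one_ne_zero : ((Fintype.card F - 1 : ℕ) : ℂ) ≠ 0 := by
  have hq : 2 ≤ Fintype.card F := Fintype.one_lt_card
  have : Fintype.card F - 1 ≠ 0 := by omega
  exact_mod_cast this

lemma q_ne_zero : ((Fintype.card F : ℕ) : ℂ) ≠ 0 := by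
  have hq : 0 < Fintype.card F := Fintype.card_pos
  exact_mod_cast hq.ne'

/-- Sum over the unipotent radical of the line count. -/
lemma sum_line_count (a d : Fˣ) (c : ℂ) :
    ∑ x : F, ∑ t : F, (if (a : F) * t + x = (d : F) * t then c else 0) = (Fintype.card F : ℂ) * c := by
  rw [Finset.sum_comm]
  have : ∀ t : F, ∑ x : F, (if (a : F) * t + x = (d : F) * t then c else 0) = c := by
    intro t
    rw [Finset.sum_eq_single ((d : F) * t - (a : F) * t)]
    · simp
    · intro b _ hb
      rw [if_neg]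
      intro h
      apply hb
      linear_combination h
    · intro h
      exact absurd (Finset.mem_univ _) h
  simp only [this, Finset.sum_const, Finset.card_univ, nsmul_eq_mul]

/-- Mackey formula for the principal series, at the level of inner products. -/
theorem inner_ps (α β α' β' : MulChar F ℂ) :
    classInner (ps α β) (ps α' β') =
      (if α = α' ∧ β = β' then 1 else 0) + (if α = β' ∧ β = α' then 1 else 0) := by
  have : Fintype (upperTriangularGL 2 F) := Fintype.ofFinite _
  have hF := frobenius_reciprocity (upperTriangularGL 2 F) (thetaB α β) (ps α' β') (ps_class α' β')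
  change classInner (indFun _ (thetaB α β)) (ps α' β') = _
  rw [hF]
  unfold classInner
  rw [sum_borel, card_borel]
  have h1 : ∀ (a d : Fˣ), ∑ x : F, thetaB α β (borelMk a d x) *
      conj (ps α' β' ((borelMk a d x : upperTriangularGL 2 F) : GL (Fin 2) F)) =
      (Fintype.card F : ℂ) * ((α (a : F) * conj (α' (a : F))) * (β (d : F) * conj (β' (d : F))) +
        (α (a : F) * conj (β' (a : F))) * (β (d : F) * conj (α' (d : F)))) := by
    intro a d
    have h2 : ∀ x : F, thetaB α β (borelMk a d x) *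
        conj (ps α' β' ((borelMk a d x : upperTriangularGL 2 F) : GL (Fin 2) F)) =
        (α (a : F) * conj (α' (a : F))) * (β (d : F) * conj (β' (d : F))) +
        (α (a : F) * β (d : F)) * ∑ t : F, if (a : F) * t + x = (d : F) * t then conj (α' (d : F) * β' (a : F)) else 0 := by
      intro x
      rw [ps_borel]
      simp only [thetaB, borelMk_coe, map_add, map_sum, map_mul, apply_ite (starRingEnd ℂ), map_zero]
      simp
      ring
    simp only [h2]
    rw [Finset.sum_add_distrib, Finset.sum_const, ← Finset.mul_sum, sum_line_count]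
    simp only [Finset.card_univ, nsmul_eq_mul, map_mul]
    ring
  simp only [h1, ← Finset.mul_sum, Finset.sum_add_distrib]
  simp only [← Finset.sum_mul, ← Finset.mul_sum, mulChar_ortho]
  have hq := q_ne_zero (F := F)
  have hq1 := q_sub_one_ne_zero (F := F)
  have key : ∀ (P Q : Prop) [Decidable P] [Decidable Q] (c : ℂ),
      (if P then c else 0) * (if Q then c else 0) = c * c * (if P ∧ Q then 1 else 0) := by
    intro P Q _ _ c
    by_cases hP : P <;> by_cases hQ : Q <;> simp [hP, hQ]
  rw [key, key, Nat.cast_mul, Nat.cast_mul]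
  field_simp

/-- The character `λ ∘ det`. -/
noncomputable def detChar (l : MulChar F ℂ) : GL (Fin 2) F → ℂ :=
  fun g => l ((g : Matrix (Fin 2) (Fin 2) F).det)

lemma detChar_mul (l : MulChar F ℂ) (a b : GL (Fin 2) F) :
    detChar l (a * b) = detChar l a * detChar l b := by
  simp [detChar, Matrix.det_mul]

lemma detChar_one (l : MulChar F ℂ) : detChar l 1 = 1 := by
  simp [detChar]

lemma detChar_irr (l : MulChar F ℂ) : IsIrrCharacter (GL (Fin 2) F) (detChar l) :=
  isIrrCharacter_of_mul _ (detChar_mul l) (detChar_one l)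

lemma detChar_borel (l : MulChar F ℂ) (a d : Fˣ) (x : F) :
    detChar l ((borelMk a d x : upperTriangularGL 2 F) : GL (Fin 2) F) = l (a : F) * l (d : F) := by
  simp [detChar, Matrix.det_fin_two]

lemma detChar_inj {l l' : MulChar F ℂ} (h : detChar l = detChar l') : l = l' := by
  apply MulChar.ext
  intro a
  have := congrFun h ((borelMk a 1 0 : upperTriangularGL 2 F) : GL (Fin 2) F)
  rw [detChar_borel, detChar_borel] at this
  simpa using this

/-- Frobenius for a function given on the Borel. -/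
lemma inner_ps_class (α β : MulChar F ℂ) (χ : GL (Fin 2) F → ℂ)
    (hχ : IsClassFunction (GL (Fin 2) F) χ) :
    classInner (ps α β) χ =
      (((Fintype.card F - 1) * ((Fintype.card F - 1) * Fintype.card F) : ℕ) : ℂ)⁻¹ *
      ∑ a : Fˣ, ∑ d : Fˣ, ∑ x : F, α (a : F) * β (d : F) *
        conj (χ ((borelMk a d x : upperTriangularGL 2 F) : GL (Fin 2) F)) := by
  have : Fintype (upperTriangularGL 2 F) := Fintype.ofFinite _
  have hF := frobenius_reciprocity (upperTriangularGL 2 F) (thetaB α β) χ hχ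
  change classInner (indFun _ (thetaB α β)) χ = _
  rw [hF]
  unfold classInner
  rw [sum_borel, card_borel]
  simp only [thetaB, borelMk_coe]
  simp

theorem inner_ps_det (α β l : MulChar F ℂ) :
    classInner (ps α β) (detChar l) = if α = l ∧ β = l then 1 else 0 := by
  rw [inner_ps_class α β _ (isClassFunction_of_isCharacter (isCharacter_of_irr (detChar_irr l)))]
  have h1 : ∀ (a d : Fˣ), ∑ x : F, α (a : F) * β (d : F) *
      conj (detChar l ((borelMk a d x : upperTriangularGL 2 F) : GL (Fin 2) F)) =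
      (Fintype.card F : ℂ) * ((α (a : F) * conj (l (a : F))) * (β (d : F) * conj (l (d : F)))) := by
    intro a d
    simp only [detChar_borel, map_mul, Finset.sum_const, Finset.card_univ, nsmul_eq_mul]
    ring
  simp only [h1, ← Finset.mul_sum]
  simp only [← Finset.sum_mul, ← Finset.mul_sum, mulChar_ortho]
  have hq := q_ne_zero (F := F)
  have hq1 := q_sub_one_ne_zero (F := F)
  have key : ∀ (P Q : Prop) [Decidable P] [Decidable Q] (c : ℂ),
      (if P then c else 0) * (if Q then c else 0) = c * c * (if P ∧ Q then 1 else 0) := by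
    intro P Q _ _ c
    by_cases hP : P <;> by_cases hQ : Q <;> simp [hP, hQ]
  rw [key, Nat.cast_mul, Nat.cast_mul]
  field_simp

theorem inner_det_det (l l' : MulChar F ℂ) :
    classInner (detChar l : GL (Fin 2) F → ℂ) (detChar l') = if l = l' then 1 else 0 := by
  have := classInner_irr (⟨detChar l, detChar_irr l⟩ : IrrCharacter (GL (Fin 2) F)) ⟨detChar l', detChar_irr l'⟩
  simp only [] at this
  rw [this]
  by_cases h : l = l'
  · simp [h]
  · rw [if_neg h, if_neg]
    intro h2
    exact h (detChar_inj (congrArg Subtype.val h2))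

lemma classInner_det_ps (α β l : MulChar F ℂ) :
    classInner (detChar l : GL (Fin 2) F → ℂ) (ps α β) = if α = l ∧ β = l then 1 else 0 := by
  rw [← classInner_comm_conj, inner_ps_det]
  split_ifs <;> simp

/-- The principal series is symmetric. -/
theorem ps_symm (α β : MulChar F ℂ) : (ps α β : GL (Fin 2) F → ℂ) = ps β α := by
  apply eq_of_classInner
  simp only [inner_ps]
  by_cases h : α = β
  · subst h
    simp
  · have h' : β ≠ α := fun h2 => h h2.symm
    simp [h, h']

/-- The Steinberg-type character. -/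
noncomputable def st (l : MulChar F ℂ) : GL (Fin 2) F → ℂ := ps l l - detChar l

theorem inner_ps_irr (α β : MulChar F ℂ) (h : α ≠ β) :
    IsIrrCharacter (GL (Fin 2) F) (ps α β) := by
  apply isIrrCharacter_of_inner_self_eq_one (ps_isCharacter α β)
  rw [inner_ps]
  simp [h]

lemma inner_st_irr_nat (l : MulChar F ℂ) (χ : IrrCharacter (GL (Fin 2) F)) :
    ∃ m : ℕ, classInner (st l) (χ : GL (Fin 2) F → ℂ) = m := by
  obtain ⟨m, hm⟩ := classInner_isNat (ps_isCharacter l l) χ
  unfold st
  rw [classInner_sub_left, hm]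
  by_cases h : χ = ⟨detChar l, detChar_irr l⟩
  · subst h
    refine ⟨0, ?_⟩
    have := inner_ps_det l l l
    simp only [and_self, if_true] at this
    simp only [] at hm
    rw [this] at hm
    rw [← hm]
    simp only [inner_det_det, if_true]
    simp
  · refine ⟨m, ?_⟩
    have := classInner_irr (⟨detChar l, detChar_irr l⟩ : IrrCharacter (GL (Fin 2) F)) χ
    simp only [] at this
    rw [this, if_neg (fun h2 => h h2.symm)]
    simp

lemma st_class (l : MulChar F ℂ) : IsClassFunction (GL (Fin 2) F) (st l) := by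
  intro g h
  unfold st
  simp only [Pi.sub_apply]
  rw [ps_class l l g h, isClassFunction_of_isCharacter (isCharacter_of_irr (detChar_irr l)) g h]

lemma st_isCharacter (l : MulChar F ℂ) : IsCharacter (GL (Fin 2) F) (st l) :=
  isCharacter_of_inner_nat (st_class l) (inner_st_irr_nat l)

theorem inner_st_st (l l' : MulChar F ℂ) :
    classInner (st l : GL (Fin 2) F → ℂ) (st l') = if l = l' then 1 else 0 := by
  unfold st
  rw [classInner_sub_left, classInner_sub_right, classInner_sub_right, inner_ps, inner_ps_det,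
    classInner_det_ps, inner_det_det]
  by_cases h : l = l'
  · subst h
    simp
  · have h' : l' ≠ l := fun h2 => h h2.symm
    simp [h, h']

theorem st_irr (l : MulChar F ℂ) : IsIrrCharacter (GL (Fin 2) F) (st l) := by
  apply isIrrCharacter_of_inner_self_eq_one (st_isCharacter l)
  rw [inner_st_st]
  simp

theorem inner_st_det (l l' : MulChar F ℂ) :
    classInner (st l : GL (Fin 2) F → ℂ) (detChar l') = 0 := by
  unfold st
  rw [classInner_sub_left, inner_ps_det, inner_det_det]
  by_cases h : l = l' <;> simp [h]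

theorem inner_ps_st (α β l : MulChar F ℂ) (h : α ≠ β) :
    classInner (ps α β : GL (Fin 2) F → ℂ) (st l) = 0 := by
  unfold st
  rw [classInner_sub_right, inner_ps, inner_ps_det]
  have h1 : ¬ (α = l ∧ β = l) := fun h2 => h (h2.1.trans h2.2.symm)
  simp [h1]

/-- The four kinds of irreducible characters. -/
theorem irr_cases (χ : IrrCharacter (GL (Fin 2) F)) :
    (∃ l, χ.1 = detChar l) ∨ (∃ l, χ.1 = st l) ∨ (∃ α β, α ≠ β ∧ χ.1 = ps α β) ∨
      (∀ α β, classInner χ.1 (ps α β) = 0) := by
  by_contra hcon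
  push Not at hcon
  obtain ⟨h1, h2, h3, α, β, h4⟩ := hcon
  by_cases hab : α = β
  · subst hab
    have e : (ps α α : GL (Fin 2) F → ℂ) = detChar α + st α := by
      unfold st
      abel
    rw [e, classInner_add_right] at h4
    by_cases h5 : classInner χ.1 (detChar α) = 0
    · rw [h5, zero_add] at h4
      have := classInner_irr χ ⟨st α, st_irr α⟩
      simp only [] at this
      rw [this] at h4
      have h6 : χ = ⟨st α, st_irr α⟩ := by
        by_contra h7
        simp [h7] at h4
      exact h2 α (congrArg Subtype.val h6)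
    · have := classInner_irr χ ⟨detChar α, detChar_irr α⟩
      simp only [] at this
      rw [this] at h5
      have h6 : χ = ⟨detChar α, detChar_irr α⟩ := by
        by_contra h7
        simp [h7] at h5
      exact h1 α (congrArg Subtype.val h6)
  · have := classInner_irr χ ⟨ps α β, inner_ps_irr α β hab⟩
    simp only [] at this
    rw [this] at h4
    have h6 : χ = ⟨ps α β, inner_ps_irr α β hab⟩ := by
      by_contra h7
      simp [h7] at h4
    exact h3 α β hab (congrArg Subtype.val h6)

/-- Cuspidal characters have vanishing sums over cosets of the unipotent radical. -/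
theorem cusp_sum (χ : GL (Fin 2) F → ℂ) (hχ : IsClassFunction (GL (Fin 2) F) χ)
    (h : ∀ α β, classInner χ (ps α β) = 0) (a d : Fˣ) :
    ∑ x : F, χ ((borelMk a d x : upperTriangularGL 2 F) : GL (Fin 2) F) = 0 := by
  have h1 : ∀ α β : MulChar F ℂ, ∑ a : Fˣ, ∑ d : Fˣ, ∑ x : F, α (a : F) * β (d : F) *
      conj (χ ((borelMk a d x : upperTriangularGL 2 F) : GL (Fin 2) F)) = 0 := by
    intro α β
    have h2 := h α β
    have h3 : classInner (ps α β) χ = 0 := by
      rw [← classInner_comm_conj, h2, map_zero]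
    rw [inner_ps_class α β χ hχ] at h3
    have hq := q_ne_zero (F := F)
    have hq1 := q_sub_one_ne_zero (F := F)
    refine (mul_eq_zero.mp h3).resolve_left (inv_ne_zero ?_)
    rw [Nat.cast_mul, Nat.cast_mul]
    exact mul_ne_zero hq1 (mul_ne_zero hq1 hq)
  have h2 : ∀ (β : MulChar F ℂ) (a : Fˣ), ∑ d : Fˣ, β (d : F) * ∑ x : F,
      conj (χ ((borelMk a d x : upperTriangularGL 2 F) : GL (Fin 2) F)) = 0 := by
    intro β
    apply eq_zero_of_forall_mulChar
    intro α
    rw [← h1 α β]
    refine Finset.sum_congr rfl fun a _ => ?_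
    rw [Finset.mul_sum]
    refine Finset.sum_congr rfl fun d _ => ?_
    rw [Finset.mul_sum, Finset.mul_sum]
    refine Finset.sum_congr rfl fun x _ => ?_
    ring
  have h3 := eq_zero_of_forall_mulChar _ (fun β => h2 β a) d
  rw [← map_sum] at h3
  exact (map_eq_zero (starRingEnd ℂ)).mp h3

lemma detChar_one' (l : MulChar F ℂ) : (detChar l : GL (Fin 2) F → ℂ) 1 = 1 := detChar_one l

lemma borelMk_one_one_zero : ((borelMk 1 1 0 : upperTriangularGL 2 F) : GL (Fin 2) F) = 1 := by
  apply Units.ext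
  ext i j
  fin_cases i <;> fin_cases j <;> simp

lemma ps_one (α β : MulChar F ℂ) : (ps α β : GL (Fin 2) F → ℂ) 1 = (Fintype.card F : ℂ) + 1 := by
  rw [← borelMk_one_one_zero, ps_borel]
  simp
  ring

lemma st_one (l : MulChar F ℂ) : (st l : GL (Fin 2) F → ℂ) 1 = (Fintype.card F : ℂ) := by
  unfold st
  simp only [Pi.sub_apply, ps_one, detChar_one]
  ring

/-- Nontrivial unipotents in the same central coset are conjugate. -/
lemma borel_isConj_unip (a : Fˣ) (x : F) (hx : x ≠ 0) :
    IsConj ((borelMk a a 1 : upperTriangularGL 2 F) : GL (Fin 2) F)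
      ((borelMk a a x : upperTriangularGL 2 F) : GL (Fin 2) F) := by
  refine gl_isConj_of _ _ !![x, 0; 0, 1] (by simpa [Matrix.det_fin_two] using hx) ?_
  ext i j
  fin_cases i <;> fin_cases j <;> simp [Matrix.mul_apply, Fin.sum_univ_two, mul_comm]

/-- Regular semisimple elements of the Borel subgroup are conjugate to diagonal ones. -/
lemma borel_isConj_diag (a d : Fˣ) (x : F) (h : a ≠ d) :
    IsConj ((borelMk a d 0 : upperTriangularGL 2 F) : GL (Fin 2) F)
      ((borelMk a d x : upperTriangularGL 2 F) : GL (Fin 2) F) := by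
  have hne : (d : F) - (a : F) ≠ 0 := by
    intro h0
    apply h
    apply Units.ext
    linear_combination -h0
  refine gl_isConj_of _ _ !![1, x / ((d : F) - (a : F)); 0, 1] (by simp [Matrix.det_fin_two]) ?_
  ext i j
  fin_cases i <;> fin_cases j <;> simp [Matrix.mul_apply, Fin.sum_univ_two]
  field_simp
  ring

lemma class_eq_of_isConj {G : Type*} [Group G] {χ : G → ℂ} (hχ : IsClassFunction G χ)
    {g h : G} (e : IsConj g h) : χ g = χ h := by
  obtain ⟨c, rfl⟩ := isConj_iff.mp e
  exact (hχ g c).symm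

lemma sum_eq_add_const (f : F → ℂ) (c : ℂ) (hf : ∀ x, x ≠ 0 → f x = c) :
    ∑ x : F, f x = f 0 + ((Fintype.card F - 1 : ℕ) : ℂ) * c := by
  rw [← Finset.add_sum_erase _ _ (Finset.mem_univ (0 : F))]
  congr 1
  rw [Finset.sum_congr rfl (fun x hx => hf x (Finset.ne_of_mem_erase hx)), Finset.sum_const,
    Finset.card_erase_of_mem (Finset.mem_univ _), Finset.card_univ, nsmul_eq_mul]

/-- The value of a cuspidal function at the transvection. -/
lemma cusp_unip (χ : GL (Fin 2) F → ℂ) (hχ : IsClassFunction (GL (Fin 2) F) χ)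
    (h : ∀ α β, classInner χ (ps α β) = 0) :
    χ 1 + ((Fintype.card F - 1 : ℕ) : ℂ) * χ ((borelMk 1 1 1 : upperTriangularGL 2 F) : GL (Fin 2) F) = 0 := by
  have h1 := cusp_sum χ hχ h 1 1
  rw [sum_eq_add_const _ (χ ((borelMk 1 1 1 : upperTriangularGL 2 F) : GL (Fin 2) F))] at h1
  · rwa [borelMk_one_one_zero] at h1
  · intro x hx
    exact (class_eq_of_isConj hχ (borel_isConj_unip 1 x hx)).symm

/-- Cuspidal characters vanish on regular split elements. -/
lemma cusp_split (χ : GL (Fin 2) F → ℂ) (hχ : IsClassFunction (GL (Fin 2) F) χ)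
    (h : ∀ α β, classInner χ (ps α β) = 0) (a d : Fˣ) (had : a ≠ d) :
    χ ((borelMk a d 0 : upperTriangularGL 2 F) : GL (Fin 2) F) = 0 := by
  have h1 := cusp_sum χ hχ h a d
  have h2 : ∀ x : F, χ ((borelMk a d x : upperTriangularGL 2 F) : GL (Fin 2) F) =
      χ ((borelMk a d 0 : upperTriangularGL 2 F) : GL (Fin 2) F) := fun x =>
    (class_eq_of_isConj hχ (borel_isConj_diag a d x had)).symm
  simp only [h2, Finset.sum_const, Finset.card_univ, nsmul_eq_mul] at h1
  exact (mul_eq_zero.mp h1).resolve_left q_ne_zero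

/-- The degree of a cuspidal irreducible character is divisible by `q - 1`. -/
lemma cusp_degree_dvd (χ : GL (Fin 2) F → ℂ) (hχ : IsCharacter (GL (Fin 2) F) χ)
    (h : ∀ α β, classInner χ (ps α β) = 0) :
    (Fintype.card F - 1) ∣ charDegree χ := by
  have h1 := cusp_unip χ (isClassFunction_of_isCharacter hχ) h
  rw [one_eq_charDegree hχ] at h1
  set u := ((borelMk 1 1 1 : upperTriangularGL 2 F) : GL (Fin 2) F)
  set d := charDegree χ
  set k := Fintype.card F - 1 with hk
  have hk0 : (k : ℂ) ≠ 0 := q_sub_one_ne_zero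
  have hk0' : (k : ℚ) ≠ 0 := by exact_mod_cast (by exact_mod_cast hk0 : k ≠ 0)
  have h2 : χ u = (((-(d : ℚ) / (k : ℚ)) : ℚ) : ℂ) := by
    push_cast
    field_simp
    linear_combination h1
  have h3 := isCharacter_isIntegral hχ u
  rw [h2] at h3
  obtain ⟨n, hn⟩ := isInt_of_isIntegral_rat _ h3
  have h4 : -(d : ℚ) = n * k := by
    field_simp at hn
    linarith
  have h5 : -(d : ℤ) = n * k := by exact_mod_cast h4
  have h6 : (k : ℤ) ∣ d := ⟨-n, by linarith⟩
  exact_mod_cast h6

/-- The principal series on unordered pairs. -/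
noncomputable def psS (z : Sym2 (MulChar F ℂ)) : GL (Fin 2) F → ℂ :=
  Sym2.lift ⟨fun α β => ps α β, fun α β => ps_symm α β⟩ z

@[simp] lemma psS_mk (α β : MulChar F ℂ) : (psS s(α, β) : GL (Fin 2) F → ℂ) = ps α β := rfl

lemma psS_irr (z : {z : Sym2 (MulChar F ℂ) // ¬ z.IsDiag}) :
    IsIrrCharacter (GL (Fin 2) F) (psS z.1) := by
  obtain ⟨z, hz⟩ := z
  induction z using Sym2.ind with
  | _ α β =>
    simp only [Sym2.mk_isDiag_iff] at hz
    exact inner_ps_irr α β hz

lemma psS_inj {z z' : {z : Sym2 (MulChar F ℂ) // ¬ z.IsDiag}}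
    (h : (psS z.1 : GL (Fin 2) F → ℂ) = psS z'.1) : z = z' := by
  obtain ⟨z, hz⟩ := z
  obtain ⟨z', hz'⟩ := z'
  induction z using Sym2.ind with
  | _ α β =>
    induction z' using Sym2.ind with
    | _ α' β' =>
      simp only [Sym2.mk_isDiag_iff] at hz hz'
      simp only [psS_mk] at h
      have h1 := inner_ps α β α β
      have h2 := inner_ps α β α' β'
      rw [← h, h1] at h2
      simp only [hz, and_self, if_true, if_false, add_zero] at h2
      apply Subtype.ext
      simp only [Sym2.eq_iff]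
      by_cases h3 : α = α' ∧ β = β'
      · exact Or.inl h3
      · by_cases h4 : α = β' ∧ β = α'
        · exact Or.inr h4
        · simp [h3, h4] at h2

/-- Index set of the noncuspidal irreducible characters. -/
abbrev NCIdx (F : Type*) [Field F] [Fintype F] : Type _ :=
  MulChar F ℂ ⊕ MulChar F ℂ ⊕ {z : Sym2 (MulChar F ℂ) // ¬ z.IsDiag}

/-- The noncuspidal irreducible characters. -/
noncomputable def ncIrr : NCIdx F → IrrCharacter (GL (Fin 2) F)
  | Sum.inl l => ⟨detChar l, detChar_irr l⟩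
  | Sum.inr (Sum.inl l) => ⟨st l, st_irr l⟩
  | Sum.inr (Sum.inr z) => ⟨psS z.1, psS_irr z⟩

theorem ncIrr_inj : Function.Injective (ncIrr (F := F)) := by
  have key1 : ∀ (l l' : MulChar F ℂ), (detChar l : GL (Fin 2) F → ℂ) ≠ st l' := by
    intro l l' h
    have h1 := inner_st_det l' l
    rw [← h, inner_det_det] at h1
    simp at h1
  have key2 : ∀ (l : MulChar F ℂ) (z : {z : Sym2 (MulChar F ℂ) // ¬ z.IsDiag}),
      (detChar l : GL (Fin 2) F → ℂ) ≠ psS z.1 := by
    rintro l ⟨z, hz⟩ h
    induction z using Sym2.ind with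
    | _ α β =>
      simp only [Sym2.mk_isDiag_iff] at hz
      simp only [psS_mk] at h
      have h1 := inner_ps_det α β l
      rw [← h, inner_det_det] at h1
      have h2 : ¬ (α = l ∧ β = l) := fun h3 => hz (h3.1.trans h3.2.symm)
      simp [h2] at h1
  have key3 : ∀ (l : MulChar F ℂ) (z : {z : Sym2 (MulChar F ℂ) // ¬ z.IsDiag}),
      (st l : GL (Fin 2) F → ℂ) ≠ psS z.1 := by
    rintro l ⟨z, hz⟩ h
    induction z using Sym2.ind with
    | _ α β =>
      simp only [Sym2.mk_isDiag_iff] at hz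
      simp only [psS_mk] at h
      have h1 := inner_ps_st α β l hz
      rw [← h, inner_st_st] at h1
      simp at h1
  have v : ∀ x y : NCIdx F, ncIrr x = ncIrr y → (ncIrr x).1 = (ncIrr y).1 := fun x y h =>
    congrArg Subtype.val h
  rintro (l | l | z) (l' | l' | z') h
  · rw [detChar_inj (v _ _ h)]
  · exact absurd (v _ _ h) (key1 _ _)
  · exact absurd (v _ _ h) (key2 _ _)
  · exact absurd (v _ _ h).symm (key1 _ _)
  · have h1 := inner_st_st l l
    have h2 := inner_st_st l l'
    have h3 : (st l : GL (Fin 2) F → ℂ) = st l' := v _ _ h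
    rw [← h3, h1] at h2
    by_cases h4 : l = l'
    · rw [h4]
    · simp [h4] at h2
  · exact absurd (v _ _ h) (key3 _ _)
  · exact absurd (v _ _ h).symm (key2 _ _)
  · exact absurd (v _ _ h).symm (key3 _ _)
  · rw [psS_inj (v _ _ h)]

lemma ncIrr_cuspidal_not (i : NCIdx F) :
    ¬ (∀ α β, classInner (ncIrr i).1 (ps α β) = 0) := by
  intro h
  rcases i with l | l | ⟨z, hz⟩
  · have := h l l
    change classInner (detChar l) (ps l l) = 0 at this
    rw [classInner_det_ps] at this
    simp at this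
  · have := h l l
    change classInner (st l) (ps l l) = 0 at this
    have e : (ps l l : GL (Fin 2) F → ℂ) = detChar l + st l := by
      unfold st
      abel
    rw [e, classInner_add_right, inner_st_st, inner_st_det] at this
    simp at this
  · induction z using Sym2.ind with
    | _ α β =>
      simp only [Sym2.mk_isDiag_iff] at hz
      have := h α β
      change classInner (ps α β) (ps α β) = 0 at this
      rw [inner_ps] at this
      simp [hz] at this

lemma not_mem_range_cuspidal (χ : IrrCharacter (GL (Fin 2) F)) :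
    (∀ α β, classInner χ.1 (ps α β) = 0) ↔ χ ∉ Set.range (ncIrr (F := F)) := by
  constructor
  · rintro h ⟨i, rfl⟩
    exact ncIrr_cuspidal_not i h
  · intro h
    rcases irr_cases χ with ⟨l, hl⟩ | ⟨l, hl⟩ | ⟨α, β, hab, hl⟩ | h3
    · exact absurd ⟨Sum.inl l, Subtype.ext hl.symm⟩ h
    · exact absurd ⟨Sum.inr (Sum.inl l), Subtype.ext hl.symm⟩ h
    · refine absurd ⟨Sum.inr (Sum.inr ⟨s(α, β), ?_⟩), Subtype.ext hl.symm⟩ h
      simpa using hab
    · exact h3

/-- degree of noncuspidal characters -/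
noncomputable def ncDeg : NCIdx F → ℕ
  | Sum.inl _ => 1
  | Sum.inr (Sum.inl _) => Fintype.card F
  | Sum.inr (Sum.inr _) => Fintype.card F + 1

lemma ncIrr_one (i : NCIdx F) : (ncIrr i).1 1 = (ncDeg i : ℂ) := by
  rcases i with l | l | ⟨z, hz⟩
  · simpa [ncIrr, ncDeg] using detChar_one l
  · simpa [ncIrr, ncDeg] using st_one l
  · induction z using Sym2.ind with
    | _ α β =>
      simpa [ncIrr, ncDeg] using ps_one α β

lemma ncIrr_degree (i : NCIdx F) : charDegree (ncIrr i).1 = ncDeg i := by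
  have h1 := ncIrr_one i
  rw [one_eq_charDegree (isCharacter_of_irr (ncIrr i).2)] at h1
  exact_mod_cast h1

lemma card_NCIdx : Fintype.card (NCIdx F) =
    (Fintype.card F - 1) + ((Fintype.card F - 1) + (Fintype.card F - 1).choose 2) := by
  simp only [Fintype.card_sum]
  rw [Sym2.card_subtype_not_diag, ← Nat.card_eq_fintype_card (α := MulChar F ℂ), card_mulChar]

lemma sum_ncDeg_sq : ∑ i : NCIdx F, (ncDeg i) ^ 2 =
    (Fintype.card F - 1) * 1 + ((Fintype.card F - 1) * Fintype.card F ^ 2 +
      (Fintype.card F - 1).choose 2 * (Fintype.card F + 1) ^ 2) := by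
  simp only [Fintype.sum_sum_type, ncDeg, Finset.sum_const, Finset.card_univ, smul_eq_mul, one_pow]
  rw [Sym2.card_subtype_not_diag, ← Nat.card_eq_fintype_card (α := MulChar F ℂ), card_mulChar]

lemma card_irr_GL : Fintype.card (IrrCharacter (GL (Fin 2) F)) = Fintype.card F ^ 2 - 1 := by
  rw [← Nat.card_eq_fintype_card, card_irr_eq_card_conjClasses, Cfsg.Agent.S2330.result]

lemma card_GL_two : Nat.card (GL (Fin 2) F) =
    (Fintype.card F ^ 2 - 1) * (Fintype.card F ^ 2 - Fintype.card F) := by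
  rw [Matrix.card_GL_field]
  simp [Fin.prod_univ_two]

/-- Cuspidal characters have degree `q - 1`: the counting argument. -/
theorem cusp_degree (χ : IrrCharacter (GL (Fin 2) F))
    (h : ∀ α β, classInner χ.1 (ps α β) = 0) : charDegree χ.1 = Fintype.card F - 1 := by
  set q := Fintype.card F with hq
  have hq2 : 2 ≤ q := Fintype.one_lt_card
  obtain ⟨k, hk⟩ : ∃ k, q = k + 1 := ⟨q - 1, by omega⟩
  have hk1 : q - 1 = k := by omega
  set R : Finset (IrrCharacter (GL (Fin 2) F)) := Finset.univ.image (ncIrr (F := F)) with hR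
  have hRc : ∀ ψ, ψ ∈ Rᶜ ↔ ∀ α β, classInner ψ.1 (ps α β) = 0 := by
    intro ψ
    rw [not_mem_range_cuspidal]
    simp [R]
  -- the sum over all characters
  have hsum := sum_degree_sq (G := GL (Fin 2) F)
  rw [← Finset.sum_add_sum_compl R] at hsum
  rw [Finset.sum_image (fun a _ b _ e => ncIrr_inj e)] at hsum
  have h2 : ∑ i : NCIdx F, charDegree (ncIrr i).1 ^ 2 = ∑ i : NCIdx F, ncDeg i ^ 2 :=
    Finset.sum_congr rfl fun i _ => by rw [ncIrr_degree]
  rw [h2, sum_ncDeg_sq, card_GL_two] at hsum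
  -- the number of cuspidal characters
  have hcard : Rᶜ.card + Fintype.card (NCIdx F) = q ^ 2 - 1 := by
    rw [← card_irr_GL, Finset.card_compl, hR, Finset.card_image_of_injective _ ncIrr_inj,
      Finset.card_univ]
    have : Fintype.card (NCIdx F) ≤ Fintype.card (IrrCharacter (GL (Fin 2) F)) :=
      Fintype.card_le_of_injective _ ncIrr_inj
    omega
  rw [card_NCIdx] at hcard
  -- each term is at least `(q-1)^2`
  have hlow : ∀ ψ ∈ Rᶜ, k ^ 2 ≤ charDegree ψ.1 ^ 2 := by
    intro ψ hψ
    have h3 := cusp_degree_dvd ψ.1 (isCharacter_of_irr ψ.2) ((hRc ψ).mp hψ)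
    rw [← hq, hk1] at h3
    have h4 := Nat.le_of_dvd (irr_charDegree_pos ψ.2) h3
    exact Nat.pow_le_pow_left h4 2
  -- the arithmetic
  rw [← hq, hk1] at hsum hcard
  have hc2 : 2 * k.choose 2 = k * (k - 1) := by
    rw [Nat.choose_two_right]
    exact Nat.two_mul_div_two_of_even (Nat.even_mul_pred_self k)
  have hsum2 : ∑ ψ ∈ Rᶜ, charDegree ψ.1 ^ 2 = Rᶜ.card * k ^ 2 := by
    rw [hk] at hsum hcard
    have e1 : (k + 1) ^ 2 - 1 = k ^ 2 + 2 * k := by
      have : (k + 1) ^ 2 = k ^ 2 + 2 * k + 1 := by ring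
      omega
    have e2 : (k + 1) ^ 2 - (k + 1) = k ^ 2 + k := by
      have : (k + 1) ^ 2 = k ^ 2 + k + (k + 1) := by ring
      omega
    rw [e1, e2] at hsum
    rw [e1] at hcard
    generalize ∑ ψ ∈ Rᶜ, charDegree ψ.1 ^ 2 = S at hsum ⊢
    generalize Rᶜ.card = c at hcard ⊢
    generalize k.choose 2 = C at hsum hcard hc2
    have hk1' : 1 ≤ k := by omega
    obtain ⟨m, rfl⟩ : ∃ m, k = m + 1 := ⟨k - 1, by omega⟩
    simp only [Nat.add_sub_cancel] at hc2
    have hs : ((m + 1 : ℤ)) * 1 + ((m + 1) * ((m + 1) + 1) ^ 2 + C * ((m + 1) + 1 + 1) ^ 2) + S =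
        ((m + 1) ^ 2 + 2 * (m + 1)) * ((m + 1) ^ 2 + (m + 1)) := by exact_mod_cast hsum
    have hc : (c : ℤ) + ((m + 1) + ((m + 1) + C)) = (m + 1) ^ 2 + 2 * (m + 1) := by exact_mod_cast hcard
    have hC : (2 : ℤ) * C = (m + 1) * m := by exact_mod_cast hc2
    have : (S : ℤ) = c * (m + 1) ^ 2 := by
      linear_combination hs - (m + 1) ^ 2 * hc - (2 * (m + 1) + 2) * hC
    exact_mod_cast this
  have hmem : χ ∈ Rᶜ := (hRc χ).mpr h
  have heq : ∀ ψ ∈ Rᶜ, charDegree ψ.1 ^ 2 = k ^ 2 := by
    have : ∑ ψ ∈ Rᶜ, k ^ 2 = ∑ ψ ∈ Rᶜ, charDegree ψ.1 ^ 2 := by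
      rw [hsum2, Finset.sum_const, smul_eq_mul]
    intro ψ hψ
    exact ((Finset.sum_eq_sum_iff_of_le hlow).mp this ψ hψ).symm
  have := heq χ hmem
  rw [hk1]
  exact Nat.pow_left_injective (n := 2) (by norm_num) this

/-- The number of cuspidal irreducible characters. -/
theorem card_cusp :
    Nat.card {χ : IrrCharacter (GL (Fin 2) F) // ∀ α β, classInner χ.1 (ps α β) = 0} =
      Fintype.card F * (Fintype.card F - 1) / 2 := by
  set q := Fintype.card F with hq
  have hq2 : 2 ≤ q := Fintype.one_lt_card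
  obtain ⟨k, hk⟩ : ∃ k, q = k + 1 := ⟨q - 1, by omega⟩
  have hk1 : q - 1 = k := by omega
  set R : Finset (IrrCharacter (GL (Fin 2) F)) := Finset.univ.image (ncIrr (F := F)) with hR
  have hRc : ∀ ψ, ψ ∈ Rᶜ ↔ ∀ α β, classInner ψ.1 (ps α β) = 0 := by
    intro ψ
    rw [not_mem_range_cuspidal]
    simp [R]
  have hcard : Rᶜ.card + Fintype.card (NCIdx F) = q ^ 2 - 1 := by
    rw [← card_irr_GL, Finset.card_compl, hR, Finset.card_image_of_injective _ ncIrr_inj,
      Finset.card_univ]
    have : Fintype.card (NCIdx F) ≤ Fintype.card (IrrCharacter (GL (Fin 2) F)) :=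
      Fintype.card_le_of_injective _ ncIrr_inj
    omega
  rw [card_NCIdx, ← hq, hk1, hk] at hcard
  have e1 : (k + 1) ^ 2 - 1 = k ^ 2 + 2 * k := by
    have : (k + 1) ^ 2 = k ^ 2 + 2 * k + 1 := by ring
    omega
  rw [e1] at hcard
  have hc2 : 2 * k.choose 2 = k * (k - 1) := by
    rw [Nat.choose_two_right]
    exact Nat.two_mul_div_two_of_even (Nat.even_mul_pred_self k)
  have h1 : Nat.card {χ : IrrCharacter (GL (Fin 2) F) // ∀ α β, classInner χ.1 (ps α β) = 0} = Rᶜ.card := by
    rw [Nat.card_eq_fintype_card, Fintype.card_subtype]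
    congr 1
    ext ψ
    simp only [Finset.mem_filter, Finset.mem_univ, true_and]
    exact (hRc ψ).symm
  rw [h1, hk1, hk]
  have hk1' : 1 ≤ k := by omega
  obtain ⟨m, rfl⟩ : ∃ m, k = m + 1 := ⟨k - 1, by omega⟩
  simp only [Nat.add_sub_cancel] at hc2
  symm
  apply Nat.div_eq_of_eq_mul_right (by norm_num)
  have hz1 : ((Rᶜ.card : ℕ) : ℤ) + ((m + 1) + ((m + 1) + ((m + 1).choose 2 : ℕ))) = (m + 1) ^ 2 + 2 * (m + 1) := by
    exact_mod_cast hcard
  have hz2 : (2 : ℤ) * ((m + 1).choose 2 : ℕ) = (m + 1) * m := by exact_mod_cast hc2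
  have : (((m + 1 + 1) * (m + 1) : ℕ) : ℤ) = 2 * ((Rᶜ.card : ℕ) : ℤ) := by
    push_cast
    linear_combination (-2) * hz1 + hz2
  exact_mod_cast this

/-- Classification of the irreducible characters of `GL₂`. -/
theorem irr_classify (χ : IrrCharacter (GL (Fin 2) F)) :
    (∃ l, χ.1 = detChar l) ∨ (∃ l, χ.1 = st l) ∨ (∃ α β, α ≠ β ∧ χ.1 = ps α β) ∨
      ((∀ α β, classInner χ.1 (ps α β) = 0) ∧ χ.1 1 = (Fintype.card F : ℂ) - 1) := by
  rcases irr_cases χ with h | h | h | h
  · exact Or.inl h
  · exact Or.inr (Or.inl h)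
  · exact Or.inr (Or.inr (Or.inl h))
  · refine Or.inr (Or.inr (Or.inr ⟨h, ?_⟩))
    rw [one_eq_charDegree (isCharacter_of_irr χ.2), cusp_degree χ h]
    have hq2 : 1 ≤ Fintype.card F := Fintype.card_pos
    push_cast [Nat.cast_sub hq2]
    ring

/-- Value of a noncuspidal principal series at a matrix without eigenvectors. -/
theorem ps_no_eig (α β : MulChar F ℂ) (g : GL (Fin 2) F)
    (hg : ∀ (c : F) (v : Fin 2 → F), v ≠ 0 → (g : Matrix (Fin 2) (Fin 2) F).mulVec v ≠ c • v) :
    ps α β g = 0 := by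
  rw [ps_apply]
  have h1 : (g : Matrix (Fin 2) (Fin 2) F) 1 0 ≠ 0 := by
    intro h'
    refine hg ((g : Matrix (Fin 2) (Fin 2) F) 0 0) ![1, 0] ?_ ?_
    · intro h0
      have := congrFun h0 0
      simp at this
    · ext i
      fin_cases i
      · simp [Matrix.mulVec, dotProduct, Fin.sum_univ_two]
      · simpa [Matrix.mulVec, dotProduct, Fin.sum_univ_two] using h'
  rw [if_neg h1, zero_add]
  apply Finset.sum_eq_zero
  intro t _
  rw [if_neg]
  intro h'
  refine hg ((g : Matrix (Fin 2) (Fin 2) F) 1 0 * t + (g : Matrix (Fin 2) (Fin 2) F) 1 1) ![t, 1] ?_ ?_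
  · intro h0
    have := congrFun h0 1
    simp at this
  · ext i
    fin_cases i
    · simpa [Matrix.mulVec, dotProduct, Fin.sum_univ_two] using h'
    · simp [Matrix.mulVec, dotProduct, Fin.sum_univ_two]

/-- An element with distinct diagonal entries in the split form. -/
lemma borel_of_diag (g : GL (Fin 2) F) (h01 : (g : Matrix (Fin 2) (Fin 2) F) 0 1 = 0)
    (h10 : (g : Matrix (Fin 2) (Fin 2) F) 1 0 = 0) :
    ∃ a d : Fˣ, g = ((borelMk a d 0 : upperTriangularGL 2 F) : GL (Fin 2) F) ∧
      (a : F) = (g : Matrix (Fin 2) (Fin 2) F) 0 0 ∧ (d : F) = (g : Matrix (Fin 2) (Fin 2) F) 1 1 := by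
  have hdet : (g : Matrix (Fin 2) (Fin 2) F).det ≠ 0 :=
    ((Matrix.isUnit_iff_isUnit_det _).mp g.isUnit).ne_zero
  rw [Matrix.det_fin_two, h10, mul_zero, sub_zero] at hdet
  refine ⟨Units.mk0 _ (left_ne_zero_of_mul hdet), Units.mk0 _ (right_ne_zero_of_mul hdet), ?_, rfl, rfl⟩
  apply Units.ext
  ext i j
  fin_cases i <;> fin_cases j <;> simp [h10, h01]

lemma borelMk_eq_of_coe (u : GL (Fin 2) F) (hu : (u : Matrix (Fin 2) (Fin 2) F) = !![1, 1; 0, 1]) :
    u = ((borelMk 1 1 1 : upperTriangularGL 2 F) : GL (Fin 2) F) := by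
  apply Units.ext
  rw [hu]
  rfl

/-- Values at a transvection. -/
lemma ps_unip (α β : MulChar F ℂ) :
    (ps α β : GL (Fin 2) F → ℂ) ((borelMk 1 1 1 : upperTriangularGL 2 F) : GL (Fin 2) F) = 1 := by
  rw [ps_borel]
  simp

lemma detChar_unip (l : MulChar F ℂ) :
    (detChar l : GL (Fin 2) F → ℂ) ((borelMk 1 1 1 : upperTriangularGL 2 F) : GL (Fin 2) F) = 1 := by
  rw [detChar_borel]
  simp

/-- Value of the principal series at split elements. -/
lemma ps_split (α β : MulChar F ℂ) (a d : Fˣ) (had : a ≠ d) :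
    (ps α β : GL (Fin 2) F → ℂ) ((borelMk a d 0 : upperTriangularGL 2 F) : GL (Fin 2) F) =
      α (a : F) * β (d : F) + α (d : F) * β (a : F) := by
  rw [ps_borel]
  congr 1
  rw [Finset.sum_eq_single 0]
  · simp
  · intro t _ ht
    rw [if_neg]
    intro h
    apply had
    apply Units.ext
    have : ((a : F) - d) * t = 0 := by
      linear_combination h
    have := (mul_eq_zero.mp this).resolve_right ht
    linear_combination this
  · intro h
    exact absurd (Finset.mem_univ _) h

lemma st_inj {l l' : MulChar F ℂ} (h : (st l : GL (Fin 2) F → ℂ) = st l') : l = l' := by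
  have h1 := inner_st_st l l
  have h2 := inner_st_st l l'
  rw [← h, h1] at h2
  by_cases h4 : l = l'
  · exact h4
  · simp [h4] at h2

lemma psS_one (z : {z : Sym2 (MulChar F ℂ) // ¬ z.IsDiag}) :
    (psS z.1 : GL (Fin 2) F → ℂ) 1 = (Fintype.card F : ℂ) + 1 := by
  obtain ⟨z, hz⟩ := z
  induction z using Sym2.ind with
  | _ α β => exact ps_one α β

end Theta

end Cfsg.Agent.H10
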