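import Mathlib
import Cfsg.Agent.Lib.H10.PS
import Cfsg.Agent.Lib.H10.CardSL
import Cfsg.Agent.Lib.H10.SL2Unip

/-! Principal series of `SL₂` over a finite field. -/

set_option autoImplicit false
set_option linter.unusedSectionVars false
set_option linter.unusedSimpArgs false
set_option linter.style.haveILetI false

namespace Cfsg.Agent.H10

open Cfsg Cfsg.Agent.H21 Matrix

open scoped ComplexConjugate Classical

local notation "SL₂" => Matrix.SpecialLinearGroup (Fin 2)

section Basic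

variable {F : Type*} [Field F]

/-- The upper triangular subgroup of `SL₂`. -/
abbrev B1 (F : Type*) [Field F] : Subgroup (SL₂ F) :=
  (upperTriangularGL 2 F).comap Matrix.SpecialLinearGroup.toGL

@[simp] lemma toGL_coe' (g : SL₂ F) :
    ((Matrix.SpecialLinearGroup.toGL g : GL (Fin 2) F) : Matrix (Fin 2) (Fin 2) F) = (g : Matrix (Fin 2) (Fin 2) F) := rfl

lemma mem_B1_iff (g : SL₂ F) : g ∈ B1 F ↔ (g : Matrix (Fin 2) (Fin 2) F) 1 0 = 0 := by
  rw [Subgroup.mem_comap, mem_upper_iff]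
  rfl

lemma coset1_eq_iff (h₁ h₂ : SL₂ F) :
    (QuotientGroup.mk h₁ : SL₂ F ⧸ B1 F) = QuotientGroup.mk h₂ ↔
      (h₁ : Matrix (Fin 2) (Fin 2) F) 0 0 * (h₂ : Matrix (Fin 2) (Fin 2) F) 1 0 =
        (h₁ : Matrix (Fin 2) (Fin 2) F) 1 0 * (h₂ : Matrix (Fin 2) (Fin 2) F) 0 0 := by
  have := coset_eq_iff (Matrix.SpecialLinearGroup.toGL h₁) (Matrix.SpecialLinearGroup.toGL h₂)
  simp only [toGL_coe'] at this
  rw [← this, QuotientGroup.eq, QuotientGroup.eq, Subgroup.mem_comap]
  simp

/-- Line representatives in `SL₂`. -/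
def line1 : Option F → SL₂ F
  | none => 1
  | some t => ⟨!![t, -1; 1, 0], by simp [Matrix.det_fin_two]⟩

@[simp] lemma line1_none : (line1 (none : Option F) : SL₂ F) = 1 := rfl
@[simp] lemma line1_some (t : F) :
    ((line1 (some t) : SL₂ F) : Matrix (Fin 2) (Fin 2) F) = !![t, -1; 1, 0] := rfl

lemma line1_inv (t : F) :
    (((line1 (some t) : SL₂ F)⁻¹ : SL₂ F) : Matrix (Fin 2) (Fin 2) F) = !![0, 1; -1, t] := by
  rw [Matrix.SpecialLinearGroup.coe_inv, Matrix.adjugate_fin_two]
  simp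

lemma line1_bij : Function.Bijective
    (fun x : Option F => (QuotientGroup.mk (line1 x) : SL₂ F ⧸ B1 F)) := by
  constructor
  · rintro (_ | t) (_ | t') h
    · rfl
    · have := (coset1_eq_iff _ _).mp h
      simp at this
    · have := (coset1_eq_iff _ _).mp h
      simp at this
    · have := (coset1_eq_iff _ _).mp h
      simp at this
      rw [this]
  · intro c
    obtain ⟨h, rfl⟩ := QuotientGroup.mk_surjective c
    by_cases hc : (h : Matrix (Fin 2) (Fin 2) F) 1 0 = 0
    · refine ⟨none, (coset1_eq_iff _ _).mpr ?_⟩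
      simp [hc]
    · refine ⟨some ((h : Matrix (Fin 2) (Fin 2) F) 0 0 / (h : Matrix (Fin 2) (Fin 2) F) 1 0), (coset1_eq_iff _ _).mpr ?_⟩
      simp
      field_simp

/-- The linear character of `B1`. -/
noncomputable def theta1 (α : MulChar F ℂ) : B1 F → ℂ :=
  fun b => α (((b : SL₂ F) : Matrix (Fin 2) (Fin 2) F) 0 0)

lemma B1_mul_entry (a b : B1 F) :
    (((a * b : B1 F) : SL₂ F) : Matrix (Fin 2) (Fin 2) F) 0 0 =
      ((a : SL₂ F) : Matrix (Fin 2) (Fin 2) F) 0 0 * ((b : SL₂ F) : Matrix (Fin 2) (Fin 2) F) 0 0 := by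
  have hb := (mem_B1_iff _).mp b.2
  simp [Matrix.mul_apply, Fin.sum_univ_two, hb]

lemma theta1_mul (α : MulChar F ℂ) (a b : B1 F) :
    theta1 α (a * b) = theta1 α a * theta1 α b := by
  unfold theta1
  rw [B1_mul_entry, map_mul]

lemma theta1_one (α : MulChar F ℂ) : theta1 α 1 = 1 := by
  unfold theta1
  simp

lemma theta1_isCharacter (α : MulChar F ℂ) : IsCharacter (B1 F) (theta1 α) :=
  isCharacter_of_mul _ (theta1_mul α) (theta1_one α)

lemma theta1_conj (α : MulChar F ℂ) (h k : B1 F) :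
    theta1 α (k⁻¹ * h * k) = theta1 α h := by
  rw [theta1_mul, theta1_mul, mul_comm (theta1 α k⁻¹), mul_assoc, mul_comm (theta1 α k⁻¹)]
  rw [← theta1_mul, mul_inv_cancel, theta1_one, mul_one]

variable [Fintype F] [Fintype (SL₂ F)]

noncomputable instance fintypeIrrSLH10 : Fintype (IrrCharacter (SL₂ F)) := Fintype.ofFinite _

lemma extend_theta1 (α : MulChar F ℂ) (y : SL₂ F) :
    extendByZero (B1 F) (theta1 α) y =
      if (y : Matrix (Fin 2) (Fin 2) F) 1 0 = 0 then α ((y : Matrix (Fin 2) (Fin 2) F) 0 0) else 0 := by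
  split_ifs with h
  · exact extendByZero_coe _ (theta1 α) ⟨y, (mem_B1_iff y).mpr h⟩
  · exact extendByZero_of_not_mem _ _ (fun hy => h ((mem_B1_iff y).mp hy))

/-- The principal series of `SL₂`. -/
noncomputable def pi1 (α : MulChar F ℂ) : SL₂ F → ℂ :=
  indFun (B1 F) (theta1 α)

/-- The formula for the principal series values. -/
theorem pi1_apply (α : MulChar F ℂ) (g : SL₂ F) :
    pi1 α g =
      (if (g : Matrix (Fin 2) (Fin 2) F) 1 0 = 0 then α ((g : Matrix (Fin 2) (Fin 2) F) 0 0) else 0) +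
      ∑ t : F, if (g : Matrix (Fin 2) (Fin 2) F) 0 0 * t + (g : Matrix (Fin 2) (Fin 2) F) 0 1 =
          ((g : Matrix (Fin 2) (Fin 2) F) 1 0 * t + (g : Matrix (Fin 2) (Fin 2) F) 1 1) * t then
        α ((g : Matrix (Fin 2) (Fin 2) F) 1 0 * t + (g : Matrix (Fin 2) (Fin 2) F) 1 1) else 0 := by
  have : Fintype (B1 F) := Fintype.ofFinite _
  unfold pi1
  rw [indFun_eq_sum_transversal _ line1 line1_bij _ (theta1_conj α)]
  rw [Fintype.sum_option]
  congr 1
  · rw [extend_theta1]
    simp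
  · refine Finset.sum_congr rfl fun t _ => ?_
    rw [extend_theta1]
    have e : (((line1 (some t) : SL₂ F)⁻¹ * g * line1 (some t) : SL₂ F) :
        Matrix (Fin 2) (Fin 2) F) = !![0, 1; -1, t] * (g : Matrix (Fin 2) (Fin 2) F) * !![t, -1; 1, 0] := by
      rw [Matrix.SpecialLinearGroup.coe_mul, Matrix.SpecialLinearGroup.coe_mul, line1_inv, line1_some]
    rw [e]
    simp only [Matrix.mul_apply, Fin.sum_univ_two]
    simp
    refine if_congr ?_ ?_ rfl
    · constructor <;> intro h <;> linear_combination -h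
    · congr 1

/-- Elements of the Borel subgroup of `SL₂`. -/
noncomputable def b1Mk (a : Fˣ) (x : F) : B1 F :=
  ⟨⟨!![(a : F), x; 0, (a : F)⁻¹], by simp [Matrix.det_fin_two]⟩, (mem_B1_iff _).mpr (by simp)⟩

@[simp] lemma b1Mk_coe (a : Fˣ) (x : F) :
    (((b1Mk a x : B1 F) : SL₂ F) : Matrix (Fin 2) (Fin 2) F) = !![(a : F), x; 0, (a : F)⁻¹] := rfl

/-- The parametrization of the Borel subgroup. -/
noncomputable def b1Equiv : Fˣ × F ≃ B1 F :=
  Equiv.ofBijective (fun p => b1Mk p.1 p.2) (by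
    constructor
    · rintro ⟨a, x⟩ ⟨a', x'⟩ h
      have h1 := congrArg (fun b : B1 F => ((b : SL₂ F) : Matrix (Fin 2) (Fin 2) F)) h
      have h00 := congrFun (congrFun h1 0) 0
      have h01 := congrFun (congrFun h1 0) 1
      simp at h00 h01
      rw [Units.ext h00, h01]
    · rintro ⟨b, hb⟩
      have h10 := (mem_B1_iff b).mp hb
      have hdet : (b : Matrix (Fin 2) (Fin 2) F).det = 1 := b.2
      rw [Matrix.det_fin_two, h10, mul_zero, sub_zero] at hdet
      have ha : (b : Matrix (Fin 2) (Fin 2) F) 0 0 ≠ 0 := left_ne_zero_of_mul_eq_one hdet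
      refine ⟨(Units.mk0 _ ha, (b : Matrix (Fin 2) (Fin 2) F) 0 1), ?_⟩
      apply Subtype.ext
      apply Matrix.SpecialLinearGroup.ext
      intro i j
      fin_cases i <;> fin_cases j <;> simp [h10, eq_inv_of_mul_eq_one_right hdet])

lemma sum_b1 [Fintype (B1 F)] (f : B1 F → ℂ) :
    ∑ b, f b = ∑ a : Fˣ, ∑ x : F, f (b1Mk a x) := by
  rw [← Equiv.sum_comp b1Equiv, Fintype.sum_prod_type]
  rfl

lemma card_b1 : Nat.card (B1 F) = (Fintype.card F - 1) * Fintype.card F := by
  rw [← Nat.card_congr b1Equiv, Nat.card_prod]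
  simp [Nat.card_eq_fintype_card, Fintype.card_units]

lemma pi1_class (α : MulChar F ℂ) : IsClassFunction (SL₂ F) (pi1 α) :=
  indFun_isClass _ _

lemma pi1_isCharacter (α : MulChar F ℂ) : IsCharacter (SL₂ F) (pi1 α) := by
  have : Fintype (B1 F) := Fintype.ofFinite _
  exact isCharacter_indFun _ (theta1_isCharacter α)

/-- Value of the principal series on the Borel subgroup. -/
lemma pi1_borel (α : MulChar F ℂ) (a : Fˣ) (x : F) :
    pi1 α ((b1Mk a x : B1 F) : SL₂ F) =
      α (a : F) + ∑ t : F, if (a : F) * t + x = (a : F)⁻¹ * t then α ((a : F)⁻¹) else 0 := by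
  rw [pi1_apply]
  simp

/-- Sum over the unipotent radical of the line count. -/
lemma sum_line_count1 (a : Fˣ) (c : ℂ) :
    ∑ x : F, ∑ t : F, (if (a : F) * t + x = (a : F)⁻¹ * t then c else 0) = (Fintype.card F : ℂ) * c := by
  rw [Finset.sum_comm]
  have : ∀ t : F, ∑ x : F, (if (a : F) * t + x = (a : F)⁻¹ * t then c else 0) = c := by
    intro t
    rw [Finset.sum_eq_single ((a : F)⁻¹ * t - (a : F) * t)]
    · simp
    · intro b _ hb
      rw [if_neg]
      intro h
      apply hb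
      linear_combination h
    · intro h
      exact absurd (Finset.mem_univ _) h
  simp only [this, Finset.sum_const, Finset.card_univ, nsmul_eq_mul]

/-- Frobenius for a function given on the Borel. -/
lemma inner_pi1_class (α : MulChar F ℂ) (χ : SL₂ F → ℂ) (hχ : IsClassFunction (SL₂ F) χ) :
    classInner (pi1 α) χ =
      (((Fintype.card F - 1) * Fintype.card F : ℕ) : ℂ)⁻¹ *
      ∑ a : Fˣ, ∑ x : F, α (a : F) * conj (χ ((b1Mk a x : B1 F) : SL₂ F)) := by
  have : Fintype (B1 F) := Fintype.ofFinite _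
  have hF := frobenius_reciprocity (B1 F) (theta1 α) χ hχ
  change classInner (indFun _ (theta1 α)) χ = _
  rw [hF]
  unfold classInner
  rw [sum_b1, card_b1]
  simp only [theta1, b1Mk_coe]
  simp

lemma mulChar_conj_inv (α : MulChar F ℂ) (a : Fˣ) :
    conj (α ((a : F)⁻¹)) = α (a : F) := by
  have h1 := MulChar.star_apply' α ((a : F)⁻¹)
  have h2 : star (α ((a : F)⁻¹)) = conj (α ((a : F)⁻¹)) := rfl
  rw [← h2, h1, MulChar.inv_apply', inv_inv]

lemma mulChar_apply_inv_conj (α : MulChar F ℂ) (a : F) :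
    conj (α a) = α⁻¹ a := MulChar.star_apply' α a

/-- Mackey formula. -/
theorem inner_pi1 (α α' : MulChar F ℂ) :
    classInner (pi1 α) (pi1 α') = (if α = α' then 1 else 0) + (if α = α'⁻¹ then 1 else 0) := by
  rw [inner_pi1_class α _ (pi1_class α')]
  have h1 : ∀ a : Fˣ, ∑ x : F, α (a : F) * conj (pi1 α' ((b1Mk a x : B1 F) : SL₂ F)) =
      (Fintype.card F : ℂ) * (α (a : F) * conj (α' (a : F)) + α (a : F) * conj (α'⁻¹ (a : F))) := by
    intro a
    have h2 : ∀ x : F, α (a : F) * conj (pi1 α' ((b1Mk a x : B1 F) : SL₂ F)) =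
        α (a : F) * conj (α' (a : F)) +
        α (a : F) * ∑ t : F, if (a : F) * t + x = (a : F)⁻¹ * t then conj (α'⁻¹ (a : F)) else 0 := by
      intro x
      rw [pi1_borel]
      simp only [map_add, map_sum, apply_ite (starRingEnd ℂ), map_zero, mul_add]
      congr 4
      ext t
      congr 1
      rw [MulChar.inv_apply']
    simp only [h2]
    rw [Finset.sum_add_distrib, Finset.sum_const, ← Finset.mul_sum, sum_line_count1]
    simp only [Finset.card_univ, nsmul_eq_mul]
    ring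
  simp only [h1, ← Finset.mul_sum, Finset.sum_add_distrib, mulChar_ortho]
  have hq := q_ne_zero (F := F)
  have hq1 := q_sub_one_ne_zero (F := F)
  have key : ∀ (P : Prop) [Decidable P] (c : ℂ), (if P then c else 0) = c * (if P then 1 else 0) := by
    intro P _ c
    split_ifs <;> simp
  rw [key (α = α'), key (α = α'⁻¹), Nat.cast_mul]
  field_simp

end Basic

section Irr

variable {F : Type*} [Field F] [Fintype F] [Fintype (SL₂ F)]

/-- The trivial character. -/
noncomputable def one1 : SL₂ F → ℂ := fun _ => 1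

lemma one1_irr : IsIrrCharacter (SL₂ F) one1 := isIrrCharacter_one

lemma one1_class : IsClassFunction (SL₂ F) one1 := fun _ _ => rfl

theorem inner_pi1_one (α : MulChar F ℂ) :
    classInner (pi1 α : SL₂ F → ℂ) one1 = if α = 1 then 1 else 0 := by
  rw [inner_pi1_class α _ one1_class]
  have h1 : ∀ a : Fˣ, ∑ x : F, α (a : F) * conj ((one1 : SL₂ F → ℂ) ((b1Mk a x : B1 F) : SL₂ F)) =
      (Fintype.card F : ℂ) * α (a : F) := by
    intro a
    have h2 : ∀ x : F, α (a : F) * conj ((one1 : SL₂ F → ℂ) ((b1Mk a x : B1 F) : SL₂ F)) = α (a : F) := by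
      intro x
      change α (a : F) * conj (1 : ℂ) = α (a : F)
      rw [map_one, mul_one]
    rw [Finset.sum_congr rfl (fun x _ => h2 x), Finset.sum_const, Finset.card_univ, nsmul_eq_mul]
  rw [Finset.sum_congr rfl (fun a _ => h1 a), ← Finset.mul_sum, mulChar_sum_units]
  have hq := q_ne_zero (F := F)
  have hq1 := q_sub_one_ne_zero (F := F)
  by_cases h : α = 1
  · simp only [h, if_true]
    rw [Nat.cast_mul]
    field_simp
  · simp [h]

lemma inner_one1_one1 : classInner (one1 : SL₂ F → ℂ) one1 = 1 :=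
  classInner_self_irr ⟨one1, one1_irr⟩

lemma inner_one1_pi1 (α : MulChar F ℂ) :
    classInner (one1 : SL₂ F → ℂ) (pi1 α) = if α = 1 then 1 else 0 := by
  rw [← classInner_comm_conj, inner_pi1_one]
  split_ifs <;> simp

theorem pi1_irr (α : MulChar F ℂ) (h : α ≠ α⁻¹) : IsIrrCharacter (SL₂ F) (pi1 α) := by
  apply isIrrCharacter_of_inner_self_eq_one (pi1_isCharacter α)
  rw [inner_pi1]
  simp [h]

theorem pi1_inv (α : MulChar F ℂ) : (pi1 α : SL₂ F → ℂ) = pi1 α⁻¹ := by
  apply eq_of_classInner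
  have key : (α⁻¹ = α) = (α = α⁻¹) := propext eq_comm
  simp only [inner_pi1, inv_inv, if_true, key]
  ring

lemma b1Mk_one_zero : ((b1Mk 1 0 : B1 F) : SL₂ F) = 1 := by
  apply Matrix.SpecialLinearGroup.ext
  intro i j
  fin_cases i <;> fin_cases j <;> simp

lemma pi1_one (α : MulChar F ℂ) : (pi1 α : SL₂ F → ℂ) 1 = (Fintype.card F : ℂ) + 1 := by
  rw [← b1Mk_one_zero, pi1_borel]
  simp
  ring

/-- The Steinberg character of `SL₂`. -/
noncomputable def st1 : SL₂ F → ℂ := pi1 1 - one1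

lemma st1_class : IsClassFunction (SL₂ F) st1 := by
  intro g h
  unfold st1
  simp only [Pi.sub_apply]
  rw [pi1_class 1 g h, one1_class g h]

lemma inner_st1_irr_nat (χ : IrrCharacter (SL₂ F)) :
    ∃ m : ℕ, classInner (st1 : SL₂ F → ℂ) (χ : SL₂ F → ℂ) = m := by
  obtain ⟨m, hm⟩ := classInner_isNat (pi1_isCharacter (1 : MulChar F ℂ)) χ
  unfold st1
  rw [classInner_sub_left, hm]
  by_cases h : χ = ⟨one1, one1_irr⟩
  · subst h
    refine ⟨0, ?_⟩
    have := inner_pi1_one (1 : MulChar F ℂ)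
    simp only [if_true] at this
    simp only [] at hm
    rw [this] at hm
    rw [← hm, inner_one1_one1]
    simp
  · refine ⟨m, ?_⟩
    have := classInner_irr (⟨one1, one1_irr⟩ : IrrCharacter (SL₂ F)) χ
    simp only [] at this
    rw [this, if_neg (fun h2 => h h2.symm)]
    simp

lemma st1_isCharacter : IsCharacter (SL₂ F) st1 :=
  isCharacter_of_inner_nat st1_class inner_st1_irr_nat

theorem inner_st1_st1 : classInner (st1 : SL₂ F → ℂ) st1 = 1 := by
  unfold st1
  rw [classInner_sub_left, classInner_sub_right, classInner_sub_right, inner_pi1, inner_pi1_one,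
    inner_one1_pi1, inner_one1_one1]
  simp

theorem st1_irr : IsIrrCharacter (SL₂ F) st1 :=
  isIrrCharacter_of_inner_self_eq_one st1_isCharacter inner_st1_st1

theorem inner_st1_one : classInner (st1 : SL₂ F → ℂ) one1 = 0 := by
  unfold st1
  rw [classInner_sub_left, inner_pi1_one, inner_one1_one1]
  simp

theorem inner_pi1_st1 (α : MulChar F ℂ) (h : α ≠ 1) :
    classInner (pi1 α : SL₂ F → ℂ) st1 = 0 := by
  unfold st1
  rw [classInner_sub_right, inner_pi1, inner_pi1_one]
  simp [h]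

lemma st1_one' : (st1 : SL₂ F → ℂ) 1 = (Fintype.card F : ℂ) := by
  unfold st1
  simp only [Pi.sub_apply, pi1_one, one1]
  ring

/-- `pi1 1 = 1 + St`. -/
lemma pi1_one_eq : (pi1 (1 : MulChar F ℂ) : SL₂ F → ℂ) = one1 + st1 := by
  unfold st1
  abel

/-- Equality of irreducible principal series. -/
lemma pi1_eq_iff (α α' : MulChar F ℂ) (h : α ≠ α⁻¹) (e : (pi1 α : SL₂ F → ℂ) = pi1 α') :
    α = α' ∨ α = α'⁻¹ := by
  have h1 := inner_pi1 α α
  have h2 := inner_pi1 α α'
  rw [← e, h1] at h2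
  by_cases h3 : α = α'
  · exact Or.inl h3
  · by_cases h4 : α = α'⁻¹
    · exact Or.inr h4
    · simp [h, h3, h4] at h2

lemma restrict_aux (α β : MulChar F ℂ) (a b c d : F) (hdet : a * d - b * c = 1) :
    ((if c = 0 then α a * β d else 0) + ∑ t : F, if a * t + b = (c * t + d) * t then
      α (c * t + d) * β (a - c * t) else 0) =
    ((if c = 0 then (α * β⁻¹) a else 0) + ∑ t : F, if a * t + b = (c * t + d) * t then
      (α * β⁻¹) (c * t + d) else 0) := by
  congr 1
  · by_cases h : c = 0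
    · rw [if_pos h, if_pos h]
      rw [h, mul_zero, sub_zero] at hdet
      have h1 : d = a⁻¹ := eq_inv_of_mul_eq_one_right hdet
      rw [h1, MulChar.mul_apply, MulChar.inv_apply']
    · rw [if_neg h, if_neg h]
  · refine Finset.sum_congr rfl fun t _ => ?_
    by_cases h : a * t + b = (c * t + d) * t
    · rw [if_pos h, if_pos h]
      have h2 : (c * t + d) * (a - c * t) = 1 := by
        rw [← hdet]
        linear_combination c * h
      have h3 := eq_inv_of_mul_eq_one_right h2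
      rw [h3, MulChar.mul_apply, MulChar.inv_apply']
    · rw [if_neg h, if_neg h]

/-- The restriction of the principal series of `GL₂` to `SL₂`. -/
theorem ps_restrict [Fintype (GL (Fin 2) F)] (α β : MulChar F ℂ) (g : SL₂ F) :
    ps α β (Matrix.SpecialLinearGroup.toGL g) = pi1 (α * β⁻¹) g := by
  rw [ps_apply, pi1_apply]
  have hdet : (g : Matrix (Fin 2) (Fin 2) F).det = 1 := g.2
  rw [Matrix.det_fin_two] at hdet
  exact restrict_aux α β _ _ _ _ hdet

lemma detChar_restrict [Fintype (GL (Fin 2) F)] (l : MulChar F ℂ) (g : SL₂ F) :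
    detChar l (Matrix.SpecialLinearGroup.toGL g) = 1 := by
  have hdet : (g : Matrix (Fin 2) (Fin 2) F).det = 1 := g.2
  unfold detChar
  simp only [toGL_coe', hdet, map_one]

lemma st_restrict [Fintype (GL (Fin 2) F)] (l : MulChar F ℂ) (g : SL₂ F) :
    st l (Matrix.SpecialLinearGroup.toGL g) = st1 g := by
  unfold st st1
  simp only [Pi.sub_apply]
  rw [ps_restrict, detChar_restrict, mul_inv_cancel]
  rfl

/-- Cuspidal characters have vanishing sums over cosets of the unipotent radical. -/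
theorem cusp1_sum (χ : SL₂ F → ℂ) (hχ : IsClassFunction (SL₂ F) χ)
    (h : ∀ α, classInner χ (pi1 α) = 0) (a : Fˣ) :
    ∑ x : F, χ ((b1Mk a x : B1 F) : SL₂ F) = 0 := by
  have h1 : ∀ α : MulChar F ℂ, ∑ a : Fˣ, α (a : F) * ∑ x : F,
      conj (χ ((b1Mk a x : B1 F) : SL₂ F)) = 0 := by
    intro α
    have h3 : classInner (pi1 α) χ = 0 := by
      rw [← classInner_comm_conj, h α, map_zero]
    rw [inner_pi1_class α χ hχ] at h3
    have hq := q_ne_zero (F := F)
    have hq1 := q_sub_one_ne_zero (F := F)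
    have h4 := (mul_eq_zero.mp h3).resolve_left (inv_ne_zero (by
      rw [Nat.cast_mul]
      exact mul_ne_zero hq1 hq))
    rw [← h4]
    refine Finset.sum_congr rfl fun a _ => ?_
    rw [Finset.mul_sum]
  have h3 := eq_zero_of_forall_mulChar _ h1 a
  rw [← map_sum] at h3
  exact (map_eq_zero (starRingEnd ℂ)).mp h3

/-- The sum over unipotents computes the multiplicities. -/
theorem sum_unip_eq (χ : SL₂ F → ℂ) (hχ : IsClassFunction (SL₂ F) χ) :
    conj (∑ x : F, χ ((b1Mk 1 x : B1 F) : SL₂ F)) =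
      (Fintype.card F : ℂ) * ∑ α : MulChar F ℂ, classInner (pi1 α) χ := by
  have hq := q_ne_zero (F := F)
  have hq1 := q_sub_one_ne_zero (F := F)
  have h1 : ∀ α : MulChar F ℂ, classInner (pi1 α) χ =
      (((Fintype.card F - 1) * Fintype.card F : ℕ) : ℂ)⁻¹ *
        ∑ a : Fˣ, α (a : F) * ∑ x : F, conj (χ ((b1Mk a x : B1 F) : SL₂ F)) := by
    intro α
    rw [inner_pi1_class α χ hχ]
    congr 1
    refine Finset.sum_congr rfl fun a _ => ?_
    rw [Finset.mul_sum]
  have h2 : ∀ a : Fˣ, ∑ α : MulChar F ℂ, α (a : F) * ∑ x : F, conj (χ ((b1Mk a x : B1 F) : SL₂ F)) =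
      (if a = 1 then ((Fintype.card F - 1 : ℕ) : ℂ) else 0) * ∑ x : F, conj (χ ((b1Mk a x : B1 F) : SL₂ F)) := by
    intro a
    rw [← Finset.sum_mul, sum_mulChar_apply]
  have h3 : ∑ α : MulChar F ℂ, ∑ a : Fˣ, α (a : F) * ∑ x : F, conj (χ ((b1Mk a x : B1 F) : SL₂ F)) =
      ((Fintype.card F - 1 : ℕ) : ℂ) * ∑ x : F, conj (χ ((b1Mk 1 x : B1 F) : SL₂ F)) := by
    rw [Finset.sum_comm, Finset.sum_congr rfl (fun a _ => h2 a), Finset.sum_eq_single 1]
    · simp only [if_true]
    · intro b _ hb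
      rw [if_neg hb, zero_mul]
    · intro h
      exact absurd (Finset.mem_univ _) h
  rw [Finset.sum_congr rfl (fun α _ => h1 α), ← Finset.mul_sum, h3, map_sum, Nat.cast_mul]
  field_simp

lemma b1_isConj_split (a : Fˣ) (x : F) (h : (a : F) ^ 2 ≠ 1) :
    IsConj ((b1Mk a 0 : B1 F) : SL₂ F) ((b1Mk a x : B1 F) : SL₂ F) := by
  have ha : (a : F) ≠ 0 := a.ne_zero
  have hne : (a : F)⁻¹ - (a : F) ≠ 0 := by
    intro h0
    apply h
    field_simp at h0
    linear_combination -h0
  obtain ⟨y, hy⟩ : ∃ y : F, y * ((a : F)⁻¹ - (a : F)) = x := ⟨x / _, div_mul_cancel₀ _ hne⟩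
  refine sl_isConj_of _ _ !![1, y; 0, 1] (by simp [Matrix.det_fin_two]) ?_
  ext i j
  fin_cases i <;> fin_cases j <;> simp [Matrix.mul_apply, Fin.sum_univ_two]
  linear_combination hy

lemma b1_isConj_sq (a s : Fˣ) (x : F) :
    IsConj ((b1Mk a x : B1 F) : SL₂ F) ((b1Mk a (x * (s : F) ^ 2) : B1 F) : SL₂ F) := by
  have hs : (s : F) ≠ 0 := s.ne_zero
  have ha : (a : F) ≠ 0 := a.ne_zero
  refine sl_isConj_of _ _ !![(s : F), 0; 0, (s : F)⁻¹] (by simp [Matrix.det_fin_two]) ?_
  ext i j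
  fin_cases i <;> fin_cases j <;> simp [Matrix.mul_apply, Fin.sum_univ_two]
  · ring
  · field_simp
  · ring

/-- Cuspidal characters vanish on regular split elements. -/
lemma cusp1_split (χ : SL₂ F → ℂ) (hχ : IsClassFunction (SL₂ F) χ)
    (h : ∀ α, classInner χ (pi1 α) = 0) (a : Fˣ) (had : (a : F) ^ 2 ≠ 1) :
    χ ((b1Mk a 0 : B1 F) : SL₂ F) = 0 := by
  have h1 := cusp1_sum χ hχ h a
  have h2 : ∀ x : F, χ ((b1Mk a x : B1 F) : SL₂ F) = χ ((b1Mk a 0 : B1 F) : SL₂ F) := fun x =>
    (class_eq_of_isConj hχ (b1_isConj_split a x had)).symm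
  simp only [h2, Finset.sum_const, Finset.card_univ, nsmul_eq_mul] at h1
  exact (mul_eq_zero.mp h1).resolve_left q_ne_zero

end Irr

end Cfsg.Agent.H10
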