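import Mathlib
import Cfsg.Agent.Lib.H10.PS1
import Cfsg.Agent.S2331
import Cfsg.Agent.S2325

/-! Classification of the irreducible characters of `SL₂` over a finite field: general framework. -/

set_option autoImplicit false
set_option linter.unusedSectionVars false
set_option linter.unusedSimpArgs false
set_option linter.style.haveILetI false

namespace Cfsg.Agent.H10

open Cfsg Cfsg.Agent.H21 Matrix

open scoped ComplexConjugate Classical

local notation "SL₂" => Matrix.SpecialLinearGroup (Fin 2)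

section Count

variable {F : Type*} [Field F] [Fintype F]

/-- Involutions among the multiplicative characters. -/
lemma card_mulChar_sq_one : Nat.card {α : MulChar F ℂ // α ^ 2 = 1} = Nat.card {s : F // s ^ 2 = 1} := by
  obtain ⟨e⟩ := MulChar.mulEquiv_units F ℂ
  refine Nat.card_congr (Equiv.ofBijective (fun α => ⟨(e α.1 : F), ?_⟩) ⟨?_, ?_⟩)
  · rw [← Units.val_pow_eq_pow_val, ← map_pow, α.2, map_one, Units.val_one]
  · rintro ⟨α, hα⟩ ⟨β, hβ⟩ h
    apply Subtype.ext
    apply e.injective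
    apply Units.ext
    exact congrArg Subtype.val h
  · rintro ⟨s, hs⟩
    have hs0 : s ≠ 0 := by
      rintro rfl
      simp at hs
    refine ⟨⟨e.symm (Units.mk0 s hs0), ?_⟩, ?_⟩
    · apply e.injective
      rw [map_pow, MulEquiv.apply_symm_apply, map_one]
      apply Units.ext
      simpa using hs
    · apply Subtype.ext
      simp

lemma card_Q_add : Nat.card {α : MulChar F ℂ // α ≠ α⁻¹} + Nat.card {s : F // s ^ 2 = 1} =
    Fintype.card F - 1 := by
  rw [← card_mulChar_sq_one, ← card_mulChar]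
  have key : ∀ α : MulChar F ℂ, α ≠ α⁻¹ ↔ ¬ (α ^ 2 = 1) := by
    intro α
    rw [sq, ← eq_inv_iff_mul_eq_one]
  have e1 : Nat.card {α : MulChar F ℂ // α ≠ α⁻¹} = Nat.card {α : MulChar F ℂ // ¬ (α ^ 2 = 1)} :=
    Nat.card_congr (Equiv.subtypeEquivRight key)
  rw [e1]
  simp only [Nat.card_eq_fintype_card]
  have h1 := Fintype.card_subtype_compl (fun α : MulChar F ℂ => α ^ 2 = 1)
  have h2 := Fintype.card_subtype_le (fun α : MulChar F ℂ => α ^ 2 = 1)
  omega

variable [Fintype (SL₂ F)]

/-- The irreducible principal series. -/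
noncomputable def psIrr (α : {α : MulChar F ℂ // α ≠ α⁻¹}) : IrrCharacter (SL₂ F) :=
  ⟨pi1 α.1, pi1_irr α.1 α.2⟩

/-- The set of irreducible principal series. -/
noncomputable def Tset (F : Type*) [Field F] [Fintype F] [Fintype (SL₂ F)] :
    Finset (IrrCharacter (SL₂ F)) :=
  Finset.univ.image (psIrr (F := F))

lemma mem_Tset {χ : IrrCharacter (SL₂ F)} :
    χ ∈ Tset F ↔ ∃ α : MulChar F ℂ, α ≠ α⁻¹ ∧ χ.1 = pi1 α := by
  simp only [Tset, Finset.mem_image, Finset.mem_univ, true_and]
  constructor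
  · rintro ⟨α, rfl⟩
    exact ⟨α.1, α.2, rfl⟩
  · rintro ⟨α, hα, h⟩
    exact ⟨⟨α, hα⟩, Subtype.ext h.symm⟩

/-- The map to principal series is exactly two to one. -/
theorem two_mul_card_Tset : 2 * (Tset F).card = Nat.card {α : MulChar F ℂ // α ≠ α⁻¹} := by
  rw [Nat.card_eq_fintype_card, ← Finset.card_univ]
  rw [Finset.card_eq_sum_card_image (psIrr (F := F))]
  have h : ∀ b ∈ Finset.univ.image (psIrr (F := F)),
      (Finset.univ.filter (fun a => psIrr a = b)).card = 2 := by
    intro b hb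
    obtain ⟨⟨α, hα⟩, -, rfl⟩ := Finset.mem_image.mp hb
    have hα' : α⁻¹ ≠ (α⁻¹)⁻¹ := by
      rw [inv_inv]
      exact fun h => hα h.symm
    have : (Finset.univ.filter (fun a => psIrr a = psIrr ⟨α, hα⟩)) =
        {⟨α, hα⟩, ⟨α⁻¹, hα'⟩} := by
      ext ⟨β, hβ⟩
      simp only [Finset.mem_filter, Finset.mem_univ, true_and, Finset.mem_insert,
        Finset.mem_singleton, Subtype.mk.injEq]
      constructor
      · intro h
        have h2 : (pi1 β : SL₂ F → ℂ) = pi1 α := congrArg Subtype.val h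
        rcases pi1_eq_iff β α hβ h2 with h3 | h3
        · exact Or.inl h3
        · exact Or.inr h3
      · rintro (rfl | rfl)
        · rfl
        · apply Subtype.ext
          exact (pi1_inv α).symm
    rw [this, Finset.card_pair]
    intro h
    exact hα (congrArg Subtype.val h)
  rw [Finset.sum_congr rfl h, Finset.sum_const, smul_eq_mul, mul_comm]
  rfl

lemma Tset_degree {χ : IrrCharacter (SL₂ F)} (h : χ ∈ Tset F) :
    charDegree χ.1 = Fintype.card F + 1 := by
  obtain ⟨α, -, h1⟩ := mem_Tset.mp h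
  have h2 := one_eq_charDegree (isCharacter_of_irr χ.2)
  rw [h1, pi1_one] at h2
  rw [h1]
  exact_mod_cast h2.symm

/-- Irreducible versions of the two basic characters. -/
noncomputable def oneIrr : IrrCharacter (SL₂ F) := ⟨one1, one1_irr⟩
noncomputable def stIrr : IrrCharacter (SL₂ F) := ⟨st1, st1_irr⟩

lemma oneIrr_degree : charDegree (oneIrr (F := F)).1 = 1 := by
  have h2 := one_eq_charDegree (isCharacter_of_irr (oneIrr (F := F)).2)
  have h3 : (oneIrr (F := F)).1 1 = 1 := rfl
  rw [h3] at h2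
  exact_mod_cast h2.symm

lemma stIrr_degree : charDegree (stIrr (F := F)).1 = Fintype.card F := by
  have h2 := one_eq_charDegree (isCharacter_of_irr (stIrr (F := F)).2)
  have h3 : (stIrr (F := F)).1 1 = (Fintype.card F : ℂ) := st1_one'
  rw [h3] at h2
  exact_mod_cast h2.symm

lemma oneIrr_ne_stIrr : (oneIrr (F := F)) ≠ stIrr := by
  intro h
  have h1 := inner_st1_one (F := F)
  have h2 : (st1 : SL₂ F → ℂ) = one1 := (congrArg Subtype.val h).symm
  rw [h2, inner_one1_one1] at h1
  exact one_ne_zero h1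

lemma pi1_ne_one1 (α : MulChar F ℂ) (hα1 : α ≠ 1) : (one1 : SL₂ F → ℂ) ≠ pi1 α := by
  intro h1
  have h2 := inner_pi1_one α
  rw [← h1, inner_one1_one1] at h2
  simp [hα1] at h2

lemma oneIrr_not_mem_T : (oneIrr (F := F)) ∉ Tset F := by
  intro h
  obtain ⟨α, hα, h1⟩ := mem_Tset.mp h
  have hα1 : α ≠ 1 := by
    rintro rfl
    simp at hα
  exact pi1_ne_one1 α hα1 h1

lemma stIrr_not_mem_T : (stIrr (F := F)) ∉ Tset F := by
  intro h
  obtain ⟨α, hα, h1⟩ := mem_Tset.mp h
  have hα1 : α ≠ 1 := by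
    rintro rfl
    simp at hα
  have h2 := inner_pi1_st1 α hα1
  have h3 : (st1 : SL₂ F → ℂ) = pi1 α := h1
  rw [← h3, inner_st1_st1] at h2
  exact one_ne_zero h2

/-- Cuspidal irreducible characters of `SL₂`. -/
def IsCusp1 (χ : IrrCharacter (SL₂ F)) : Prop := ∀ α : MulChar F ℂ, classInner χ.1 (pi1 α) = 0

lemma not_cusp_one : ¬ IsCusp1 (oneIrr (F := F)) := by
  intro h
  have h1 := h 1
  change classInner one1 (pi1 1) = 0 at h1
  rw [inner_one1_pi1] at h1
  simp at h1

lemma inner_st1_pi1_one : classInner (st1 : SL₂ F → ℂ) (pi1 1) = 1 := by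
  rw [pi1_one_eq, classInner_add_right, inner_st1_one, inner_st1_st1]
  simp

lemma not_cusp_st : ¬ IsCusp1 (stIrr (F := F)) := by
  intro h
  have h1 := h 1
  change classInner st1 (pi1 1) = 0 at h1
  rw [inner_st1_pi1_one] at h1
  simp at h1

lemma not_cusp_T {χ : IrrCharacter (SL₂ F)} (hχ : χ ∈ Tset F) : ¬ IsCusp1 χ := by
  intro h
  obtain ⟨α, hα, h1⟩ := mem_Tset.mp hχ
  have h2 := h α
  rw [h1, inner_pi1] at h2
  simp [hα] at h2

/-- The noncuspidal characters, when `E` collects the constituents of the reducible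
principal series other than those of `pi1 1`. -/
noncomputable def Nset (E : Finset (IrrCharacter (SL₂ F))) : Finset (IrrCharacter (SL₂ F)) :=
  insert oneIrr (insert stIrr (Tset F ∪ E))

/-- Structure of a valid `E`. -/
structure ValidE (E : Finset (IrrCharacter (SL₂ F))) : Prop where
  one_not : (oneIrr (F := F)) ∉ E
  st_not : (stIrr (F := F)) ∉ E
  disj : Disjoint (Tset F) E
  not_cusp : ∀ χ ∈ E, ¬ IsCusp1 χ
  cover : ∀ (χ : IrrCharacter (SL₂ F)) (α : MulChar F ℂ), classInner χ.1 (pi1 α) ≠ 0 → α = α⁻¹ →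
    α ≠ 1 → χ ∈ E

variable {E : Finset (IrrCharacter (SL₂ F))}

lemma mem_Nset (hE : ValidE E) (χ : IrrCharacter (SL₂ F)) : χ ∈ Nset E ↔ ¬ IsCusp1 χ := by
  constructor
  · intro h
    simp only [Nset, Finset.mem_insert, Finset.mem_union] at h
    rcases h with rfl | rfl | h | h
    · exact not_cusp_one
    · exact not_cusp_st
    · exact not_cusp_T h
    · exact hE.not_cusp χ h
  · intro h
    simp only [IsCusp1, not_forall] at h
    obtain ⟨α, hα⟩ := h
    simp only [Nset, Finset.mem_insert, Finset.mem_union]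
    by_cases h1 : α = α⁻¹
    · by_cases h2 : α = 1
      · subst h2
        rw [pi1_one_eq, classInner_add_right] at hα
        by_cases h3 : classInner χ.1 one1 = 0
        · rw [h3, zero_add] at hα
          have h4 := classInner_irr χ stIrr
          change classInner χ.1 st1 = _ at h4
          rw [h4] at hα
          right; left
          by_contra h5
          simp [h5] at hα
        · have h4 := classInner_irr χ oneIrr
          change classInner χ.1 one1 = _ at h4
          rw [h4] at h3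
          left
          by_contra h5
          simp [h5] at h3
      · exact Or.inr (Or.inr (Or.inr (hE.cover χ α hα h1 h2)))
    · refine Or.inr (Or.inr (Or.inl ?_))
      have h4 := classInner_irr χ (psIrr ⟨α, h1⟩)
      change classInner χ.1 (pi1 α) = _ at h4
      rw [h4] at hα
      have h5 : χ = psIrr ⟨α, h1⟩ := by
        by_contra h5
        simp [h5] at hα
      rw [h5]
      exact Finset.mem_image_of_mem _ (Finset.mem_univ _)

lemma card_Nset (hE : ValidE E) : (Nset E).card = 2 + (Tset F).card + E.card := by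
  unfold Nset
  rw [Finset.card_insert_of_notMem, Finset.card_insert_of_notMem, Finset.card_union_of_disjoint hE.disj]
  · ring
  · simp only [Finset.mem_union, not_or]
    exact ⟨stIrr_not_mem_T, hE.st_not⟩
  · simp only [Finset.mem_insert, Finset.mem_union, not_or]
    exact ⟨oneIrr_ne_stIrr, oneIrr_not_mem_T, hE.one_not⟩

lemma sum_Nset (hE : ValidE E) : ∑ χ ∈ Nset E, charDegree χ.1 ^ 2 =
    1 + (Fintype.card F ^ 2 + ((Tset F).card * (Fintype.card F + 1) ^ 2 +
      ∑ χ ∈ E, charDegree χ.1 ^ 2)) := by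
  unfold Nset
  rw [Finset.sum_insert, Finset.sum_insert, Finset.sum_union hE.disj, oneIrr_degree, stIrr_degree]
  · congr 3
    · rw [Finset.sum_congr rfl (fun χ hχ => by rw [Tset_degree hχ]), Finset.sum_const, smul_eq_mul]
  · simp only [Finset.mem_union, not_or]
    exact ⟨stIrr_not_mem_T, hE.st_not⟩
  · simp only [Finset.mem_insert, Finset.mem_union, not_or]
    exact ⟨oneIrr_ne_stIrr, oneIrr_not_mem_T, hE.one_not⟩

/-- Counting equation for the sum of degree squares of cuspidal characters. -/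
lemma sum_cusp (hE : ValidE E) : ∑ χ ∈ (Nset E)ᶜ, charDegree χ.1 ^ 2 +
    (1 + (Fintype.card F ^ 2 + ((Tset F).card * (Fintype.card F + 1) ^ 2 +
      ∑ χ ∈ E, charDegree χ.1 ^ 2))) = Fintype.card F * (Fintype.card F ^ 2 - 1) := by
  have := sum_degree_sq (G := SL₂ F)
  rw [← Finset.sum_compl_add_sum (Nset E), sum_Nset hE, card_SL_two] at this
  exact this

lemma mem_compl_iff (hE : ValidE E) (χ : IrrCharacter (SL₂ F)) : χ ∈ (Nset E)ᶜ ↔ IsCusp1 χ := by
  rw [Finset.mem_compl, mem_Nset hE, not_not]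

/-- Number of cuspidal characters -/
lemma card_compl (hE : ValidE E) : ((Nset E)ᶜ).card + (2 + (Tset F).card + E.card) =
    Nat.card (ConjClasses (SL₂ F)) := by
  rw [← card_irr_eq_card_conjClasses, Nat.card_eq_fintype_card, ← card_Nset hE]
  exact Finset.card_compl_add_card _

end Count

section Integrality

/-- Integrality: if `d + n z = 0` with `z` an algebraic integer, then `n ∣ d`. -/
lemma dvd_of_add_mul_eq_zero (d n : ℕ) (hn : n ≠ 0) (z : ℂ) (hz : IsIntegral ℤ z)
    (h : (d : ℂ) + n * z = 0) : n ∣ d := by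
  have hn0 : (n : ℂ) ≠ 0 := by exact_mod_cast hn
  have hn0' : (n : ℚ) ≠ 0 := by exact_mod_cast hn
  have h2 : z = (((-(d : ℚ) / (n : ℚ)) : ℚ) : ℂ) := by
    push_cast
    field_simp
    linear_combination h
  rw [h2] at hz
  obtain ⟨m, hm⟩ := isInt_of_isIntegral_rat _ hz
  have h4 : -(d : ℚ) = m * n := by
    field_simp at hm
    linarith
  have h5 : -(d : ℤ) = m * n := by exact_mod_cast h4
  have h6 : (n : ℤ) ∣ d := ⟨-m, by linarith⟩
  exact_mod_cast h6

end Integrality

section Clifford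

variable {F : Type*} [Field F] [Fintype F] [Fintype (SL₂ F)] [Fintype (GL (Fin 2) F)]

/-- The restriction to `SL₂` of a character of `GL₂`. -/
noncomputable def resSL (χ : GL (Fin 2) F → ℂ) : SL₂ F → ℂ :=
  fun g => χ (Matrix.SpecialLinearGroup.toGL g)

lemma resSL_isCharacter {χ : GL (Fin 2) F → ℂ} (h : IsCharacter (GL (Fin 2) F) χ) :
    IsCharacter (SL₂ F) (resSL χ) :=
  isCharacter_comp (Matrix.SpecialLinearGroup.toGL) h

lemma toGL_eq_one {g : SL₂ F} (h : Matrix.SpecialLinearGroup.toGL g = 1) : g = 1 := by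
  apply Matrix.SpecialLinearGroup.ext
  intro i j
  have := congrArg (fun u : GL (Fin 2) F => (u : Matrix (Fin 2) (Fin 2) F) i j) h
  simpa using this

/-- Every irreducible character of `SL₂` lies in the restriction of an irreducible of `GL₂`. -/
theorem exists_gl_constituent (χ : IrrCharacter (SL₂ F)) :
    ∃ ψ : IrrCharacter (GL (Fin 2) F), classInner (resSL ψ.1) χ.1 ≠ 0 := by
  by_contra hcon
  push Not at hcon
  have hne : (Nat.card (SL₂ F) : ℂ) ≠ 0 := by simp [Nat.card_pos.ne']
  have h1 : ∑ ψ : IrrCharacter (GL (Fin 2) F), (charDegree ψ.1 : ℂ) * classInner (resSL ψ.1) χ.1 = 0 :=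
    Finset.sum_eq_zero fun ψ _ => by rw [hcon ψ, mul_zero]
  have h2 : ∑ ψ : IrrCharacter (GL (Fin 2) F), (charDegree ψ.1 : ℂ) * classInner (resSL ψ.1) χ.1 =
      (Nat.card (SL₂ F) : ℂ)⁻¹ * ((Nat.card (GL (Fin 2) F) : ℂ) * conj (χ.1 1)) := by
    unfold classInner
    simp only [Finset.mul_sum, ← mul_assoc]
    rw [Finset.sum_comm]
    have h3 : ∀ g : SL₂ F, ∑ ψ : IrrCharacter (GL (Fin 2) F), (charDegree ψ.1 : ℂ) * (Nat.card (SL₂ F) : ℂ)⁻¹ *
        resSL ψ.1 g * conj (χ.1 g) = (Nat.card (SL₂ F) : ℂ)⁻¹ *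
          (∑ ψ : IrrCharacter (GL (Fin 2) F), (charDegree ψ.1 : ℂ) * ψ.1 (Matrix.SpecialLinearGroup.toGL g)) * conj (χ.1 g) := by
      intro g
      rw [Finset.mul_sum, Finset.sum_mul]
      refine Finset.sum_congr rfl fun ψ _ => ?_
      unfold resSL
      ring
    rw [Finset.sum_congr rfl (fun g _ => h3 g), Finset.sum_eq_single 1]
    · have h4 : ∑ ψ : IrrCharacter (GL (Fin 2) F), (charDegree ψ.1 : ℂ) * ψ.1 (Matrix.SpecialLinearGroup.toGL (1 : SL₂ F)) =
          (Nat.card (GL (Fin 2) F) : ℂ) := by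
        rw [← sum_degree_sq (G := GL (Fin 2) F)]
        push_cast
        refine Finset.sum_congr rfl fun ψ _ => ?_
        rw [map_one, one_eq_charDegree (isCharacter_of_irr ψ.2)]
        ring
      rw [h4]
    · intro g _ hg
      have hg' : Matrix.SpecialLinearGroup.toGL g ≠ 1 := fun h => hg (toGL_eq_one h)
      rw [sum_degree_mul_value_ne hg']
      ring
    · intro h
      exact absurd (Finset.mem_univ _) h
  rw [h1] at h2
  have h5 : conj (χ.1 1) ≠ 0 := by
    rw [one_eq_charDegree (isCharacter_of_irr χ.2), Complex.conj_natCast]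
    exact_mod_cast (irr_charDegree_pos χ.2).ne'
  have h6 : (Nat.card (GL (Fin 2) F) : ℂ) ≠ 0 := by simp [Nat.card_pos.ne']
  exact (mul_ne_zero (inv_ne_zero hne) (mul_ne_zero h6 h5)) h2.symm

variable {χ : IrrCharacter (SL₂ F)}

/-- Restrictions of the noncuspidal irreducible characters of `GL₂` to `SL₂`. -/
lemma resSL_detChar (l : MulChar F ℂ) : resSL (detChar l) = (one1 : SL₂ F → ℂ) := by
  funext g
  exact detChar_restrict l g

lemma resSL_st (l : MulChar F ℂ) : resSL (st l) = (st1 : SL₂ F → ℂ) := by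
  funext g
  exact st_restrict l g

lemma resSL_ps (α β : MulChar F ℂ) : resSL (ps α β) = (pi1 (α * β⁻¹) : SL₂ F → ℂ) := by
  funext g
  exact ps_restrict α β g

lemma cusp_inner_one_eq_zero (h : IsCusp1 χ) : classInner χ.1 one1 = 0 ∧ classInner χ.1 st1 = 0 := by
  have h1 := h 1
  rw [pi1_one_eq, classInner_add_right] at h1
  obtain ⟨m, hm⟩ := classInner_isCharacter_nat (isCharacter_of_irr χ.2) (isCharacter_of_irr one1_irr)
  obtain ⟨n, hn⟩ := classInner_isCharacter_nat (isCharacter_of_irr χ.2) (isCharacter_of_irr st1_irr)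
  rw [hm, hn] at h1
  have h2 : m + n = 0 := by exact_mod_cast h1
  have hm0 : m = 0 := by omega
  have hn0 : n = 0 := by omega
  rw [hm, hn, hm0, hn0]
  simp

/-- A character of `GL₂` containing a cuspidal character of `SL₂` is cuspidal. -/
theorem gl_constituent_cusp (h : IsCusp1 χ) (ψ : IrrCharacter (GL (Fin 2) F))
    (hψ : classInner (resSL ψ.1) χ.1 ≠ 0) : ∀ α β, classInner ψ.1 (ps α β) = 0 := by
  obtain ⟨h1, h2⟩ := cusp_inner_one_eq_zero h
  rcases irr_cases ψ with ⟨l, hl⟩ | ⟨l, hl⟩ | ⟨α, β, hab, hl⟩ | h3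
  · exfalso
    rw [hl, resSL_detChar, ← classInner_comm_conj, h1, map_zero] at hψ
    exact hψ rfl
  · exfalso
    rw [hl, resSL_st, ← classInner_comm_conj, h2, map_zero] at hψ
    exact hψ rfl
  · exfalso
    rw [hl, resSL_ps, ← classInner_comm_conj, h, map_zero] at hψ
    exact hψ rfl
  · exact h3

/-- The Clifford bound: cuspidal characters of `SL₂` have degree at most `q - 1`; and those of
degree `q - 1` are restrictions of cuspidal characters of `GL₂`. -/
theorem cusp1_degree_le (h : IsCusp1 χ) :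
    ∃ ψ : IrrCharacter (GL (Fin 2) F), (∀ α β, classInner ψ.1 (ps α β) = 0) ∧
      IsCharacter (SL₂ F) (resSL ψ.1 - χ.1) ∧ charDegree χ.1 ≤ Fintype.card F - 1 := by
  obtain ⟨ψ, hψ⟩ := exists_gl_constituent χ
  have hc := gl_constituent_cusp h ψ hψ
  have hch := sub_irr_isCharacter (resSL_isCharacter (isCharacter_of_irr ψ.2)) χ hψ
  refine ⟨ψ, hc, hch, ?_⟩
  have h1 := one_eq_charDegree hch
  simp only [Pi.sub_apply] at h1
  have h2 : resSL ψ.1 1 = ψ.1 1 := by
    unfold resSL
    rw [map_one]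
  rw [h2, one_eq_charDegree (isCharacter_of_irr ψ.2), one_eq_charDegree (isCharacter_of_irr χ.2),
    cusp_degree ψ hc] at h1
  have h3 : (((Fintype.card F - 1 : ℕ) : ℤ)) = charDegree χ.1 + charDegree (resSL ψ.1 - χ.1) := by
    have : ((Fintype.card F - 1 : ℕ) : ℂ) = (charDegree χ.1 : ℂ) + (charDegree (resSL ψ.1 - χ.1) : ℂ) := by
      rw [← h1]
      ring
    exact_mod_cast this
  omega

/-- A cuspidal character of degree `q - 1` takes the value `-1` at the transvection. -/
theorem cusp1_unip_of_degree (h : IsCusp1 χ) (hd : charDegree χ.1 = Fintype.card F - 1) :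
    χ.1 ((b1Mk 1 1 : B1 F) : SL₂ F) = -1 := by
  obtain ⟨ψ, hc, hch, -⟩ := cusp1_degree_le h
  have h1 := one_eq_charDegree hch
  simp only [Pi.sub_apply] at h1
  have h2 : resSL ψ.1 1 = ψ.1 1 := by
    unfold resSL
    rw [map_one]
  rw [h2, one_eq_charDegree (isCharacter_of_irr ψ.2), one_eq_charDegree (isCharacter_of_irr χ.2),
    cusp_degree ψ hc, hd, sub_self] at h1
  have h3 : charDegree (resSL ψ.1 - χ.1) = 0 := by exact_mod_cast h1.symm
  have h4 := isCharacter_eq_zero_of_one hch (by rw [one_eq_charDegree hch, h3]; simp)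
  have h5 : resSL ψ.1 = χ.1 := sub_eq_zero.mp h4
  rw [← h5]
  have hu := cusp_unip ψ.1 (isClassFunction_of_isCharacter (isCharacter_of_irr ψ.2)) hc
  have h6 : resSL ψ.1 ((b1Mk 1 1 : B1 F) : SL₂ F) = ψ.1 ((borelMk 1 1 1 : upperTriangularGL 2 F) : GL (Fin 2) F) := by
    unfold resSL
    have e : Matrix.SpecialLinearGroup.toGL ((b1Mk 1 1 : B1 F) : SL₂ F) = ((borelMk 1 1 1 : upperTriangularGL 2 F) : GL (Fin 2) F) := by
      apply Units.ext
      ext i j
      fin_cases i <;> fin_cases j <;> simp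
    rw [e]
  rw [h6]
  rw [one_eq_charDegree (isCharacter_of_irr ψ.2), cusp_degree ψ hc] at hu
  have hq1 := q_sub_one_ne_zero (F := F)
  have : ((Fintype.card F - 1 : ℕ) : ℂ) * (ψ.1 ((borelMk 1 1 1 : upperTriangularGL 2 F) : GL (Fin 2) F) + 1) = 0 := by
    linear_combination hu
  have h7 := (mul_eq_zero.mp this).resolve_left hq1
  linear_combination h7

end Clifford

end Cfsg.Agent.H10
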