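import Mathlib
import Cfsg.Agent.Lib.H10.PS1Class

/-! Values of the principal series of `SL₂`, transvection arguments. -/

set_option autoImplicit false
set_option linter.unusedSectionVars false
set_option linter.unusedSimpArgs false
set_option linter.style.haveILetI false

namespace Cfsg.Agent.H10

open Cfsg Cfsg.Agent.H21 Matrix

open scoped ComplexConjugate Classical

local notation "SL₂" => Matrix.SpecialLinearGroup (Fin 2)

section Values

variable {F : Type*} [Field F] [Fintype F] [Fintype (SL₂ F)]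

lemma pi1_no_eig (α : MulChar F ℂ) (g : SL₂ F)
    (hg : ∀ (c : F) (v : Fin 2 → F), v ≠ 0 → (g : Matrix (Fin 2) (Fin 2) F).mulVec v ≠ c • v) :
    pi1 α g = 0 := by
  rw [pi1_apply]
  have h1 : (g : Matrix (Fin 2) (Fin 2) F) 1 0 ≠ 0 := by
    intro h'
    refine hg ((g : Matrix (Fin 2) (Fin 2) F) 0 0) ![1, 0] ?_ ?_
    · intro h0
      have := congrFun h0 0
      simp at this
    · ext i
      fin_cases i
      · simp [Matrix.mulVec, dotProduct, Fin.sum_univ_two]
      · simpa [Matrix.mulVec, dotProduct, Fin.sum_univ_two] using h'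
  rw [if_neg h1, zero_add]
  apply Finset.sum_eq_zero
  intro t _
  rw [if_neg]
  intro h'
  refine hg ((g : Matrix (Fin 2) (Fin 2) F) 1 0 * t + (g : Matrix (Fin 2) (Fin 2) F) 1 1) ![t, 1] ?_ ?_
  · intro h0
    have := congrFun h0 1
    simp at this
  · ext i
    fin_cases i
    · simpa [Matrix.mulVec, dotProduct, Fin.sum_univ_two] using h'
    · simp [Matrix.mulVec, dotProduct, Fin.sum_univ_two]

lemma pi1_split (α : MulChar F ℂ) (a : Fˣ) (ha : (a : F) ^ 2 ≠ 1) :
    pi1 α ((b1Mk a 0 : B1 F) : SL₂ F) = α (a : F) + α ((a : F)⁻¹) := by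
  rw [pi1_borel]
  congr 1
  have hne : (a : F) - (a : F)⁻¹ ≠ 0 := by
    intro h0
    apply ha
    have ha0 : (a : F) ≠ 0 := a.ne_zero
    field_simp at h0
    linear_combination h0
  rw [Finset.sum_eq_single 0]
  · simp
  · intro t _ ht
    rw [if_neg]
    intro h
    have : ((a : F) - (a : F)⁻¹) * t = 0 := by
      linear_combination h
    exact ht ((mul_eq_zero.mp this).resolve_left hne)
  · intro h
    exact absurd (Finset.mem_univ _) h

lemma pi1_central_unip (α : MulChar F ℂ) (a : Fˣ) (ha : (a : F) = (a : F)⁻¹) (x : F) (hx : x ≠ 0) :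
    pi1 α ((b1Mk a x : B1 F) : SL₂ F) = α (a : F) := by
  rw [pi1_borel]
  rw [Finset.sum_eq_zero, add_zero]
  intro t _
  rw [if_neg]
  intro h
  apply hx
  rw [← ha] at h
  linear_combination h

lemma pi1_unip (α : MulChar F ℂ) (x : F) (hx : x ≠ 0) :
    pi1 α ((b1Mk 1 x : B1 F) : SL₂ F) = 1 := by
  have := pi1_central_unip α 1 (by simp) x hx
  simpa using this

lemma b1Mk_of_entries (g : SL₂ F) (h10 : (g : Matrix (Fin 2) (Fin 2) F) 1 0 = 0) :
    ∃ a : Fˣ, (a : F) = (g : Matrix (Fin 2) (Fin 2) F) 0 0 ∧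
      g = ((b1Mk a ((g : Matrix (Fin 2) (Fin 2) F) 0 1) : B1 F) : SL₂ F) := by
  have hdet : (g : Matrix (Fin 2) (Fin 2) F).det = 1 := g.2
  rw [Matrix.det_fin_two, h10, mul_zero, sub_zero] at hdet
  have ha : (g : Matrix (Fin 2) (Fin 2) F) 0 0 ≠ 0 := left_ne_zero_of_mul_eq_one hdet
  refine ⟨Units.mk0 _ ha, rfl, ?_⟩
  apply Matrix.SpecialLinearGroup.ext
  intro i j
  fin_cases i <;> fin_cases j <;> simp [h10, eq_inv_of_mul_eq_one_right hdet]

lemma u_eq_of_coe (u : SL₂ F) (hu : (u : Matrix (Fin 2) (Fin 2) F) = !![1, 1; 0, 1]) :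
    u = ((b1Mk 1 1 : B1 F) : SL₂ F) := by
  apply Matrix.SpecialLinearGroup.ext
  intro i j
  rw [hu]
  fin_cases i <;> fin_cases j <;> simp

/-- The sum over the nontrivial unipotents when all are conjugate. -/
lemma sum_unip_char_two [CharP F 2] (χ : SL₂ F → ℂ) (hχ : IsClassFunction (SL₂ F) χ) :
    ∑ x : F, χ ((b1Mk 1 x : B1 F) : SL₂ F) =
      χ 1 + ((Fintype.card F - 1 : ℕ) : ℂ) * χ ((b1Mk 1 1 : B1 F) : SL₂ F) := by
  rw [sum_eq_add_const _ (χ ((b1Mk 1 1 : B1 F) : SL₂ F)), b1Mk_one_zero]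
  intro x hx
  obtain ⟨s, hs⟩ := FiniteField.isSquare_of_char_two (ringChar.eq F 2) x
  have hs0 : s ≠ 0 := by
    rintro rfl
    simp at hs
    exact hx hs
  have := b1_isConj_sq 1 (Units.mk0 s hs0) 1
  rw [one_mul] at this
  have e : ((Units.mk0 s hs0 : Fˣ) : F) ^ 2 = x := by
    rw [hs, Units.val_mk0, sq]
  rw [e] at this
  exact (class_eq_of_isConj hχ this).symm

/-- Lower unitriangular element. -/
def lSL (c : F) : SL₂ F := ⟨!![1, 0; c, 1], by simp [Matrix.det_fin_two]⟩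

@[simp] lemma lSL_coe (c : F) : ((lSL c : SL₂ F) : Matrix (Fin 2) (Fin 2) F) = !![1, 0; c, 1] := rfl

/-- Weyl element. -/
def wSL : SL₂ F := ⟨!![0, 1; -1, 0], by simp [Matrix.det_fin_two]⟩

@[simp] lemma wSL_coe : ((wSL : SL₂ F) : Matrix (Fin 2) (Fin 2) F) = !![0, 1; -1, 0] := rfl

/-- Inverse Weyl element. -/
def wiSL : SL₂ F := ⟨!![0, -1; 1, 0], by simp [Matrix.det_fin_two]⟩

@[simp] lemma wiSL_coe : ((wiSL : SL₂ F) : Matrix (Fin 2) (Fin 2) F) = !![0, -1; 1, 0] := rfl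

/-- A multiplicative function on `SL₂` trivial on upper unitriangular matrices is trivial. -/
lemma mul_trivial_of_unip (f : SL₂ F → ℂ) (hf : ∀ a b, f (a * b) = f a * f b)
    (hu : ∀ x : F, f ((b1Mk 1 x : B1 F) : SL₂ F) = 1) (g : SL₂ F) : f g = 1 := by
  have h1 : f 1 = 1 := by
    rw [← b1Mk_one_zero]
    exact hu 0
  have hw : (wSL : SL₂ F) * wiSL = 1 := by
    apply Matrix.SpecialLinearGroup.ext
    intro i j
    fin_cases i <;> fin_cases j <;> simp [Matrix.SpecialLinearGroup.coe_mul, Matrix.mul_apply, Fin.sum_univ_two]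
  have hw2 : f wSL * f wiSL = 1 := by
    rw [← hf, hw, h1]
  -- lower triangular
  have hl : ∀ c : F, f (lSL c) = 1 := by
    intro c
    have e : lSL c = wSL * ((b1Mk 1 (-c) : B1 F) : SL₂ F) * wiSL := by
      apply Matrix.SpecialLinearGroup.ext
      intro i j
      fin_cases i <;> fin_cases j <;> simp [Matrix.SpecialLinearGroup.coe_mul, Matrix.mul_apply, Fin.sum_univ_two]
    rw [e, hf, hf, hu, mul_one, hw2]
  have hmain : ∀ g : SL₂ F, (g : Matrix (Fin 2) (Fin 2) F) 1 0 ≠ 0 → f g = 1 := by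
    intro g hc
    have hdet : (g : Matrix (Fin 2) (Fin 2) F).det = 1 := g.2
    rw [Matrix.det_fin_two] at hdet
    have e : g = ((b1Mk 1 (((g : Matrix (Fin 2) (Fin 2) F) 0 0 - 1) / (g : Matrix (Fin 2) (Fin 2) F) 1 0) : B1 F) : SL₂ F) *
        lSL ((g : Matrix (Fin 2) (Fin 2) F) 1 0) *
        ((b1Mk 1 (((g : Matrix (Fin 2) (Fin 2) F) 1 1 - 1) / (g : Matrix (Fin 2) (Fin 2) F) 1 0) : B1 F) : SL₂ F) := by
      apply Matrix.SpecialLinearGroup.ext
      intro i j
      fin_cases i <;> fin_cases j <;> simp [Matrix.SpecialLinearGroup.coe_mul, Matrix.mul_apply, Fin.sum_univ_two] <;> field_simp <;>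
        first | ring1 | linear_combination hdet | linear_combination -hdet
    rw [e, hf, hf, hu, hu, hl]
    simp
  by_cases hc : (g : Matrix (Fin 2) (Fin 2) F) 1 0 = 0
  · have hdet : (g : Matrix (Fin 2) (Fin 2) F).det = 1 := g.2
    rw [Matrix.det_fin_two, hc, mul_zero, sub_zero] at hdet
    have hd : (g : Matrix (Fin 2) (Fin 2) F) 1 1 ≠ 0 := right_ne_zero_of_mul_eq_one hdet
    have h2 := hmain (g * lSL 1) (by
      simp [Matrix.SpecialLinearGroup.coe_mul, Matrix.mul_apply, Fin.sum_univ_two, hc, hd])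
    rw [hf, hl, mul_one] at h2
    exact h2
  · exact hmain g hc

/-- A linear character of `SL₂` with multiplicity one for the trivial character of `U`. -/
lemma linear_eq_one (χ : IrrCharacter (SL₂ F)) (hd : charDegree χ.1 = 1)
    (hs : ∑ x : F, χ.1 ((b1Mk 1 x : B1 F) : SL₂ F) = (Fintype.card F : ℂ)) : χ = oneIrr := by
  have hch := isCharacter_of_irr χ.2
  have h1 : ∀ x : F, χ.1 ((b1Mk 1 x : B1 F) : SL₂ F) = 1 := by
    intro x
    refine sum_eq_card_norm_one (fun x : F => χ.1 ((b1Mk 1 x : B1 F) : SL₂ F)) (fun x => linear_norm hch hd _) ?_ x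
    exact hs
  apply Subtype.ext
  funext g
  exact mul_trivial_of_unip χ.1 (linear_mul hch hd) h1 g

end Values

end Cfsg.Agent.H10
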