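import Mathlib
import Cfsg.Agent.Lib.H10.PS1Val

/-! Irreducible characters of `SL₂(2^n)`. -/

set_option autoImplicit false
set_option linter.unusedSectionVars false
set_option linter.unusedSimpArgs false
set_option linter.style.haveILetI false

namespace Cfsg.Agent.H10

open Cfsg Cfsg.Agent.H21 Matrix

open scoped ComplexConjugate Classical

local notation "SL₂" => Matrix.SpecialLinearGroup (Fin 2)

section Gen

variable {G : Type*} [Group G] [Fintype G] [Fintype (IrrCharacter G)]

/-- Counting characters by degree. -/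
lemma card_degree (n : ℕ) : Nat.card {χ : IrrCharacter G // χ.1 1 = (n : ℂ)} =
    (Finset.univ.filter (fun χ : IrrCharacter G => charDegree χ.1 = n)).card := by
  rw [Nat.card_eq_fintype_card, Fintype.card_subtype]
  congr 1
  ext χ
  simp only [Finset.mem_filter, Finset.mem_univ, true_and]
  rw [one_eq_charDegree (isCharacter_of_irr χ.2)]
  exact_mod_cast Iff.rfl

end Gen

section Even

variable {F : Type*} [Field F] [Fintype F] [Fintype (SL₂ F)] [CharP F 2]

lemma mulChar_eq_one_of_even (α : MulChar F ℂ) (h : α = α⁻¹) : α = 1 := by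
  have hsq : α ^ 2 = 1 := by
    rw [sq]
    exact eq_inv_iff_mul_eq_one.mp h
  have h1 : Nat.card {α : MulChar F ℂ // α ^ 2 = 1} = 1 := by
    rw [card_mulChar_sq_one, card_sq_eq_one_of_char_two]
  have h2 := (Nat.card_eq_one_iff_unique.mp h1).1
  have := h2.elim ⟨α, hsq⟩ ⟨1, one_pow 2⟩
  exact congrArg Subtype.val this

lemma validE_even : ValidE (∅ : Finset (IrrCharacter (SL₂ F))) where
  one_not := by simp
  st_not := by simp
  disj := by simp
  not_cusp := by simp
  cover := by
    intro χ α _ h1 h2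
    exact absurd (mulChar_eq_one_of_even α h1) h2

lemma two_mul_T_even : 2 * (Tset F).card + 1 = Fintype.card F - 1 := by
  rw [two_mul_card_Tset, ← card_Q_add, card_sq_eq_one_of_char_two]

lemma cusp_dvd_even (χ : IrrCharacter (SL₂ F)) (h : IsCusp1 χ) :
    (Fintype.card F - 1) ∣ charDegree χ.1 := by
  have hcl := isClassFunction_of_isCharacter (isCharacter_of_irr χ.2)
  have h1 := cusp1_sum χ.1 hcl h 1
  rw [sum_unip_char_two χ.1 hcl, one_eq_charDegree (isCharacter_of_irr χ.2)] at h1
  have hq : Fintype.card F - 1 ≠ 0 := by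
    have : 1 < Fintype.card F := Fintype.one_lt_card
    omega
  exact dvd_of_add_mul_eq_zero _ _ hq _ (isCharacter_isIntegral (isCharacter_of_irr χ.2) _) h1

theorem cusp_degree_even (χ : IrrCharacter (SL₂ F)) (h : IsCusp1 χ) :
    charDegree χ.1 = Fintype.card F - 1 := by
  have hE := validE_even (F := F)
  set C := (Nset (∅ : Finset (IrrCharacter (SL₂ F))))ᶜ with hC
  have hmem : χ ∈ C := (mem_compl_iff hE χ).mpr h
  have hq2 : 2 ≤ Fintype.card F := Fintype.one_lt_card
  obtain ⟨k, hk⟩ : ∃ k, Fintype.card F = k + 1 := ⟨Fintype.card F - 1, by omega⟩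
  have hk1 : Fintype.card F - 1 = k := by omega
  have hsum := sum_cusp hE
  have hcard := card_compl hE
  have hT := two_mul_T_even (F := F)
  rw [Cfsg.Agent.S2331.result] at hcard
  rw [Finset.sum_empty] at hsum
  rw [Finset.card_empty] at hcard
  rw [← hC] at hsum hcard
  rw [hk1] at hT ⊢
  rw [hk] at hsum hcard
  have e1 : (k + 1) ^ 2 - 1 = k ^ 2 + 2 * k := by
    have : (k + 1) ^ 2 = k ^ 2 + 2 * k + 1 := by ring
    omega
  rw [e1] at hsum
  have hlow : ∀ ψ ∈ C, k ^ 2 ≤ charDegree ψ.1 ^ 2 := by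
    intro ψ hψ
    have h3 := cusp_dvd_even ψ ((mem_compl_iff hE ψ).mp hψ)
    rw [hk1] at h3
    have h4 := Nat.le_of_dvd (irr_charDegree_pos ψ.2) h3
    exact Nat.pow_le_pow_left h4 2
  have hsum2 : ∑ ψ ∈ C, charDegree ψ.1 ^ 2 = C.card * k ^ 2 := by
    generalize ∑ ψ ∈ C, charDegree ψ.1 ^ 2 = S at hsum ⊢
    generalize C.card = c at hcard ⊢
    generalize (Tset F).card = T at hsum hcard hT
    have hs : (S : ℤ) + (1 + ((k + 1) ^ 2 + (T * ((k + 1) + 1) ^ 2 + 0))) =
        (k + 1) * (k ^ 2 + 2 * k) := by exact_mod_cast hsum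
    have hc : (c : ℤ) + (2 + T + 0) = (k + 1) + 1 := by exact_mod_cast hcard
    have hT' : (2 : ℤ) * T + 1 = k := by exact_mod_cast hT
    have : (S : ℤ) = c * k ^ 2 := by
      linear_combination hs - k ^ 2 * hc - (2 * (k + 1)) * hT'
    exact_mod_cast this
  have heq : ∀ ψ ∈ C, charDegree ψ.1 ^ 2 = k ^ 2 := by
    have : ∑ ψ ∈ C, k ^ 2 = ∑ ψ ∈ C, charDegree ψ.1 ^ 2 := by
      rw [hsum2, Finset.sum_const, smul_eq_mul]
    intro ψ hψ
    exact ((Finset.sum_eq_sum_iff_of_le hlow).mp this ψ hψ).symm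
  have := heq χ hmem
  exact Nat.pow_left_injective (n := 2) (by norm_num) this

theorem irr_classify_even (χ : IrrCharacter (SL₂ F)) :
    χ = oneIrr ∨ χ = stIrr ∨ χ ∈ Tset F ∨ (IsCusp1 χ ∧ charDegree χ.1 = Fintype.card F - 1) := by
  have hE := validE_even (F := F)
  by_cases h : IsCusp1 χ
  · exact Or.inr (Or.inr (Or.inr ⟨h, cusp_degree_even χ h⟩))
  · have h1 := (mem_Nset hE χ).mpr h
    simp only [Nset, Finset.mem_insert, Finset.mem_union] at h1
    rcases h1 with h1 | h1 | h1 | h1
    · exact Or.inl h1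
    · exact Or.inr (Or.inl h1)
    · exact Or.inr (Or.inr (Or.inl h1))
    · simp at h1

lemma card_cusp_even : (Finset.univ.filter (fun χ : IrrCharacter (SL₂ F) => IsCusp1 χ)).card =
    Fintype.card F / 2 := by
  have hE := validE_even (F := F)
  have h1 : Finset.univ.filter (fun χ : IrrCharacter (SL₂ F) => IsCusp1 χ) = (Nset ∅)ᶜ := by
    ext χ
    simp only [Finset.mem_filter, Finset.mem_univ, true_and]
    exact (mem_compl_iff hE χ).symm
  rw [h1]
  have hcard := card_compl hE
  have hT := two_mul_T_even (F := F)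
  rw [Cfsg.Agent.S2331.result, Finset.card_empty] at hcard
  have hq2 : 2 ≤ Fintype.card F := Fintype.one_lt_card
  omega

end Even

end Cfsg.Agent.H10
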