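import Mathlib
import Cfsg.Agent.Lib.H10.PS1Even

/-! Irreducible characters of `SL₂(q)`, `q` odd. -/

set_option autoImplicit false
set_option linter.unusedSectionVars false
set_option linter.unusedSimpArgs false
set_option linter.style.haveILetI false

namespace Cfsg.Agent.H10

open Cfsg Cfsg.Agent.H21 Matrix

open scoped ComplexConjugate Classical

local notation "SL₂" => Matrix.SpecialLinearGroup (Fin 2)

section Quad

variable {F : Type*} [Field F] [Fintype F]

/-- The quadratic character with values in `ℂ`. -/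
noncomputable def qc (F : Type*) [Field F] [Fintype F] : MulChar F ℂ :=
  (quadraticChar F).ringHomComp (Int.castRingHom ℂ)

@[simp] lemma qc_apply (x : F) : qc F x = (quadraticChar F x : ℂ) := rfl

lemma qc_sq : (qc F) ^ 2 = 1 := by
  ext a
  simp only [MulChar.pow_apply_coe, MulChar.one_apply_coe, qc_apply]
  rw [← Int.cast_pow, quadraticChar_sq_one (Units.ne_zero a)]
  simp

lemma qc_inv : (qc F)⁻¹ = qc F := by
  rw [inv_eq_iff_mul_eq_one, ← sq, qc_sq]

lemma qc_ne_one (hodd : Odd (Fintype.card F)) : qc F ≠ 1 := by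
  intro h
  obtain ⟨ν, hν⟩ := FiniteField.exists_nonsquare (S2325.char_ne_two hodd)
  have hν0 : ν ≠ 0 := by
    rintro rfl
    exact hν IsSquare.zero
  have h1 := quadraticChar_neg_one_iff_not_isSquare.mpr hν
  have h2 := congrArg (fun α : MulChar F ℂ => α ν) h
  simp only [qc_apply, h1] at h2
  rw [MulChar.one_apply (Ne.isUnit hν0)] at h2
  norm_num at h2

/-- The quadratic character is the only nontrivial character of order dividing two. -/
lemma mulChar_sq_one_cases (hodd : Odd (Fintype.card F)) (α : MulChar F ℂ) (hα : α ^ 2 = 1) :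
    α = 1 ∨ α = qc F := by
  have h2 : (2 : F) ≠ 0 := Ring.two_ne_zero (S2325.char_ne_two hodd)
  have h1 : Nat.card {α : MulChar F ℂ // α ^ 2 = 1} = 2 := by
    rw [card_mulChar_sq_one, card_sq_eq_one_of_ne_two h2]
  by_contra hcon
  push Not at hcon
  have hne := qc_ne_one hodd
  have h3 : (({⟨1, one_pow 2⟩, ⟨qc F, qc_sq⟩, ⟨α, hα⟩} :
      Finset {α : MulChar F ℂ // α ^ 2 = 1})).card = 3 := by
    rw [Finset.card_eq_three]
    refine ⟨_, _, _, ?_, ?_, ?_, rfl⟩
    · intro h
      exact hne (congrArg Subtype.val h).symm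
    · intro h
      exact hcon.1 (congrArg Subtype.val h).symm
    · intro h
      exact hcon.2 (congrArg Subtype.val h).symm
  have h4 := Finset.card_le_univ ({⟨1, one_pow 2⟩, ⟨qc F, qc_sq⟩, ⟨α, hα⟩} :
      Finset {α : MulChar F ℂ // α ^ 2 = 1})
  rw [h3, ← Nat.card_eq_fintype_card, h1] at h4
  omega

lemma eq_qc_of_sq (hodd : Odd (Fintype.card F)) (α : MulChar F ℂ) (hα : α ^ 2 = 1) (h1 : α ≠ 1) :
    α = qc F := (mulChar_sq_one_cases hodd α hα).resolve_left h1

lemma sq_eq_one_iff_eq_inv (α : MulChar F ℂ) : α ^ 2 = 1 ↔ α = α⁻¹ := by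
  rw [sq, ← eq_inv_iff_mul_eq_one]

end Quad

section Unip

variable {F : Type*} [Field F] [Fintype F] [Fintype (SL₂ F)]

/-- Values at transvections through the square class of the parameter. -/
lemma unip_square (f : SL₂ F → ℂ) (hf : IsClassFunction (SL₂ F) f) (x : Fˣ) :
    f ((b1Mk 1 ((x : F) ^ 2) : B1 F) : SL₂ F) = f ((b1Mk 1 1 : B1 F) : SL₂ F) := by
  have := b1_isConj_sq 1 x 1
  rw [one_mul] at this
  exact (class_eq_of_isConj hf this).symm

lemma unip_nonsquare (f : SL₂ F → ℂ) (hf : IsClassFunction (SL₂ F) f) (ν δ : Fˣ)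
    (hν : ¬ IsSquare (ν : F)) (hδ : ¬ IsSquare (δ : F)) :
    f ((b1Mk 1 (δ : F) : B1 F) : SL₂ F) = f ((b1Mk 1 (ν : F) : B1 F) : SL₂ F) := by
  obtain ⟨s, hs⟩ := S2325.exists_sq_of_nonsquare δ ν hδ hν
  have := b1_isConj_sq 1 s ν
  have e : (δ : F) = (ν : F) * (s : F) ^ 2 := by
    rw [hs]
    simp
  rw [e]
  exact (class_eq_of_isConj hf this).symm

/-- The shape of a class function on transvections, odd characteristic. -/
lemma unip_value (f : SL₂ F → ℂ) (hf : IsClassFunction (SL₂ F) f) (ν : Fˣ)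
    (hν : ¬ IsSquare (ν : F)) (x : F) (hx : x ≠ 0) :
    2 * f ((b1Mk 1 x : B1 F) : SL₂ F) =
      (f ((b1Mk 1 1 : B1 F) : SL₂ F) + f ((b1Mk 1 (ν : F) : B1 F) : SL₂ F)) +
        (quadraticChar F x : ℂ) * (f ((b1Mk 1 1 : B1 F) : SL₂ F) - f ((b1Mk 1 (ν : F) : B1 F) : SL₂ F)) := by
  by_cases hs : IsSquare x
  · have h1 := (quadraticChar_one_iff_isSquare hx).mpr hs
    obtain ⟨s, rfl⟩ := hs
    have hs0 : s ≠ 0 := by
      rintro rfl
      simp at hx
    have := unip_square f hf (Units.mk0 s hs0)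
    rw [Units.val_mk0, sq] at this
    rw [this, h1]
    push_cast
    ring
  · have h1 := quadraticChar_neg_one_iff_not_isSquare.mpr hs
    have := unip_nonsquare f hf ν (Units.mk0 x hx) hν (by simpa using hs)
    rw [Units.val_mk0] at this
    rw [this, h1]
    push_cast
    ring

lemma sum_qc_zero (hodd : Odd (Fintype.card F)) : ∑ x : F, (quadraticChar F x : ℂ) = 0 := by
  have := quadraticChar_sum_zero (S2325.char_ne_two hodd)
  exact_mod_cast this

/-- Twice the sum of a class function over transvections. -/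
lemma two_sum_unip (hodd : Odd (Fintype.card F)) (f : SL₂ F → ℂ) (hf : IsClassFunction (SL₂ F) f)
    (ν : Fˣ) (hν : ¬ IsSquare (ν : F)) :
    2 * ∑ x : F, f ((b1Mk 1 x : B1 F) : SL₂ F) =
      2 * f 1 + ((Fintype.card F - 1 : ℕ) : ℂ) *
        (f ((b1Mk 1 1 : B1 F) : SL₂ F) + f ((b1Mk 1 (ν : F) : B1 F) : SL₂ F)) := by
  set a := f ((b1Mk 1 1 : B1 F) : SL₂ F) with ha
  set a' := f ((b1Mk 1 (ν : F) : B1 F) : SL₂ F) with ha'
  rw [Finset.mul_sum, ← Finset.add_sum_erase _ _ (Finset.mem_univ (0 : F)), b1Mk_one_zero]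
  congr 1
  rw [Finset.sum_congr rfl (fun x hx => unip_value f hf ν hν x (Finset.ne_of_mem_erase hx)),
    Finset.sum_add_distrib, Finset.sum_const, ← Finset.sum_mul]
  have h1 : ∑ x ∈ Finset.univ.erase (0 : F), (quadraticChar F x : ℂ) = 0 := by
    have h2 := Finset.add_sum_erase Finset.univ (fun x : F => (quadraticChar F x : ℂ)) (Finset.mem_univ (0 : F))
    rw [sum_qc_zero hodd] at h2
    simpa using h2
  rw [h1, Finset.card_erase_of_mem (Finset.mem_univ _), Finset.card_univ, nsmul_eq_mul]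
  ring

end Unip

section Pair

variable {F : Type*} [Field F] [Fintype F] [Fintype (SL₂ F)]

/-- The two constituents of the principal series of the quadratic character. -/
def HalfPair (χ₁ χ₂ : IrrCharacter (SL₂ F)) : Prop :=
  χ₁ ≠ χ₂ ∧ (pi1 (qc F) : SL₂ F → ℂ) = χ₁.1 + χ₂.1

lemma HalfPair.symm {χ₁ χ₂ : IrrCharacter (SL₂ F)} (h : HalfPair χ₁ χ₂) : HalfPair χ₂ χ₁ :=
  ⟨h.1.symm, by rw [h.2, add_comm]⟩

lemma inner_pi1_qc : classInner (pi1 (qc F) : SL₂ F → ℂ) (pi1 (qc F)) = 2 := by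
  rw [inner_pi1, if_pos rfl, if_pos qc_inv.symm]
  norm_num

theorem exists_halfPair : ∃ χ₁ χ₂ : IrrCharacter (SL₂ F), HalfPair χ₁ χ₂ := by
  obtain ⟨χ₁, χ₂, h1, h2⟩ := exists_two_constituents (pi1_isCharacter (qc F)) inner_pi1_qc
  exact ⟨χ₁, χ₂, h1, h2⟩

variable {χ₁ χ₂ : IrrCharacter (SL₂ F)}

lemma inner_half (hodd : Odd (Fintype.card F)) (hp : HalfPair χ₁ χ₂) (α : MulChar F ℂ) :
    classInner χ₁.1 (pi1 α) = if α = qc F then 1 else 0 := by
  by_cases h : α = qc F
  · subst h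
    rw [if_pos rfl, hp.2, classInner_add_right, classInner_self_irr, classInner_irr, if_neg hp.1]
    simp
  · rw [if_neg h]
    have h1 := inner_pi1 (qc F) α
    have h2 : qc F ≠ α := fun e => h e.symm
    have h3 : qc F ≠ α⁻¹ := fun e => by
      apply h
      rw [← _root_.inv_inj, ← e, qc_inv]
    rw [if_neg h2, if_neg h3, add_zero, hp.2, classInner_add_left] at h1
    obtain ⟨m, hm⟩ := classInner_isCharacter_nat (isCharacter_of_irr χ₁.2) (pi1_isCharacter α)
    obtain ⟨n, hn⟩ := classInner_isCharacter_nat (isCharacter_of_irr χ₂.2) (pi1_isCharacter α)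
    rw [hm, hn] at h1
    have h4 : m + n = 0 := by exact_mod_cast h1
    rw [hm]
    have : m = 0 := by omega
    simp [this]

lemma sum_half (hodd : Odd (Fintype.card F)) (hp : HalfPair χ₁ χ₂) :
    ∑ x : F, χ₁.1 ((b1Mk 1 x : B1 F) : SL₂ F) = (Fintype.card F : ℂ) := by
  have h1 := sum_unip_eq χ₁.1 (isClassFunction_of_isCharacter (isCharacter_of_irr χ₁.2))
  have h2 : ∀ α : MulChar F ℂ, classInner (pi1 α) χ₁.1 = if α = qc F then 1 else 0 := by
    intro α
    rw [← classInner_comm_conj, inner_half hodd hp]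
    split_ifs <;> simp
  rw [Finset.sum_congr rfl (fun α _ => h2 α), Finset.sum_ite_eq' Finset.univ, if_pos (Finset.mem_univ _),
    mul_one] at h1
  have h3 := congrArg (starRingEnd ℂ) h1
  rw [Complex.conj_conj, Complex.conj_natCast] at h3
  exact h3

lemma half_not_one (hodd : Odd (Fintype.card F)) (hp : HalfPair χ₁ χ₂) : χ₁ ≠ oneIrr := by
  intro h
  have h1 := inner_half hodd hp (qc F)
  rw [if_pos rfl, h] at h1
  have h2 := inner_one1_pi1 (qc F)
  change classInner (one1 : SL₂ F → ℂ) _ = _ at h1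
  rw [h2, if_neg (qc_ne_one hodd)] at h1
  exact zero_ne_one h1

lemma half_not_st (hodd : Odd (Fintype.card F)) (hp : HalfPair χ₁ χ₂) : χ₁ ≠ stIrr := by
  intro h
  have h1 := inner_half hodd hp (qc F)
  rw [if_pos rfl, h] at h1
  have h2 := inner_pi1_st1 (qc F) (qc_ne_one hodd)
  rw [← classInner_comm_conj] at h2
  change classInner (st1 : SL₂ F → ℂ) _ = _ at h1
  rw [h1, map_one] at h2
  exact one_ne_zero h2

lemma half_not_T (hodd : Odd (Fintype.card F)) (hp : HalfPair χ₁ χ₂) : χ₁ ∉ Tset F := by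
  intro h
  obtain ⟨α, hα, e⟩ := mem_Tset.mp h
  have h1 := inner_half hodd hp (qc F)
  rw [if_pos rfl, e, inner_pi1] at h1
  have h2 : α ≠ qc F := by
    rintro rfl
    exact hα qc_inv.symm
  have h3 : α ≠ (qc F)⁻¹ := by
    rw [qc_inv]
    exact h2
  rw [if_neg h2, if_neg h3] at h1
  norm_num at h1

lemma half_not_cusp (hodd : Odd (Fintype.card F)) (hp : HalfPair χ₁ χ₂) : ¬ IsCusp1 χ₁ := by
  intro h
  have h1 := inner_half hodd hp (qc F)
  rw [if_pos rfl, h (qc F)] at h1
  exact zero_ne_one h1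

theorem validE_odd (hodd : Odd (Fintype.card F)) (hp : HalfPair χ₁ χ₂) : ValidE {χ₁, χ₂} where
  one_not := by
    simp only [Finset.mem_insert, Finset.mem_singleton, not_or]
    exact ⟨fun h => half_not_one hodd hp h.symm, fun h => half_not_one hodd hp.symm h.symm⟩
  st_not := by
    simp only [Finset.mem_insert, Finset.mem_singleton, not_or]
    exact ⟨fun h => half_not_st hodd hp h.symm, fun h => half_not_st hodd hp.symm h.symm⟩
  disj := by
    rw [Finset.disjoint_right]
    intro χ hχ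
    simp only [Finset.mem_insert, Finset.mem_singleton] at hχ
    rcases hχ with rfl | rfl
    · exact half_not_T hodd hp
    · exact half_not_T hodd hp.symm
  not_cusp := by
    intro χ hχ
    simp only [Finset.mem_insert, Finset.mem_singleton] at hχ
    rcases hχ with rfl | rfl
    · exact half_not_cusp hodd hp
    · exact half_not_cusp hodd hp.symm
  cover := by
    intro χ α h1 h2 h3
    have h4 : α = qc F := eq_qc_of_sq hodd α ((sq_eq_one_iff_eq_inv α).mpr h2) h3
    subst h4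
    rw [hp.2, classInner_add_right, classInner_irr, classInner_irr] at h1
    simp only [Finset.mem_insert, Finset.mem_singleton]
    by_contra hcon
    push Not at hcon
    rw [if_neg hcon.1, if_neg hcon.2] at h1
    simp at h1

lemma integral_value (χ : IrrCharacter (SL₂ F)) (g : SL₂ F) : IsIntegral ℤ (χ.1 g) :=
  isCharacter_isIntegral (isCharacter_of_irr χ.2) g

lemma half_dvd (hodd : Odd (Fintype.card F)) (hp : HalfPair χ₁ χ₂) :
    ∃ e, charDegree χ₁.1 = e + 1 ∧ (Fintype.card F - 1) ∣ 2 * e ∧ e ≠ 0 := by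
  obtain ⟨ν, hν⟩ := FiniteField.exists_nonsquare (S2325.char_ne_two hodd)
  have hν0 : ν ≠ 0 := by
    rintro rfl
    exact hν IsSquare.zero
  have hcl := isClassFunction_of_isCharacter (isCharacter_of_irr χ₁.2)
  have h1 := two_sum_unip hodd χ₁.1 hcl (Units.mk0 ν hν0) (by simpa using hν)
  rw [sum_half hodd hp, one_eq_charDegree (isCharacter_of_irr χ₁.2)] at h1
  have hd := irr_charDegree_pos χ₁.2
  obtain ⟨e, he⟩ : ∃ e, charDegree χ₁.1 = e + 1 := ⟨charDegree χ₁.1 - 1, by omega⟩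
  have hq2 : 2 ≤ Fintype.card F := Fintype.one_lt_card
  obtain ⟨k, hk⟩ : ∃ k, Fintype.card F = k + 1 := ⟨Fintype.card F - 1, by omega⟩
  have hk1 : Fintype.card F - 1 = k := by omega
  refine ⟨e, he, ?_, ?_⟩
  · rw [hk1]
    rw [he, hk1, hk] at h1
    have hk0 : k ≠ 0 := by omega
    refine dvd_of_add_mul_eq_zero _ k hk0 (χ₁.1 ((b1Mk 1 1 : B1 F) : SL₂ F) +
      χ₁.1 ((b1Mk 1 (Units.mk0 ν hν0 : Fˣ) : B1 F) : SL₂ F) - 2) ?_ ?_
    · refine ((integral_value χ₁ _).add (integral_value χ₁ _)).sub ?_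
      have : IsIntegral ℤ (algebraMap ℤ ℂ 2) := isIntegral_algebraMap
      simpa using this
    · push_cast at h1 ⊢
      linear_combination -h1
  · rintro rfl
    have h3 := linear_eq_one χ₁ (by omega) (sum_half hodd hp)
    exact half_not_one hodd hp h3

lemma half_degree_add (hp : HalfPair χ₁ χ₂) :
    charDegree χ₁.1 + charDegree χ₂.1 = Fintype.card F + 1 := by
  have h1 := congrFun hp.2 1
  rw [pi1_one, Pi.add_apply, one_eq_charDegree (isCharacter_of_irr χ₁.2),
    one_eq_charDegree (isCharacter_of_irr χ₂.2)] at h1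
  have : ((Fintype.card F + 1 : ℕ) : ℂ) = ((charDegree χ₁.1 + charDegree χ₂.1 : ℕ) : ℂ) := by
    push_cast
    exact h1
  exact_mod_cast this.symm

/-- The constituents have degree `(q + 1) / 2`. -/
theorem half_degree (hodd : Odd (Fintype.card F)) (hp : HalfPair χ₁ χ₂) :
    2 * charDegree χ₁.1 = Fintype.card F + 1 := by
  obtain ⟨e₁, h1, h2, h3⟩ := half_dvd hodd hp
  obtain ⟨e₂, h4, h5, h6⟩ := half_dvd hodd hp.symm
  have h7 := half_degree_add hp
  have hq2 : 2 ≤ Fintype.card F := Fintype.one_lt_card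
  obtain ⟨k, hk⟩ : ∃ k, Fintype.card F = k + 1 := ⟨Fintype.card F - 1, by omega⟩
  have hk1 : Fintype.card F - 1 = k := by omega
  rw [hk1] at h2 h5
  have h8 := Nat.le_of_dvd (by omega) h2
  have h9 := Nat.le_of_dvd (by omega) h5
  omega

/-- The values of a constituent at the two classes of transvections add up to one. -/
theorem half_unip_add (hodd : Odd (Fintype.card F)) (hp : HalfPair χ₁ χ₂) (ν : Fˣ)
    (hν : ¬ IsSquare (ν : F)) :
    χ₁.1 ((b1Mk 1 1 : B1 F) : SL₂ F) + χ₁.1 ((b1Mk 1 (ν : F) : B1 F) : SL₂ F) = 1 := by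
  have hcl := isClassFunction_of_isCharacter (isCharacter_of_irr χ₁.2)
  have h1 := two_sum_unip hodd χ₁.1 hcl ν hν
  rw [sum_half hodd hp, one_eq_charDegree (isCharacter_of_irr χ₁.2)] at h1
  have h2 := half_degree hodd hp
  have h3 : (2 : ℂ) * (charDegree χ₁.1 : ℂ) = (Fintype.card F : ℂ) + 1 := by exact_mod_cast h2
  have hq1 := q_sub_one_ne_zero (F := F)
  have hq2 : 2 ≤ Fintype.card F := Fintype.one_lt_card
  have hqc : ((Fintype.card F - 1 : ℕ) : ℂ) = (Fintype.card F : ℂ) - 1 := by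
    rw [Nat.cast_sub (by omega)]
    simp
  rw [hqc] at h1 hq1
  have h4 : ((Fintype.card F : ℂ) - 1) * (χ₁.1 ((b1Mk 1 1 : B1 F) : SL₂ F) +
      χ₁.1 ((b1Mk 1 (ν : F) : B1 F) : SL₂ F) - 1) = 0 := by
    linear_combination -h1 - h3
  have h5 := (mul_eq_zero.mp h4).resolve_left hq1
  linear_combination h5

lemma half_integer_contra (z : ℂ) (hz : IsIntegral ℤ z) (n : ℤ) (hn : Odd n) (h : 2 * z = n) : False := by
  have h1 : z = ((n / 2 : ℚ) : ℂ) := by
    push_cast
    field_simp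
    linear_combination h
  obtain ⟨m, hm⟩ := isInt_of_isIntegral_rat (n / 2 : ℚ) (by rw [← h1]; exact hz)
  have h2 : (n : ℚ) = 2 * m := by
    rw [← hm]
    field_simp
  have h3 : n = 2 * m := by exact_mod_cast h2
  obtain ⟨k, hk⟩ := hn
  omega

/-- The values of a constituent at the two classes of transvections are different. -/
theorem half_unip_ne (hodd : Odd (Fintype.card F)) (hp : HalfPair χ₁ χ₂) (ν : Fˣ)
    (hν : ¬ IsSquare (ν : F)) :
    χ₁.1 ((b1Mk 1 1 : B1 F) : SL₂ F) ≠ χ₁.1 ((b1Mk 1 (ν : F) : B1 F) : SL₂ F) := by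
  intro h
  have h1 := half_unip_add hodd hp ν hν
  rw [← h] at h1
  exact half_integer_contra _ (integral_value χ₁ _) 1 (by decide) (by push_cast; linear_combination h1)

end Pair

section Cusp

variable {F : Type*} [Field F] [Fintype F] [Fintype (SL₂ F)]

variable {χ₁ χ₂ : IrrCharacter (SL₂ F)}

/-- The divisibility for cuspidal characters. -/
lemma cusp_dvd_odd (hodd : Odd (Fintype.card F)) (χ : IrrCharacter (SL₂ F)) (h : IsCusp1 χ) :
    (Fintype.card F - 1) ∣ 2 * charDegree χ.1 := by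
  obtain ⟨ν, hν⟩ := FiniteField.exists_nonsquare (S2325.char_ne_two hodd)
  have hν0 : ν ≠ 0 := by
    rintro rfl
    exact hν IsSquare.zero
  have hcl := isClassFunction_of_isCharacter (isCharacter_of_irr χ.2)
  have h1 := two_sum_unip hodd χ.1 hcl (Units.mk0 ν hν0) (by simpa using hν)
  rw [cusp1_sum χ.1 hcl h 1, one_eq_charDegree (isCharacter_of_irr χ.2)] at h1
  have hq2 : 2 ≤ Fintype.card F := Fintype.one_lt_card
  refine dvd_of_add_mul_eq_zero _ _ (by omega) (χ.1 ((b1Mk 1 1 : B1 F) : SL₂ F) +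
      χ.1 ((b1Mk 1 (Units.mk0 ν hν0 : Fˣ) : B1 F) : SL₂ F))
    ((integral_value χ _).add (integral_value χ _)) ?_
  push_cast
  linear_combination -h1

theorem cusp_degree_odd (hodd : Odd (Fintype.card F)) (m : ℕ) (hm : Fintype.card F = 2 * m + 1)
    (χ : IrrCharacter (SL₂ F)) (h : IsCusp1 χ) :
    charDegree χ.1 = m ∨ charDegree χ.1 = 2 * m := by
  have h1 := cusp_dvd_odd hodd χ h
  obtain ⟨-, -, -, h2⟩ := cusp1_degree_le h
  have hd := irr_charDegree_pos χ.2
  rw [hm] at h1 h2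
  have e : 2 * m + 1 - 1 = 2 * m := by omega
  rw [e] at h1 h2
  have h3 : m ∣ charDegree χ.1 := by
    have hm0 : 0 < 2 := by norm_num
    exact (Nat.mul_dvd_mul_iff_left hm0).mp h1
  obtain ⟨t, ht⟩ := h3
  have hm1 : 0 < m := by
    rcases Nat.eq_zero_or_pos m with h0 | h0
    · subst h0
      simp at ht
      omega
    · exact h0
  have ht2 : t ≤ 2 := by
    rw [ht] at h2
    have : m * t ≤ m * 2 := by linarith
    exact Nat.le_of_mul_le_mul_left this hm1
  interval_cases t
  · simp at ht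
    omega
  · left
    simpa using ht
  · right
    rw [ht]
    ring

/-- The cuspidal characters. -/
noncomputable def CuspS (F : Type*) [Field F] [Fintype F] [Fintype (SL₂ F)] :
    Finset (IrrCharacter (SL₂ F)) := Finset.univ.filter IsCusp1

lemma mem_CuspS {χ : IrrCharacter (SL₂ F)} : χ ∈ CuspS F ↔ IsCusp1 χ := by
  simp [CuspS]

lemma CuspS_eq (hodd : Odd (Fintype.card F)) (hp : HalfPair χ₁ χ₂) :
    CuspS F = (Nset {χ₁, χ₂})ᶜ := by
  ext χ
  rw [mem_CuspS, mem_compl_iff (validE_odd hodd hp)]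

lemma card_T_odd (hodd : Odd (Fintype.card F)) (m : ℕ) (hm : Fintype.card F = 2 * m + 1) :
    (Tset F).card + 1 = m := by
  have h1 := two_mul_card_Tset (F := F)
  have h2 := card_Q_add (F := F)
  have h3 : (2 : F) ≠ 0 := Ring.two_ne_zero (S2325.char_ne_two hodd)
  rw [card_sq_eq_one_of_ne_two h3] at h2
  omega

lemma card_E (hp : HalfPair χ₁ χ₂) : ({χ₁, χ₂} : Finset (IrrCharacter (SL₂ F))).card = 2 :=
  Finset.card_pair hp.1

lemma card_CuspS (hodd : Odd (Fintype.card F)) (m : ℕ) (hm : Fintype.card F = 2 * m + 1)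
    (hp : HalfPair χ₁ χ₂) : (CuspS F).card = m + 2 := by
  have h1 := card_compl (validE_odd hodd hp)
  rw [Cfsg.Agent.S2325.result hodd, card_E hp, ← CuspS_eq hodd hp] at h1
  have h2 := card_T_odd hodd m hm
  omega

lemma sum_CuspS (hodd : Odd (Fintype.card F)) (m : ℕ) (hm : Fintype.card F = 2 * m + 1)
    (hp : HalfPair χ₁ χ₂) : ∑ χ ∈ CuspS F, charDegree χ.1 ^ 2 = m ^ 2 * (4 * m + 2) := by
  have h1 := sum_cusp (validE_odd hodd hp)
  rw [← CuspS_eq hodd hp, Finset.sum_pair hp.1] at h1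
  have h2 := card_T_odd hodd m hm
  have h3 := half_degree hodd hp
  have h4 := half_degree hodd hp.symm
  have e1 : charDegree χ₁.1 = m + 1 := by omega
  have e2 : charDegree χ₂.1 = m + 1 := by omega
  rw [e1, e2, hm] at h1
  have e3 : (2 * m + 1) ^ 2 - 1 = 4 * m ^ 2 + 4 * m := by
    have : (2 * m + 1) ^ 2 = 4 * m ^ 2 + 4 * m + 1 := by ring
    omega
  rw [e3] at h1
  generalize ∑ χ ∈ CuspS F, charDegree χ.1 ^ 2 = S at h1 ⊢
  generalize (Tset F).card = T at h1 h2
  have h5 : (S : ℤ) + (1 + ((2 * m + 1) ^ 2 + (T * ((2 * m + 1) + 1) ^ 2 +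
      ((m + 1) ^ 2 + (m + 1) ^ 2)))) = (2 * m + 1) * (4 * m ^ 2 + 4 * m) := by
    exact_mod_cast h1
  have h6 : (T : ℤ) + 1 = m := by exact_mod_cast h2
  have h7 : (S : ℤ) = m ^ 2 * (4 * m + 2) := by
    linear_combination h5 - (2 * m + 2) ^ 2 * h6
  exact_mod_cast h7

/-- The cuspidal characters of each of the two possible degrees are counted. -/
theorem card_cusp_half_full (hodd : Odd (Fintype.card F)) (m : ℕ) (hm : Fintype.card F = 2 * m + 1)
    (hp : HalfPair χ₁ χ₂) :
    ((CuspS F).filter (fun χ => charDegree χ.1 = m)).card = 2 ∧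
    ((CuspS F).filter (fun χ => charDegree χ.1 = 2 * m)).card = m := by
  have hm0 : 0 < m := by
    have : 2 ≤ Fintype.card F := Fintype.one_lt_card
    omega
  have hcases : ∀ χ ∈ CuspS F, charDegree χ.1 = m ∨ charDegree χ.1 = 2 * m := fun χ hχ =>
    cusp_degree_odd hodd m hm χ (mem_CuspS.mp hχ)
  have hsplit := Finset.card_filter_add_card_filter_not (s := CuspS F) (fun χ => charDegree χ.1 = m)
  have hsplit2 := Finset.sum_filter_add_sum_filter_not (CuspS F) (fun χ => charDegree χ.1 = m)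
    (fun χ => charDegree χ.1 ^ 2)
  have heq : (CuspS F).filter (fun χ => ¬ charDegree χ.1 = m) =
      (CuspS F).filter (fun χ => charDegree χ.1 = 2 * m) := by
    apply Finset.filter_congr
    intro χ hχ
    constructor
    · intro h
      exact (hcases χ hχ).resolve_left h
    · intro h
      omega
  rw [heq] at hsplit hsplit2
  rw [card_CuspS hodd m hm hp] at hsplit
  rw [sum_CuspS hodd m hm hp] at hsplit2
  have h1 : ∑ χ ∈ (CuspS F).filter (fun χ => charDegree χ.1 = m), charDegree χ.1 ^ 2 =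
      ((CuspS F).filter (fun χ => charDegree χ.1 = m)).card * m ^ 2 := by
    rw [Finset.sum_congr rfl (fun χ hχ => by rw [(Finset.mem_filter.mp hχ).2]), Finset.sum_const,
      smul_eq_mul]
  have h2 : ∑ χ ∈ (CuspS F).filter (fun χ => charDegree χ.1 = 2 * m), charDegree χ.1 ^ 2 =
      ((CuspS F).filter (fun χ => charDegree χ.1 = 2 * m)).card * (2 * m) ^ 2 := by
    rw [Finset.sum_congr rfl (fun χ hχ => by rw [(Finset.mem_filter.mp hχ).2]), Finset.sum_const,
      smul_eq_mul]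
  rw [h1, h2] at hsplit2
  generalize ((CuspS F).filter (fun χ => charDegree χ.1 = m)).card = A at hsplit hsplit2 ⊢
  generalize ((CuspS F).filter (fun χ => charDegree χ.1 = 2 * m)).card = B at hsplit hsplit2 ⊢
  have h3 : m ^ 2 * (A + 4 * B) = m ^ 2 * (4 * m + 2) := by
    rw [← hsplit2]
    ring
  have h4 : A + 4 * B = 4 * m + 2 := Nat.eq_of_mul_eq_mul_left (by positivity) h3
  omega

/-- Classification of the irreducible characters of `SL₂(q)`, `q` odd. -/
theorem irr_classify_odd (hodd : Odd (Fintype.card F)) (m : ℕ) (hm : Fintype.card F = 2 * m + 1)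
    (hp : HalfPair χ₁ χ₂) (χ : IrrCharacter (SL₂ F)) :
    χ = oneIrr ∨ χ = stIrr ∨ χ ∈ Tset F ∨ χ = χ₁ ∨ χ = χ₂ ∨
      (IsCusp1 χ ∧ (charDegree χ.1 = m ∨ charDegree χ.1 = 2 * m)) := by
  by_cases h : IsCusp1 χ
  · exact Or.inr (Or.inr (Or.inr (Or.inr (Or.inr ⟨h, cusp_degree_odd hodd m hm χ h⟩))))
  · have h1 := (mem_Nset (validE_odd hodd hp) χ).mpr h
    simp only [Nset, Finset.mem_insert, Finset.mem_union, Finset.mem_singleton] at h1
    rcases h1 with h1 | h1 | h1 | h1 | h1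
    · exact Or.inl h1
    · exact Or.inr (Or.inl h1)
    · exact Or.inr (Or.inr (Or.inl h1))
    · exact Or.inr (Or.inr (Or.inr (Or.inl h1)))
    · exact Or.inr (Or.inr (Or.inr (Or.inr (Or.inl h1))))

/-- A character of degree `q` is the Steinberg character, in odd characteristic. -/
lemma eq_st_of_degree_odd (hodd : Odd (Fintype.card F)) (χ : IrrCharacter (SL₂ F))
    (hd : charDegree χ.1 = Fintype.card F) : χ = stIrr := by
  obtain ⟨χ₁, χ₂, hp⟩ := exists_halfPair (F := F)
  obtain ⟨m, hm⟩ := hodd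
  have hq2 : 2 ≤ Fintype.card F := Fintype.one_lt_card
  have hm0 : 0 < m := by omega
  rcases irr_classify_odd ⟨m, hm⟩ m hm hp χ with h | h | h | h | h | ⟨-, h⟩
  · rw [h, oneIrr_degree] at hd
    omega
  · exact h
  · rw [Tset_degree h] at hd
    omega
  · have := half_degree ⟨m, hm⟩ hp
    rw [← h, hd] at this
    omega
  · have := half_degree ⟨m, hm⟩ hp.symm
    rw [← h, hd] at this
    omega
  · omega

end Cusp

end Cfsg.Agent.H10
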