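import Mathlib
import Cfsg.Agent.Lib.H10.PS1Odd

/-! Conjugation by `GL₂` on the characters of `SL₂(q)`, `q` odd. -/

set_option autoImplicit false
set_option linter.unusedSectionVars false
set_option linter.unusedSimpArgs false
set_option linter.style.haveILetI false

namespace Cfsg.Agent.H10

open Cfsg Cfsg.Agent.H21 Matrix

open scoped ComplexConjugate Classical

local notation "SL₂" => Matrix.SpecialLinearGroup (Fin 2)

section Conj

variable {F : Type*} [Field F]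

/-- Conjugation by an element of `GL₂`, as an automorphism of `SL₂`. -/
noncomputable def conjSL (x : GL (Fin 2) F) : SL₂ F ≃* SL₂ F where
  toFun g := ⟨((x⁻¹ : GL (Fin 2) F) : Matrix (Fin 2) (Fin 2) F) * g * (x : Matrix (Fin 2) (Fin 2) F), by
    have h : ((x⁻¹ : GL (Fin 2) F) : Matrix (Fin 2) (Fin 2) F) * (x : Matrix (Fin 2) (Fin 2) F) = 1 :=
      Units.inv_mul x
    rw [Matrix.det_mul, Matrix.det_mul, g.2, mul_one, ← Matrix.det_mul, h, Matrix.det_one]⟩
  invFun g := ⟨(x : Matrix (Fin 2) (Fin 2) F) * g * ((x⁻¹ : GL (Fin 2) F) : Matrix (Fin 2) (Fin 2) F), by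
    have h : (x : Matrix (Fin 2) (Fin 2) F) * ((x⁻¹ : GL (Fin 2) F) : Matrix (Fin 2) (Fin 2) F) = 1 :=
      Units.mul_inv x
    rw [Matrix.det_mul, Matrix.det_mul, g.2, mul_one, ← Matrix.det_mul, h, Matrix.det_one]⟩
  left_inv g := by
    apply Matrix.SpecialLinearGroup.ext
    intro i j
    have h : (x : Matrix (Fin 2) (Fin 2) F) * ((x⁻¹ : GL (Fin 2) F) : Matrix (Fin 2) (Fin 2) F) = 1 :=
      Units.mul_inv x
    simp only [Matrix.mul_assoc, h, Matrix.mul_one]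
    simp only [← Matrix.mul_assoc, h, Matrix.one_mul]
  right_inv g := by
    apply Matrix.SpecialLinearGroup.ext
    intro i j
    have h : ((x⁻¹ : GL (Fin 2) F) : Matrix (Fin 2) (Fin 2) F) * (x : Matrix (Fin 2) (Fin 2) F) = 1 :=
      Units.inv_mul x
    simp only [Matrix.mul_assoc, h, Matrix.mul_one]
    simp only [← Matrix.mul_assoc, h, Matrix.one_mul]
  map_mul' g g' := by
    apply Matrix.SpecialLinearGroup.ext
    intro i j
    have h : (x : Matrix (Fin 2) (Fin 2) F) * ((x⁻¹ : GL (Fin 2) F) : Matrix (Fin 2) (Fin 2) F) = 1 :=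
      Units.mul_inv x
    change (((x⁻¹ : GL (Fin 2) F) : Matrix (Fin 2) (Fin 2) F) * ((g : Matrix (Fin 2) (Fin 2) F) * (g' : Matrix (Fin 2) (Fin 2) F)) * (x : Matrix (Fin 2) (Fin 2) F)) i j =
      ((((x⁻¹ : GL (Fin 2) F) : Matrix (Fin 2) (Fin 2) F) * g * (x : Matrix (Fin 2) (Fin 2) F)) * (((x⁻¹ : GL (Fin 2) F) : Matrix (Fin 2) (Fin 2) F) * g' * (x : Matrix (Fin 2) (Fin 2) F))) i j
    congr 1
    simp only [Matrix.mul_assoc]
    rw [← Matrix.mul_assoc (x : Matrix (Fin 2) (Fin 2) F) ((x⁻¹ : GL (Fin 2) F) : Matrix (Fin 2) (Fin 2) F), h, Matrix.one_mul]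

lemma conjSL_coe (x : GL (Fin 2) F) (g : SL₂ F) :
    ((conjSL x g : SL₂ F) : Matrix (Fin 2) (Fin 2) F) =
      ((x⁻¹ : GL (Fin 2) F) : Matrix (Fin 2) (Fin 2) F) * g * (x : Matrix (Fin 2) (Fin 2) F) := rfl

lemma toGL_conjSL (x : GL (Fin 2) F) (g : SL₂ F) :
    Matrix.SpecialLinearGroup.toGL (conjSL x g) = x⁻¹ * Matrix.SpecialLinearGroup.toGL g * x := by
  apply Units.ext
  rfl

/-- If `h = x g x⁻¹` then `g = x⁻¹ h x`. -/
lemma conjSL_of_eq (x : GL (Fin 2) F) (g h : SL₂ F)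
    (e : Matrix.SpecialLinearGroup.toGL h = x * Matrix.SpecialLinearGroup.toGL g * x⁻¹) :
    conjSL x h = g := by
  have h1 := toGL_conjSL x h
  rw [e] at h1
  have h2 : x⁻¹ * (x * Matrix.SpecialLinearGroup.toGL g * x⁻¹) * x = Matrix.SpecialLinearGroup.toGL g := by
    group
  rw [h2] at h1
  have h3 : (Matrix.SpecialLinearGroup.toGL (conjSL x h) : GL (Fin 2) F) = Matrix.SpecialLinearGroup.toGL g := h1
  apply Matrix.SpecialLinearGroup.ext
  intro i j
  exact congrFun (congrFun (congrArg (fun y : GL (Fin 2) F => (y : Matrix (Fin 2) (Fin 2) F)) h3) i) j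

/-- The diagonal element of `GL₂`. -/
def dg (ν : Fˣ) : GL (Fin 2) F :=
  ⟨!![(ν : F), 0; 0, 1], !![(ν : F)⁻¹, 0; 0, 1], by
    ext i j
    fin_cases i <;> fin_cases j <;> simp [Matrix.mul_apply, Fin.sum_univ_two], by
    ext i j
    fin_cases i <;> fin_cases j <;> simp [Matrix.mul_apply, Fin.sum_univ_two]⟩

lemma conjSL_dg_coe (ν : Fˣ) (g : SL₂ F) :
    ((conjSL (dg ν) g : SL₂ F) : Matrix (Fin 2) (Fin 2) F) =
      !![(ν : F)⁻¹, 0; 0, 1] * g * !![(ν : F), 0; 0, 1] := rfl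

variable [Fintype F]

lemma conjSL_unip (ν : Fˣ) (x : F) :
    conjSL (dg ν) ((b1Mk 1 x : B1 F) : SL₂ F) = ((b1Mk 1 ((ν : F)⁻¹ * x) : B1 F) : SL₂ F) := by
  apply Matrix.SpecialLinearGroup.ext
  intro i j
  rw [conjSL_dg_coe, b1Mk_coe, b1Mk_coe]
  fin_cases i <;> fin_cases j <;> simp [Matrix.mul_apply, Fin.sum_univ_two]

variable [Fintype (SL₂ F)]

/-- Principal series are invariant under `GL₂`-conjugation. -/
lemma pi1_conj (x : GL (Fin 2) F) (α : MulChar F ℂ) (g : SL₂ F) :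
    pi1 α (conjSL x g) = pi1 α g := by
  haveI : Fintype (GL (Fin 2) F) := Fintype.ofFinite _
  have h1 : ∀ g : SL₂ F, pi1 α g = ps α 1 (Matrix.SpecialLinearGroup.toGL g) := by
    intro g
    rw [ps_restrict]
    simp
  rw [h1, h1, toGL_conjSL]
  have h2 := isClassFunction_of_isCharacter (ps_isCharacter α 1)
  have h3 := h2 (Matrix.SpecialLinearGroup.toGL g) x⁻¹
  rw [inv_inv] at h3
  exact h3

lemma classInner_conjSL (x : GL (Fin 2) F) (f f' : SL₂ F → ℂ) :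
    classInner (f ∘ conjSL x) (f' ∘ conjSL x) = classInner f f' := by
  unfold classInner
  congr 1
  exact (conjSL x).toEquiv.sum_comp (fun g => f g * conj (f' g))

/-- The conjugate irreducible character. -/
noncomputable def tauIrr (x : GL (Fin 2) F) (χ : IrrCharacter (SL₂ F)) : IrrCharacter (SL₂ F) :=
  ⟨χ.1 ∘ conjSL x, isIrrCharacter_comp_of_surjective (conjSL x).toMonoidHom (conjSL x).surjective χ.2⟩

@[simp] lemma tauIrr_apply (x : GL (Fin 2) F) (χ : IrrCharacter (SL₂ F)) (g : SL₂ F) :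
    (tauIrr x χ).1 g = χ.1 (conjSL x g) := rfl

lemma tauIrr_degree (x : GL (Fin 2) F) (χ : IrrCharacter (SL₂ F)) :
    charDegree (tauIrr x χ).1 = charDegree χ.1 := by
  have h1 := one_eq_charDegree (isCharacter_of_irr (tauIrr x χ).2)
  have h2 := one_eq_charDegree (isCharacter_of_irr χ.2)
  rw [tauIrr_apply, map_one, h2] at h1
  exact_mod_cast h1.symm

lemma tauIrr_cusp (x : GL (Fin 2) F) {χ : IrrCharacter (SL₂ F)} (h : IsCusp1 χ) :
    IsCusp1 (tauIrr x χ) := by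
  intro α
  have h1 : (pi1 α : SL₂ F → ℂ) = pi1 α ∘ conjSL x := by
    funext g
    exact (pi1_conj x α g).symm
  rw [h1]
  exact (classInner_conjSL x χ.1 (pi1 α)).trans (h α)

lemma unip_conj (f : SL₂ F → ℂ) (hf : IsClassFunction (SL₂ F) f) (ν : Fˣ) (hν : ¬ IsSquare (ν : F)) :
    f (conjSL (dg ν) ((b1Mk 1 1 : B1 F) : SL₂ F)) = f ((b1Mk 1 (ν : F) : B1 F) : SL₂ F) := by
  rw [conjSL_unip, mul_one]
  have h1 : ¬ IsSquare ((ν⁻¹ : Fˣ) : F) := by
    rw [Units.val_inv_eq_inv_val]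
    intro h
    apply hν
    have := h.inv
    simpa using this
  have := unip_nonsquare f hf ν ν⁻¹ hν h1
  rw [Units.val_inv_eq_inv_val] at this
  exact this

variable {χ₁ χ₂ : IrrCharacter (SL₂ F)}

/-- The two constituents of the reducible principal series are swapped by `GL₂`. -/
theorem half_swap (hodd : Odd (Fintype.card F)) (hp : HalfPair χ₁ χ₂) (ν : Fˣ)
    (hν : ¬ IsSquare (ν : F)) : tauIrr (dg ν) χ₁ = χ₂ := by
  set τ := dg ν with hτ
  have hsum : (tauIrr τ χ₁).1 + (tauIrr τ χ₂).1 = χ₁.1 + χ₂.1 := by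
    funext g
    simp only [Pi.add_apply, tauIrr_apply]
    have h1 := congrFun hp.2 (conjSL τ g)
    have h2 := congrFun hp.2 g
    simp only [Pi.add_apply] at h1 h2
    rw [← h1, ← h2, pi1_conj]
  have h1 : classInner (tauIrr τ χ₁).1 (χ₁.1 + χ₂.1) ≠ 0 := by
    rw [← hsum, classInner_add_right, classInner_self_irr, classInner_irr]
    split_ifs <;> norm_num
  rw [classInner_add_right, classInner_irr, classInner_irr] at h1
  by_cases h2 : tauIrr τ χ₁ = χ₂
  · exact h2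
  · rw [if_neg h2, add_zero] at h1
    have h3 : tauIrr τ χ₁ = χ₁ := by
      by_contra h3
      rw [if_neg h3] at h1
      exact h1 rfl
    exfalso
    have h4 := unip_conj χ₁.1 (isClassFunction_of_isCharacter (isCharacter_of_irr χ₁.2)) ν hν
    have h5 : (tauIrr τ χ₁).1 ((b1Mk 1 1 : B1 F) : SL₂ F) = χ₁.1 ((b1Mk 1 1 : B1 F) : SL₂ F) := by
      rw [h3]
    rw [tauIrr_apply, h4] at h5
    exact half_unip_ne hodd hp ν hν h5.symm

/-- Half cuspidal characters: sum of the values on the two classes of transvections. -/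
theorem halfcusp_unip_add (hodd : Odd (Fintype.card F)) (m : ℕ) (hm : Fintype.card F = 2 * m + 1)
    (ξ : IrrCharacter (SL₂ F)) (hξ : IsCusp1 ξ) (hd : charDegree ξ.1 = m) (ν : Fˣ)
    (hν : ¬ IsSquare (ν : F)) :
    ξ.1 ((b1Mk 1 1 : B1 F) : SL₂ F) + ξ.1 ((b1Mk 1 (ν : F) : B1 F) : SL₂ F) = -1 := by
  have hcl := isClassFunction_of_isCharacter (isCharacter_of_irr ξ.2)
  have h1 := two_sum_unip hodd ξ.1 hcl ν hν
  rw [cusp1_sum ξ.1 hcl hξ 1, one_eq_charDegree (isCharacter_of_irr ξ.2), hd, hm] at h1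
  have e : 2 * m + 1 - 1 = 2 * m := by omega
  rw [e] at h1
  have hm0 : (m : ℂ) ≠ 0 := by
    have : 2 ≤ Fintype.card F := Fintype.one_lt_card
    have : m ≠ 0 := by omega
    exact_mod_cast this
  have h2 : (2 : ℂ) * m * (ξ.1 ((b1Mk 1 1 : B1 F) : SL₂ F) + ξ.1 ((b1Mk 1 (ν : F) : B1 F) : SL₂ F) + 1) = 0 := by
    push_cast at h1
    linear_combination -h1
  have h3 := (mul_eq_zero.mp h2).resolve_left (mul_ne_zero two_ne_zero hm0)
  linear_combination h3

theorem halfcusp_unip_ne (hodd : Odd (Fintype.card F)) (m : ℕ) (hm : Fintype.card F = 2 * m + 1)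
    (ξ : IrrCharacter (SL₂ F)) (hξ : IsCusp1 ξ) (hd : charDegree ξ.1 = m) (ν : Fˣ)
    (hν : ¬ IsSquare (ν : F)) :
    ξ.1 ((b1Mk 1 1 : B1 F) : SL₂ F) ≠ ξ.1 ((b1Mk 1 (ν : F) : B1 F) : SL₂ F) := by
  intro h
  have h1 := halfcusp_unip_add hodd m hm ξ hξ hd ν hν
  rw [← h] at h1
  exact half_integer_contra _ (integral_value ξ _) (-1) (by decide) (by push_cast; linear_combination h1)

/-- Two different half cuspidal characters are swapped by `GL₂`. -/
theorem halfcusp_swap (hodd : Odd (Fintype.card F)) (m : ℕ) (hm : Fintype.card F = 2 * m + 1)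
    (ξ₁ ξ₂ : IrrCharacter (SL₂ F)) (h1 : IsCusp1 ξ₁) (h2 : IsCusp1 ξ₂) (d1 : charDegree ξ₁.1 = m)
    (d2 : charDegree ξ₂.1 = m) (hne : ξ₁ ≠ ξ₂) (ν : Fˣ) (hν : ¬ IsSquare (ν : F)) :
    tauIrr (dg ν) ξ₁ = ξ₂ := by
  obtain ⟨χ₁, χ₂, hp⟩ := exists_halfPair (F := F)
  have hc := (card_cusp_half_full hodd m hm hp).1
  have hsub : ({ξ₁, ξ₂} : Finset (IrrCharacter (SL₂ F))) ⊆
      (CuspS F).filter (fun χ => charDegree χ.1 = m) := by
    intro χ hχ
    simp only [Finset.mem_insert, Finset.mem_singleton] at hχ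
    rcases hχ with rfl | rfl
    · exact Finset.mem_filter.mpr ⟨mem_CuspS.mpr h1, d1⟩
    · exact Finset.mem_filter.mpr ⟨mem_CuspS.mpr h2, d2⟩
  have heq := Finset.eq_of_subset_of_card_le hsub (by rw [hc, Finset.card_pair hne])
  have hmem : tauIrr (dg ν) ξ₁ ∈ (CuspS F).filter (fun χ => charDegree χ.1 = m) :=
    Finset.mem_filter.mpr ⟨mem_CuspS.mpr (tauIrr_cusp _ h1), by rw [tauIrr_degree, d1]⟩
  rw [← heq] at hmem
  simp only [Finset.mem_insert, Finset.mem_singleton] at hmem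
  rcases hmem with h3 | h3
  · exfalso
    have h4 := unip_conj ξ₁.1 (isClassFunction_of_isCharacter (isCharacter_of_irr ξ₁.2)) ν hν
    have h5 : (tauIrr (dg ν) ξ₁).1 ((b1Mk 1 1 : B1 F) : SL₂ F) = ξ₁.1 ((b1Mk 1 1 : B1 F) : SL₂ F) := by
      rw [h3]
    rw [tauIrr_apply, h4] at h5
    exact halfcusp_unip_ne hodd m hm ξ₁ h1 d1 ν hν h5.symm
  · exact h3

/-- Elliptic elements are conjugate in `SL₂` to their `GL₂`-conjugates. -/
theorem elliptic_conj (hodd : Odd (Fintype.card F)) (x : GL (Fin 2) F) (g : SL₂ F)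
    (hg : ∀ (c : F) (v : Fin 2 → F), v ≠ 0 → (g : Matrix (Fin 2) (Fin 2) F).mulVec v ≠ c • v) :
    IsConj (conjSL x g) g := by
  have hns : ¬ ∃ a : F, (g : Matrix (Fin 2) (Fin 2) F) = a • (1 : Matrix (Fin 2) (Fin 2) F) := by
    rintro ⟨a, ha⟩
    refine hg a ![1, 0] ?_ ?_
    · intro h0
      have := congrFun h0 0
      simp at this
    · rw [ha]
      ext i
      fin_cases i <;> simp [Matrix.mulVec, dotProduct, Fin.sum_univ_two, Matrix.one_apply]
  have hns' : ¬ ∃ a : F, ((conjSL x g : SL₂ F) : Matrix (Fin 2) (Fin 2) F) = a • (1 : Matrix (Fin 2) (Fin 2) F) := by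
    rintro ⟨a, ha⟩
    apply hns
    refine ⟨a, ?_⟩
    rw [conjSL_coe] at ha
    have h1 : (x : Matrix (Fin 2) (Fin 2) F) * ((x⁻¹ : GL (Fin 2) F) : Matrix (Fin 2) (Fin 2) F) = 1 :=
      Units.mul_inv x
    have h2 : ((x⁻¹ : GL (Fin 2) F) : Matrix (Fin 2) (Fin 2) F) * (x : Matrix (Fin 2) (Fin 2) F) = 1 :=
      Units.inv_mul x
    calc (g : Matrix (Fin 2) (Fin 2) F)
        = (x : Matrix (Fin 2) (Fin 2) F) * (((x⁻¹ : GL (Fin 2) F) : Matrix (Fin 2) (Fin 2) F) * g *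
            (x : Matrix (Fin 2) (Fin 2) F)) * ((x⁻¹ : GL (Fin 2) F) : Matrix (Fin 2) (Fin 2) F) := by
          simp only [Matrix.mul_assoc, h1, Matrix.mul_one]
          simp only [← Matrix.mul_assoc, h1, Matrix.one_mul]
      _ = a • (1 : Matrix (Fin 2) (Fin 2) F) := by
          rw [ha, Matrix.mul_smul, Matrix.smul_mul, Matrix.mul_one, h1]
  have htr : ((conjSL x g : SL₂ F) : Matrix (Fin 2) (Fin 2) F).trace = (g : Matrix (Fin 2) (Fin 2) F).trace := by
    rw [conjSL_coe, Matrix.trace_mul_comm, ← Matrix.mul_assoc]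
    have h1 : (x : Matrix (Fin 2) (Fin 2) F) * ((x⁻¹ : GL (Fin 2) F) : Matrix (Fin 2) (Fin 2) F) = 1 :=
      Units.mul_inv x
    rw [h1, Matrix.one_mul]
  obtain ⟨δ, hδ⟩ := sl_isConj_slT g hns
  obtain ⟨δ', hδ'⟩ := sl_isConj_slT (conjSL x g) hns'
  rw [htr] at hδ'
  set t := (g : Matrix (Fin 2) (Fin 2) F).trace with ht
  have h2 : (2 : F) ≠ 0 := Ring.two_ne_zero (S2325.char_ne_two hodd)
  have ht4 : t ^ 2 ≠ 4 := by
    intro h4
    have hdet : (g : Matrix (Fin 2) (Fin 2) F).det = 1 := g.2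
    have h5 : ((g : Matrix (Fin 2) (Fin 2) F) - (t / 2) • (1 : Matrix (Fin 2) (Fin 2) F)).det = 0 := by
      rw [Matrix.det_fin_two] at hdet ⊢
      rw [ht, Matrix.trace_fin_two] at h4 ⊢
      simp only [Matrix.sub_apply, Matrix.smul_apply, Matrix.one_apply, smul_eq_mul]
      simp
      field_simp
      linear_combination 4 * hdet - h4
    obtain ⟨v, hv, hv2⟩ := Matrix.exists_mulVec_eq_zero_iff.mpr h5
    apply hg (t / 2) v hv
    rw [Matrix.sub_mulVec, Matrix.smul_mulVec, Matrix.one_mulVec] at hv2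
    exact sub_eq_zero.mp hv2
  have hconj : ∀ δ : Fˣ, IsConj (slT t 1) (slT t δ) := by
    intro δ
    obtain ⟨a, b, hab⟩ := S2325.exists_norm hodd t ht4 ((δ : F)⁻¹)
    exact slT_isConj_one_of_norm t δ a b hab
  exact (hδ'.symm.trans (hconj δ').symm).trans ((hconj δ).trans hδ)

end Conj

end Cfsg.Agent.H10
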