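import Mathlib
import Cfsg.Agent.Lib.H10.PS1Tau

/-! The degrees of the characters of `SL₂(q)`, and the Steinberg values. -/

set_option autoImplicit false
set_option linter.unusedSectionVars false
set_option linter.unusedSimpArgs false
set_option linter.style.haveILetI false

namespace Cfsg.Agent.H10

open Cfsg Cfsg.Agent.H21 Matrix

open scoped ComplexConjugate Classical

local notation "SL₂" => Matrix.SpecialLinearGroup (Fin 2)

section Table

variable {F : Type*} [Field F] [Fintype F] [Fintype (SL₂ F)]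

variable {χ₁ χ₂ : IrrCharacter (SL₂ F)}

/-- The table of degrees in odd characteristic. -/
theorem irr_cases_odd (hodd : Odd (Fintype.card F)) (m : ℕ) (hm : Fintype.card F = 2 * m + 1)
    (hp : HalfPair χ₁ χ₂) (χ : IrrCharacter (SL₂ F)) :
    (χ = oneIrr ∧ charDegree χ.1 = 1) ∨ (χ = stIrr ∧ charDegree χ.1 = 2 * m + 1) ∨
    (χ ∈ Tset F ∧ charDegree χ.1 = 2 * m + 2) ∨ (χ = χ₁ ∧ charDegree χ.1 = m + 1) ∨
    (χ = χ₂ ∧ charDegree χ.1 = m + 1) ∨ (IsCusp1 χ ∧ charDegree χ.1 = m) ∨
    (IsCusp1 χ ∧ charDegree χ.1 = 2 * m) := by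
  rcases irr_classify_odd hodd m hm hp χ with h | h | h | h | h | ⟨h, h' | h'⟩
  · left
    exact ⟨h, by rw [h]; exact oneIrr_degree⟩
  · right; left
    exact ⟨h, by rw [h, stIrr_degree, hm]⟩
  · right; right; left
    refine ⟨h, ?_⟩
    rw [Tset_degree h, hm]
  · right; right; right; left
    refine ⟨h, ?_⟩
    have := half_degree hodd hp
    rw [h]
    omega
  · right; right; right; right; left
    refine ⟨h, ?_⟩
    have := half_degree hodd hp.symm
    rw [h]
    omega
  · right; right; right; right; right; left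
    exact ⟨h, h'⟩
  · right; right; right; right; right; right
    exact ⟨h, h'⟩

lemma cast_card_sub_one : ((Fintype.card F - 1 : ℕ) : ℂ) = (Fintype.card F : ℂ) - 1 := by
  have : 2 ≤ Fintype.card F := Fintype.one_lt_card
  rw [Nat.cast_sub (by omega)]
  simp

lemma degree_of_value {χ : IrrCharacter (SL₂ F)} {n : ℕ} (h : χ.1 1 = (n : ℂ)) : charDegree χ.1 = n := by
  rw [one_eq_charDegree (isCharacter_of_irr χ.2)] at h
  exact_mod_cast h

/-- Values of `St`, all `q`. -/
theorem st1_values (g : SL₂ F) :
    ((g : Matrix (Fin 2) (Fin 2) F) 0 1 = 0 → (g : Matrix (Fin 2) (Fin 2) F) 1 0 = 0 →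
      (g : Matrix (Fin 2) (Fin 2) F) 0 0 ^ 2 ≠ 1 → (st1 : SL₂ F → ℂ) g = 1) ∧
    ((∀ (c : F) (v : Fin 2 → F), v ≠ 0 → (g : Matrix (Fin 2) (Fin 2) F).mulVec v ≠ c • v) →
      (st1 : SL₂ F → ℂ) g = -1) ∧
    ((g : Matrix (Fin 2) (Fin 2) F) 1 0 = 0 → (g : Matrix (Fin 2) (Fin 2) F) 0 0 = (g : Matrix (Fin 2) (Fin 2) F) 1 1 →
      (g : Matrix (Fin 2) (Fin 2) F) 0 1 ≠ 0 → (st1 : SL₂ F → ℂ) g = 0) := by
  have hst : ∀ g : SL₂ F, (st1 : SL₂ F → ℂ) g = pi1 1 g - 1 := fun g => rfl
  refine ⟨?_, ?_, ?_⟩
  · intro h01 h10 h00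
    obtain ⟨a, ha, e⟩ := b1Mk_of_entries g h10
    rw [h01] at e
    rw [hst, e, pi1_split 1 a (by rw [ha]; exact h00)]
    have h1 : IsUnit ((a : F)⁻¹) := (IsUnit.mk0 _ (inv_ne_zero a.ne_zero))
    rw [MulChar.one_apply a.isUnit, MulChar.one_apply h1]
    norm_num
  · intro h
    rw [hst, pi1_no_eig 1 g h]
    ring
  · intro h10 h00 h01
    obtain ⟨a, ha, e⟩ := b1Mk_of_entries g h10
    have h1 : (a : F) = (a : F)⁻¹ := by
      have hdet : (g : Matrix (Fin 2) (Fin 2) F).det = 1 := g.2
      rw [Matrix.det_fin_two, h10, mul_zero, sub_zero, ← h00, ← ha] at hdet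
      exact eq_inv_of_mul_eq_one_left hdet
    rw [hst, e, pi1_central_unip 1 a h1 _ h01, MulChar.one_apply a.isUnit]
    ring

/-- A character of degree `q` is the Steinberg character. -/
theorem eq_st_of_degree (χ : IrrCharacter (SL₂ F)) (hd : charDegree χ.1 = Fintype.card F) :
    χ = stIrr := by
  by_cases hodd : Odd (Fintype.card F)
  · exact eq_st_of_degree_odd hodd χ hd
  · have h1 : ringChar F = 2 := FiniteField.even_card_iff_char_two.mpr (by
      rcases Nat.even_or_odd (Fintype.card F) with h | h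
      · exact Nat.even_iff.mp h
      · exact absurd h hodd)
    haveI : CharP F 2 := by
      rw [← h1]
      exact ringChar.charP F
    have hq2 : 2 ≤ Fintype.card F := Fintype.one_lt_card
    rcases irr_classify_even χ with h | h | h | ⟨-, h⟩
    · rw [h, oneIrr_degree] at hd
      omega
    · exact h
    · rw [Tset_degree h] at hd
      omega
    · omega

/-- Principal series value at transvections and cuspidal value. -/
theorem transvection_values (hq : 4 ≤ Fintype.card F) (χ : IrrCharacter (SL₂ F)) :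
    (charDegree χ.1 = Fintype.card F + 1 → χ.1 ((b1Mk 1 1 : B1 F) : SL₂ F) = 1) ∧
    (charDegree χ.1 = Fintype.card F - 1 → χ.1 ((b1Mk 1 1 : B1 F) : SL₂ F) = -1) := by
  have hT : χ ∈ Tset F → χ.1 ((b1Mk 1 1 : B1 F) : SL₂ F) = 1 := by
    intro h
    obtain ⟨α, -, e⟩ := mem_Tset.mp h
    rw [e]
    exact pi1_unip α 1 one_ne_zero
  by_cases hodd : Odd (Fintype.card F)
  · obtain ⟨m, hm⟩ := hodd
    obtain ⟨χ₁, χ₂, hp⟩ := exists_halfPair (F := F)
    have hc := irr_cases_odd ⟨m, hm⟩ m hm hp χ
    rw [hm]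
    constructor
    · intro hd
      rcases hc with h | h | h | h | h | h | h
      · omega
      · omega
      · exact hT h.1
      · omega
      · omega
      · omega
      · omega
    · intro hd
      have hd' : charDegree χ.1 = Fintype.card F - 1 := by omega
      rcases hc with h | h | h | h | h | h | h
      · omega
      · omega
      · omega
      · omega
      · omega
      · omega
      · exact cusp1_unip_of_degree h.1 hd'
  · have h1 : ringChar F = 2 := FiniteField.even_card_iff_char_two.mpr (by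
      rcases Nat.even_or_odd (Fintype.card F) with h | h
      · exact Nat.even_iff.mp h
      · exact absurd h hodd)
    haveI : CharP F 2 := by
      rw [← h1]
      exact ringChar.charP F
    constructor
    · intro hd
      rcases irr_classify_even χ with h | h | h | ⟨-, h⟩
      · rw [h, oneIrr_degree] at hd
        omega
      · rw [h, stIrr_degree] at hd
        omega
      · exact hT h
      · omega
    · intro hd
      rcases irr_classify_even χ with h | h | h | ⟨h, -⟩
      · rw [h, oneIrr_degree] at hd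
        omega
      · rw [h, stIrr_degree] at hd
        omega
      · rw [Tset_degree h] at hd
        omega
      · exact cusp1_unip_of_degree h hd

end Table

end Cfsg.Agent.H10
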