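import Cfsg.Agent.Lib.H10.ReeC2

/-!
# The automorphisms of the small Ree group: field automorphisms and reductions
-/

set_option autoImplicit false
set_option linter.style.longLine false
set_option linter.unusedSimpArgs false
set_option linter.unusedSectionVars false
set_option maxRecDepth 100000

open Cfsg Cfsg.Lie Cfsg.Agent.H04.Chev
open scoped MatrixGroups commutatorElement Pointwise

namespace Cfsg.Agent.H10

variable {K : Type*} [Field K] [CharP K 3] {m : ℕ} [Fintype K] (hK : Fintype.card K = 3 ^ (2 * m + 1))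

omit [Fintype K] in
lemma m7U_map (τ : K →+* K) (A t B u C v : K) : (m7U A t B u C v).map τ = m7U (τ A) (τ t) (τ B) (τ u) (τ C) (τ v) := by
  ext i j
  fin_cases i <;> fin_cases j <;> simp [m7U]

omit [Fintype K] in
lemma m7W_map (τ : K →+* K) : (m7W : Matrix (Fin 7) (Fin 7) K).map τ = m7W := by
  ext i j
  fin_cases i <;> fin_cases j <;> simp [m7W]

omit [Fintype K] in
lemma m7T_map (τ : K →+* K) (a b ai bi : K) : (m7T a b ai bi).map τ = m7T (τ a) (τ b) (τ ai) (τ bi) := by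
  ext i j
  fin_cases i <;> fin_cases j <;> simp [m7T]

omit [Fintype K] in
lemma reeF_comm (τ : K ≃+* K) (x : K) : τ (reeF K m x) = reeF K m (τ x) := by
  rw [reeF_apply, reeF_apply, map_pow]

include hK

lemma r7_map_U (τ : K ≃+* K) (t u v : K) :
    Matrix.GeneralLinearGroup.map (τ : K →+* K) (r7 hK (tU m t u v)) = r7 hK (tU m (τ t) (τ u) (τ v)) := by
  apply Units.ext
  show ((r7 hK (tU m t u v) : GL (Fin 7) K) : Matrix (Fin 7) (Fin 7) K).map τ = _
  rw [r7_tU hK, r7_tU hK]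
  erw [m7U_map (τ : K →+* K)]
  simp only [RingHom.coe_coe, reeF_comm]

lemma r7_map_W (τ : K ≃+* K) :
    Matrix.GeneralLinearGroup.map (τ : K →+* K) (r7 hK (tW K m)) = r7 hK (tW K m) := by
  apply Units.ext
  show ((r7 hK (tW K m) : GL (Fin 7) K) : Matrix (Fin 7) (Fin 7) K).map τ = _
  rw [r7_tW hK]
  erw [m7W_map (τ : K →+* K)]

lemma r7_map_lift (τ : K ≃+* K) (x : RT K m) : ∃ y : RT K m, r7 hK y = Matrix.GeneralLinearGroup.map (τ : K →+* K) (r7 hK x) := by
  let S : Subgroup (RT K m) := ((r7 hK).range).comap ((Matrix.GeneralLinearGroup.map (τ : K →+* K)).comp (r7 hK))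
  have hS : S = ⊤ := by
    apply T_eq_top
    · intro t u v
      exact ⟨tU m (τ t) (τ u) (τ v), (r7_map_U hK τ t u v).symm⟩
    · intro t u v
      refine ⟨tV m (τ t) (τ u) (τ v), ?_⟩
      rw [tV_eq, tV_eq]
      simp only [map_mul, MonoidHom.comp_apply, r7_map_U hK, r7_map_W hK]
  have hx : x ∈ S := by rw [hS]; trivial
  obtain ⟨y, hy⟩ := hx
  exact ⟨y, hy⟩

/-- the field automorphisms as a homomorphism -/
noncomputable def tFieldHom (τ : K ≃+* K) : RT K m →* RT K m :=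
  MonoidHom.mk' (fun x => (r7_map_lift hK τ x).choose) (by
    intro x y
    apply r7_inj hK
    calc r7 hK (r7_map_lift hK τ (x * y)).choose = Matrix.GeneralLinearGroup.map (τ : K →+* K) (r7 hK (x * y)) := (r7_map_lift hK τ (x * y)).choose_spec
      _ = Matrix.GeneralLinearGroup.map (τ : K →+* K) (r7 hK x) * Matrix.GeneralLinearGroup.map (τ : K →+* K) (r7 hK y) := by simp only [map_mul]
      _ = r7 hK (r7_map_lift hK τ x).choose * r7 hK (r7_map_lift hK τ y).choose := by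
          rw [(r7_map_lift hK τ x).choose_spec, (r7_map_lift hK τ y).choose_spec]
      _ = r7 hK ((r7_map_lift hK τ x).choose * (r7_map_lift hK τ y).choose) := (map_mul _ _ _).symm)

lemma r7_tFieldHom (τ : K ≃+* K) (x : RT K m) : r7 hK (tFieldHom hK τ x) = Matrix.GeneralLinearGroup.map (τ : K →+* K) (r7 hK x) :=
  (r7_map_lift hK τ x).choose_spec

lemma tFieldHom_symm (τ : K ≃+* K) (x : RT K m) : tFieldHom hK τ.symm (tFieldHom hK τ x) = x := by
  apply r7_inj hK
  rw [r7_tFieldHom, r7_tFieldHom]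
  apply Units.ext
  ext i j
  show τ.symm (τ _) = _
  simp

lemma tFieldHom_symm' (τ : K ≃+* K) (x : RT K m) : tFieldHom hK τ (tFieldHom hK τ.symm x) = x := by
  apply r7_inj hK
  rw [r7_tFieldHom, r7_tFieldHom]
  apply Units.ext
  ext i j
  show τ (τ.symm _) = _
  simp

/-- the field automorphisms of the twisted group -/
noncomputable def tFieldAut (τ : K ≃+* K) : MulAut (RT K m) :=
  { tFieldHom hK τ with
    invFun := tFieldHom hK τ.symm
    left_inv := tFieldHom_symm hK τ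
    right_inv := tFieldHom_symm' hK τ }

lemma tFieldAut_apply (τ : K ≃+* K) (x : RT K m) : tFieldAut hK τ x = tFieldHom hK τ x := rfl

lemma tFieldAut_symm (τ : K ≃+* K) (x : RT K m) : (tFieldAut hK τ)⁻¹ x = tFieldHom hK τ.symm x := rfl

lemma tFieldAut_U (τ : K ≃+* K) (t u v : K) : tFieldAut hK τ (tU m t u v) = tU m (τ t) (τ u) (τ v) := by
  apply r7_inj hK
  rw [tFieldAut_apply, r7_tFieldHom, r7_map_U]

lemma tFieldAut_W (τ : K ≃+* K) : tFieldAut hK τ (tW K m) = tW K m := by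
  apply r7_inj hK
  rw [tFieldAut_apply, r7_tFieldHom, r7_map_W]

lemma tFieldAut_H (τ : K ≃+* K) (β : Kˣ) : tFieldAut hK τ (tH hK β) = tH hK (Units.map (τ : K →* K) β) := by
  apply r7_ext hK
  rw [tFieldAut_apply, r7_tFieldHom, r7_tH hK]
  show ((r7 hK (tH hK β) : GL (Fin 7) K) : Matrix (Fin 7) (Fin 7) K).map τ = _
  rw [r7_tH hK]
  erw [m7T_map (τ : K →+* K)]
  simp [reeF_comm]

/-- the normalizer of `U¹` -/
lemma normalizer_tUU : Subgroup.normalizer (tUU K m : Set (RT K m)) = tB K m := by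
  apply le_antisymm
  · intro x hx
    have hB : ∀ b ∈ tB K m, b ∈ Subgroup.normalizer (tUU K m : Set (RT K m)) := by
      intro b hb
      rw [Subgroup.mem_normalizer_iff]
      intro h
      constructor
      · exact fun hh => tUU_conj_B hK hb hh
      · intro hh
        have := tUU_conj_B hK (inv_mem hb) hh
        simpa [mul_assoc] using this
    rcases tcases hK x with ⟨t, u, v, β, rfl⟩ | ⟨t, u, v, β, t', u', v', rfl⟩
    · exact (mem_tB_iff hK _).mpr ⟨_, _, _, _, rfl⟩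
    · exfalso
      have h1 : tW K m ∈ Subgroup.normalizer (tUU K m : Set (RT K m)) := by
        have e : tW K m = (tU m t u v * tH hK β)⁻¹ * (tU m t u v * tH hK β * tW K m * tU m t' u' v') * (tU m t' u' v')⁻¹ := by group
        rw [e]
        refine mul_mem (mul_mem (inv_mem (hB _ ((mem_tB_iff hK _).mpr ⟨_, _, _, _, rfl⟩))) hx) (inv_mem (hB _ (tU_mem_tB hK _ _ _)))
      have h2 := (Subgroup.mem_normalizer_iff.mp h1 (tU m (1 : K) 0 0)).mp ((mem_tUU_iff hK _).mpr ⟨_, _, _, rfl⟩)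
      rw [tW_inv] at h2
      obtain ⟨a, b, c, e⟩ := (mem_tUU_iff hK _).mp h2
      have h3 := tW_U_mem_B hK (t := 1) (u := 0) (v := 0) (by
        rw [e]
        exact U_le_B (tU_mem_U _ _ _))
      exact one_ne_zero h3.1
  · intro b hb
    rw [Subgroup.mem_normalizer_iff]
    intro h
    constructor
    · exact fun hh => tUU_conj_B hK hb hh
    · intro hh
      have := tUU_conj_B hK (inv_mem hb) hh
      simpa [mul_assoc] using this

/-- First reduction: the automorphism may be taken to preserve `U¹`. -/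
lemma tU_sylow_step (φ : MulAut (RT K m)) :
    ∃ k : RT K m, ∀ x, x ∈ tUU K m ↔ (MulAut.conj k * φ) x ∈ tUU K m := by
  obtain ⟨k, hk⟩ := exists_conj_sylow3 hK (φ • tUSyl hK)
  refine ⟨k⁻¹, fun x => ?_⟩
  have h1 := hk (φ x)
  rw [Sylow.pointwise_smul_def, Subgroup.mem_pointwise_smul_iff_inv_smul_mem, tUSyl_coe] at h1
  rw [MulAut.smul_def, MulAut.inv_apply_self] at h1
  rw [h1]
  simp [MulAut.conj_apply]

/-- `U¹`-preserving automorphisms preserve the Borel subgroup. -/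
lemma map_tB_of_U {φ : MulAut (RT K m)} (hU : ∀ x, x ∈ tUU K m ↔ φ x ∈ tUU K m) {x : RT K m} (hx : x ∈ tB K m) : φ x ∈ tB K m := by
  rw [← normalizer_tUU hK] at hx ⊢
  rw [Subgroup.mem_normalizer_iff] at hx ⊢
  intro h
  obtain ⟨h', rfl⟩ := φ.surjective h
  have e : φ x * φ h' * (φ x)⁻¹ = φ (x * h' * x⁻¹) := by
    rw [map_mul, map_mul, map_inv]
  rw [e]
  show (φ h' ∈ (tUU K m : Set (RT K m))) ↔ φ (x * h' * x⁻¹) ∈ (tUU K m : Set (RT K m))
  simp only [SetLike.mem_coe]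
  rw [← hU, ← hU]
  exact hx h'

lemma tH_pow (β : Kˣ) (n : ℕ) : tH hK (β ^ n) = tH hK β ^ n := by
  induction n with
  | zero => rw [pow_zero, pow_zero, tH_one]
  | succ n ih => rw [pow_succ, pow_succ, tH_mul, ih]

/-- the exponent of `U¹` -/
lemma tU_pow_nine (t u v : K) : tU m t u v ^ 9 = 1 := by
  have e : tU m t u v ^ 9 = (tU m t u v ^ 3) ^ 3 := by rw [← pow_mul]
  rw [e, tU_cube hK, tU_cube hK]
  simp [tU_zero]

/-- an element of the Borel subgroup with generic torus part fixes an affine point -/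
lemma exists_B_fix (a b c : K) (β : Kˣ) (hβ : (β : K) ^ 2 ≠ 1) :
    ∃ t u v : K, (tU m a b c * tH hK β) • Pt m t u v = Pt m t u v := by
  have h1 : (β : K) ≠ 1 := by
    intro h
    rw [h] at hβ
    simp at hβ
  have hc1 : reeF K m β ^ 3 * β ≠ 1 := fun h => hβ (ree_c1_one hK h)
  have hc2 : reeF K m β ^ 3 * β ^ 2 ≠ 1 := fun h => h1 (ree_c2_one hK h)
  have h1' : 1 - (β : K) ≠ 0 := sub_ne_zero.mpr h1.symm
  have hc1' : 1 - reeF K m β ^ 3 * β ≠ 0 := sub_ne_zero.mpr hc1.symm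
  have hc2' : 1 - reeF K m β ^ 3 * β ^ 2 ≠ 0 := sub_ne_zero.mpr hc2.symm
  set t := a / (1 - (β : K)) with ht
  set F := reeF K m ((β : K) * t) ^ 3 with hF
  set u := (b - a * F) / (1 - reeF K m β ^ 3 * β) with hu
  set v := (c - (β : K) * t * b + a * ((β : K) * t) * F - a ^ 2 * F) / (1 - reeF K m β ^ 3 * β ^ 2) with hv
  refine ⟨t, u, v, ?_⟩
  rw [mul_smul, tH_smul_Pt, tU_smul_Pt hK]
  have e1 : a + (β : K) * t = t := by
    rw [ht]; field_simp; ring
  have e2 : b + reeF K m β ^ 3 * β * u - a * F = u := by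
    rw [hu]; field_simp; ring
  have e3 : c + reeF K m β ^ 3 * β ^ 2 * v - (β : K) * t * b + a * ((β : K) * t) * F - a ^ 2 * F = v := by
    rw [hv]; field_simp; ring
  rw [← hF, e1, e2, e3]

/-- Second reduction: the torus may be preserved. -/
lemma tU_torus_step (hm : 1 ≤ m) {φ : MulAut (RT K m)} (hU : ∀ x, x ∈ tUU K m ↔ φ x ∈ tUU K m) :
    ∃ v ∈ tUU K m, ∀ l : Kˣ, ∃ l' : Kˣ, (MulAut.conj v * φ) (tH hK l) = tH hK l' := by
  classical
  obtain ⟨l₀, hl₀⟩ := IsCyclic.exists_generator (α := Kˣ)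
  have hy := map_tB_of_U hK hU (tH_mem_tB hK l₀)
  obtain ⟨a, b, c, l₁, hab⟩ := (mem_tB_iff hK _).mp hy
  have hl₁ : (l₁ : K) ^ 2 ≠ 1 := by
    intro h
    have hs : l₁ ^ 2 = 1 := Units.ext (by simpa using h)
    -- the square lies in `U¹`
    have h1 : φ (tH hK l₀) ^ 2 ∈ tUU K m := by
      have e1 := tH_conj hK l₁ a b c
      rw [mul_inv_eq_iff_eq_mul] at e1
      rw [hab, sq]
      have e2 : tU m a b c * tH hK l₁ * (tU m a b c * tH hK l₁) = tU m a b c * (tH hK l₁ * tU m a b c) * tH hK l₁ := by group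
      rw [e2, e1, mul_assoc, mul_assoc, ← tH_mul, ← sq, hs, tH_one, mul_one, tU_mul hK]
      exact (mem_tUU_iff hK _).mpr ⟨_, _, _, rfl⟩
    obtain ⟨p, q, r, e⟩ := (mem_tUU_iff hK _).mp h1
    have h2 : (φ (tH hK l₀) ^ 2) ^ 9 = 1 := by
      rw [e, tU_pow_nine hK]
    have h3 : tH hK (l₀ ^ 18) = 1 := by
      apply φ.injective
      rw [tH_pow, map_pow, map_one, show 18 = 2 * 9 from rfl, pow_mul]
      exact h2
    rw [← tH_one hK] at h3
    have h4 := tH_inj hK h3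
    -- `K` has more than 19 elements
    have h5 : ∀ x : Kˣ, x ^ 18 = 1 := by
      intro x
      obtain ⟨n, hn⟩ := Subgroup.mem_zpowers_iff.mp (hl₀ x)
      rw [← hn, ← zpow_natCast, ← zpow_mul, mul_comm, zpow_mul, zpow_natCast, h4, one_zpow]
    have h6 : Nat.card Kˣ ∣ 18 := by
      have h7 : orderOf l₀ ∣ 18 := orderOf_dvd_of_pow_eq_one h4
      rwa [orderOf_eq_card_of_forall_mem_zpowers hl₀] at h7
    have h8 := Nat.le_of_dvd (by norm_num) h6
    rw [Nat.card_units, Nat.card_eq_fintype_card, hK] at h8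
    have h9 : 3 ^ 3 ≤ 3 ^ (2 * m + 1) := Nat.pow_le_pow_right (by norm_num) (by omega)
    omega
  obtain ⟨x, y, z, hxyz⟩ := exists_B_fix hK a b c l₁ hl₁
  refine ⟨(tU m x y z)⁻¹, inv_mem ((mem_tUU_iff hK _).mpr ⟨_, _, _, rfl⟩), ?_⟩
  have hfix : ∃ l₂ : Kˣ, (MulAut.conj (tU m x y z)⁻¹ * φ) (tH hK l₀) = tH hK l₂ := by
    apply stab_two hK
    · show ((tU m x y z)⁻¹ * φ (tH hK l₀) * ((tU m x y z)⁻¹)⁻¹) • pt0 K m = pt0 K m
      apply mem_tB_smul_pt0 hK
      exact mul_mem (mul_mem (inv_mem (tU_mem_tB hK _ _ _)) hy) (inv_mem (inv_mem (tU_mem_tB hK _ _ _)))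
    · show ((tU m x y z)⁻¹ * φ (tH hK l₀) * ((tU m x y z)⁻¹)⁻¹) • (tW K m • pt0 K m) = tW K m • pt0 K m
      have hP : Pt m x y z = tU m x y z • (tW K m • pt0 K m) := by
        rw [Pt, mul_smul]
      rw [inv_inv, mul_smul, mul_smul, ← hP, hab, hxyz, hP, inv_smul_smul]
  obtain ⟨l₂, hl₂⟩ := hfix
  intro l
  obtain ⟨n, hn⟩ := Submonoid.mem_powers_iff _ _ |>.1 ((mem_powers_iff_mem_zpowers).2 (hl₀ l))
  refine ⟨l₂ ^ n, ?_⟩
  rw [← hn, tH_pow, tH_pow, map_pow, hl₂]

end Cfsg.Agent.H10
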