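import Cfsg.Agent.Lib.H10.ReeAut

/-!
# The automorphisms of the small Ree group: rigidity
-/

set_option autoImplicit false
set_option linter.style.longLine false
set_option linter.unusedSimpArgs false
set_option linter.unusedSectionVars false
set_option maxRecDepth 100000

open Cfsg Cfsg.Lie Cfsg.Agent.H04.Chev
open scoped MatrixGroups commutatorElement Pointwise

namespace Cfsg.Agent.H10

variable {K : Type*} [Field K] [CharP K 3] {m : ℕ} [Fintype K] (hK : Fintype.card K = 3 ^ (2 * m + 1))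

include hK

/-- there is an element outside the prime field -/
lemma exists_not_prime (hm : 1 ≤ m) : ∃ s : K, s ≠ 0 ∧ s ≠ 1 ∧ s ≠ -1 := by
  classical
  by_contra hno
  push Not at hno
  have h1 : ∀ x : K, x ∈ ({0, 1, -1} : Finset K) := by
    intro x
    by_cases hx : x = 0
    · simp [hx]
    · by_cases hx1 : x = 1
      · simp [hx1]
      · have := hno x hx hx1
        simp [this]
  have h2 : Fintype.card K ≤ ({0, 1, -1} : Finset K).card := by
    rw [← Finset.card_univ]
    exact Finset.card_le_card (fun x _ => h1 x)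
  have h3 : ({0, 1, -1} : Finset K).card ≤ 3 := Finset.card_le_three
  have h4 : 3 ^ 3 ≤ 3 ^ (2 * m + 1) := Nat.pow_le_pow_right (by norm_num) (by omega)
  rw [hK] at h2
  omega

/-- elements fixed by the Tits map -/
lemma tits_fix {s : K} (h : reeF K m s ^ 3 = s) : s = 0 ∨ s = 1 ∨ s = -1 := by
  have h1 : reeF K m s = s := by
    have := (reeF_tits hK).pow3 s
    rw [h] at this
    exact this
  rw [h1] at h
  have h2 : s * ((s - 1) * (s + 1)) = 0 := by linear_combination h
  rcases mul_eq_zero.mp h2 with h3 | h3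
  · exact Or.inl h3
  · rcases mul_eq_zero.mp h3 with h4 | h4
    · exact Or.inr (Or.inl (sub_eq_zero.mp h4))
    · exact Or.inr (Or.inr (eq_neg_of_add_eq_zero_left h4))

lemma tU_0u0_0v (u v : K) : tU m 0 u 0 * tU m (0 : K) 0 v = tU m 0 u v := by
  rw [tU_0uv hK]; simp

lemma tU_t00 (t u v : K) : tU m t 0 0 * tU m (0 : K) u v = tU m t u v := by
  rw [tU_t0 hK]; simp

/-- rigidity on `U¹` -/
theorem rigid_U (hm : 1 ≤ m) (φ : MulAut (RT K m)) (hT : ∀ β, φ (tH hK β) = tH hK β)
    (hl : ∀ t u v : K, ∃ u' v', φ (tU m t u v) = tU m t u' v') (t u v : K) : φ (tU m t u v) = tU m t u v := by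
  classical
  have hA : φ (tA hK) = tA hK := hT _
  -- Step A
  have hu0 : ∀ u : K, ∃ u', φ (tU m 0 u 0) = tU m 0 u' 0 := by
    intro u
    obtain ⟨u', v', e⟩ := hl 0 u 0
    have h1 : tA hK * tU m 0 u 0 = tU m 0 u 0 * tA hK := by
      have := tA_conj_tU hK (0 : K) u 0
      rw [mul_inv_eq_iff_eq_mul] at this
      simpa using this
    have h2 := congrArg φ h1
    rw [map_mul, map_mul, hA, e] at h2
    obtain ⟨-, rfl⟩ := tA_comm_tU hK h2
    exact ⟨u', e⟩
  have hv0 : ∀ v : K, ∃ v', φ (tU m 0 0 v) = tU m 0 0 v' := by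
    intro v
    obtain ⟨u', v', e⟩ := hl 0 0 v
    have h1 : tA hK * tU m 0 0 v * (tA hK)⁻¹ = (tU m 0 0 v)⁻¹ := by
      rw [tA_conj_tU, tU_0uv_inv hK]
      simp
    have h2 := congrArg φ h1
    rw [map_mul, map_mul, map_inv, map_inv, hA, e, tA_conj_tU, tU_0uv_inv hK] at h2
    obtain ⟨-, h3, -⟩ := tU_inj h2
    have h4 : u' = 0 := by
      have h5 : u' + u' = 0 := by linear_combination h3
      have h6 : (2 : K) * u' = 0 := by linear_combination h5
      exact (mul_eq_zero.mp h6).resolve_left ree_two_ne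
    subst h4
    exact ⟨v', e⟩
  choose μ hμ using hu0
  choose ν hν using hv0
  -- additivity of `ν`
  have hνadd : ∀ x y, ν (x + y) = ν x + ν y := by
    intro x y
    have h1 : tU m (0 : K) 0 x * tU m 0 0 y = tU m 0 0 (x + y) := by
      rw [tU_0uv hK]; simp
    have h2 := congrArg φ h1
    rw [map_mul, hν, hν, hν, tU_0uv hK] at h2
    have := (tU_inj h2).2.2
    exact this.symm
  have hν0 : ν 0 = 0 := by
    have := hνadd 0 0
    simpa using this
  have hνneg : ∀ x, ν (-x) = -ν x := by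
    intro x
    have := hνadd x (-x)
    rw [add_neg_cancel, hν0] at this
    linear_combination -this
  -- Step B
  have hB : ∀ t u : K, ν (t * u) = t * μ u := by
    intro t u
    have h1 : tU m 0 u 0 * tU m t 0 0 = tU m t 0 0 * tU m 0 u 0 * tU m 0 0 (-(t * u)) := by
      rw [tU_mul hK, tU_mul hK, tU_mul hK]
      have e0 : reeF K m (0 : K) = 0 := map_zero _
      congr 1 <;> simp [e0] <;> ring
    have h2 := congrArg φ h1
    rw [map_mul, map_mul, map_mul, hμ, hν] at h2
    obtain ⟨x, y, e⟩ := hl t 0 0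
    rw [e, tU_mul hK, tU_mul hK, tU_mul hK] at h2
    obtain ⟨-, -, h3⟩ := tU_inj h2
    rw [hνneg] at h3
    have e0 : reeF K m (0 : K) = 0 := map_zero _
    simp [e0] at h3
    linear_combination h3
  have hμν : ∀ u, μ u = ν u := by
    intro u
    have := hB 1 u
    rw [one_mul, one_mul] at this
    exact this.symm
  have hνlin : ∀ w, ν w = w * ν 1 := by
    intro w
    have := hB w 1
    rw [mul_one, hμν] at this
    exact this
  -- Step C
  obtain ⟨s, hs0, hs1, hs2⟩ := exists_not_prime hK hm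
  have hsA : reeF K m s ^ 3 ≠ s := by
    intro h
    rcases tits_fix hK h with h1 | h1 | h1
    · exact hs0 h1
    · exact hs1 h1
    · exact hs2 h1
  have hκ : ν 1 = 1 := by
    -- commutator of `tU 1 0 0`, `tU s 0 0`
    set Ω := s - reeF K m s ^ 3 with hΩ
    have hΩ0 : Ω ≠ 0 := by
      rw [hΩ]
      exact sub_ne_zero.mpr hsA.symm
    obtain ⟨w, hw⟩ : ∃ w : K, tU m 1 0 0 * tU m s 0 0 = tU m s 0 0 * tU m 1 0 0 * tU m 0 Ω w := by
      refine ⟨s * reeF K m s ^ 3 - reeF K m s ^ 3 - s + s ^ 2, ?_⟩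
      rw [tU_mul hK, tU_mul hK, tU_mul hK]
      have e1 : reeF K m (1 : K) = 1 := map_one _
      have e0 : reeF K m (0 : K) = 0 := map_zero _
      rw [e1, e0, hΩ]
      congr 1 <;> ring
    have h2 := congrArg φ hw
    rw [map_mul, map_mul, map_mul] at h2
    obtain ⟨x, y, e⟩ := hl 1 0 0
    obtain ⟨x', y', e'⟩ := hl s 0 0
    have e3 : φ (tU m 0 Ω w) = tU m 0 (Ω * ν 1) (w * ν 1) := by
      rw [← tU_0u0_0v hK Ω w, map_mul, hμ, hν, hμν, hνlin Ω, hνlin w, tU_0u0_0v hK]
    rw [e, e', e3, tU_mul hK, tU_mul hK, tU_mul hK] at h2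
    obtain ⟨-, h3, -⟩ := tU_inj h2
    have e1 : reeF K m (1 : K) = 1 := map_one _
    have e0 : reeF K m (0 : K) = 0 := map_zero _
    simp only [e1, e0] at h3
    have h4 : Ω * (ν 1 - 1) = 0 := by
      rw [hΩ] at h3 ⊢
      linear_combination -h3
    have h5 := (mul_eq_zero.mp h4).resolve_left hΩ0
    exact sub_eq_zero.mp h5
  have hνid : ∀ w, ν w = w := fun w => by rw [hνlin, hκ, mul_one]
  have hμid : ∀ w, μ w = w := fun w => by rw [hμν, hνid]
  have hZ : ∀ u v : K, φ (tU m 0 u v) = tU m 0 u v := by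
    intro u v
    rw [← tU_0u0_0v hK u v, map_mul, hμ, hν, hμid, hνid]
  -- Step D
  have hg : ∀ t : K, ∃ x y, φ (tU m t 0 0) = tU m t x y := fun t => hl t 0 0
  choose g₁ g₂ hg₁₂ using hg
  have hg0 : g₁ 0 = 0 ∧ g₂ 0 = 0 := by
    have h1 := hg₁₂ 0
    rw [tU_zero, map_one, ← tU_zero (K := K) (m := m)] at h1
    obtain ⟨-, h2, h3⟩ := tU_inj h1
    exact ⟨h2.symm, h3.symm⟩
  have hequiv : ∀ (β : Kˣ) (t : K), g₁ (β * t) = reeF K m β ^ 3 * β * g₁ t ∧ g₂ (β * t) = reeF K m β ^ 3 * β ^ 2 * g₂ t := by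
    intro β t
    have h1 := tH_conj hK β t 0 0
    rw [mul_zero, mul_zero] at h1
    have h2 := congrArg φ h1
    rw [map_mul, map_mul, map_inv, hT, hg₁₂, hg₁₂, tH_conj] at h2
    obtain ⟨-, h3, h4⟩ := tU_inj h2
    exact ⟨h3.symm, h4.symm⟩
  have hprod : ∀ t t' : K, g₁ (t + t') = g₁ t + g₁ t' ∧ g₂ (t + t') = g₂ t + g₂ t' - t' * g₁ t := by
    intro t t'
    have h1 : tU m t 0 0 * tU m t' 0 0 = tU m (t + t') 0 0 * tU m 0 (-(t * reeF K m t' ^ 3)) (t * t' * reeF K m t' ^ 3 - t ^ 2 * reeF K m t' ^ 3) := by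
      rw [tU_t00 hK, tU_mul hK]
      congr 1 <;> ring
    have h2 := congrArg φ h1
    rw [map_mul, map_mul, hZ, hg₁₂, hg₁₂, hg₁₂, tU_mul hK, tU_t0 hK] at h2
    obtain ⟨-, h3, h4⟩ := tU_inj h2
    constructor
    · linear_combination -h3
    · linear_combination -h4
  have hx : g₁ 1 = 0 := by
    have h1 := (hequiv (-1) 1).1
    have h2 := (hprod 1 (-1)).1
    have e1 : ((-1 : Kˣ) : K) = -1 := by simp
    rw [e1, map_neg, map_one] at h1
    simp only [mul_one] at h1
    rw [add_neg_cancel, hg0.1] at h2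
    have h3 : g₁ (-1) = g₁ 1 := by
      rw [h1]; ring
    rw [h3] at h2
    have h6 : (2 : K) * g₁ 1 = 0 := by linear_combination -h2
    exact (mul_eq_zero.mp h6).resolve_left ree_two_ne
  have hg₁0 : ∀ t, g₁ t = 0 := by
    intro t
    by_cases ht : t = 0
    · rw [ht]; exact hg0.1
    · have := (hequiv (Units.mk0 t ht) 1).1
      rw [hx, mul_zero, mul_one] at this
      simpa using this
  have hy : g₂ 1 = 0 := by
    have hs10 : (1 + s) ≠ 0 := fun h => hs2 (by linear_combination h)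
    have h1 := (hequiv (Units.mk0 s hs0) 1).2
    have h2 := (hequiv (Units.mk0 (1 + s) hs10) 1).2
    have h3 := (hprod 1 s).2
    simp only [Units.val_mk0, mul_one] at h1 h2
    rw [hg₁0, mul_zero, sub_zero, h1, h2] at h3
    have e1 : reeF K m (1 + s) ^ 3 = 1 + reeF K m s ^ 3 := by
      rw [map_add, map_one, ree_add_cube, one_pow]
    rw [e1] at h3
    have h3' : (3 : K) = 0 := ree_three
    have h4 : ((s - 1) * (s - reeF K m s ^ 3)) * g₂ 1 = 0 := by
      linear_combination h3 + (-(s) * g₂ 1 - reeF K m s ^ 3 * s * g₂ 1) * h3'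
    have h5 : (s - 1) * (s - reeF K m s ^ 3) ≠ 0 := mul_ne_zero (sub_ne_zero.mpr hs1) (sub_ne_zero.mpr hsA.symm)
    exact (mul_eq_zero.mp h4).resolve_left h5
  have hg₂0 : ∀ t, g₂ t = 0 := by
    intro t
    by_cases ht : t = 0
    · rw [ht]; exact hg0.2
    · have := (hequiv (Units.mk0 t ht) 1).2
      rw [hy, mul_zero, mul_one] at this
      simpa using this
  rw [← tU_t00 hK t u v, map_mul, hZ, hg₁₂, hg₁0, hg₂0]

end Cfsg.Agent.H10
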