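import Cfsg.Agent.Lib.H10.ReeAut2
import Cfsg.Prelude.Def_KGroupFacts

/-!
# The automorphisms of the small Ree group: the normal form and the outer automorphism group
-/

set_option autoImplicit false
set_option linter.style.longLine false
set_option linter.unusedSimpArgs false
set_option linter.unusedSectionVars false
set_option maxRecDepth 100000

open Cfsg Cfsg.Lie Cfsg.Agent.H04.Chev
open scoped MatrixGroups commutatorElement Pointwise

namespace Cfsg.Agent.H10

variable {K : Type*} [Field K] [CharP K 3] {m : ℕ} [Fintype K] (hK : Fintype.card K = 3 ^ (2 * m + 1))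

include hK

/-- the fixed points of a generic torus element -/
lemma fix_tH_generic {l : Kˣ} (hl : (l : K) ^ 2 ≠ 1) (x : ROm K m) (hx : tH hK l • x = x) : x = pt0 K m ∨ x = tW K m • pt0 K m := by
  have h1 : (l : K) ≠ 1 := by
    intro h
    rw [h] at hl
    simp at hl
  have hc1 : reeF K m l ^ 3 * l ≠ 1 := fun h => hl (ree_c1_one hK h)
  have hc2 : reeF K m l ^ 3 * l ^ 2 ≠ 1 := fun h => h1 (ree_c2_one hK h)
  rcases pt_cases hK x with rfl | ⟨t, u, v, rfl⟩
  · exact Or.inl rfl
  · right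
    change tH hK l • Pt m t u v = Pt m t u v at hx
    rw [tH_smul_Pt] at hx
    obtain ⟨e1, e2, e3⟩ := Pt_inj hK hx
    have ht : t = 0 := by
      have : ((l : K) - 1) * t = 0 := by linear_combination e1
      exact (mul_eq_zero.mp this).resolve_left (sub_ne_zero.mpr h1)
    have hu : u = 0 := by
      have : (reeF K m l ^ 3 * l - 1) * u = 0 := by linear_combination e2
      exact (mul_eq_zero.mp this).resolve_left (sub_ne_zero.mpr hc1)
    have hv : v = 0 := by
      have : (reeF K m l ^ 3 * l ^ 2 - 1) * v = 0 := by linear_combination e3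
      exact (mul_eq_zero.mp this).resolve_left (sub_ne_zero.mpr hc2)
    subst ht hu hv
    exact Pt_zero hK

/-- rigidity -/
theorem rigid (hm : 1 ≤ m) (φ : MulAut (RT K m)) (hT : ∀ β, φ (tH hK β) = tH hK β)
    (hl : ∀ t u v : K, ∃ u' v', φ (tU m t u v) = tU m t u' v') : φ = 1 := by
  have hU := rigid_U hK hm φ hT hl
  have hB : ∀ b ∈ tB K m, φ b = b := by
    intro b hb
    obtain ⟨t, u, v, β, rfl⟩ := (mem_tB_iff hK _).mp hb
    rw [map_mul, hU, hT]
  set y := φ (tW K m) with hy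
  have hyy : y * y = 1 := by
    rw [hy, ← map_mul, tW_sq, map_one]
  obtain ⟨s, hs0, hs1, hs2⟩ := exists_not_prime hK hm
  set l : Kˣ := Units.mk0 s hs0 with hl'
  have hls : (l : K) ^ 2 ≠ 1 := by
    intro h
    have : (s - 1) * (s + 1) = 0 := by
      have e : (l : K) = s := rfl
      rw [e] at h
      linear_combination h
    rcases mul_eq_zero.mp this with h1 | h1
    · exact hs1 (sub_eq_zero.mp h1)
    · exact hs2 (eq_neg_of_add_eq_zero_left h1)
  have hyh : tH hK l * y = y * tH hK l⁻¹ := by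
    have h1 := tW_tH hK l⁻¹
    rw [inv_inv] at h1
    have h2 := congrArg φ h1
    rw [map_mul, map_mul, hT, hT] at h2
    exact h2.symm
  have hfix : ∀ x : ROm K m, tH hK l • x = x → tH hK l • (y • x) = y • x := by
    intro x hx
    rw [smul_smul, hyh, mul_smul]
    congr 1
    rw [← tH_inv, inv_smul_eq_iff, hx]
  have h0 : tH hK l • pt0 K m = pt0 K m := mem_tB_smul_pt0 hK (tH_mem_tB hK _)
  have h1 : tH hK l • (tW K m • pt0 K m) = tW K m • pt0 K m := tH_smul_w hK l
  have hy0 : y • pt0 K m = tW K m • pt0 K m := by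
    rcases fix_tH_generic hK hls _ (hfix _ h0) with h | h
    · exfalso
      have hyB : y ∈ tB K m := by
        rw [← stabilizer_pt0]; exact h
      have e1 := hB y hyB
      have e2 : φ (tW K m) = φ y := by rw [e1]
      have e3 : tW K m = y := φ.injective e2
      rw [← e3] at hyB
      exact tW_not_mem_tB hK hyB
    · exact h
  have hy1 : y • (tW K m • pt0 K m) = pt0 K m := by
    rcases fix_tH_generic hK hls _ (hfix _ h1) with h | h
    · exact h
    · exfalso
      exact pt0_ne_w hK (MulAction.injective y (h.trans hy0.symm)).symm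
  obtain ⟨δ, hδ⟩ := stab_two hK (g := tW K m * y) (by
      rw [mul_smul, hy0, tW_smul_w hK]) (by
      rw [mul_smul, hy1])
  have hyw : y = tW K m * tH hK δ := by
    have : tW K m * (tW K m * y) = tW K m * tH hK δ := by rw [hδ]
    rwa [← mul_assoc, tW_sq, one_mul] at this
  -- the big cell
  have hbig : tW K m * tU m (1 : K) 0 0 * tW K m ∉ tB K m := by
    intro h
    have := tW_U_mem_B hK (t := 1) (u := 0) (v := 0) (Subgroup.mem_inf.mp (Subgroup.mem_subgroupOf.mp h)).1
    exact one_ne_zero this.1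
  have hδ1 : δ = 1 := by
    rcases tcases hK (tW K m * tU m (1 : K) 0 0 * tW K m) with ⟨t, u, v, β, e⟩ | ⟨t, u, v, β, t', u', v', e⟩
    · exact absurd ((mem_tB_iff hK _).mpr ⟨_, _, _, _, e⟩) hbig
    · have e1 := congrArg φ e
      rw [map_mul, map_mul, map_mul, map_mul, map_mul, hU, hU, hU, hT, ← hy] at e1
      -- conjugate `e` by the torus element
      have hw : y = tH hK δ⁻¹ * tW K m := by rw [hyw, tW_tH]
      have e2 : y * tU m (1 : K) 0 0 * y = tH hK δ⁻¹ * (tW K m * tU m (1 : K) 0 0 * tW K m) * tH hK δ := by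
        nth_rw 2 [hyw]
        rw [hw]
        group
      rw [e2, e, hw] at e1
      have c1 := tH_conj hK δ⁻¹ t u v
      have c2 := tH_conj hK δ⁻¹ t' u' v'
      rw [mul_inv_eq_iff_eq_mul] at c1
      rw [← tH_inv, inv_inv] at c2
      set V₁ := tU m (↑δ⁻¹ * t) (reeF K m ↑δ⁻¹ ^ 3 * ↑δ⁻¹ * u) (reeF K m ↑δ⁻¹ ^ 3 * ↑δ⁻¹ ^ 2 * v) with hV₁
      set V₂ := tU m (↑δ⁻¹ * t') (reeF K m ↑δ⁻¹ ^ 3 * ↑δ⁻¹ * u') (reeF K m ↑δ⁻¹ ^ 3 * ↑δ⁻¹ ^ 2 * v') with hV₂
      have c2' : tU m t' u' v' * tH hK δ = tH hK δ * V₂ := by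
        rw [← c2]
        group
      have e3 : tH hK δ⁻¹ * (tU m t u v * tH hK β * tW K m * tU m t' u' v') * tH hK δ =
          V₁ * tH hK (δ⁻¹ * β * δ⁻¹) * tW K m * V₂ := by
        calc _ = (tH hK δ⁻¹ * tU m t u v) * tH hK β * tW K m * (tU m t' u' v' * tH hK δ) := by group
          _ = V₁ * (tH hK δ⁻¹ * tH hK β) * (tW K m * tH hK δ) * V₂ := by
            rw [c1, c2']; group
          _ = _ := by
            rw [tW_tH, tH_mul, tH_mul]; group
      rw [e3] at e1
      have e4 : tU m t u v * tH hK β * (tH hK δ⁻¹ * tW K m) * tU m t' u' v' =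
          tU m t u v * tH hK (β * δ⁻¹) * tW K m * tU m t' u' v' := by
        rw [tH_mul]; group
      rw [e4] at e1
      obtain ⟨-, e5, -⟩ := t_big_inj hK e1
      have e6 : δ⁻¹ = 1 := by
        have : δ⁻¹ * β * δ⁻¹ = δ⁻¹ * (β * δ⁻¹) := by rw [mul_assoc]
        rw [this] at e5
        exact mul_eq_right.mp e5
      simpa using e6
  rw [hδ1, tH_one, mul_one] at hyw
  ext g
  rw [MulAut.one_apply]
  rcases tcases hK g with ⟨t, u, v, β, rfl⟩ | ⟨t, u, v, β, t', u', v', rfl⟩
  · rw [map_mul, hU, hT]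
  · rw [map_mul, map_mul, map_mul, hU, hU, hT, ← hy, hyw]


/-- elements of `U¹` whose cube is trivial have first coordinate zero -/
lemma first_zero_of_cube {a b c : K} (h : tU m a b c ^ 3 = 1) : a = 0 := by
  rw [tU_cube hK, ← tU_zero (K := K) (m := m)] at h
  obtain ⟨-, -, e⟩ := tU_inj h
  have e1 : a ^ 2 * reeF K m a ^ 3 = 0 := by linear_combination -e
  rcases mul_eq_zero.mp e1 with e2 | e2
  · exact pow_eq_zero_iff (two_ne_zero) |>.mp e2
  · have e3 := pow_eq_zero_iff (three_ne_zero) |>.mp e2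
    exact (map_eq_zero _).mp e3

/-- the field part of a `B`- and `H`-preserving automorphism -/
lemma exists_field_part (φ : MulAut (RT K m)) (hU : ∀ x ∈ tUU K m, φ x ∈ tUU K m)
    (hT : ∀ l : Kˣ, ∃ l' : Kˣ, φ (tH hK l) = tH hK l') :
    ∃ (τ : K ≃+* K) (d : Kˣ), (∀ β, φ (tH hK β) = tFieldAut hK τ (tH hK β)) ∧
      ∀ t u v : K, ∃ u' v' : K, φ (tU m t u v) = tFieldAut hK τ (tU m (d * t) u' v') := by
  classical
  have hA : ∀ t u v : K, ∃ a b c : K, φ (tU m t u v) = tU m a b c := fun t u v =>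
    (mem_tUU_iff hK _).mp (hU _ ((mem_tUU_iff hK _).mpr ⟨t, u, v, rfl⟩))
  choose A B C hABC using hA
  choose ψ hψ using hT
  have hz : ∀ u v, A 0 u v = 0 := by
    intro u v
    apply first_zero_of_cube hK (b := B 0 u v) (c := C 0 u v)
    rw [← hABC, ← map_pow, tU_cube0 hK, map_one]
  have hdep : ∀ t u v, A t u v = A t 0 0 := by
    intro t u v
    have e := hABC t u v
    rw [← tU_t00 hK, map_mul, hABC, hABC, tU_mul hK] at e
    obtain ⟨e1, -, -⟩ := tU_inj e
    rw [← e1, hz]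
    simp
  set lam : K → K := fun t => A t 0 0 with hlam
  have hφU : ∀ t u v, ∃ b c, φ (tU m t u v) = tU m (lam t) b c := fun t u v => ⟨B t u v, C t u v, by
    rw [hABC, hdep]⟩
  have hadd : ∀ s t, lam (s + t) = lam s + lam t := by
    intro s t
    obtain ⟨b₁, c₁, e₁⟩ := hφU s 0 0
    obtain ⟨b₂, c₂, e₂⟩ := hφU t 0 0
    have e := tU_mul hK s 0 0 t 0 0
    obtain ⟨b₃, c₃, e₃⟩ := hφU (s + t) (0 + 0 - s * reeF K m t ^ 3) (0 + 0 - t * 0 + s * t * reeF K m t ^ 3 - s ^ 2 * reeF K m t ^ 3)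
    have e' := congrArg φ e
    rw [map_mul, e₁, e₂, e₃, tU_mul hK] at e'
    exact (tU_inj e').1.symm
  have hinj : ∀ t, lam t = 0 → t = 0 := by
    intro t ht
    obtain ⟨b, c, e⟩ := hφU t 0 0
    rw [ht] at e
    have h1 : tU m t 0 0 ^ 3 = 1 := by
      apply φ.injective
      rw [map_pow, e, tU_cube0 hK, map_one]
    exact first_zero_of_cube hK h1
  have hmul : ∀ (β : Kˣ) (t : K), lam (β * t) = ψ β * lam t := by
    intro β t
    have e := tH_conj hK β t 0 0
    simp only [mul_zero] at e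
    obtain ⟨b, c, e₁⟩ := hφU t 0 0
    obtain ⟨b', c', e₂⟩ := hφU (β * t) 0 0
    have e' := congrArg φ e
    rw [map_mul, map_mul, map_inv, hψ, e₁, e₂, tH_conj hK] at e'
    exact (tU_inj e').1.symm
  have h0 : lam 0 = 0 := by
    have := hadd 0 0
    rw [add_zero] at this
    linear_combination -this
  have hc : lam 1 ≠ 0 := fun h => one_ne_zero (hinj 1 h)
  let c₀ : Kˣ := Units.mk0 (lam 1) hc
  have hψ' : ∀ β : Kˣ, (ψ β : K) = lam β / lam 1 := by
    intro β
    have := hmul β 1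
    rw [mul_one] at this
    rw [this]
    field_simp
  let τ₀ : K →+* K :=
    { toFun := fun t => lam t / lam 1
      map_one' := div_self hc
      map_zero' := by simp [h0]
      map_add' := by
        intro s t
        rw [hadd, add_div]
      map_mul' := by
        intro s t
        by_cases hs : s = 0
        · subst hs
          simp [h0]
        · have := hmul (Units.mk0 s hs) t
          simp only [Units.val_mk0] at this
          rw [this, hψ' (Units.mk0 s hs)]
          simp only [Units.val_mk0]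
          field_simp }
  have hτ₀ : ∀ t, τ₀ t = lam t / lam 1 := fun t => rfl
  let τ : K ≃+* K := RingEquiv.ofBijective τ₀ (Finite.injective_iff_bijective.mp τ₀.injective)
  have hτ : ∀ t, τ t = lam t / lam 1 := fun t => rfl
  refine ⟨τ, Units.map (τ.symm : K →* K) c₀, ?_, ?_⟩
  · intro β
    rw [tFieldAut_H, hψ]
    congr 1
    apply Units.ext
    rw [hψ']
    rfl
  · intro t u v
    obtain ⟨b, c, e⟩ := hφU t u v
    refine ⟨τ.symm b, τ.symm c, ?_⟩
    rw [e, tFieldAut_U]
    simp only [RingEquiv.apply_symm_apply, map_mul]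
    congr 1
    have e1 : (Units.map (τ.symm : K →* K) c₀ : Kˣ).val = τ.symm (lam 1) := rfl
    rw [e1, RingEquiv.apply_symm_apply, hτ]
    field_simp

omit hK in
lemma conj_comp_aut {G : Type*} [Group G] (F : MulAut G) (y : G) : F * MulAut.conj y = MulAut.conj (F y) * F := by
  ext x
  simp [MulAut.conj_apply]

/-- The normal form. -/
theorem tNormalForm (hm : 1 ≤ m) (φ : MulAut (RT K m)) :
    ∃ (g : RT K m) (τ : K ≃+* K), MulAut.conj g * φ = tFieldAut hK τ := by
  obtain ⟨k, hk⟩ := tU_sylow_step hK φ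
  set φ₁ := MulAut.conj k * φ with hφ₁
  obtain ⟨v, hv, hv2⟩ := tU_torus_step hK hm hk
  set φ₂ := MulAut.conj v * φ₁ with hφ₂
  have hU₂ : ∀ u ∈ tUU K m, φ₂ u ∈ tUU K m := by
    intro u hu
    show v * φ₁ u * v⁻¹ ∈ tUU K m
    exact mul_mem (mul_mem hv ((hk u).1 hu)) (inv_mem hv)
  obtain ⟨τ, d, hd1, hd2⟩ := exists_field_part hK φ₂ hU₂ hv2
  set F := tFieldAut hK τ with hF
  set φ₃ := F⁻¹ * φ₂ with hφ₃
  have e3T : ∀ β, φ₃ (tH hK β) = tH hK β := by
    intro β
    show F⁻¹ (φ₂ _) = _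
    rw [hd1, MulAut.inv_apply_self]
  have e3U : ∀ t u v : K, ∃ u' v' : K, φ₃ (tU m t u v) = tU m (d * t) u' v' := by
    intro t u v
    obtain ⟨u', v', e⟩ := hd2 t u v
    refine ⟨u', v', ?_⟩
    show F⁻¹ (φ₂ _) = _
    rw [e, MulAut.inv_apply_self]
  set φ₄ := MulAut.conj (tH hK d⁻¹) * φ₃ with hφ₄
  have e4 : φ₄ = 1 := by
    apply rigid hK hm
    · intro β
      show tH hK d⁻¹ * φ₃ (tH hK β) * (tH hK d⁻¹)⁻¹ = _
      rw [e3T, tH_inv hK d⁻¹, inv_inv, ← tH_mul, ← tH_mul]
      congr 1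
      rw [mul_comm (d⁻¹ * β) d, ← mul_assoc, mul_inv_cancel, one_mul]
    · intro t u v
      obtain ⟨u', v', e⟩ := e3U t u v
      refine ⟨reeF K m (d⁻¹ : Kˣ) ^ 3 * (d⁻¹ : Kˣ) * u', reeF K m (d⁻¹ : Kˣ) ^ 3 * (d⁻¹ : Kˣ) ^ 2 * v', ?_⟩
      show tH hK d⁻¹ * φ₃ (tU m t u v) * (tH hK d⁻¹)⁻¹ = _
      rw [e, tH_conj hK]
      congr 1
      simp
  have e5 : F⁻¹ * (MulAut.conj (v * k) * φ) = MulAut.conj (tH hK d) := by
    have e6 : MulAut.conj (tH hK d⁻¹) * (F⁻¹ * (MulAut.conj (v * k) * φ)) = 1 := by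
      rw [← e4, hφ₄, hφ₃, hφ₂, hφ₁, map_mul]
      simp only [mul_assoc]
    have e7 : MulAut.conj (tH hK d) * MulAut.conj (tH hK d⁻¹) = 1 := by
      rw [← map_mul, ← tH_mul, mul_inv_cancel, tH_one, map_one]
    calc _ = (MulAut.conj (tH hK d) * MulAut.conj (tH hK d⁻¹)) * (F⁻¹ * (MulAut.conj (v * k) * φ)) := by
            rw [e7, one_mul]
      _ = _ := by
            rw [mul_assoc, e6, mul_one]
  refine ⟨(F (tH hK d))⁻¹ * (v * k), τ, ?_⟩
  have e8 : MulAut.conj (v * k) * φ = F * MulAut.conj (tH hK d) := by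
    rw [← e5]
    group
  rw [map_mul, map_inv, mul_assoc, e8, conj_comp_aut, ← mul_assoc, inv_mul_cancel, one_mul]

/-- A field automorphism which is inner is trivial. -/
theorem t_eq_refl_of_inner (τ : K ≃+* K) (g : RT K m) (h : tFieldAut hK τ = MulAut.conj g) : τ = RingEquiv.refl K := by
  have hu : g * tU m (1 : K) 0 0 * g⁻¹ = tU m (1 : K) 0 0 := by
    have h1 := congrArg (fun f => f (tU m (1 : K) 0 0)) h
    simp only [tFieldAut_U, MulAut.conj_apply, map_one, map_zero] at h1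
    exact h1.symm
  have hw : g * tW K m * g⁻¹ = tW K m := by
    have h1 := congrArg (fun f => f (tW K m)) h
    simp only [tFieldAut_W, MulAut.conj_apply] at h1
    exact h1.symm
  have hc : g * tU m (1 : K) 0 0 = tU m (1 : K) 0 0 * g := by
    nth_rw 2 [← hu]
    group
  have hc2 : g * tW K m = tW K m * g := by
    nth_rw 2 [← hw]
    group
  have h1 : g • pt0 K m = pt0 K m := by
    rcases pt_cases hK (g • pt0 K m) with h | ⟨t, u, v, h⟩
    · exact h
    · exfalso
      have h2 : tU m (1 : K) 0 0 • (g • pt0 K m) = g • pt0 K m := by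
        rw [← mul_smul, ← hc, mul_smul, mem_tB_smul_pt0 hK (tU_mem_tB hK _ _ _)]
      have h3 : g • pt0 K m = Pt m t u v := h
      rw [h3, tU_smul_Pt hK] at h2
      obtain ⟨e, -, -⟩ := Pt_inj hK h2
      have : (1 : K) = 0 := by linear_combination e
      exact one_ne_zero this
  have h2 : g • (tW K m • pt0 K m) = tW K m • pt0 K m := by
    rw [← mul_smul, hc2, mul_smul, h1]
  obtain ⟨l, rfl⟩ := stab_two hK h1 h2
  have h3 : tH hK l = tH hK l⁻¹ := by
    have h4 := tW_tH hK l
    rw [← hc2] at h4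
    exact mul_right_cancel h4
  have h4 := tH_inj hK h3
  have hl1 : (l : K) = 1 := by
    have e := tH_conj hK l 1 0 0
    rw [hu] at e
    obtain ⟨e1, -, -⟩ := tU_inj e
    rw [mul_one] at e1
    exact e1.symm
  have hl : l = 1 := Units.ext hl1
  subst hl
  ext a
  have h7 := congrArg (fun f => f (tU m a 0 0)) h
  simp only [tFieldAut_U, MulAut.conj_apply, map_zero, tH_one, one_mul, inv_one, mul_one] at h7
  exact (tU_inj h7).1

lemma tFieldAut_trans (τ τ' : K ≃+* K) :
    (tFieldAut hK τ)⁻¹ * tFieldAut hK τ' = tFieldAut hK (τ'.trans τ.symm) := by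
  ext x : 1
  rw [MulAut.mul_apply, MulAut.inv_def, MulEquiv.symm_apply_eq]
  apply r7_inj hK
  rw [tFieldAut_apply, tFieldAut_apply, tFieldAut_apply, r7_tFieldHom, r7_tFieldHom, r7_tFieldHom]
  apply Units.ext
  ext i j
  show τ' _ = τ ((τ'.trans τ.symm) _)
  simp

omit hK in
/-- Isomorphic groups have outer automorphism groups of the same order. -/
lemma ree_card_out_congr {G H : Type*} [Group G] [Group H] (e : G ≃* H) : Nat.card (Out G) = Nat.card (Out H) := by
  have h : (Inn G).map (MulAut.congr e).toMonoidHom = Inn H := by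
    apply le_antisymm
    · rintro _ ⟨_, ⟨g, rfl⟩, rfl⟩
      refine ⟨e g, ?_⟩
      ext x
      simp [MulAut.congr, MulAut.conj_apply]
    · rintro _ ⟨h, rfl⟩
      refine ⟨_, ⟨e.symm h, rfl⟩, ?_⟩
      ext x
      simp [MulAut.congr, MulAut.conj_apply]
  exact Nat.card_congr (QuotientGroup.congr _ _ (MulAut.congr e) h).toEquiv

/-- The number of field automorphisms. -/
lemma ree_card_ringEquiv : Nat.card (K ≃+* K) = 2 * m + 1 := by
  classical
  letI : Algebra (ZMod 3) K := ZMod.algebra K 3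
  haveI : Fact (Nat.Prime 3) := ⟨Nat.prime_three⟩
  have h1 : Nat.card (K ≃ₐ[ZMod 3] K) = Module.finrank (ZMod 3) K := IsGalois.card_aut_eq_finrank (ZMod 3) K
  have h2 : Nat.card (K ≃+* K) = Nat.card (K ≃ₐ[ZMod 3] K) := by
    apply Nat.card_congr
    refine Equiv.symm
      { toFun := AlgEquiv.toRingEquiv
        invFun := fun τ => AlgEquiv.ofRingEquiv (f := τ) (fun r => ?_)
        left_inv := fun τ => ?_
        right_inv := fun τ => ?_ }
    · have : (τ : K →+* K).comp (algebraMap (ZMod 3) K) = algebraMap (ZMod 3) K := Subsingleton.elim _ _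
      exact congrArg (fun f => f r) this
    · ext x
      rfl
    · ext x
      rfl
  rw [h2, h1]
  have h3 := Module.card_eq_pow_finrank (K := ZMod 3) (V := K)
  rw [hK, ZMod.card] at h3
  exact (Nat.pow_right_injective (by norm_num) h3).symm

/-- The order of the outer automorphism group of the small Ree group. -/
theorem card_out_T (hm : 1 ≤ m) : Nat.card (Out (RT K m)) = 2 * m + 1 := by
  rw [← ree_card_ringEquiv hK]
  symm
  refine Nat.card_congr (Equiv.ofBijective (fun τ : K ≃+* K => (QuotientGroup.mk (tFieldAut hK τ) : Out (RT K m))) ⟨?_, ?_⟩)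
  · intro τ τ' h
    have h1 := QuotientGroup.eq.1 h
    rw [tFieldAut_trans] at h1
    obtain ⟨g, hg⟩ := h1
    have h2 := t_eq_refl_of_inner hK _ g hg.symm
    ext x
    have h3 := congrArg (fun f : K ≃+* K => τ (f x)) h2
    simpa using h3.symm
  · intro x
    obtain ⟨φ, rfl⟩ := QuotientGroup.mk_surjective x
    obtain ⟨g, τ, h⟩ := tNormalForm hK hm φ
    refine ⟨τ, ?_⟩
    show (QuotientGroup.mk (tFieldAut hK τ) : Out (RT K m)) = QuotientGroup.mk φ
    have h1 : (QuotientGroup.mk (MulAut.conj g) : Out (RT K m)) = 1 :=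
      (QuotientGroup.eq_one_iff (MulAut.conj g)).2 (MonoidHom.mem_range.2 ⟨g, rfl⟩)
    rw [← h, QuotientGroup.mk_mul, h1, one_mul]

end Cfsg.Agent.H10
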