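import Cfsg.Agent.Lib.H10.ReeT2
import Cfsg.Agent.Lib.H02.BN3

/-!
# The small Ree group: (B, N)-pair, perfectness, simplicity
-/

set_option autoImplicit false
set_option linter.style.longLine false
set_option linter.unusedSimpArgs false
set_option linter.unusedSectionVars false
set_option maxRecDepth 100000

open Cfsg Cfsg.Lie Cfsg.Agent.H04.Chev
open scoped MatrixGroups

namespace Cfsg.Agent.H10

variable {K : Type*} [Field K] [CharP K 3] {m : ℕ}

/-- a conjugate of an element of `U` by the Weyl element can not be of Borel shape -/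
lemma m7_big_shape (A t B u C v a b ai bi : K) (A' t' B' u' C' v' : K) (ha : a * ai = 1) (hb : b * bi = 1)
    (h : m7W * m7U A t B u C v * m7W = m7U A' t' B' u' C' v' * m7T a b ai bi) :
    A = 0 ∧ C = 0 ∧ u = 0 := by
  have e : ∀ i j, (m7W * m7U A t B u C v * m7W : Matrix (Fin 7) (Fin 7) K) i j = (m7U A' t' B' u' C' v' * m7T a b ai bi : Matrix (Fin 7) (Fin 7) K) i j := fun i j => by rw [h]
  have h1 := e 4 0
  have h2 := e 4 1
  have h3 := e 4 2
  simp [Matrix.mul_apply, Fin.sum_univ_succ, m7W, m7U, m7T] at h1 h2 h3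
  have hA : A = 0 := by simpa using h1
  subst hA
  have hC : C = 0 := by simpa using h2
  subst hC
  have hu : u = 0 := by simpa using h3
  exact ⟨rfl, rfl, hu⟩

variable [Fintype K] (hK : Fintype.card K = 3 ^ (2 * m + 1))
include hK

omit hK in
lemma reeF_inj {x y : K} (h : reeF K m x = reeF K m y) : x = y := (reeF K m).injective h

/-- `w u w` lies in `B` only for `u = 1` -/
lemma tW_U_mem_B {t u v : K} (h : ((tW K m * tU m t u v * tW K m : RT K m) : GL chevG2.Idx K) ∈ chevG2.borelSubgroup K) :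
    t = 0 ∧ u = 0 ∧ v = 0 := by
  obtain ⟨t', u', v', β, e⟩ := (mem_B_iff hK _).mp h
  have e1 : rW * rU (reeF K m) t u v * rW = rU (reeF K m) t' u' v' * rH (reeF K m) β := by
    have e := congrArg Subtype.val e
    exact Subtype.ext e
  have e2 := congrArg (fun g => ((ree1 g : GL (Fin 7) K) : Matrix (Fin 7) (Fin 7) K)) e1
  simp only [map_mul, Units.val_mul, ree1_rW, ree1_rU, ree1_rH] at e2
  have hb : (reeF K m β : K) * (reeF K m β)⁻¹ = 1 := mul_inv_cancel₀ ((map_ne_zero _).mpr β.ne_zero)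
  have hb2 : (β : K) * (β : K)⁻¹ = 1 := mul_inv_cancel₀ β.ne_zero
  obtain ⟨h1, h2, h3⟩ := m7_big_shape _ _ _ _ _ _ _ _ _ _ _ _ _ _ _ _ hb hb2 e2
  have ht : t = 0 := by
    apply (reeF K m).injective; simpa using h1
  have hv : v = 0 := by
    apply (reeF K m).injective; simpa using h2
  exact ⟨ht, h3, hv⟩

/-- the conjugate of a Borel element by the Weyl element -/
lemma tW_B_mem_B {t u v : K} {β : Kˣ} (h : ((tW K m * (tU m t u v * tH hK β) * tW K m : RT K m) : GL chevG2.Idx K) ∈ chevG2.borelSubgroup K) :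
    t = 0 ∧ u = 0 ∧ v = 0 := by
  apply tW_U_mem_B hK
  have e : tW K m * tU m t u v * tW K m = (tW K m * (tU m t u v * tH hK β) * tW K m) * tH hK β := by
    have e1 := tW_tH hK β
    have e2 : tW K m * tU m t u v * tW K m * tW K m = tW K m * tU m t u v := by
      rw [mul_assoc _ (tW K m) (tW K m), tW_sq, mul_one]
    calc tW K m * tU m t u v * tW K m = tW K m * tU m t u v * tW K m * (tH hK β⁻¹ * tH hK β) := by
          rw [← tH_mul, inv_mul_cancel, tH_one, mul_one]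
      _ = tW K m * tU m t u v * (tW K m * tH hK β⁻¹) * tH hK β := by group
      _ = tW K m * tU m t u v * (tH hK β * tW K m) * tH hK β := by
          rw [tW_tH hK β⁻¹, inv_inv]
      _ = _ := by group
  rw [e]
  refine mul_mem h (H_le_B (tH_mem_H hK _))

/-- The `(B, N)`-pair -/
noncomputable def tBN : BNPair (RT K m) where
  B := (chevG2.borelSubgroup K ⊓ twistedG2 K (3 ^ m)).subgroupOf (twistedG2 K (3 ^ m))
  N := (chevG2.monomialSubgroup K ⊓ twistedG2 K (3 ^ m)).subgroupOf (twistedG2 K (3 ^ m))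
  S := {tW K m}
  sup_eq_top := by
    rw [eq_top_iff]
    intro g _
    have hB : ∀ (g : RT K m), (g : GL chevG2.Idx K) ∈ chevG2.borelSubgroup K → g ∈ (chevG2.borelSubgroup K ⊓ twistedG2 K (3 ^ m)).subgroupOf (twistedG2 K (3 ^ m)) :=
      fun g hg => Subgroup.mem_subgroupOf.mpr (Subgroup.mem_inf.mpr ⟨hg, g.2⟩)
    rcases tcases hK g with ⟨t, u, v, β, rfl⟩ | ⟨t, u, v, β, t', u', v', rfl⟩
    · exact Subgroup.mem_sup_left (hB _ ((mem_B_iff hK _).mpr ⟨_, _, _, _, rfl⟩))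
    · refine mul_mem (mul_mem (Subgroup.mem_sup_left (hB _ ((mem_B_iff hK _).mpr ⟨_, _, _, _, rfl⟩))) (Subgroup.mem_sup_right ?_)) (Subgroup.mem_sup_left (hB _ ?_))
      · exact Subgroup.mem_subgroupOf.mpr (Subgroup.mem_inf.mpr ⟨tW_mem_N hK, (tW K m).2⟩)
      · exact U_le_B (tU_mem_U _ _ _)
  conj_mem := by
    intro n hn x hx
    have hn1 := (Subgroup.mem_inf.mp (Subgroup.mem_subgroupOf.mp hn)).1
    have hx1 := Subgroup.mem_inf.mp hx
    have hx2 : (x : GL chevG2.Idx K) ∈ chevG2.borelSubgroup K ⊓ chevG2.monomialSubgroup K :=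
      Subgroup.mem_inf.mpr ⟨(Subgroup.mem_inf.mp (Subgroup.mem_subgroupOf.mp hx1.1)).1, (Subgroup.mem_inf.mp (Subgroup.mem_subgroupOf.mp hx1.2)).1⟩
    rw [borel_inf_monomial TG2.checks TG2.checks2 TG2.checks3] at hx2
    obtain ⟨β, rfl⟩ := (mem_H_iff hK _).mp hx2
    have key : ∀ γ : Kˣ, n * tH hK β * n⁻¹ = tH hK γ → n * tH hK β * n⁻¹ ∈ (chevG2.borelSubgroup K ⊓ twistedG2 K (3 ^ m)).subgroupOf (twistedG2 K (3 ^ m)) := by
      intro γ e
      rw [e]
      exact Subgroup.mem_subgroupOf.mpr (Subgroup.mem_inf.mpr ⟨H_le_B (tH_mem_H hK _), (tH hK γ : RT K m).2⟩)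
    rcases (mem_N_iff hK n).mp hn1 with ⟨γ, rfl⟩ | ⟨γ, rfl⟩
    · apply key β
      rw [tH_inv, ← tH_mul, ← tH_mul, mul_comm γ β, mul_assoc, mul_inv_cancel, mul_one]
    · apply key β⁻¹
      have e1 := tW_conj_tH hK β
      calc tH hK γ * tW K m * tH hK β * (tH hK γ * tW K m)⁻¹ = tH hK γ * (tW K m * tH hK β * (tW K m)⁻¹) * (tH hK γ)⁻¹ := by group
        _ = tH hK β⁻¹ := by
          rw [e1, tH_inv, ← tH_mul, ← tH_mul, mul_comm γ β⁻¹, mul_assoc, mul_inv_cancel, mul_one]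
  subset := by
    rintro _ rfl
    exact Subgroup.mem_subgroupOf.mpr (Subgroup.mem_inf.mpr ⟨tW_mem_N hK, (tW K m).2⟩)
  sq_mem := by
    rintro _ rfl
    rw [tW_sq]
    exact one_mem _
  inj := by
    rintro _ rfl _ rfl _
    rfl
  closure_sup := by
    apply le_antisymm
    · refine sup_le ?_ inf_le_right
      rw [Subgroup.closure_le]
      rintro _ rfl
      exact Subgroup.mem_subgroupOf.mpr (Subgroup.mem_inf.mpr ⟨tW_mem_N hK, (tW K m).2⟩)
    · intro n hn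
      have hH : ∀ γ : Kˣ, tH hK γ ∈ (chevG2.borelSubgroup K ⊓ twistedG2 K (3 ^ m)).subgroupOf (twistedG2 K (3 ^ m)) ⊓ (chevG2.monomialSubgroup K ⊓ twistedG2 K (3 ^ m)).subgroupOf (twistedG2 K (3 ^ m)) := fun γ =>
        Subgroup.mem_inf.mpr ⟨Subgroup.mem_subgroupOf.mpr (Subgroup.mem_inf.mpr ⟨H_le_B (tH_mem_H hK _), (tH hK γ : RT K m).2⟩), Subgroup.mem_subgroupOf.mpr (Subgroup.mem_inf.mpr ⟨H_le_N (tH_mem_H hK _), (tH hK γ : RT K m).2⟩)⟩
      rcases (mem_N_iff hK n).mp (Subgroup.mem_inf.mp (Subgroup.mem_subgroupOf.mp hn)).1 with ⟨γ, rfl⟩ | ⟨γ, rfl⟩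
      · exact Subgroup.mem_sup_right (hH γ)
      · exact mul_mem (Subgroup.mem_sup_right (hH γ)) (Subgroup.mem_sup_left (Subgroup.subset_closure rfl))
  mul_mem_union := by
    rintro s rfl n hn b hb
    have hBm : ∀ (g : RT K m), (g : GL chevG2.Idx K) ∈ chevG2.borelSubgroup K → g ∈ (chevG2.borelSubgroup K ⊓ twistedG2 K (3 ^ m)).subgroupOf (twistedG2 K (3 ^ m)) :=
      fun g hg => Subgroup.mem_subgroupOf.mpr (Subgroup.mem_inf.mpr ⟨hg, g.2⟩)
    have hb1 := (Subgroup.mem_inf.mp (Subgroup.mem_subgroupOf.mp hb)).1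
    have hn1 := (Subgroup.mem_inf.mp (Subgroup.mem_subgroupOf.mp hn)).1
    rcases (mem_N_iff hK n).mp hn1 with ⟨γ, rfl⟩ | ⟨γ, rfl⟩
    · left
      rw [DoubleCoset.mem_doubleCoset]
      refine ⟨1, one_mem _, (tH hK γ)⁻¹ * b * tH hK γ, hBm _ ?_, by group⟩
      exact mul_mem (mul_mem (inv_mem (H_le_B (tH_mem_H hK _))) hb1) (H_le_B (tH_mem_H hK _))
    · rcases tcases hK (tW K m * b * (tH hK γ * tW K m)) with ⟨t, u, v, β, e⟩ | ⟨t, u, v, β, t', u', v', e⟩
      · left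
        rw [DoubleCoset.mem_doubleCoset]
        have e1 : tW K m * (tH hK γ * tW K m) = tH hK γ⁻¹ := by
          rw [← mul_assoc, tW_tH, mul_assoc, tW_sq, mul_one]
        refine ⟨tU m t u v * tH hK β * (tH hK γ⁻¹)⁻¹, hBm _ (mul_mem ((mem_B_iff hK _).mpr ⟨_, _, _, _, rfl⟩) (inv_mem (H_le_B (tH_mem_H hK _)))), 1, one_mem _, ?_⟩
        rw [e, e1]
        group
      · right
        rw [DoubleCoset.mem_doubleCoset]
        refine ⟨tU m t u v * tH hK β * (tH hK γ)⁻¹, hBm _ (mul_mem ((mem_B_iff hK _).mpr ⟨_, _, _, _, rfl⟩) (inv_mem (H_le_B (tH_mem_H hK _)))), tU m t' u' v', hBm _ (U_le_B (tU_mem_U _ _ _)), ?_⟩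
        rw [e]
        group
  conj_ne := by
    rintro s rfl h
    have h1 : tW K m * tU m (1 : K) 0 0 * tW K m ∈ (fun b : RT K m => tW K m * b * tW K m) '' (((chevG2.borelSubgroup K ⊓ twistedG2 K (3 ^ m)).subgroupOf (twistedG2 K (3 ^ m)) : Subgroup (RT K m)) : Set (RT K m)) :=
      ⟨_, Subgroup.mem_subgroupOf.mpr (Subgroup.mem_inf.mpr ⟨U_le_B (tU_mem_U _ _ _), (tU m (1 : K) 0 0 : RT K m).2⟩), rfl⟩
    rw [h] at h1
    have h2 := (Subgroup.mem_inf.mp (Subgroup.mem_subgroupOf.mp h1)).1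
    have h3 := tW_U_mem_B hK h2
    exact one_ne_zero h3.1

lemma tBN_B : (tBN hK).B = (chevG2.borelSubgroup K ⊓ twistedG2 K (3 ^ m)).subgroupOf (twistedG2 K (3 ^ m)) := rfl
lemma tBN_N : (tBN hK).N = (chevG2.monomialSubgroup K ⊓ twistedG2 K (3 ^ m)).subgroupOf (twistedG2 K (3 ^ m)) := rfl
lemma tBN_S : (tBN hK).S = {tW K m} := rfl

lemma mem_tB_iff (g : RT K m) : g ∈ (chevG2.borelSubgroup K ⊓ twistedG2 K (3 ^ m)).subgroupOf (twistedG2 K (3 ^ m)) ↔ ∃ t u v β, g = tU m t u v * tH hK β := by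
  constructor
  · intro h
    exact (mem_B_iff hK g).mp (Subgroup.mem_inf.mp (Subgroup.mem_subgroupOf.mp h)).1
  · intro h
    exact Subgroup.mem_subgroupOf.mpr (Subgroup.mem_inf.mpr ⟨(mem_B_iff hK g).mpr h, g.2⟩)

/-- the normal core of the Borel subgroup is trivial -/
theorem tcore : ((chevG2.borelSubgroup K ⊓ twistedG2 K (3 ^ m)).subgroupOf (twistedG2 K (3 ^ m))).normalCore = ⊥ := by
  rw [eq_bot_iff]
  intro x hx
  replace hx : ∀ b : RT K m, b * x * b⁻¹ ∈ (chevG2.borelSubgroup K ⊓ twistedG2 K (3 ^ m)).subgroupOf (twistedG2 K (3 ^ m)) := hx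
  have key : ∀ y : RT K m, (∀ b : RT K m, b * y * b⁻¹ ∈ (chevG2.borelSubgroup K ⊓ twistedG2 K (3 ^ m)).subgroupOf (twistedG2 K (3 ^ m))) → ∃ β, y = tH hK β := by
    intro y hy
    obtain ⟨t, u, v, β, rfl⟩ := (mem_tB_iff hK _).mp (by simpa using hy 1)
    have h1 := hy (tW K m)
    rw [tW_inv] at h1
    have h2 := tW_B_mem_B hK ((Subgroup.mem_inf.mp (Subgroup.mem_subgroupOf.mp h1)).1)
    obtain ⟨rfl, rfl, rfl⟩ := h2
    exact ⟨β, by rw [tU_zero, one_mul]⟩
  obtain ⟨β, rfl⟩ := key x hx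
  have h1 : ∃ γ, tU m (1 : K) 0 0 * tH hK β * (tU m (1 : K) 0 0)⁻¹ = tH hK γ := by
    apply key
    intro b
    have := hx (b * tU m (1 : K) 0 0)
    simpa [mul_assoc] using this
  obtain ⟨γ, e⟩ := h1
  -- compare the two expressions
  rw [tU_inv hK] at e
  have e1 := tH_conj hK β (-(1 : K)) (-0 - 1 * reeF K m 1 ^ 3) (-0 - 1 * 0 + 1 ^ 2 * reeF K m 1 ^ 3)
  rw [mul_inv_eq_iff_eq_mul] at e1
  rw [mul_assoc, e1, ← mul_assoc, tU_mul hK, ← one_mul (tH hK γ), ← tU_zero (m := m) (K := K)] at e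
  have e2 := (tB_inj hK e).1.1
  have e3 : (β : K) = 1 := by linear_combination -e2
  have e4 : β = 1 := Units.ext e3
  rw [e4, tH_one]
  exact one_mem _

end Cfsg.Agent.H10
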