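import Cfsg.Agent.Lib.H10.ReeM7
import Cfsg.Agent.Lib.H04.Chev.Word
import Cfsg.Prelude.Def_ChevG2

/-!
# The blocks of the root elements of `G₂` in characteristic three
-/

set_option autoImplicit false
set_option linter.style.longLine false
set_option linter.unusedSimpArgs false
set_option maxRecDepth 100000
set_option maxHeartbeats 1000000

open Cfsg Cfsg.Lie Cfsg.Agent.H04.Chev

namespace Cfsg.Agent.H10
variable {K : Type*} [Field K]

/-- coordinates of the ideal -/
def reeI : Fin 7 → chevG2.Idx := ![Sum.inr ⟨7, by decide⟩, Sum.inr ⟨8, by decide⟩, Sum.inr ⟨9, by decide⟩, Sum.inl ⟨0, by decide⟩, Sum.inr ⟨4, by decide⟩, Sum.inr ⟨3, by decide⟩, Sum.inr ⟨2, by decide⟩]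
/-- coordinates of the quotient by the ideal -/
def reeL : Fin 7 → chevG2.Idx := ![Sum.inr ⟨6, by decide⟩, Sum.inr ⟨10, by decide⟩, Sum.inr ⟨11, by decide⟩, Sum.inl ⟨1, by decide⟩, Sum.inr ⟨5, by decide⟩, Sum.inr ⟨1, by decide⟩, Sum.inr ⟨0, by decide⟩]
/-- codes of the ideal -/
def reeCI : Fin 7 → ℕ := ![7, 8, 9, 12, 4, 3, 2]
/-- codes of the quotient -/
def reeCL : Fin 7 → ℕ := ![6, 10, 11, 13, 5, 1, 0]
lemma code_reeI (i : Fin 7) : code chevG2 (reeI i) = reeCI i := by
  revert i; decide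
lemma code_reeL (i : Fin 7) : code chevG2 (reeL i) = reeCL i := by
  revert i; decide

theorem ree_x_entry {r : ℕ} (hr : r < chevG2.nroots) (t : K) (row col : chevG2.Idx) :
    chevG2.x K r t row col = (if code chevG2 col = code chevG2 row then 1 else 0) + colVal t (extraSpec chevG2 r (code chevG2 col)) (code chevG2 row) := by
  rw [x_eq_xMat chevG2 r hr t, xMat_entry]

/-- filtered column -/
def reeSym (r c k : ℕ) : List CT := (extraSpec chevG2 r c).filter (fun y => y.row = k)

lemma colVal_eq_sym (t : K) (r c k : ℕ) : colVal t (extraSpec chevG2 r c) k = ((reeSym r c k).map (fun y => y.val t)).sum := by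
  unfold reeSym colVal
  induction (extraSpec chevG2 r c) with
  | nil => simp
  | cons y ys ih =>
    by_cases h : y.row = k <;> simp [h, ih]

variable [CharP K 3]

/-- symbolic blocks of the root 0 -/
def reeTab0II : Fin 7 → Fin 7 → List CT :=
  ![![[], [], [], [], [], [], []],
    ![[], [], [], [], [], [], []],
    ![[], [], [], [], [], [], []],
    ![[], [], [], [], [], [], []],
    ![[], [], [], [], [], [], []],
    ![[], [], [⟨3, true, 1, 1⟩], [], [], [], []],
    ![[], [⟨2, false, 1, 1⟩], [], [], [], [], []]]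
def reeTab0LL : Fin 7 → Fin 7 → List CT :=
  ![![[], [], [], [], [], [], []],
    ![[], [], [], [], [], [], []],
    ![[], [], [], [], [], [], []],
    ![[], [], [⟨13, true, 2, 1⟩], [], [], [], []],
    ![[], [⟨5, true, 1, 1⟩], [], [], [], [], []],
    ![[⟨1, false, 1, 1⟩], [], [], [], [], [], []],
    ![[], [], [⟨0, true, 1, 2⟩], [⟨0, false, 1, 1⟩], [], [], []]]
def reeTab0LI : Fin 7 → Fin 7 → List CT :=
  ![![[], [], [], [], [], [], []],
    ![[], [], [], [], [], [], []],
    ![[], [], [], [], [], [], []],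
    ![[], [], [], [], [], [], []],
    ![[], [], [], [], [], [], []],
    ![[], [], [], [], [], [], []],
    ![[], [], [], [], [], [], []]]

lemma reeSym0II : ∀ i j : Fin 7, reeSym 0 (reeCI j) (reeCI i) = reeTab0II i j := by decide +kernel
lemma reeSym0LL : ∀ i j : Fin 7, reeSym 0 (reeCL j) (reeCL i) = reeTab0LL i j := by decide +kernel
lemma reeSym0LI : ∀ i j : Fin 7, reeSym 0 (reeCI j) (reeCL i) = reeTab0LI i j := by decide +kernel

theorem ree_x0_II (t : K) (i j : Fin 7) : chevG2.x K 0 t (reeI i) (reeI j) = m7maaabb t i j := by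
  rw [ree_x_entry (by decide), code_reeI, code_reeI, colVal_eq_sym, reeSym0II]
  have h3 : (3 : K) = 0 := ree_three
  have h2 : (2 : K) = -1 := by linear_combination h3
  fin_cases i <;> fin_cases j <;> simp [reeTab0II, reeCI, m7maaabb, CT.val, sv, h2, h3]

theorem ree_x0_LL (t : K) (i j : Fin 7) : chevG2.x K 0 t (reeL i) (reeL j) = m7maab (t ^ 1) i j := by
  rw [ree_x_entry (by decide), code_reeL, code_reeL, colVal_eq_sym, reeSym0LL]
  have h3 : (3 : K) = 0 := ree_three
  have h2 : (2 : K) = -1 := by linear_combination h3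
  fin_cases i <;> fin_cases j <;> simp [reeTab0LL, reeCL, m7maab, CT.val, sv, h2, h3, ← pow_mul]

theorem ree_x0_LI (t : K) (i j : Fin 7) : chevG2.x K 0 t (reeL i) (reeI j) = 0 := by
  rw [ree_x_entry (by decide), code_reeI, code_reeL, colVal_eq_sym, reeSym0LI]
  have h3 : (3 : K) = 0 := ree_three
  have h2 : (2 : K) = -1 := by linear_combination h3
  fin_cases i <;> fin_cases j <;> simp [reeTab0LI, reeCL, reeCI, CT.val, sv, h2, h3]

/-- symbolic blocks of the root 1 -/
def reeTab1II : Fin 7 → Fin 7 → List CT :=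
  ![![[], [], [], [], [], [], []],
    ![[], [], [], [], [], [], []],
    ![[], [], [], [], [], [], []],
    ![[], [], [], [], [], [], []],
    ![[], [], [⟨4, true, 1, 1⟩], [], [], [], []],
    ![[], [], [], [], [], [], []],
    ![[⟨2, false, 1, 1⟩], [], [], [], [], [], []]]
def reeTab1LL : Fin 7 → Fin 7 → List CT :=
  ![![[], [], [⟨6, true, 1, 1⟩], [], [], [], []],
    ![[], [], [], [], [], [], []],
    ![[], [], [], [], [], [], []],
    ![[], [⟨13, true, 1, 1⟩], [], [], [], [], []],
    ![[], [], [], [], [], [], []],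
    ![[], [⟨1, true, 1, 2⟩], [], [⟨1, true, 1, 1⟩], [], [], []],
    ![[], [], [], [], [⟨0, false, 1, 1⟩], [], []]]
def reeTab1LI : Fin 7 → Fin 7 → List CT :=
  ![![[], [], [], [], [], [], []],
    ![[], [], [], [], [], [], []],
    ![[], [], [], [], [], [], []],
    ![[], [], [], [], [], [], []],
    ![[], [], [], [], [], [], []],
    ![[], [], [], [⟨1, false, 3, 1⟩], [], [], []],
    ![[], [], [], [], [], [], []]]

lemma reeSym1II : ∀ i j : Fin 7, reeSym 1 (reeCI j) (reeCI i) = reeTab1II i j := by decide +kernel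
lemma reeSym1LL : ∀ i j : Fin 7, reeSym 1 (reeCL j) (reeCL i) = reeTab1LL i j := by decide +kernel
lemma reeSym1LI : ∀ i j : Fin 7, reeSym 1 (reeCI j) (reeCL i) = reeTab1LI i j := by decide +kernel

theorem ree_x1_II (t : K) (i j : Fin 7) : chevG2.x K 1 t (reeI i) (reeI j) = m7maaab t i j := by
  rw [ree_x_entry (by decide), code_reeI, code_reeI, colVal_eq_sym, reeSym1II]
  have h3 : (3 : K) = 0 := ree_three
  have h2 : (2 : K) = -1 := by linear_combination h3
  fin_cases i <;> fin_cases j <;> simp [reeTab1II, reeCI, m7maaab, CT.val, sv, h2, h3]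

theorem ree_x1_LL (t : K) (i j : Fin 7) : chevG2.x K 1 t (reeL i) (reeL j) = m7mab (t ^ 1) i j := by
  rw [ree_x_entry (by decide), code_reeL, code_reeL, colVal_eq_sym, reeSym1LL]
  have h3 : (3 : K) = 0 := ree_three
  have h2 : (2 : K) = -1 := by linear_combination h3
  fin_cases i <;> fin_cases j <;> simp [reeTab1LL, reeCL, m7mab, CT.val, sv, h2, h3, ← pow_mul]

theorem ree_x1_LI (t : K) (i j : Fin 7) : chevG2.x K 1 t (reeL i) (reeI j) = 0 := by
  rw [ree_x_entry (by decide), code_reeI, code_reeL, colVal_eq_sym, reeSym1LI]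
  have h3 : (3 : K) = 0 := ree_three
  have h2 : (2 : K) = -1 := by linear_combination h3
  fin_cases i <;> fin_cases j <;> simp [reeTab1LI, reeCL, reeCI, CT.val, sv, h2, h3]

/-- symbolic blocks of the root 2 -/
def reeTab2II : Fin 7 → Fin 7 → List CT :=
  ![![[], [], [], [], [], [], []],
    ![[], [], [], [], [], [], []],
    ![[], [], [], [], [], [], []],
    ![[], [], [⟨12, true, 2, 1⟩], [], [], [], []],
    ![[], [⟨4, false, 2, 1⟩], [], [], [], [], []],
    ![[⟨3, true, 2, 1⟩], [], [], [], [], [], []],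
    ![[], [], [⟨2, true, 1, 2⟩], [⟨2, false, 1, 1⟩], [], [], []]]
def reeTab2LL : Fin 7 → Fin 7 → List CT :=
  ![![[], [], [], [], [], [], []],
    ![[], [], [], [], [], [], []],
    ![[], [], [], [], [], [], []],
    ![[], [], [], [], [], [], []],
    ![[], [], [], [], [], [], []],
    ![[], [], [⟨1, true, 1, 3⟩], [], [], [], []],
    ![[], [⟨0, false, 1, 3⟩], [], [], [], [], []]]
def reeTab2LI : Fin 7 → Fin 7 → List CT :=
  ![![[], [], [], [], [], [], []],
    ![[], [], [], [], [], [], []],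
    ![[], [], [], [], [], [], []],
    ![[], [], [⟨13, true, 3, 1⟩], [], [], [], []],
    ![[], [], [], [], [], [], []],
    ![[], [⟨1, false, 3, 2⟩], [], [], [⟨1, false, 3, 1⟩], [], []],
    ![[⟨0, true, 3, 2⟩], [], [], [], [], [⟨0, false, 3, 1⟩], []]]

lemma reeSym2II : ∀ i j : Fin 7, reeSym 2 (reeCI j) (reeCI i) = reeTab2II i j := by decide +kernel
lemma reeSym2LL : ∀ i j : Fin 7, reeSym 2 (reeCL j) (reeCL i) = reeTab2LL i j := by decide +kernel
lemma reeSym2LI : ∀ i j : Fin 7, reeSym 2 (reeCI j) (reeCL i) = reeTab2LI i j := by decide +kernel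

theorem ree_x2_II (t : K) (i j : Fin 7) : chevG2.x K 2 t (reeI i) (reeI j) = m7maab t i j := by
  rw [ree_x_entry (by decide), code_reeI, code_reeI, colVal_eq_sym, reeSym2II]
  have h3 : (3 : K) = 0 := ree_three
  have h2 : (2 : K) = -1 := by linear_combination h3
  fin_cases i <;> fin_cases j <;> simp [reeTab2II, reeCI, m7maab, CT.val, sv, h2, h3]

theorem ree_x2_LL (t : K) (i j : Fin 7) : chevG2.x K 2 t (reeL i) (reeL j) = m7maaabb (t ^ 3) i j := by
  rw [ree_x_entry (by decide), code_reeL, code_reeL, colVal_eq_sym, reeSym2LL]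
  have h3 : (3 : K) = 0 := ree_three
  have h2 : (2 : K) = -1 := by linear_combination h3
  fin_cases i <;> fin_cases j <;> simp [reeTab2LL, reeCL, m7maaabb, CT.val, sv, h2, h3, ← pow_mul]

theorem ree_x2_LI (t : K) (i j : Fin 7) : chevG2.x K 2 t (reeL i) (reeI j) = 0 := by
  rw [ree_x_entry (by decide), code_reeI, code_reeL, colVal_eq_sym, reeSym2LI]
  have h3 : (3 : K) = 0 := ree_three
  have h2 : (2 : K) = -1 := by linear_combination h3
  fin_cases i <;> fin_cases j <;> simp [reeTab2LI, reeCL, reeCI, CT.val, sv, h2, h3]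

/-- symbolic blocks of the root 3 -/
def reeTab3II : Fin 7 → Fin 7 → List CT :=
  ![![[], [], [⟨7, false, 2, 1⟩], [], [], [], []],
    ![[], [], [], [], [], [], []],
    ![[], [], [], [], [], [], []],
    ![[], [⟨12, true, 1, 1⟩], [], [], [], [], []],
    ![[], [], [], [], [], [], []],
    ![[], [⟨3, true, 1, 2⟩], [], [⟨3, true, 1, 1⟩], [], [], []],
    ![[], [], [], [], [⟨2, true, 2, 1⟩], [], []]]
def reeTab3LL : Fin 7 → Fin 7 → List CT :=
  ![![[], [], [], [], [], [], []],
    ![[], [], [], [], [], [], []],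
    ![[], [], [], [], [], [], []],
    ![[], [], [], [], [], [], []],
    ![[], [], [⟨5, true, 1, 3⟩], [], [], [], []],
    ![[], [], [], [], [], [], []],
    ![[⟨0, false, 1, 3⟩], [], [], [], [], [], []]]
def reeTab3LI : Fin 7 → Fin 7 → List CT :=
  ![![[], [], [], [], [], [], []],
    ![[], [], [], [], [], [], []],
    ![[], [], [], [], [], [], []],
    ![[], [⟨13, true, 3, 1⟩], [], [], [], [], []],
    ![[⟨5, true, 3, 1⟩], [], [⟨5, true, 3, 2⟩], [], [], [], []],
    ![[], [], [], [], [], [], []],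
    ![[], [], [], [], [⟨0, false, 3, 2⟩], [], [⟨0, true, 3, 1⟩]]]

lemma reeSym3II : ∀ i j : Fin 7, reeSym 3 (reeCI j) (reeCI i) = reeTab3II i j := by decide +kernel
lemma reeSym3LL : ∀ i j : Fin 7, reeSym 3 (reeCL j) (reeCL i) = reeTab3LL i j := by decide +kernel
lemma reeSym3LI : ∀ i j : Fin 7, reeSym 3 (reeCI j) (reeCL i) = reeTab3LI i j := by decide +kernel

theorem ree_x3_II (t : K) (i j : Fin 7) : chevG2.x K 3 t (reeI i) (reeI j) = m7mab t i j := by
  rw [ree_x_entry (by decide), code_reeI, code_reeI, colVal_eq_sym, reeSym3II]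
  have h3 : (3 : K) = 0 := ree_three
  have h2 : (2 : K) = -1 := by linear_combination h3
  fin_cases i <;> fin_cases j <;> simp [reeTab3II, reeCI, m7mab, CT.val, sv, h2, h3]

theorem ree_x3_LL (t : K) (i j : Fin 7) : chevG2.x K 3 t (reeL i) (reeL j) = m7maaab (t ^ 3) i j := by
  rw [ree_x_entry (by decide), code_reeL, code_reeL, colVal_eq_sym, reeSym3LL]
  have h3 : (3 : K) = 0 := ree_three
  have h2 : (2 : K) = -1 := by linear_combination h3
  fin_cases i <;> fin_cases j <;> simp [reeTab3LL, reeCL, m7maaab, CT.val, sv, h2, h3, ← pow_mul]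

theorem ree_x3_LI (t : K) (i j : Fin 7) : chevG2.x K 3 t (reeL i) (reeI j) = 0 := by
  rw [ree_x_entry (by decide), code_reeI, code_reeL, colVal_eq_sym, reeSym3LI]
  have h3 : (3 : K) = 0 := ree_three
  have h2 : (2 : K) = -1 := by linear_combination h3
  fin_cases i <;> fin_cases j <;> simp [reeTab3LI, reeCL, reeCI, CT.val, sv, h2, h3]

/-- symbolic blocks of the root 4 -/
def reeTab4II : Fin 7 → Fin 7 → List CT :=
  ![![[], [], [], [], [], [], []],
    ![[], [], [⟨8, true, 2, 1⟩], [], [], [], []],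
    ![[], [], [], [], [], [], []],
    ![[⟨12, true, 1, 1⟩], [], [], [], [], [], []],
    ![[⟨4, true, 1, 2⟩], [], [], [⟨4, false, 2, 1⟩], [], [], []],
    ![[], [], [], [], [], [], []],
    ![[], [], [], [], [], [⟨2, false, 2, 1⟩], []]]
def reeTab4LL : Fin 7 → Fin 7 → List CT :=
  ![![[], [⟨6, false, 1, 3⟩], [], [], [], [], []],
    ![[], [], [], [], [], [], []],
    ![[], [], [], [], [], [], []],
    ![[], [], [], [], [], [], []],
    ![[], [], [], [], [], [], []],
    ![[], [], [], [], [⟨1, true, 1, 3⟩], [], []],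
    ![[], [], [], [], [], [], []]]
def reeTab4LI : Fin 7 → Fin 7 → List CT :=
  ![![[], [⟨6, true, 3, 1⟩], [⟨6, false, 3, 2⟩], [], [], [], []],
    ![[], [], [], [], [], [], []],
    ![[], [], [], [], [], [], []],
    ![[], [], [], [], [], [], []],
    ![[], [], [], [], [], [], []],
    ![[], [], [], [], [], [⟨1, true, 3, 2⟩], [⟨1, true, 3, 1⟩]],
    ![[], [], [], [], [], [], []]]

lemma reeSym4II : ∀ i j : Fin 7, reeSym 4 (reeCI j) (reeCI i) = reeTab4II i j := by decide +kernel
lemma reeSym4LL : ∀ i j : Fin 7, reeSym 4 (reeCL j) (reeCL i) = reeTab4LL i j := by decide +kernel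
lemma reeSym4LI : ∀ i j : Fin 7, reeSym 4 (reeCI j) (reeCL i) = reeTab4LI i j := by decide +kernel

theorem ree_x4_II (t : K) (i j : Fin 7) : chevG2.x K 4 t (reeI i) (reeI j) = m7ma t i j := by
  rw [ree_x_entry (by decide), code_reeI, code_reeI, colVal_eq_sym, reeSym4II]
  have h3 : (3 : K) = 0 := ree_three
  have h2 : (2 : K) = -1 := by linear_combination h3
  fin_cases i <;> fin_cases j <;> simp [reeTab4II, reeCI, m7ma, CT.val, sv, h2, h3]

theorem ree_x4_LL (t : K) (i j : Fin 7) : chevG2.x K 4 t (reeL i) (reeL j) = m7mb (t ^ 3) i j := by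
  rw [ree_x_entry (by decide), code_reeL, code_reeL, colVal_eq_sym, reeSym4LL]
  have h3 : (3 : K) = 0 := ree_three
  have h2 : (2 : K) = -1 := by linear_combination h3
  fin_cases i <;> fin_cases j <;> simp [reeTab4LL, reeCL, m7mb, CT.val, sv, h2, h3, ← pow_mul]

theorem ree_x4_LI (t : K) (i j : Fin 7) : chevG2.x K 4 t (reeL i) (reeI j) = 0 := by
  rw [ree_x_entry (by decide), code_reeI, code_reeL, colVal_eq_sym, reeSym4LI]
  have h3 : (3 : K) = 0 := ree_three
  have h2 : (2 : K) = -1 := by linear_combination h3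
  fin_cases i <;> fin_cases j <;> simp [reeTab4LI, reeCL, reeCI, CT.val, sv, h2, h3]

/-- symbolic blocks of the root 5 -/
def reeTab5II : Fin 7 → Fin 7 → List CT :=
  ![![[], [⟨7, false, 1, 1⟩], [], [], [], [], []],
    ![[], [], [], [], [], [], []],
    ![[], [], [], [], [], [], []],
    ![[], [], [], [], [], [], []],
    ![[], [], [], [], [], [], []],
    ![[], [], [], [], [⟨3, true, 1, 1⟩], [], []],
    ![[], [], [], [], [], [], []]]
def reeTab5LL : Fin 7 → Fin 7 → List CT :=
  ![![[], [], [], [], [], [], []],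
    ![[], [], [⟨10, false, 1, 1⟩], [], [], [], []],
    ![[], [], [], [], [], [], []],
    ![[⟨13, true, 1, 1⟩], [], [], [], [], [], []],
    ![[⟨5, true, 1, 2⟩], [], [], [⟨5, false, 2, 1⟩], [], [], []],
    ![[], [], [], [], [], [], []],
    ![[], [], [], [], [], [⟨0, true, 1, 1⟩], []]]
def reeTab5LI : Fin 7 → Fin 7 → List CT :=
  ![![[], [], [], [], [], [], []],
    ![[], [], [], [], [], [], []],
    ![[], [], [], [], [], [], []],
    ![[], [], [], [], [], [], []],
    ![[], [], [], [⟨5, true, 3, 1⟩], [], [], []],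
    ![[], [], [], [], [], [], []],
    ![[], [], [], [], [], [], []]]

lemma reeSym5II : ∀ i j : Fin 7, reeSym 5 (reeCI j) (reeCI i) = reeTab5II i j := by decide +kernel
lemma reeSym5LL : ∀ i j : Fin 7, reeSym 5 (reeCL j) (reeCL i) = reeTab5LL i j := by decide +kernel
lemma reeSym5LI : ∀ i j : Fin 7, reeSym 5 (reeCI j) (reeCL i) = reeTab5LI i j := by decide +kernel

theorem ree_x5_II (t : K) (i j : Fin 7) : chevG2.x K 5 t (reeI i) (reeI j) = m7mb t i j := by
  rw [ree_x_entry (by decide), code_reeI, code_reeI, colVal_eq_sym, reeSym5II]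
  have h3 : (3 : K) = 0 := ree_three
  have h2 : (2 : K) = -1 := by linear_combination h3
  fin_cases i <;> fin_cases j <;> simp [reeTab5II, reeCI, m7mb, CT.val, sv, h2, h3]

theorem ree_x5_LL (t : K) (i j : Fin 7) : chevG2.x K 5 t (reeL i) (reeL j) = m7ma (t ^ 1) i j := by
  rw [ree_x_entry (by decide), code_reeL, code_reeL, colVal_eq_sym, reeSym5LL]
  have h3 : (3 : K) = 0 := ree_three
  have h2 : (2 : K) = -1 := by linear_combination h3
  fin_cases i <;> fin_cases j <;> simp [reeTab5LL, reeCL, m7ma, CT.val, sv, h2, h3, ← pow_mul]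

theorem ree_x5_LI (t : K) (i j : Fin 7) : chevG2.x K 5 t (reeL i) (reeI j) = 0 := by
  rw [ree_x_entry (by decide), code_reeI, code_reeL, colVal_eq_sym, reeSym5LI]
  have h3 : (3 : K) = 0 := ree_three
  have h2 : (2 : K) = -1 := by linear_combination h3
  fin_cases i <;> fin_cases j <;> simp [reeTab5LI, reeCL, reeCI, CT.val, sv, h2, h3]

/-- symbolic blocks of the root 6 -/
def reeTab6II : Fin 7 → Fin 7 → List CT :=
  ![![[], [], [], [], [], [], []],
    ![[⟨8, false, 1, 1⟩], [], [], [], [], [], []],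
    ![[], [], [], [], [], [], []],
    ![[], [], [], [], [], [], []],
    ![[], [], [], [], [], [⟨4, true, 1, 1⟩], []],
    ![[], [], [], [], [], [], []],
    ![[], [], [], [], [], [], []]]
def reeTab6LL : Fin 7 → Fin 7 → List CT :=
  ![![[], [], [], [⟨6, true, 2, 1⟩], [⟨6, true, 1, 2⟩], [], []],
    ![[], [], [], [], [], [], []],
    ![[], [⟨11, false, 1, 1⟩], [], [], [], [], []],
    ![[], [], [], [], [⟨13, false, 1, 1⟩], [], []],
    ![[], [], [], [], [], [], []],
    ![[], [], [], [], [], [], [⟨1, true, 1, 1⟩]],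
    ![[], [], [], [], [], [], []]]
def reeTab6LI : Fin 7 → Fin 7 → List CT :=
  ![![[], [], [], [⟨6, false, 3, 1⟩], [], [], []],
    ![[], [], [], [], [], [], []],
    ![[], [], [], [], [], [], []],
    ![[], [], [], [], [], [], []],
    ![[], [], [], [], [], [], []],
    ![[], [], [], [], [], [], []],
    ![[], [], [], [], [], [], []]]

lemma reeSym6II : ∀ i j : Fin 7, reeSym 6 (reeCI j) (reeCI i) = reeTab6II i j := by decide +kernel
lemma reeSym6LL : ∀ i j : Fin 7, reeSym 6 (reeCL j) (reeCL i) = reeTab6LL i j := by decide +kernel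
lemma reeSym6LI : ∀ i j : Fin 7, reeSym 6 (reeCI j) (reeCL i) = reeTab6LI i j := by decide +kernel

theorem ree_x6_II (t : K) (i j : Fin 7) : chevG2.x K 6 t (reeI i) (reeI j) = m7b t i j := by
  rw [ree_x_entry (by decide), code_reeI, code_reeI, colVal_eq_sym, reeSym6II]
  have h3 : (3 : K) = 0 := ree_three
  have h2 : (2 : K) = -1 := by linear_combination h3
  fin_cases i <;> fin_cases j <;> simp [reeTab6II, reeCI, m7b, CT.val, sv, h2, h3]

theorem ree_x6_LL (t : K) (i j : Fin 7) : chevG2.x K 6 t (reeL i) (reeL j) = m7a (t ^ 1) i j := by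
  rw [ree_x_entry (by decide), code_reeL, code_reeL, colVal_eq_sym, reeSym6LL]
  have h3 : (3 : K) = 0 := ree_three
  have h2 : (2 : K) = -1 := by linear_combination h3
  fin_cases i <;> fin_cases j <;> simp [reeTab6LL, reeCL, m7a, CT.val, sv, h2, h3, ← pow_mul]

theorem ree_x6_LI (t : K) (i j : Fin 7) : chevG2.x K 6 t (reeL i) (reeI j) = 0 := by
  rw [ree_x_entry (by decide), code_reeI, code_reeL, colVal_eq_sym, reeSym6LI]
  have h3 : (3 : K) = 0 := ree_three
  have h2 : (2 : K) = -1 := by linear_combination h3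
  fin_cases i <;> fin_cases j <;> simp [reeTab6LI, reeCL, reeCI, CT.val, sv, h2, h3]

/-- symbolic blocks of the root 7 -/
def reeTab7II : Fin 7 → Fin 7 → List CT :=
  ![![[], [], [], [⟨7, true, 2, 1⟩], [⟨7, true, 1, 2⟩], [], []],
    ![[], [], [], [], [], [], []],
    ![[], [⟨9, true, 2, 1⟩], [], [], [], [], []],
    ![[], [], [], [], [⟨12, false, 1, 1⟩], [], []],
    ![[], [], [], [], [], [], []],
    ![[], [], [], [], [], [], [⟨3, false, 2, 1⟩]],
    ![[], [], [], [], [], [], []]]
def reeTab7LL : Fin 7 → Fin 7 → List CT :=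
  ![![[], [], [], [], [], [], []],
    ![[⟨10, false, 1, 3⟩], [], [], [], [], [], []],
    ![[], [], [], [], [], [], []],
    ![[], [], [], [], [], [], []],
    ![[], [], [], [], [], [⟨5, true, 1, 3⟩], []],
    ![[], [], [], [], [], [], []],
    ![[], [], [], [], [], [], []]]
def reeTab7LI : Fin 7 → Fin 7 → List CT :=
  ![![[], [], [], [], [], [], []],
    ![[], [⟨10, true, 3, 2⟩], [⟨10, false, 3, 1⟩], [], [], [], []],
    ![[], [], [], [], [], [], []],
    ![[], [], [], [], [], [], []],
    ![[], [], [], [], [], [⟨5, false, 3, 1⟩], [⟨5, false, 3, 2⟩]],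
    ![[], [], [], [], [], [], []],
    ![[], [], [], [], [], [], []]]

lemma reeSym7II : ∀ i j : Fin 7, reeSym 7 (reeCI j) (reeCI i) = reeTab7II i j := by decide +kernel
lemma reeSym7LL : ∀ i j : Fin 7, reeSym 7 (reeCL j) (reeCL i) = reeTab7LL i j := by decide +kernel
lemma reeSym7LI : ∀ i j : Fin 7, reeSym 7 (reeCI j) (reeCL i) = reeTab7LI i j := by decide +kernel

theorem ree_x7_II (t : K) (i j : Fin 7) : chevG2.x K 7 t (reeI i) (reeI j) = m7a t i j := by
  rw [ree_x_entry (by decide), code_reeI, code_reeI, colVal_eq_sym, reeSym7II]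
  have h3 : (3 : K) = 0 := ree_three
  have h2 : (2 : K) = -1 := by linear_combination h3
  fin_cases i <;> fin_cases j <;> simp [reeTab7II, reeCI, m7a, CT.val, sv, h2, h3]

theorem ree_x7_LL (t : K) (i j : Fin 7) : chevG2.x K 7 t (reeL i) (reeL j) = m7b (t ^ 3) i j := by
  rw [ree_x_entry (by decide), code_reeL, code_reeL, colVal_eq_sym, reeSym7LL]
  have h3 : (3 : K) = 0 := ree_three
  have h2 : (2 : K) = -1 := by linear_combination h3
  fin_cases i <;> fin_cases j <;> simp [reeTab7LL, reeCL, m7b, CT.val, sv, h2, h3, ← pow_mul]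

theorem ree_x7_LI (t : K) (i j : Fin 7) : chevG2.x K 7 t (reeL i) (reeI j) = 0 := by
  rw [ree_x_entry (by decide), code_reeI, code_reeL, colVal_eq_sym, reeSym7LI]
  have h3 : (3 : K) = 0 := ree_three
  have h2 : (2 : K) = -1 := by linear_combination h3
  fin_cases i <;> fin_cases j <;> simp [reeTab7LI, reeCL, reeCI, CT.val, sv, h2, h3]

/-- symbolic blocks of the root 8 -/
def reeTab8II : Fin 7 → Fin 7 → List CT :=
  ![![[], [], [], [], [], [], []],
    ![[], [], [], [⟨8, false, 1, 1⟩], [], [⟨8, true, 1, 2⟩], []],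
    ![[⟨9, false, 2, 1⟩], [], [], [], [], [], []],
    ![[], [], [], [], [], [⟨12, false, 1, 1⟩], []],
    ![[], [], [], [], [], [], [⟨4, true, 2, 1⟩]],
    ![[], [], [], [], [], [], []],
    ![[], [], [], [], [], [], []]]
def reeTab8LL : Fin 7 → Fin 7 → List CT :=
  ![![[], [], [], [], [], [], [⟨6, false, 1, 3⟩]],
    ![[], [], [], [], [], [], []],
    ![[], [], [], [], [⟨11, true, 1, 3⟩], [], []],
    ![[], [], [], [], [], [], []],
    ![[], [], [], [], [], [], []],
    ![[], [], [], [], [], [], []],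
    ![[], [], [], [], [], [], []]]
def reeTab8LI : Fin 7 → Fin 7 → List CT :=
  ![![[], [], [], [], [⟨6, false, 3, 1⟩], [], [⟨6, true, 3, 2⟩]],
    ![[], [], [], [], [], [], []],
    ![[⟨11, false, 3, 2⟩], [], [⟨11, false, 3, 1⟩], [], [], [], []],
    ![[], [], [], [], [], [⟨13, false, 3, 1⟩], []],
    ![[], [], [], [], [], [], []],
    ![[], [], [], [], [], [], []],
    ![[], [], [], [], [], [], []]]

lemma reeSym8II : ∀ i j : Fin 7, reeSym 8 (reeCI j) (reeCI i) = reeTab8II i j := by decide +kernel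
lemma reeSym8LL : ∀ i j : Fin 7, reeSym 8 (reeCL j) (reeCL i) = reeTab8LL i j := by decide +kernel
lemma reeSym8LI : ∀ i j : Fin 7, reeSym 8 (reeCI j) (reeCL i) = reeTab8LI i j := by decide +kernel

theorem ree_x8_II (t : K) (i j : Fin 7) : chevG2.x K 8 t (reeI i) (reeI j) = m7ab t i j := by
  rw [ree_x_entry (by decide), code_reeI, code_reeI, colVal_eq_sym, reeSym8II]
  have h3 : (3 : K) = 0 := ree_three
  have h2 : (2 : K) = -1 := by linear_combination h3
  fin_cases i <;> fin_cases j <;> simp [reeTab8II, reeCI, m7ab, CT.val, sv, h2, h3]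

theorem ree_x8_LL (t : K) (i j : Fin 7) : chevG2.x K 8 t (reeL i) (reeL j) = m7aaab (t ^ 3) i j := by
  rw [ree_x_entry (by decide), code_reeL, code_reeL, colVal_eq_sym, reeSym8LL]
  have h3 : (3 : K) = 0 := ree_three
  have h2 : (2 : K) = -1 := by linear_combination h3
  fin_cases i <;> fin_cases j <;> simp [reeTab8LL, reeCL, m7aaab, CT.val, sv, h2, h3, ← pow_mul]

theorem ree_x8_LI (t : K) (i j : Fin 7) : chevG2.x K 8 t (reeL i) (reeI j) = 0 := by
  rw [ree_x_entry (by decide), code_reeI, code_reeL, colVal_eq_sym, reeSym8LI]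
  have h3 : (3 : K) = 0 := ree_three
  have h2 : (2 : K) = -1 := by linear_combination h3
  fin_cases i <;> fin_cases j <;> simp [reeTab8LI, reeCL, reeCI, CT.val, sv, h2, h3]

/-- symbolic blocks of the root 9 -/
def reeTab9II : Fin 7 → Fin 7 → List CT :=
  ![![[], [], [], [], [], [⟨7, true, 2, 1⟩], []],
    ![[], [], [], [], [⟨8, false, 2, 1⟩], [], []],
    ![[], [], [], [⟨9, true, 1, 1⟩], [], [], [⟨9, true, 1, 2⟩]],
    ![[], [], [], [], [], [], [⟨12, false, 2, 1⟩]],
    ![[], [], [], [], [], [], []],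
    ![[], [], [], [], [], [], []],
    ![[], [], [], [], [], [], []]]
def reeTab9LL : Fin 7 → Fin 7 → List CT :=
  ![![[], [], [], [], [], [], []],
    ![[], [], [], [], [], [], [⟨10, false, 1, 3⟩]],
    ![[], [], [], [], [], [⟨11, true, 1, 3⟩], []],
    ![[], [], [], [], [], [], []],
    ![[], [], [], [], [], [], []],
    ![[], [], [], [], [], [], []],
    ![[], [], [], [], [], [], []]]
def reeTab9LI : Fin 7 → Fin 7 → List CT :=
  ![![[], [], [], [], [], [], []],
    ![[⟨10, true, 3, 1⟩], [], [], [], [], [⟨10, false, 3, 2⟩], []],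
    ![[], [⟨11, true, 3, 1⟩], [], [], [⟨11, true, 3, 2⟩], [], []],
    ![[], [], [], [], [], [], [⟨13, false, 3, 1⟩]],
    ![[], [], [], [], [], [], []],
    ![[], [], [], [], [], [], []],
    ![[], [], [], [], [], [], []]]

lemma reeSym9II : ∀ i j : Fin 7, reeSym 9 (reeCI j) (reeCI i) = reeTab9II i j := by decide +kernel
lemma reeSym9LL : ∀ i j : Fin 7, reeSym 9 (reeCL j) (reeCL i) = reeTab9LL i j := by decide +kernel
lemma reeSym9LI : ∀ i j : Fin 7, reeSym 9 (reeCI j) (reeCL i) = reeTab9LI i j := by decide +kernel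

theorem ree_x9_II (t : K) (i j : Fin 7) : chevG2.x K 9 t (reeI i) (reeI j) = m7aab t i j := by
  rw [ree_x_entry (by decide), code_reeI, code_reeI, colVal_eq_sym, reeSym9II]
  have h3 : (3 : K) = 0 := ree_three
  have h2 : (2 : K) = -1 := by linear_combination h3
  fin_cases i <;> fin_cases j <;> simp [reeTab9II, reeCI, m7aab, CT.val, sv, h2, h3]

theorem ree_x9_LL (t : K) (i j : Fin 7) : chevG2.x K 9 t (reeL i) (reeL j) = m7aaabb (t ^ 3) i j := by
  rw [ree_x_entry (by decide), code_reeL, code_reeL, colVal_eq_sym, reeSym9LL]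
  have h3 : (3 : K) = 0 := ree_three
  have h2 : (2 : K) = -1 := by linear_combination h3
  fin_cases i <;> fin_cases j <;> simp [reeTab9LL, reeCL, m7aaabb, CT.val, sv, h2, h3, ← pow_mul]

theorem ree_x9_LI (t : K) (i j : Fin 7) : chevG2.x K 9 t (reeL i) (reeI j) = 0 := by
  rw [ree_x_entry (by decide), code_reeI, code_reeL, colVal_eq_sym, reeSym9LI]
  have h3 : (3 : K) = 0 := ree_three
  have h2 : (2 : K) = -1 := by linear_combination h3
  fin_cases i <;> fin_cases j <;> simp [reeTab9LI, reeCL, reeCI, CT.val, sv, h2, h3]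

/-- symbolic blocks of the root 10 -/
def reeTab10II : Fin 7 → Fin 7 → List CT :=
  ![![[], [], [], [], [], [], [⟨7, false, 1, 1⟩]],
    ![[], [], [], [], [], [], []],
    ![[], [], [], [], [⟨9, true, 1, 1⟩], [], []],
    ![[], [], [], [], [], [], []],
    ![[], [], [], [], [], [], []],
    ![[], [], [], [], [], [], []],
    ![[], [], [], [], [], [], []]]
def reeTab10LL : Fin 7 → Fin 7 → List CT :=
  ![![[], [], [], [], [], [], []],
    ![[], [], [], [⟨10, false, 1, 1⟩], [], [⟨10, true, 1, 2⟩], []],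
    ![[⟨11, true, 1, 1⟩], [], [], [], [], [], []],
    ![[], [], [], [], [], [⟨13, false, 1, 1⟩], []],
    ![[], [], [], [], [], [], [⟨5, false, 1, 1⟩]],
    ![[], [], [], [], [], [], []],
    ![[], [], [], [], [], [], []]]
def reeTab10LI : Fin 7 → Fin 7 → List CT :=
  ![![[], [], [], [], [], [], []],
    ![[], [], [], [⟨10, true, 3, 1⟩], [], [], []],
    ![[], [], [], [], [], [], []],
    ![[], [], [], [], [], [], []],
    ![[], [], [], [], [], [], []],
    ![[], [], [], [], [], [], []],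
    ![[], [], [], [], [], [], []]]

lemma reeSym10II : ∀ i j : Fin 7, reeSym 10 (reeCI j) (reeCI i) = reeTab10II i j := by decide +kernel
lemma reeSym10LL : ∀ i j : Fin 7, reeSym 10 (reeCL j) (reeCL i) = reeTab10LL i j := by decide +kernel
lemma reeSym10LI : ∀ i j : Fin 7, reeSym 10 (reeCI j) (reeCL i) = reeTab10LI i j := by decide +kernel

theorem ree_x10_II (t : K) (i j : Fin 7) : chevG2.x K 10 t (reeI i) (reeI j) = m7aaab t i j := by
  rw [ree_x_entry (by decide), code_reeI, code_reeI, colVal_eq_sym, reeSym10II]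
  have h3 : (3 : K) = 0 := ree_three
  have h2 : (2 : K) = -1 := by linear_combination h3
  fin_cases i <;> fin_cases j <;> simp [reeTab10II, reeCI, m7aaab, CT.val, sv, h2, h3]

theorem ree_x10_LL (t : K) (i j : Fin 7) : chevG2.x K 10 t (reeL i) (reeL j) = m7ab (t ^ 1) i j := by
  rw [ree_x_entry (by decide), code_reeL, code_reeL, colVal_eq_sym, reeSym10LL]
  have h3 : (3 : K) = 0 := ree_three
  have h2 : (2 : K) = -1 := by linear_combination h3
  fin_cases i <;> fin_cases j <;> simp [reeTab10LL, reeCL, m7ab, CT.val, sv, h2, h3, ← pow_mul]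

theorem ree_x10_LI (t : K) (i j : Fin 7) : chevG2.x K 10 t (reeL i) (reeI j) = 0 := by
  rw [ree_x_entry (by decide), code_reeI, code_reeL, colVal_eq_sym, reeSym10LI]
  have h3 : (3 : K) = 0 := ree_three
  have h2 : (2 : K) = -1 := by linear_combination h3
  fin_cases i <;> fin_cases j <;> simp [reeTab10LI, reeCL, reeCI, CT.val, sv, h2, h3]

/-- symbolic blocks of the root 11 -/
def reeTab11II : Fin 7 → Fin 7 → List CT :=
  ![![[], [], [], [], [], [], []],
    ![[], [], [], [], [], [], [⟨8, false, 1, 1⟩]],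
    ![[], [], [], [], [], [⟨9, true, 1, 1⟩], []],
    ![[], [], [], [], [], [], []],
    ![[], [], [], [], [], [], []],
    ![[], [], [], [], [], [], []],
    ![[], [], [], [], [], [], []]]
def reeTab11LL : Fin 7 → Fin 7 → List CT :=
  ![![[], [], [], [], [], [⟨6, false, 1, 1⟩], []],
    ![[], [], [], [], [⟨10, true, 1, 1⟩], [], []],
    ![[], [], [], [⟨11, true, 1, 1⟩], [], [], [⟨11, true, 1, 2⟩]],
    ![[], [], [], [], [], [], [⟨13, false, 2, 1⟩]],
    ![[], [], [], [], [], [], []],
    ![[], [], [], [], [], [], []],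
    ![[], [], [], [], [], [], []]]
def reeTab11LI : Fin 7 → Fin 7 → List CT :=
  ![![[], [], [], [], [], [], []],
    ![[], [], [], [], [], [], []],
    ![[], [], [], [], [], [], []],
    ![[], [], [], [], [], [], []],
    ![[], [], [], [], [], [], []],
    ![[], [], [], [], [], [], []],
    ![[], [], [], [], [], [], []]]

lemma reeSym11II : ∀ i j : Fin 7, reeSym 11 (reeCI j) (reeCI i) = reeTab11II i j := by decide +kernel
lemma reeSym11LL : ∀ i j : Fin 7, reeSym 11 (reeCL j) (reeCL i) = reeTab11LL i j := by decide +kernel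
lemma reeSym11LI : ∀ i j : Fin 7, reeSym 11 (reeCI j) (reeCL i) = reeTab11LI i j := by decide +kernel

theorem ree_x11_II (t : K) (i j : Fin 7) : chevG2.x K 11 t (reeI i) (reeI j) = m7aaabb t i j := by
  rw [ree_x_entry (by decide), code_reeI, code_reeI, colVal_eq_sym, reeSym11II]
  have h3 : (3 : K) = 0 := ree_three
  have h2 : (2 : K) = -1 := by linear_combination h3
  fin_cases i <;> fin_cases j <;> simp [reeTab11II, reeCI, m7aaabb, CT.val, sv, h2, h3]

theorem ree_x11_LL (t : K) (i j : Fin 7) : chevG2.x K 11 t (reeL i) (reeL j) = m7aab (t ^ 1) i j := by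
  rw [ree_x_entry (by decide), code_reeL, code_reeL, colVal_eq_sym, reeSym11LL]
  have h3 : (3 : K) = 0 := ree_three
  have h2 : (2 : K) = -1 := by linear_combination h3
  fin_cases i <;> fin_cases j <;> simp [reeTab11LL, reeCL, m7aab, CT.val, sv, h2, h3, ← pow_mul]

theorem ree_x11_LI (t : K) (i j : Fin 7) : chevG2.x K 11 t (reeL i) (reeI j) = 0 := by
  rw [ree_x_entry (by decide), code_reeI, code_reeL, colVal_eq_sym, reeSym11LI]
  have h3 : (3 : K) = 0 := ree_three
  have h2 : (2 : K) = -1 := by linear_combination h3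
  fin_cases i <;> fin_cases j <;> simp [reeTab11LI, reeCL, reeCI, CT.val, sv, h2, h3]

end Cfsg.Agent.H10
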