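import Cfsg.Agent.Lib.H10.ReeSig
import Cfsg.Agent.Lib.H04.Chev.Count

/-!
# Bruhat decomposition of the fixed points of the graph-field endomorphism of `G₂`
-/

set_option autoImplicit false
set_option linter.style.longLine false
set_option linter.unusedSimpArgs false
set_option maxRecDepth 100000

open Cfsg Cfsg.Lie Cfsg.Agent.H04.Chev
open scoped MatrixGroups

namespace Cfsg.Agent.H10
variable {K : Type*} [Field K] [CharP K 3]

/-- the permutation of the Weyl element -/
lemma rW_nact : ∃ π' d, NAct TG2.checks ((rW (K := K) : ↥(G2 K)) : GL chevG2.Idx K) (fun s => 11 - s) π' d := by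
  obtain ⟨π, π', d, h⟩ := monomial_le_NActG TG2.checks TG2.checks3 (rW_mem_N (K := K))
  refine ⟨π', d, h.congr ?_⟩
  intro s hs
  have hs' : s < 12 := hs
  have h1 := h.conj s hs (1 : K)
  have h2 := congrArg Subtype.val (rW_conj (K := K) hs' 1)
  have h3 : ((rW (K := K) : ↥(G2 K)) : GL chevG2.Idx K) * xG TG2.checks s 1 * ((rW (K := K) : ↥(G2 K)) : GL chevG2.Idx K)⁻¹ = xG TG2.checks (11 - s) (-1) := h2
  rw [h3] at h1
  have hlt : 11 - s < 12 := by omega
  have := rX_root_inj hlt (h.lt s hs) (t := -1) (neg_ne_zero.mpr one_ne_zero) h1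
  exact this

lemma RS_Rminus_le_U (π : ℕ → ℕ) : RS TG2.checks (Rminus chevG2 π) K ≤ chevG2.posUnipotent K := by
  rw [RS, Subgroup.closure_le]
  rintro g ⟨r, t, hr, hR, rfl⟩
  exact xG_mem_pos TG2.checks (isPos_iff.mpr ⟨hR.1, hr⟩) t

lemma U_le_RS_Rminus {π : ℕ → ℕ} (hπ : ∀ s, 6 ≤ s → s < 12 → π s < 6) : chevG2.posUnipotent K ≤ RS TG2.checks (Rminus chevG2 π) K := by
  rw [pos_eq_RS TG2.checks]
  rw [RS, Subgroup.closure_le]
  rintro g ⟨r, t, hr, hR, rfl⟩
  have h := isPos_iff.mp hR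
  exact xG_mem_RS TG2.checks hr ⟨h.1, hπ r h.1 h.2⟩ t

/-- Bruhat decomposition of fixed points -/
theorem ree_bruhat (f : K →+* K) {g : ↥(G2 K)} (hg : reeSig f g = g) :
    (g : GL chevG2.Idx K) ∈ chevG2.borelSubgroup K ∨
    ∃ b u : ↥(G2 K), (b : GL chevG2.Idx K) ∈ chevG2.borelSubgroup K ∧ (u : GL chevG2.Idx K) ∈ chevG2.posUnipotent K ∧
      reeSig f b = b ∧ reeSig f u = u ∧ g = b * rW * u := by
  obtain ⟨b, hb, n, hn, π, π', d, hA, u, hu, e⟩ := bruhat_exists TG2.checks TG2.checks2 TG2.checks3 g.2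
  have huU := RS_Rminus_le_U π hu
  have hBG := B_le_group TG2.checks (F := K)
  have hNG := N_le_group TG2.checks (F := K)
  have hUG := U_le_group TG2.checks (F := K)
  have hHG := H_le_group TG2.checks (F := K)
  set b' : ↥(G2 K) := ⟨b, hBG hb⟩ with hb'
  set n' : ↥(G2 K) := ⟨n, hNG hn⟩ with hn'
  set u' : ↥(G2 K) := ⟨u, hUG huU⟩ with hu'
  have e' : g = b' * n' * u' := Subtype.ext e
  have e2 : reeSig f b' * reeSig f n' * reeSig f u' = b' * n' * u' := by
    rw [← map_mul, ← map_mul, ← e', hg]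
  have hb2 := sig_B f hb (hBG hb)
  have hn2 := sig_N f hn (hNG hn)
  have hu2 := sig_U f huU (hUG huU)
  have e3 : b * n * u = ((reeSig f b' : ↥(G2 K)) : GL chevG2.Idx K) * (reeSig f n' : ↥(G2 K)) * (reeSig f u' : ↥(G2 K)) :=
    (congrArg Subtype.val e2).symm
  have hH : n⁻¹ * ((reeSig f n' : ↥(G2 K)) : GL chevG2.Idx K) ∈ chevG2.diagonalSubgroup K :=
    dc_unique TG2.checks TG2.checks2 TG2.checks3 hb hb2 hn hn2 (U_le_B huU) (U_le_B hu2) e3
  -- the permutation commutes with the symmetry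
  have hcomm : ∀ s : Fin 12, π (reeBar s.val) = reeBar (π s.val) := by
    intro s
    have hs := s.2
    rw [diagonal_eq TG2.checks TG2.checks3] at hH
    obtain ⟨c, hc⟩ := mem_HT.mp hH
    have hsn : n⁻¹ * ((reeSig f n' : ↥(G2 K)) : GL chevG2.Idx K) = torusG TG2.U chevG2 (capply chevG2 c) := hc
    have hsn2 : ((reeSig f n' : ↥(G2 K)) : GL chevG2.Idx K) = n * torusG TG2.U chevG2 (capply chevG2 c) := by
      rw [← hsn]; group
    have hc1 := hA.conj s.val hs (1 : K)
    have hlt : π s.val < 12 := hA.lt _ hs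
    have hc2 : n' * rG hs (1 : K) * n'⁻¹ = rG hlt ((d s.val : K) * 1) := Subtype.ext hc1
    have hc3 := congrArg (reeSig f) hc2
    simp only [map_mul, map_inv, reeSig_rG] at hc3
    have hc4 := congrArg Subtype.val hc3
    simp only [Subgroup.coe_mul, Subgroup.coe_inv, rG_val, hsn2] at hc4
    rw [one_pow, map_one] at hc4
    have hbs := reeBar_lt hs
    have hc5 : (n * torusG TG2.U chevG2 (capply chevG2 c)) * rX (reeBar s.val) 1 * (n * torusG TG2.U chevG2 (capply chevG2 c))⁻¹ =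
        n * (torusG TG2.U chevG2 (capply chevG2 c) * rX (reeBar s.val) 1 * (torusG TG2.U chevG2 (capply chevG2 c))⁻¹) * n⁻¹ := by
      group
    rw [hc5, torusG_conj TG2.checks TG2.checks3 hbs, hA.conj _ hbs] at hc4
    have hne : ((d (reeBar s.val) : K) * (((tv TG2.U chevG2 (capply chevG2 c) (reeBar s.val) : Kˣ) : K) * 1)) ≠ 0 := by
      simp
    exact rX_root_inj (hA.lt _ hbs) (reeBar_lt hlt) hne hc4
  obtain ⟨k, hk⟩ := ree_perm_table hn hA
  have hk2 : ∀ s : Fin 12, reeWtab k (reeBar s.val) = reeBar (reeWtab k s.val) := by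
    intro s
    have h1 := hk ⟨reeBar s.val, reeBar_lt s.2⟩
    have h2 := hk s
    simp only at h1
    rw [← h1, ← h2, hcomm s]
  rcases reeW_comm k hk2 with rfl | rfl
  · -- the case of the identity
    left
    have hπ : ∀ s, s < 12 → π s = s := by
      intro s hs
      have := hk ⟨s, hs⟩
      rw [reeW_zero ⟨s, hs⟩] at this
      exact this
    have hnH : n ∈ chevG2.diagonalSubgroup K := by
      refine mem_H_of_pos TG2.checks TG2.checks2 TG2.checks3 hn hA ?_
      intro r h1 h2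
      rw [hπ r h2]
      exact h1
    have hu1 : u = 1 := by
      have : RS TG2.checks (Rminus chevG2 π) K = ⊥ := by
        rw [RS, Subgroup.closure_eq_bot_iff]
        rintro g ⟨r, t, hr, hR, rfl⟩
        exfalso
        have h1 : 6 ≤ r := hR.1
        have h2 : π r < 6 := hR.2
        rw [hπ r hr] at h2
        omega
      rw [this, Subgroup.mem_bot] at hu
      exact hu
    rw [e, hu1, mul_one]
    exact mul_mem hb (H_le_B hnH)
  · -- the case of the longest element
    right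
    have hπ : ∀ s, s < 12 → π s = 11 - s := by
      intro s hs
      have := hk ⟨s, hs⟩
      rw [reeW_seven ⟨s, hs⟩] at this
      exact this
    obtain ⟨πw, dw, hW⟩ := rW_nact (K := K)
    have hnW : n * ((rW (K := K) : ↥(G2 K)) : GL chevG2.Idx K) ∈ chevG2.diagonalSubgroup K := by
      refine mem_H_of_pos TG2.checks TG2.checks2 TG2.checks3 (mul_mem hn rW_mem_N) (hA.mul hW) ?_
      intro r h1 h2
      have h2' : r < 12 := h2
      have h1' : 6 ≤ r := h1
      simp only [Function.comp]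
      rw [hπ _ (by omega)]
      show 6 ≤ 11 - (11 - r)
      omega
    set k' : GL chevG2.Idx K := n * ((rW (K := K) : ↥(G2 K)) : GL chevG2.Idx K) with hk'
    have hn3 : n' = ⟨k', hHG hnW⟩ * rW := by
      apply Subtype.ext
      have hsq : ((rW (K := K) : ↥(G2 K)) : GL chevG2.Idx K) * ((rW (K := K) : ↥(G2 K)) : GL chevG2.Idx K) = 1 := congrArg Subtype.val (rW_sq (K := K))
      show n = k' * ((rW (K := K) : ↥(G2 K)) : GL chevG2.Idx K)
      rw [hk', mul_assoc, hsq, mul_one]
    set b2 : ↥(G2 K) := b' * ⟨k', hHG hnW⟩ with hb2'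
    have hb3 : (b2 : GL chevG2.Idx K) ∈ chevG2.borelSubgroup K := mul_mem hb (H_le_B hnW)
    have e5 : g = b2 * rW * u' := by
      rw [e', hn3, hb2']
      simp only [mul_assoc]
    have e6 : reeSig f b2 * rW * reeSig f u' = b2 * rW * u' := by
      have := congrArg (reeSig f) e5
      rw [hg, map_mul, map_mul, reeSig_rW] at this
      rw [← this, ← e5]
    have hu3 : u ∈ RS TG2.checks (Rminus chevG2 (fun s => 11 - s)) K := U_le_RS_Rminus (fun s h1 h2 => by omega) huU
    have hu4 : ((reeSig f u' : ↥(G2 K)) : GL chevG2.Idx K) ∈ RS TG2.checks (Rminus chevG2 (fun s => 11 - s)) K :=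
      U_le_RS_Rminus (fun s h1 h2 => by omega) hu2
    have hb4 := sig_B f hb3 (hBG hb3)
    obtain ⟨h7, h8⟩ := bruhat_unique_fixed TG2.checks TG2.checks2 TG2.checks3 hW hb4 hb3 hu4 hu3 (congrArg Subtype.val e6)
    exact ⟨b2, u', hb3, huU, Subtype.ext h7, Subtype.ext h8, e5⟩

end Cfsg.Agent.H10
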