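import Cfsg.Agent.Lib.H10.ReeL

/-!
# The small Ree group: the centralizer of an involution
-/

set_option autoImplicit false
set_option linter.style.longLine false
set_option linter.unusedSimpArgs false
set_option linter.unusedSectionVars false
set_option maxRecDepth 100000

open Cfsg Cfsg.Lie Cfsg.Agent.H04.Chev
open scoped MatrixGroups commutatorElement Pointwise

namespace Cfsg.Agent.H10

section elem

variable {G : Type*} [Group G]

/-- `x` or the identity -/
def bpow (x : G) (i : Bool) : G := if i then x else 1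

lemma bpow_mul {x : G} (hx : x * x = 1) (i j : Bool) : bpow x i * bpow x j = bpow x (xor i j) := by
  cases i <;> cases j <;> simp [bpow, hx]

lemma bpow_comm {x y : G} (h : x * y = y * x) (i j : Bool) : bpow x i * bpow y j = bpow y j * bpow x i := by
  cases i <;> cases j <;> simp [bpow, h]

/-- an elementary abelian subgroup of order eight from three independent commuting involutions -/
theorem exists_elem8 {a b c : G} (hab : a * b = b * a) (hac : a * c = c * a) (hbc : b * c = c * b)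
    (ha : a * a = 1) (hb : b * b = 1) (hc : c * c = 1)
    (hind : ∀ i j k : Bool, bpow a i * bpow b j * bpow c k = 1 → i = false ∧ j = false ∧ k = false) :
    ∃ S : Subgroup G, Nat.card S = 8 ∧ (∀ x ∈ S, x * x = 1) ∧ a ∈ S ∧ b ∈ S ∧ c ∈ S ∧
      ∀ x ∈ S, ∃ i j k : Bool, x = bpow a i * bpow b j * bpow c k := by
  classical
  set F : Bool × Bool × Bool → G := fun p => bpow a p.1 * bpow b p.2.1 * bpow c p.2.2 with hF
  have hmul : ∀ p q, F p * F q = F (xor p.1 q.1, xor p.2.1 q.2.1, xor p.2.2 q.2.2) := by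
    rintro ⟨i, j, k⟩ ⟨i', j', k'⟩
    simp only [hF]
    rw [← bpow_mul ha, ← bpow_mul hb, ← bpow_mul hc]
    have e1 := bpow_comm hab i' j
    have e2 := bpow_comm hac i' k
    have e3 := bpow_comm hbc j' k
    calc bpow a i * bpow b j * bpow c k * (bpow a i' * bpow b j' * bpow c k')
        = bpow a i * bpow b j * (bpow c k * bpow a i') * bpow b j' * bpow c k' := by group
      _ = bpow a i * (bpow b j * bpow a i') * bpow c k * bpow b j' * bpow c k' := by rw [← e2]; group
      _ = bpow a i * bpow a i' * bpow b j * (bpow c k * bpow b j') * bpow c k' := by rw [← e1]; group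
      _ = bpow a i * bpow a i' * (bpow b j * bpow b j') * (bpow c k * bpow c k') := by rw [← e3]; group
  have hinv : ∀ p, F p * F p = 1 := by
    rintro ⟨i, j, k⟩
    rw [hmul]
    cases i <;> cases j <;> cases k <;> simp [hF, bpow]
  have hinj : Function.Injective F := by
    intro p q h
    have h1 : F (xor p.1 q.1, xor p.2.1 q.2.1, xor p.2.2 q.2.2) = 1 := by
      rw [← hmul, ← h, hinv]
    obtain ⟨e1, e2, e3⟩ := hind _ _ _ h1
    obtain ⟨i, j, k⟩ := p
    obtain ⟨i', j', k'⟩ := q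
    have e1' : i = i' := by revert e1; cases i <;> cases i' <;> simp
    have e2' : j = j' := by revert e2; cases j <;> cases j' <;> simp
    have e3' : k = k' := by revert e3; cases k <;> cases k' <;> simp
    rw [e1', e2', e3']
  let S : Subgroup G :=
    { carrier := Set.range F
      mul_mem' := by
        rintro _ _ ⟨p, rfl⟩ ⟨q, rfl⟩
        exact ⟨_, (hmul p q).symm⟩
      one_mem' := ⟨(false, false, false), by simp [hF, bpow]⟩
      inv_mem' := by
        rintro _ ⟨p, rfl⟩
        exact ⟨p, (inv_eq_of_mul_eq_one_left (hinv p)).symm⟩ }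
  refine ⟨S, ?_, ?_, ⟨(true, false, false), by simp [hF, bpow]⟩, ⟨(false, true, false), by simp [hF, bpow]⟩, ⟨(false, false, true), by simp [hF, bpow]⟩, ?_⟩
  · have h1 : Nat.card S = Nat.card (Set.range F) := rfl
    rw [h1, Nat.card_range_of_injective hinj]
    simp
  · rintro _ ⟨p, rfl⟩
    exact hinv p
  · rintro _ ⟨⟨i, j, k⟩, rfl⟩
    exact ⟨i, j, k, rfl⟩

end elem

variable {K : Type*} [Field K] [CharP K 3] {m : ℕ} [Fintype K] (hK : Fintype.card K = 3 ^ (2 * m + 1))
include hK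

/-- the involution -/
noncomputable def tA : RT K m := tH hK (-1)

lemma tA_sq : tA hK * tA hK = 1 := by
  rw [tA, ← tH_mul]
  simp [tH_one]

lemma tA_inv : (tA hK)⁻¹ = tA hK := inv_eq_of_mul_eq_one_left (tA_sq hK)

lemma tA_conj_tU (t u v : K) : tA hK * tU m t u v * (tA hK)⁻¹ = tU m (-t) u (-v) := by
  rw [tA, tH_conj]
  simp
  congr 1 <;> ring

lemma tA_tW : tA hK * tW K m = tW K m * tA hK := by
  rw [tA, tW_tH hK (-1)]
  simp

lemma tSL_sD (u : Kˣ) : tSL hK (sD u) = tH hK (Units.map (reeF K m : K →* K) u ^ 3 * u⁻¹) := by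
  have h3 := (reeF_tits hK).pow3 (u : K)
  generalize hβ : Units.map (reeF K m : K →* K) u ^ 3 * u⁻¹ = β
  have e1 : (β : K) = reeF K m u ^ 3 * (u : K)⁻¹ := by rw [← hβ]; simp
  have e2 : reeF K m (β : K) = u * (reeF K m u)⁻¹ := by
    rw [e1, map_mul, map_pow, map_inv₀, ← map_pow, h3]
  apply r7_ext hK
  rw [r7_tSL_val, r7_tH, mL_apply, e2, e1]
  have hu : (u : K) ≠ 0 := u.ne_zero
  have hF : reeF K m (u : K) ≠ 0 := (map_ne_zero _).mpr u.ne_zero
  simp only [sD_val, map_inv₀]
  ext i j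
  fin_cases i <;> fin_cases j <;> simp [m7L, m7T] <;> field_simp

/-- the elements of `H¹` lie in `⟨a⟩ L` -/
lemma tH_form (β : Kˣ) : ∃ g : SL(2, K), tH hK β = tSL hK g ∨ tH hK β = tA hK * tSL hK g := by
  have hq : Fintype.card K % 4 = 3 := by rw [hK]; exact ree_card_mod
  have hsq : ∀ s : Kˣ, ∃ g : SL(2, K), tSL hK g = tH hK (s ^ 2) := by
    intro s
    set u : Kˣ := s * Units.map (reeF K m : K →* K) s ^ 3 with hu
    have e1 : Units.map (reeF K m : K →* K) u ^ 3 * u⁻¹ = s ^ 2 := by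
      apply Units.ext
      have h1 : reeF K m (reeF K m (s : K)) ^ 3 = s := by rw [← map_pow]; exact (reeF_tits hK).pow3 _
      have h2 := s.ne_zero
      have h3 : reeF K m (s : K) ≠ 0 := (map_ne_zero _).mpr s.ne_zero
      simp only [hu, Units.val_mul, Units.val_pow_eq_pow_val, Units.coe_map, Units.val_inv_eq_inv_val, MonoidHom.coe_coe, map_mul, map_pow, mul_inv, mul_pow, ← pow_mul]
      rw [show reeF K m (reeF K m (s : K)) ^ (3 * 3) = (reeF K m (reeF K m (s : K)) ^ 3) ^ 3 by rw [pow_mul], h1]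
      field_simp
    exact ⟨sD u, by rw [tSL_sD, e1]⟩
  rcases ree_sq_or_neg hq β with ⟨s, rfl⟩ | ⟨s, rfl⟩
  · obtain ⟨g, hg⟩ := hsq s
    exact ⟨g, Or.inl hg.symm⟩
  · obtain ⟨g, hg⟩ := hsq s
    refine ⟨g, Or.inr ?_⟩
    rw [tH_mul, hg]
    rfl

lemma ree_two_ne' : (2 : K) ≠ 0 := ree_two_ne

lemma eq_zero_of_eq_neg' {x : K} (h : -x = x) : x = 0 := by
  have h2 : (2 : K) * x = 0 := by linear_combination -h
  exact (mul_eq_zero.mp h2).resolve_left ree_two_ne

lemma tA_comm_tU {t u v : K} (h : tA hK * tU m t u v = tU m t u v * tA hK) : t = 0 ∧ v = 0 := by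
  have e1 := tA_conj_tU hK t u v
  rw [h, mul_inv_cancel_right] at e1
  obtain ⟨h1, -, h3⟩ := tU_inj e1
  exact ⟨eq_zero_of_eq_neg' hK h1.symm, eq_zero_of_eq_neg' hK h3.symm⟩

lemma tA_comm_tH (β : Kˣ) : tA hK * tH hK β = tH hK β * tA hK := by
  rw [tA, ← tH_mul, ← tH_mul, mul_comm]

/-- The form of the elements commuting with the involution -/
theorem C_a_form {x : RT K m} (hx : tA hK * x = x * tA hK) : ∃ g : SL(2, K), x = tSL hK g ∨ x = tA hK * tSL hK g := by
  have hcomm : ∀ g : SL(2, K), tA hK * tSL hK g = tSL hK g * tA hK := a_comm_tSL hK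
  -- elements of the form `a^i L` are closed under products
  have hmul : ∀ y z : RT K m, (∃ g : SL(2, K), y = tSL hK g ∨ y = tA hK * tSL hK g) → (∃ g : SL(2, K), z = tSL hK g ∨ z = tA hK * tSL hK g) → ∃ g : SL(2, K), y * z = tSL hK g ∨ y * z = tA hK * tSL hK g := by
    rintro y z ⟨g, rfl | rfl⟩ ⟨g', rfl | rfl⟩
    · exact ⟨g * g', Or.inl (map_mul _ _ _).symm⟩
    · refine ⟨g * g', Or.inr ?_⟩
      rw [map_mul, ← mul_assoc, ← mul_assoc, ← hcomm]
    · refine ⟨g * g', Or.inr ?_⟩
      rw [map_mul, mul_assoc]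
    · refine ⟨g * g', Or.inl ?_⟩
      rw [map_mul]
      calc tA hK * tSL hK g * (tA hK * tSL hK g') = tA hK * (tSL hK g * tA hK) * tSL hK g' := by group
        _ = tA hK * (tA hK * tSL hK g) * tSL hK g' := by rw [hcomm]
        _ = (tA hK * tA hK) * (tSL hK g * tSL hK g') := by group
        _ = _ := by rw [tA_sq, one_mul]
  have hU : ∀ u : K, ∃ g : SL(2, K), tU m 0 u 0 = tSL hK g ∨ tU m 0 u 0 = tA hK * tSL hK g := fun u => ⟨sU u, Or.inl (tSL_sU hK u).symm⟩
  have hW : ∃ g : SL(2, K), tW K m = tSL hK g ∨ tW K m = tA hK * tSL hK g := ⟨sW, Or.inl (tSL_sW hK).symm⟩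
  rcases tcases hK x with ⟨t, u, v, β, rfl⟩ | ⟨t, u, v, β, t', u', v', rfl⟩
  · have e1 : tA hK * (tU m t u v * tH hK β) * (tA hK)⁻¹ = tU m (-t) u (-v) * tH hK β := by
      rw [← tA_conj_tU hK t u v]
      calc tA hK * (tU m t u v * tH hK β) * (tA hK)⁻¹ = tA hK * tU m t u v * (tH hK β * (tA hK)⁻¹) := by group
        _ = tA hK * tU m t u v * ((tA hK)⁻¹ * tH hK β) := by
            rw [tA_inv, tA_comm_tH]
        _ = _ := by group
    rw [hx, mul_inv_cancel_right] at e1
    obtain ⟨⟨h1, -, h3⟩, -⟩ := tB_inj hK e1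
    have ht := eq_zero_of_eq_neg' hK h1.symm
    have hv := eq_zero_of_eq_neg' hK h3.symm
    subst ht hv
    exact hmul _ _ (hU u) (tH_form hK β)
  · have e1 : tA hK * (tU m t u v * tH hK β * tW K m * tU m t' u' v') * (tA hK)⁻¹ = tU m (-t) u (-v) * tH hK β * tW K m * tU m (-t') u' (-v') := by
      rw [← tA_conj_tU hK t u v, ← tA_conj_tU hK t' u' v', tA_inv]
      have h1 := tA_comm_tH hK β
      have h2 := tA_tW hK
      calc tA hK * (tU m t u v * tH hK β * tW K m * tU m t' u' v') * tA hK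
          = tA hK * tU m t u v * (tH hK β * tW K m) * tU m t' u' v' * tA hK := by group
        _ = tA hK * tU m t u v * (tA hK * tA hK) * (tH hK β * tW K m) * tU m t' u' v' * tA hK := by
            rw [tA_sq, mul_one]
        _ = tA hK * tU m t u v * tA hK * (tA hK * tH hK β) * tW K m * tU m t' u' v' * tA hK := by group
        _ = tA hK * tU m t u v * tA hK * tH hK β * (tA hK * tW K m) * tU m t' u' v' * tA hK := by
            rw [h1]; group
        _ = tA hK * tU m t u v * tA hK * tH hK β * tW K m * (tA hK * tU m t' u' v' * tA hK) := by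
            rw [h2]; group
    rw [hx, mul_inv_cancel_right] at e1
    obtain ⟨⟨h1, -, h3⟩, -, ⟨h4, -, h6⟩⟩ := t_big_inj hK e1
    have ht := eq_zero_of_eq_neg' hK h1.symm
    have hv := eq_zero_of_eq_neg' hK h3.symm
    have ht' := eq_zero_of_eq_neg' hK h4.symm
    have hv' := eq_zero_of_eq_neg' hK h6.symm
    subst ht hv ht' hv'
    exact hmul _ _ (hmul _ _ (hmul _ _ (hU u) (tH_form hK β)) hW) (hU u')

end Cfsg.Agent.H10
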