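import Cfsg.Agent.Lib.H10.ReeC

/-!
# The small Ree group: the centralizer of an involution, II
-/

set_option autoImplicit false
set_option linter.style.longLine false
set_option linter.unusedSimpArgs false
set_option linter.unusedSectionVars false
set_option maxRecDepth 100000

open Cfsg Cfsg.Lie Cfsg.Agent.H04.Chev
open scoped MatrixGroups commutatorElement Pointwise

namespace Cfsg.Agent.H10

variable {K : Type*} [Field K] [CharP K 3] {m : ℕ} [Fintype K] (hK : Fintype.card K = 3 ^ (2 * m + 1))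

omit [CharP K 3] [Fintype K] in
lemma SL2_center_iff (g : SL(2, K)) : g ∈ Subgroup.center (SL(2, K)) ↔ g = 1 ∨ g = -1 := by
  rw [Matrix.SpecialLinearGroup.mem_center_iff]
  constructor
  · rintro ⟨r, hr, e⟩
    have h : (r - 1) * (r + 1) = 0 := by
      simp only [Fintype.card_fin] at hr
      linear_combination hr
    rcases mul_eq_zero.mp h with h1 | h1
    · left
      have hr1 : r = 1 := sub_eq_zero.mp h1
      apply Subtype.ext
      rw [← e, hr1]
      simp
    · right
      have hr1 : r = -1 := eq_neg_of_add_eq_zero_left h1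
      apply Subtype.ext
      rw [← e, hr1, Matrix.SpecialLinearGroup.coe_neg, Matrix.SpecialLinearGroup.coe_one]
      ext i j
      simp [Matrix.scalar_apply, Matrix.diagonal_apply, Matrix.one_apply]
      split_ifs <;> simp
  · rintro (rfl | rfl)
    · exact ⟨1, by simp, by simp⟩
    · refine ⟨-1, by simp, ?_⟩
      rw [Matrix.SpecialLinearGroup.coe_neg, Matrix.SpecialLinearGroup.coe_one]
      ext i j
      simp [Matrix.scalar_apply, Matrix.diagonal_apply, Matrix.one_apply]
      split_ifs <;> simp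

/-- the second generator of the Klein four group -/
def sJ : SL(2, K) := ⟨!![1, 1; 1, -1], by
  have h3 : (3 : K) = 0 := ree_three
  rw [Matrix.det_fin_two]
  simp
  linear_combination -h3⟩

lemma sJ_val : ((sJ : SL(2, K)) : Matrix (Fin 2) (Fin 2) K) = !![1, 1; 1, -1] := rfl

lemma sJ_sq : (sJ : SL(2, K)) * sJ = -1 := by
  have h3 : (3 : K) = 0 := ree_three
  apply Subtype.ext
  rw [Matrix.SpecialLinearGroup.coe_mul, sJ_val, Matrix.SpecialLinearGroup.coe_neg, Matrix.SpecialLinearGroup.coe_one]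
  ext i j
  fin_cases i <;> fin_cases j <;> simp [Matrix.mul_apply, Fin.sum_univ_two] <;> first | ring1 | linear_combination h3 | linear_combination -h3

lemma sW_sq : (sW : SL(2, K)) * sW = -1 := by
  apply Subtype.ext
  rw [Matrix.SpecialLinearGroup.coe_mul, sW_val, Matrix.SpecialLinearGroup.coe_neg, Matrix.SpecialLinearGroup.coe_one]
  ext i j
  fin_cases i <;> fin_cases j <;> simp [Matrix.mul_apply, Fin.sum_univ_two]

lemma sW_sJ : (sW : SL(2, K)) * sJ = -(sJ * sW) := by
  apply Subtype.ext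
  rw [Matrix.SpecialLinearGroup.coe_neg, Matrix.SpecialLinearGroup.coe_mul, Matrix.SpecialLinearGroup.coe_mul, sW_val, sJ_val]
  ext i j
  fin_cases i <;> fin_cases j <;> simp [Matrix.mul_apply, Fin.sum_univ_two]

include hK

/-- the homomorphism from `PSL₂(q)` -/
noncomputable def tPSL : Matrix.ProjectiveSpecialLinearGroup (Fin 2) K →* RT K m :=
  QuotientGroup.lift (Subgroup.center (SL(2, K))) (tSL hK) (by
    intro g hg
    exact (tSL_eq_one_iff hK g).mpr ((SL2_center_iff g).mp hg))

lemma tPSL_mk (g : SL(2, K)) : tPSL hK (QuotientGroup.mk g) = tSL hK g := rfl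

lemma tPSL_inj : Function.Injective (tPSL hK) := by
  rw [injective_iff_map_eq_one]
  intro x hx
  obtain ⟨g, rfl⟩ := QuotientGroup.mk_surjective x
  rw [tPSL_mk, tSL_eq_one_iff] at hx
  exact (QuotientGroup.eq_one_iff g).mpr ((SL2_center_iff g).mpr hx)

/-- the isomorphism of the centralizer and `Z₂ × PSL₂(q)` -/
theorem centralizer_a_equiv : Nonempty (↥(Subgroup.centralizer ({tA hK} : Set (RT K m))) ≃* Multiplicative (ZMod 2) × Matrix.ProjectiveSpecialLinearGroup (Fin 2) K) := by
  classical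
  have hall : ∀ y : Multiplicative (ZMod 2), y = 1 ∨ y = Multiplicative.ofAdd 1 := by decide
  have h11 : (Multiplicative.ofAdd (1 : ZMod 2)) * (Multiplicative.ofAdd (1 : ZMod 2)) = 1 := by decide
  have hne : (Multiplicative.ofAdd (1 : ZMod 2)) ≠ 1 := by decide
  let z : Multiplicative (ZMod 2) → RT K m := fun i => if i = 1 then 1 else tA hK
  have z1 : z 1 = 1 := by simp [z]
  have z2 : z (Multiplicative.ofAdd 1) = tA hK := by simp [z, hne]
  have zmul : ∀ i j, z (i * j) = z i * z j := by
    intro i j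
    rcases hall i with rfl | rfl <;> rcases hall j with rfl | rfl
    · simp [z1]
    · simp [z1]
    · simp [z1]
    · rw [h11, z1, z2, tA_sq]
  have hcomm : ∀ p : Matrix.ProjectiveSpecialLinearGroup (Fin 2) K, tA hK * tPSL hK p = tPSL hK p * tA hK := by
    intro p
    obtain ⟨g, rfl⟩ := QuotientGroup.mk_surjective p
    exact a_comm_tSL hK g
  have hz : ∀ i p, z i * tPSL hK p = tPSL hK p * z i := by
    intro i p
    rcases hall i with rfl | rfl
    · simp [z1]
    · rw [z2, hcomm]
  have hmem : ∀ i p, z i * tPSL hK p ∈ Subgroup.centralizer ({tA hK} : Set (RT K m)) := by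
    intro i p
    rw [Subgroup.mem_centralizer_iff]
    rintro _ rfl
    rcases hall i with rfl | rfl
    · rw [z1, one_mul, hcomm]
    · rw [z2, mul_assoc (tA hK) (tPSL hK p) (tA hK), ← hcomm p]
  let Ψ : Multiplicative (ZMod 2) × Matrix.ProjectiveSpecialLinearGroup (Fin 2) K →* ↥(Subgroup.centralizer ({tA hK} : Set (RT K m))) :=
    MonoidHom.mk' (fun x => ⟨z x.1 * tPSL hK x.2, hmem x.1 x.2⟩) (by
      rintro ⟨i, p⟩ ⟨j, q⟩
      apply Subtype.ext
      show z (i * j) * tPSL hK (p * q) = z i * tPSL hK p * (z j * tPSL hK q)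
      rw [zmul, map_mul]
      calc z i * z j * (tPSL hK p * tPSL hK q) = z i * (z j * tPSL hK p) * tPSL hK q := by group
        _ = z i * (tPSL hK p * z j) * tPSL hK q := by rw [hz]
        _ = _ := by group)
  have hbij : Function.Bijective Ψ := by
    constructor
    · rw [injective_iff_map_eq_one]
      rintro ⟨i, p⟩ h
      have h1 : z i * tPSL hK p = 1 := congrArg Subtype.val h
      rcases hall i with rfl | rfl
      · rw [z1, one_mul] at h1
        have : p = 1 := tPSL_inj hK (by rw [h1, map_one])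
        rw [this]
        rfl
      · exfalso
        rw [z2] at h1
        obtain ⟨g, rfl⟩ := QuotientGroup.mk_surjective p
        rw [tPSL_mk] at h1
        have h2 : tSL hK g⁻¹ = tA hK := by
          rw [map_inv]
          exact inv_eq_of_mul_eq_one_left h1
        exact a_not_tSL hK _ h2
    · rintro ⟨x, hx⟩
      have hx' : tA hK * x = x * tA hK := (Subgroup.mem_centralizer_iff.mp hx _ rfl)
      obtain ⟨g, rfl | rfl⟩ := C_a_form hK hx'
      · refine ⟨(1, QuotientGroup.mk g), ?_⟩
        apply Subtype.ext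
        show z 1 * tPSL hK (QuotientGroup.mk g) = _
        rw [z1, one_mul, tPSL_mk]
      · refine ⟨(Multiplicative.ofAdd 1, QuotientGroup.mk g), ?_⟩
        apply Subtype.ext
        show z (Multiplicative.ofAdd 1) * tPSL hK (QuotientGroup.mk g) = _
        rw [z2, tPSL_mk]
  exact ⟨(MulEquiv.ofBijective Ψ hbij).symm⟩


/-- the element of order two attached to `sJ` -/
noncomputable def tJ : RT K m := tSL hK sJ

lemma tJ_sq : tJ hK * tJ hK = 1 := by
  rw [tJ, ← map_mul, sJ_sq, tSL_neg_one]

lemma tSL_neg (g : SL(2, K)) : tSL hK (-g) = tSL hK g := by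
  have : -g = (-1) * g := by
    apply Subtype.ext
    rw [Matrix.SpecialLinearGroup.coe_neg, Matrix.SpecialLinearGroup.coe_mul, Matrix.SpecialLinearGroup.coe_neg, Matrix.SpecialLinearGroup.coe_one]
    simp
  rw [this, map_mul, tSL_neg_one, one_mul]

lemma tW_tJ_comm : tW K m * tJ hK = tJ hK * tW K m := by
  rw [tJ, ← tSL_sW hK, ← map_mul, ← map_mul, sW_sJ, tSL_neg]

/-- the standard elementary abelian subgroup -/
lemma exists_S0 : ∃ S : Subgroup (RT K m), Nat.card S = 8 ∧ (∀ x ∈ S, x * x = 1) ∧ tA hK ∈ S ∧ tW K m ∈ S ∧ tJ hK ∈ S ∧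
    ∀ x ∈ S, ∃ i j k : Bool, x = bpow (tA hK) i * bpow (tW K m) j * bpow (tJ hK) k := by
  apply exists_elem8
  · rw [← tSL_sW hK]
    exact a_comm_tSL hK _
  · exact a_comm_tSL hK _
  · exact tW_tJ_comm hK
  · exact tA_sq hK
  · exact tW_sq
  · exact tJ_sq hK
  · intro i j k h
    have hne : (1 : K) ≠ 0 := one_ne_zero
    have hne2 : (-1 : K) ≠ 0 := neg_ne_zero.mpr one_ne_zero
    -- the element of `SL₂`
    set g : SL(2, K) := (if j then sW else 1) * (if k then sJ else 1) with hg
    have e1 : bpow (tW K m) j * bpow (tJ hK) k = tSL hK g := by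
      rw [hg, map_mul]
      cases j <;> cases k <;> simp [bpow, tJ, tSL_sW hK]
    rw [mul_assoc, e1] at h
    cases i
    · simp only [bpow, Bool.false_eq_true, if_false, one_mul] at h
      rcases (tSL_eq_one_iff hK g).mp h with h1 | h1 <;> · 
        cases j <;> cases k
        · exact ⟨rfl, rfl, rfl⟩
        · exfalso
          have h2 := congrArg (fun g : SL(2, K) => (g : Matrix (Fin 2) (Fin 2) K) 0 1) h1
          simp [hg, sJ_val, Matrix.SpecialLinearGroup.coe_neg] at h2
        · exfalso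
          have h2 := congrArg (fun g : SL(2, K) => (g : Matrix (Fin 2) (Fin 2) K) 0 1) h1
          simp [hg, sW_val, Matrix.SpecialLinearGroup.coe_neg] at h2
        · exfalso
          have h2 := congrArg (fun g : SL(2, K) => (g : Matrix (Fin 2) (Fin 2) K) 0 1) h1
          simp [hg, sW_val, sJ_val, Matrix.SpecialLinearGroup.coe_neg, Matrix.mul_apply, Fin.sum_univ_two] at h2
    · exfalso
      simp only [bpow, if_true] at h
      have h2 : tSL hK g⁻¹ = tA hK := by
        rw [map_inv]
        exact inv_eq_of_mul_eq_one_left h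
      exact a_not_tSL hK _ h2

omit [CharP K 3] [Fintype K] hK in
lemma ree_num_mod8 (m : ℕ) : 3 ^ (2 * m + 1) % 8 = 3 := by
  induction m with
  | zero => rfl
  | succ n ih =>
    have : 3 ^ (2 * (n + 1) + 1) = 3 ^ (2 * n + 1) * 9 := by ring
    omega

/-- the two-part of the order -/
lemma card_T_two : ∃ k : ℕ, Odd k ∧ Nat.card (RT K m) = 8 * k := by
  rw [card_T hK, hK]
  obtain ⟨k, hk⟩ : ∃ k, 3 ^ (2 * m + 1) = 8 * k + 3 := ⟨3 ^ (2 * m + 1) / 8, by have := ree_num_mod8 m; omega⟩
  rw [hk]
  refine ⟨(8 * k + 3) ^ 3 * (4 * k + 1) * ((2 * k + 1) * (64 * k ^ 2 + 40 * k + 7)), ?_, ?_⟩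
  · have h1 : Odd (8 * k + 3) := ⟨4 * k + 1, by ring⟩
    have h2 : Odd (4 * k + 1) := ⟨2 * k, by ring⟩
    have h3 : Odd (2 * k + 1) := ⟨k, by ring⟩
    have h4 : Odd (64 * k ^ 2 + 40 * k + 7) := ⟨32 * k ^ 2 + 20 * k + 3, by ring⟩
    exact ((h1.pow).mul h2).mul (h3.mul h4)
  · have e1 : 8 * k + 3 - 1 = 2 * (4 * k + 1) := by omega
    rw [e1]
    ring

/-- the Sylow `2`-subgroups -/
theorem sylow2_facts (S : Sylow 2 (RT K m)) : Nat.card S = 8 ∧ ∀ x ∈ S, x * x = 1 := by
  haveI := t_finite hK
  obtain ⟨S₀, h8, helem, -⟩ := exists_S0 hK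
  obtain ⟨k, hk, hc⟩ := card_T_two hK
  have hp : IsPGroup 2 S₀ := IsPGroup.of_card (n := 3) (by rw [h8]; norm_num)
  have hi : ¬ 2 ∣ S₀.index := by
    have h1 := Subgroup.card_mul_index S₀
    rw [h8, hc] at h1
    have h2 : S₀.index = k := by omega
    rw [h2]
    exact hk.not_two_dvd_nat
  let P := hp.toSylow hi
  have hP : (P : Subgroup (RT K m)) = S₀ := rfl
  obtain ⟨g, hg⟩ := MulAction.exists_smul_eq (RT K m) P S
  constructor
  · have := Nat.card_congr (Sylow.equiv S P).toEquiv
    change Nat.card S = Nat.card (P : Subgroup (RT K m)) at this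
    rw [this, hP, h8]
  · intro x hx
    have key : x ∈ (S : Subgroup (RT K m)) ↔ g⁻¹ * x * g ∈ S₀ := by
      rw [← hg, Sylow.coe_subgroup_smul, Subgroup.mem_pointwise_smul_iff_inv_smul_mem, hP]
      simp [MulAut.smul_def, MulAut.conj_apply]
    have h1 := helem _ (key.mp hx)
    have h2 : g⁻¹ * x * g * (g⁻¹ * x * g) = g⁻¹ * (x * x) * g := by group
    rw [h2] at h1
    have h3 : x * x = g * (g⁻¹ * (x * x) * g) * g⁻¹ := by group
    rw [h3, h1]
    group

end Cfsg.Agent.H10
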