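import Mathlib

/-!
# Schur's lemma and Wedderburn for an element of `M₇(F)` of prime order `p`, where `q² - q + 1 ≡ 0` mod `p`
-/

set_option autoImplicit false
set_option linter.unusedSectionVars false
set_option linter.unusedSimpArgs false
set_option linter.style.haveILetI false
set_option linter.style.longLine false

namespace Cfsg.Agent.H10

open Matrix

section

variable {F : Type*} [Field F] [Fintype F] {p : ℕ} [Fact p.Prime]

/-- `7 × 7` matrices -/
abbrev M7 (F : Type*) [Field F] := Matrix (Fin 7) (Fin 7) F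

/-- The powers of `Q` congruent to `1` -/
lemma ree_pow_cases {Q : ZMod p} (hQ : Q ^ 2 - Q + 1 = 0) (h2 : (2 : ZMod p) ≠ 0) (h3 : (3 : ZMod p) ≠ 0) {d : ℕ} (hd : d ≤ 5) (h : Q ^ d = 1) :
    d = 0 := by
  have hQ2 : Q ^ 2 = Q - 1 := by linear_combination hQ
  have hQ3 : Q ^ 3 = -1 := by linear_combination (Q + 1) * hQ
  interval_cases d
  · rfl
  · exfalso
    rw [pow_one] at h
    rw [h] at hQ
    apply one_ne_zero (α := ZMod p)
    linear_combination hQ
  · exfalso
    rw [hQ2] at h
    have hQ' : Q = 2 := by linear_combination h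
    rw [hQ'] at hQ
    apply h3
    linear_combination hQ
  · exfalso
    rw [hQ3] at h
    apply h2
    linear_combination -h
  · exfalso
    have e : Q ^ 4 = -Q := by linear_combination Q * hQ3
    rw [e] at h
    have hQ' : Q = -1 := by linear_combination -h
    rw [hQ'] at hQ
    apply h3
    linear_combination hQ
  · exfalso
    have e : Q ^ 5 = -Q ^ 2 := by linear_combination Q ^ 2 * hQ3
    rw [e, hQ2] at h
    have hQ' : Q = 0 := by linear_combination -h
    rw [hQ'] at hQ
    apply one_ne_zero (α := ZMod p)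
    linear_combination hQ

/-- The space of fixed vectors. -/
def reeFixSub (z : M7 F) : Submodule F (Fin 7 → F) := LinearMap.ker (Matrix.mulVecLin (z - 1))

lemma mem_reeFixSub {z : M7 F} {v : Fin 7 → F} : v ∈ reeFixSub z ↔ z *ᵥ v = v := by
  rw [reeFixSub, LinearMap.mem_ker, Matrix.mulVecLin_apply, Matrix.sub_mulVec, Matrix.one_mulVec, sub_eq_zero]

/-- Counting modulo `p`. -/
lemma ree_card_invariant_modEq (z : M7 F) (hz : z ^ p = 1) (W : Submodule F (Fin 7 → F))
    (hW : ∀ v ∈ W, z *ᵥ v ∈ W) :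
    ((Fintype.card F : ℕ) : ZMod p) ^ Module.finrank F W =
      ((Fintype.card F : ℕ) : ZMod p) ^ Module.finrank F ↥(W ⊓ reeFixSub z) := by
  classical
  let f : Function.End ↥W := fun v => ⟨z *ᵥ v.1, hW v.1 v.2⟩
  have hpow : ∀ (n : ℕ) (v : ↥W), ((f ^ n) v).1 = (z ^ n) *ᵥ v.1 := by
    intro n
    induction n with
    | zero =>
      intro v
      rw [pow_zero, pow_zero, Matrix.one_mulVec]
      rfl
    | succ n ih =>
      intro v
      rw [pow_succ', pow_succ']
      show (f ((f ^ n) v)).1 = _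
      show z *ᵥ ((f ^ n) v).1 = _
      rw [ih, Matrix.mulVec_mulVec]
  have hf : f ^ p ^ 1 = 1 := by
    funext v
    apply Subtype.ext
    rw [pow_one, hpow, hz, Matrix.one_mulVec]
    rfl
  have h := Equiv.Perm.card_fixedPoints_modEq hf
  have hfix : Fintype.card (Function.fixedPoints f) = Fintype.card ↥(W ⊓ reeFixSub z) := by
    apply Fintype.card_congr
    refine ⟨fun v => ⟨v.1.1, v.1.2, mem_reeFixSub.2 (congrArg Subtype.val v.2)⟩,
      fun v => ⟨⟨v.1, v.2.1⟩, Subtype.ext (mem_reeFixSub.1 v.2.2)⟩, ?_, ?_⟩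
    · intro v
      rfl
    · intro v
      rfl
  rw [hfix, Module.card_eq_pow_finrank (K := F) (V := ↥W), Module.card_eq_pow_finrank (K := F) (V := ↥(W ⊓ reeFixSub z))] at h
  have h2 := (ZMod.natCast_eq_natCast_iff _ _ p).2 h
  push_cast at h2
  exact h2

/-- the hypotheses of this section -/
structure ReeEl (z : M7 F) (p : ℕ) [Fact p.Prime] : Prop where
  pow : z ^ p = 1
  ne : z ≠ 1
  qq : ((Fintype.card F : ℕ) : ZMod p) ^ 2 - ((Fintype.card F : ℕ) : ZMod p) + 1 = 0
  two : (2 : ZMod p) ≠ 0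
  three : (3 : ZMod p) ≠ 0

lemma ReeEl.modsix {z : M7 F} (hz : ReeEl z p) {a b : ℕ} (hb : b ≤ a) (ha : a ≤ b + 5)
    (h : ((Fintype.card F : ℕ) : ZMod p) ^ a = ((Fintype.card F : ℕ) : ZMod p) ^ b) : a = b := by
  set Q := ((Fintype.card F : ℕ) : ZMod p) with hQ
  have hQ0 : Q ≠ 0 := by
    intro h0
    have := hz.qq
    rw [← hQ, h0] at this
    simp at this
  obtain ⟨d, rfl⟩ := Nat.exists_eq_add_of_le hb
  have h1 : Q ^ d = 1 := by
    rw [pow_add] at h
    exact mul_left_cancel₀ (pow_ne_zero _ hQ0) (by rw [h, mul_one])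
  have := ree_pow_cases hz.qq hz.two hz.three (d := d) (by omega) h1
  omega

lemma ReeEl.q6 {z : M7 F} (hz : ReeEl z p) : ((Fintype.card F : ℕ) : ZMod p) ^ 6 = 1 := by
  set Q := ((Fintype.card F : ℕ) : ZMod p) with hQ
  have hQ3 : Q ^ 3 = -1 := by linear_combination (Q + 1) * hz.qq
  calc Q ^ 6 = (Q ^ 3) ^ 2 := by ring
    _ = 1 := by rw [hQ3]; ring

/-- the fixed space is a line -/
lemma ReeEl.finrank_fix {z : M7 F} (hz : ReeEl z p) : Module.finrank F (reeFixSub z) = 1 := by
  have hfr : Module.finrank F (Fin 7 → F) = 7 := by simp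
  have h1 := ree_card_invariant_modEq z hz.pow ⊤ (fun _ _ => Submodule.mem_top)
  rw [top_inf_eq, finrank_top, hfr] at h1
  have h2 : Module.finrank F ↥(reeFixSub z) ≤ 7 := (Submodule.finrank_le _).trans hfr.le
  have h3 : Module.finrank F ↥(reeFixSub z) ≠ 7 := by
    intro h4
    have h5 : reeFixSub z = ⊤ := Submodule.eq_top_of_finrank_eq (by rw [h4, hfr])
    apply hz.ne
    ext i j
    have h6 := mem_reeFixSub.1 (show (Pi.single j 1 : Fin 7 → F) ∈ reeFixSub z by rw [h5]; exact Submodule.mem_top)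
    have h7 := congrFun h6 i
    rw [Matrix.mulVec_single_one] at h7
    simpa [Matrix.one_apply, Pi.single_apply, eq_comm] using h7
  -- `Q⁷ = Q`
  have h6 := hz.q6
  set Q := ((Fintype.card F : ℕ) : ZMod p) with hQ
  have hQ7 : Q ^ 7 = Q ^ 1 := by
    calc Q ^ 7 = Q ^ 6 * Q := by ring
      _ = _ := by rw [h6]; ring
  rw [hQ7] at h1
  by_cases h0 : Module.finrank F ↥(reeFixSub z) = 0
  · rw [h0, pow_zero] at h1
    have := ree_pow_cases hz.qq hz.two hz.three (d := 1) (by omega) h1
    omega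
  · exact hz.modsix (a := Module.finrank F ↥(reeFixSub z)) (b := 1) (by omega) (by omega) h1.symm

/-- the image of `z - 1` -/
def reeW0 (z : M7 F) : Submodule F (Fin 7 → F) := LinearMap.range (Matrix.mulVecLin (z - 1))

lemma W0_inv {z a : M7 F} (ha : a * z = z * a) {v : Fin 7 → F} (hv : v ∈ reeW0 z) : a *ᵥ v ∈ reeW0 z := by
  obtain ⟨w, rfl⟩ := hv
  refine ⟨a *ᵥ w, ?_⟩
  simp only [Matrix.mulVecLin_apply, Matrix.mulVec_mulVec]
  congr 1
  rw [sub_mul, mul_sub, ha, one_mul, mul_one]

lemma Fix_inv {z a : M7 F} (ha : a * z = z * a) {v : Fin 7 → F} (hv : v ∈ reeFixSub z) : a *ᵥ v ∈ reeFixSub z := by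
  rw [mem_reeFixSub] at hv ⊢
  rw [Matrix.mulVec_mulVec, ← ha, ← Matrix.mulVec_mulVec, hv]

lemma ReeEl.finrank_W0 {z : M7 F} (hz : ReeEl z p) : Module.finrank F (reeW0 z) = 6 := by
  have h := LinearMap.finrank_range_add_finrank_ker (Matrix.mulVecLin (z - 1))
  have h1 : Module.finrank F (LinearMap.ker (Matrix.mulVecLin (z - 1))) = 1 := hz.finrank_fix
  have hfr : Module.finrank F (Fin 7 → F) = 7 := by simp
  rw [h1, hfr] at h
  have h2 : Module.finrank F (reeW0 z) = Module.finrank F (LinearMap.range (Matrix.mulVecLin (z - 1))) := rfl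
  omega

lemma ReeEl.W0_inf_Fix {z : M7 F} (hz : ReeEl z p) : reeW0 z ⊓ reeFixSub z = ⊥ := by
  have h1 := ree_card_invariant_modEq z hz.pow (reeW0 z) (fun v hv => W0_inv rfl hv)
  rw [hz.finrank_W0, hz.q6] at h1
  have h2 : Module.finrank F ↥(reeW0 z ⊓ reeFixSub z) ≤ 1 := by
    rw [← hz.finrank_fix]
    exact Submodule.finrank_mono inf_le_right
  by_cases h0 : Module.finrank F ↥(reeW0 z ⊓ reeFixSub z) = 0
  · exact Submodule.finrank_eq_zero.mp h0
  · exfalso
    have h3 : Module.finrank F ↥(reeW0 z ⊓ reeFixSub z) = 1 := by omega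
    rw [h3] at h1
    have := ree_pow_cases hz.qq hz.two hz.three (d := 1) (by omega) h1.symm
    omega

lemma ReeEl.W0_sup_Fix {z : M7 F} (hz : ReeEl z p) : reeW0 z ⊔ reeFixSub z = ⊤ := by
  apply Submodule.eq_top_of_finrank_eq
  have h := Submodule.finrank_sup_add_finrank_inf_eq (reeW0 z) (reeFixSub z)
  rw [hz.W0_inf_Fix, finrank_bot, hz.finrank_W0, hz.finrank_fix] at h
  simp only [add_zero] at h
  rw [h]
  simp

/-- irreducibility on `W₀` -/
lemma ReeEl.irr {z : M7 F} (hz : ReeEl z p) {U : Submodule F (Fin 7 → F)} (hU : ∀ v ∈ U, z *ᵥ v ∈ U) (hle : U ≤ reeW0 z) (hne : U ≠ ⊥) : U = reeW0 z := by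
  have h1 := ree_card_invariant_modEq z hz.pow U hU
  have h0 : U ⊓ reeFixSub z = ⊥ := by
    rw [eq_bot_iff, ← hz.W0_inf_Fix]
    exact inf_le_inf_right _ hle
  rw [h0, finrank_bot, pow_zero] at h1
  have h2 : Module.finrank F U ≤ 6 := by
    rw [← hz.finrank_W0]
    exact Submodule.finrank_mono hle
  by_cases h3 : Module.finrank F U = 6
  · apply Submodule.eq_of_le_of_finrank_eq hle
    rw [h3, hz.finrank_W0]
  · exfalso
    have := ree_pow_cases hz.qq hz.two hz.three (d := Module.finrank F U) (by omega) h1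
    exact hne (Submodule.finrank_eq_zero.mp this)

/-- the restriction of a matrix commuting with `z` -/
noncomputable def reeRes (z a : M7 F) (ha : a * z = z * a) : Module.End F (reeW0 z) :=
  (Matrix.mulVecLin a).restrict (fun _ hv => W0_inv ha hv)

lemma reeRes_apply {z a : M7 F} (ha : a * z = z * a) (w : reeW0 z) : (reeRes z a ha w).1 = a *ᵥ w.1 := rfl

/-- the commutant of `z` on `W₀` -/
abbrev reeComm (z : M7 F) : Subring (Module.End F (reeW0 z)) :=
  Subring.centralizer ({reeRes z z rfl} : Set (Module.End F (reeW0 z)))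

lemma mem_reeComm {z : M7 F} {u : Module.End F (reeW0 z)} : u ∈ reeComm z ↔ reeRes z z rfl * u = u * reeRes z z rfl := by
  rw [Subring.mem_centralizer_iff]
  simp

lemma reeRes_mem {z a : M7 F} (ha : a * z = z * a) : reeRes z a ha ∈ reeComm z := by
  rw [mem_reeComm]
  apply LinearMap.ext
  intro w
  apply Subtype.ext
  show z *ᵥ (a *ᵥ w.1) = a *ᵥ (z *ᵥ w.1)
  rw [Matrix.mulVec_mulVec, Matrix.mulVec_mulVec, ha]

instance reeFiniteEnd (z : M7 F) : Finite (Module.End F (reeW0 z)) := by
  classical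
  exact Module.finite_of_finite F

theorem ReeEl.comm_isDomain {z : M7 F} (hz : ReeEl z p) : IsDomain ↥(reeComm z) := by
  haveI : Nontrivial ↥(reeW0 z) := by
    apply Module.nontrivial_of_finrank_pos (R := F)
    rw [hz.finrank_W0]
    norm_num
  haveI : Nontrivial ↥(reeComm z) := inferInstance
  haveI : NoZeroDivisors ↥(reeComm z) := ⟨by
    rintro ⟨a, ha⟩ ⟨b, hb⟩ h
    by_contra hcon
    push Not at hcon
    have ha0 : a ≠ 0 := fun h0 => hcon.1 (Subtype.ext h0)
    have hb0 : b ≠ 0 := fun h0 => hcon.2 (Subtype.ext h0)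
    have hab : a * b = 0 := congrArg Subtype.val h
    -- the kernel of `a`
    let U : Submodule F (Fin 7 → F) := (LinearMap.ker a).map (reeW0 z).subtype
    have hUle : U ≤ reeW0 z := by
      rintro _ ⟨w, -, rfl⟩
      exact w.2
    have hUinv : ∀ v ∈ U, z *ᵥ v ∈ U := by
      rintro _ ⟨w, hw, rfl⟩
      refine ⟨reeRes z z rfl w, ?_, rfl⟩
      have h1 : a (reeRes z z rfl w) = reeRes z z rfl (a w) := by
        have := mem_reeComm.mp ha
        exact (congrArg (fun f : Module.End F (reeW0 z) => f w) this).symm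
      show a (reeRes z z rfl w) = 0
      rw [h1, (LinearMap.mem_ker.mp hw), map_zero]
    have hUne : U ≠ ⊥ := by
      intro h0
      apply hb0
      apply LinearMap.ext
      intro w
      have h1 : ((b w : reeW0 z) : Fin 7 → F) ∈ U := by
        refine ⟨b w, ?_, rfl⟩
        show a (b w) = 0
        exact congrArg (fun f : Module.End F (reeW0 z) => f w) hab
      rw [h0] at h1
      apply Subtype.ext
      simpa using h1
    have hU := hz.irr hUinv hUle hUne
    apply ha0
    apply LinearMap.ext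
    intro w
    have h1 : w.1 ∈ U := by
      rw [hU]
      exact w.2
    obtain ⟨w', hw', e⟩ := h1
    have e' : w' = w := Subtype.ext e
    rw [e'] at hw'
    exact LinearMap.mem_ker.mp hw'⟩
  exact NoZeroDivisors.to_isDomain _

/-- the commutativity of the commutant -/
theorem ReeEl.comm_res {z : M7 F} (hz : ReeEl z p) {a b : M7 F} (ha : a * z = z * a) (hb : b * z = z * b) (w : Fin 7 → F) (hw : w ∈ reeW0 z) :
    a *ᵥ (b *ᵥ w) = b *ᵥ (a *ᵥ w) := by
  haveI := hz.comm_isDomain
  haveI : Finite ↥(reeComm z) := Finite.of_injective (fun x : ↥(reeComm z) => x.1) Subtype.val_injective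
  have h := (Finite.isDomain_to_isField ↥(reeComm z)).mul_comm ⟨_, reeRes_mem ha⟩ ⟨_, reeRes_mem hb⟩
  have h1 := congrArg Subtype.val h
  have h2 := congrArg (fun f : Module.End F (reeW0 z) => ((f ⟨w, hw⟩ : reeW0 z) : Fin 7 → F)) h1
  exact h2

lemma ReeEl.exists_fix {z : M7 F} (hz : ReeEl z p) : ∃ v₀ ∈ reeFixSub z, v₀ ≠ 0 ∧ ∀ v ∈ reeFixSub z, ∃ c : F, v = c • v₀ := by
  have h := hz.finrank_fix
  obtain ⟨v, hv, hall⟩ := finrank_eq_one_iff'.mp h
  refine ⟨v.1, v.2, fun h0 => hv (Subtype.ext h0), ?_⟩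
  intro w hw
  obtain ⟨c, hc⟩ := hall ⟨w, hw⟩
  refine ⟨c, ?_⟩
  have := congrArg Subtype.val hc
  exact this.symm


/-- the commutant of `z` is commutative -/
theorem ReeEl.comm {z : M7 F} (hz : ReeEl z p) {a b : M7 F} (ha : a * z = z * a) (hb : b * z = z * b) : a * b = b * a := by
  obtain ⟨v₀, hv₀, -, hall⟩ := hz.exists_fix
  have h1 : ∀ v : Fin 7 → F, a *ᵥ (b *ᵥ v) = b *ᵥ (a *ᵥ v) := by
    intro v
    have hv : v ∈ reeW0 z ⊔ reeFixSub z := by
      rw [hz.W0_sup_Fix]
      exact Submodule.mem_top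
    obtain ⟨w, hw, u, hu, rfl⟩ := Submodule.mem_sup.mp hv
    rw [Matrix.mulVec_add, Matrix.mulVec_add, Matrix.mulVec_add, Matrix.mulVec_add, hz.comm_res ha hb w hw]
    congr 1
    obtain ⟨c₁, e₁⟩ := hall _ (Fix_inv ha hv₀)
    obtain ⟨c₂, e₂⟩ := hall _ (Fix_inv hb hv₀)
    obtain ⟨c, rfl⟩ := hall u hu
    rw [Matrix.mulVec_smul, Matrix.mulVec_smul, Matrix.mulVec_smul, Matrix.mulVec_smul, e₁, e₂, Matrix.mulVec_smul, Matrix.mulVec_smul, e₁, e₂, smul_smul, smul_smul, smul_smul, smul_smul, mul_right_comm]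
  ext i j
  have h2 := congrFun (h1 (Pi.single j 1)) i
  simp only [Matrix.mulVec_mulVec, Matrix.mulVec_single_one] at h2
  exact h2

/-- a finite group mapping injectively to a finite domain is cyclic -/
lemma isCyclic_of_domain_hom' {R : Type*} [Ring R] [IsDomain R] [Finite R] {H : Type*} [Group H] [Finite H] (f : H →* R)
    (hf : Function.Injective f) : IsCyclic H := by
  letI := (Finite.isDomain_to_isField R).toField
  exact isCyclic_of_injective_ringHom f hf

/-- a group acting trivially on the fixed line and commuting with `z` is cyclic -/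
theorem ReeEl.isCyclic_of_comm {z : M7 F} (hz : ReeEl z p) {H : Type*} [Group H] [Finite H] (f : H →* M7 F)
    (hf : Function.Injective f) (hc : ∀ h : H, f h * z = z * f h) (hfix : ∀ (h : H), ∀ v ∈ reeFixSub z, f h *ᵥ v = v) : IsCyclic H := by
  haveI := hz.comm_isDomain
  haveI : Finite ↥(reeComm z) := Finite.of_injective (fun x : ↥(reeComm z) => x.1) Subtype.val_injective
  let g : H →* ↥(reeComm z) :=
    { toFun := fun h => ⟨reeRes z (f h) (hc h), reeRes_mem (hc h)⟩
      map_one' := by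
        apply Subtype.ext
        apply LinearMap.ext
        intro w
        apply Subtype.ext
        show f 1 *ᵥ w.1 = w.1
        rw [map_one, Matrix.one_mulVec]
      map_mul' := fun a b => by
        apply Subtype.ext
        apply LinearMap.ext
        intro w
        apply Subtype.ext
        show f (a * b) *ᵥ w.1 = f a *ᵥ (f b *ᵥ w.1)
        rw [map_mul, Matrix.mulVec_mulVec] }
  apply isCyclic_of_domain_hom' g
  intro a b hab
  apply hf
  have h1 : ∀ v : Fin 7 → F, f a *ᵥ v = f b *ᵥ v := by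
    intro v
    have hv : v ∈ reeW0 z ⊔ reeFixSub z := by
      rw [hz.W0_sup_Fix]
      exact Submodule.mem_top
    obtain ⟨w, hw, u, hu, rfl⟩ := Submodule.mem_sup.mp hv
    rw [Matrix.mulVec_add, Matrix.mulVec_add, hfix a u hu, hfix b u hu]
    congr 1
    have e := congrArg Subtype.val hab
    have e2 := congrArg (fun l : Module.End F (reeW0 z) => ((l ⟨w, hw⟩ : reeW0 z) : Fin 7 → F)) e
    exact e2
  ext i j
  have h2 := congrFun (h1 (Pi.single j 1)) i
  simp only [Matrix.mulVec_single_one] at h2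
  exact h2

/-- the restriction as a ring homomorphism -/
noncomputable def reeResHom (z : M7 F) : ↥(Subalgebra.centralizer F ({z} : Set (M7 F))) →+* ↥(reeComm z) where
  toFun a := ⟨reeRes z a.1 (by
    have := (Subalgebra.mem_centralizer_iff F).mp a.2 z (by simp)
    exact this.symm), reeRes_mem _⟩
  map_one' := by
    apply Subtype.ext
    apply LinearMap.ext
    intro w
    apply Subtype.ext
    show (1 : M7 F) *ᵥ w.1 = w.1
    rw [Matrix.one_mulVec]
  map_mul' a b := by
    apply Subtype.ext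
    apply LinearMap.ext
    intro w
    apply Subtype.ext
    show (a.1 * b.1) *ᵥ w.1 = a.1 *ᵥ (b.1 *ᵥ w.1)
    rw [Matrix.mulVec_mulVec]
  map_zero' := by
    apply Subtype.ext
    apply LinearMap.ext
    intro w
    apply Subtype.ext
    show (0 : M7 F) *ᵥ w.1 = 0
    rw [Matrix.zero_mulVec]
  map_add' a b := by
    apply Subtype.ext
    apply LinearMap.ext
    intro w
    apply Subtype.ext
    show (a.1 + b.1) *ᵥ w.1 = a.1 *ᵥ w.1 + b.1 *ᵥ w.1
    rw [Matrix.add_mulVec]

/-- at most six conjugates of `z` commute with `z` and act trivially on the fixed line -/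
theorem ReeEl.card_conj_le {z : M7 F} (hz : ReeEl z p) (S : Finset (M7 F))
    (hS : ∀ s ∈ S, s * z = z * s ∧ s.charpoly = z.charpoly ∧ s ≠ 1 ∧ ∀ v ∈ reeFixSub z, s *ᵥ v = v) : S.card ≤ 6 := by
  classical
  haveI := hz.comm_isDomain
  haveI : Finite ↥(reeComm z) := Finite.of_injective (fun x : ↥(reeComm z) => x.1) Subtype.val_injective
  letI := (Finite.isDomain_to_isField ↥(reeComm z)).toField
  let C := Subalgebra.centralizer F ({z} : Set (M7 F))
  let r := reeResHom z
  let ι : F →+* ↥(reeComm z) := r.comp (algebraMap F C)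
  have hmem : ∀ s ∈ S, s ∈ C := by
    intro s hs
    rw [Subalgebra.mem_centralizer_iff]
    intro y hy
    obtain rfl : y = z := by simpa using hy
    exact (hS s hs).1.symm
  have hext : ∀ (s : M7 F) (hs : s ∈ S) (s' : M7 F) (hs' : s' ∈ S), r ⟨s, hmem s hs⟩ = r ⟨s', hmem s' hs'⟩ → s = s' := by
    intro s hs s' hs' h
    have h1 : ∀ v : Fin 7 → F, s *ᵥ v = s' *ᵥ v := by
      intro v
      have hv : v ∈ reeW0 z ⊔ reeFixSub z := by
        rw [hz.W0_sup_Fix]
        exact Submodule.mem_top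
      obtain ⟨w, hw, u, hu, rfl⟩ := Submodule.mem_sup.mp hv
      rw [Matrix.mulVec_add, Matrix.mulVec_add, (hS s hs).2.2.2 u hu, (hS s' hs').2.2.2 u hu]
      congr 1
      have e := congrArg Subtype.val h
      have e2 := congrArg (fun l : Module.End F (reeW0 z) => ((l ⟨w, hw⟩ : reeW0 z) : Fin 7 → F)) e
      exact e2
    ext i j
    have h2 := congrFun (h1 (Pi.single j 1)) i
    simp only [Matrix.mulVec_single_one] at h2
    exact h2
  have hne1 : ∀ (s : M7 F) (hs : s ∈ S), r ⟨s, hmem s hs⟩ ≠ 1 := by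
    intro s hs h
    apply (hS s hs).2.2.1
    have h1 : ∀ v : Fin 7 → F, s *ᵥ v = v := by
      intro v
      have hv : v ∈ reeW0 z ⊔ reeFixSub z := by
        rw [hz.W0_sup_Fix]
        exact Submodule.mem_top
      obtain ⟨w, hw, u, hu, rfl⟩ := Submodule.mem_sup.mp hv
      rw [Matrix.mulVec_add, (hS s hs).2.2.2 u hu]
      congr 1
      have e := congrArg Subtype.val h
      have e2 := congrArg (fun l : Module.End F (reeW0 z) => ((l ⟨w, hw⟩ : reeW0 z) : Fin 7 → F)) e
      exact e2
    ext i j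
    have h2 := congrFun (h1 (Pi.single j 1)) i
    simp only [Matrix.mulVec_single_one] at h2
    simpa [Matrix.one_apply, Pi.single_apply, eq_comm] using h2
  let P : Polynomial ↥(reeComm z) := z.charpoly.map ι
  have hP0 : P ≠ 0 := by
    apply Polynomial.map_ne_zero
    exact (Matrix.charpoly_monic z).ne_zero
  have hdeg : P.natDegree = 7 := by
    rw [Polynomial.natDegree_map, Matrix.charpoly_natDegree_eq_dim]
    simp
  have hroot : ∀ a : C, Polynomial.aeval a.1 z.charpoly = 0 → Polynomial.eval (r a) P = 0 := by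
    intro a ha
    rw [Polynomial.eval_map]
    have h1 : r (Polynomial.eval₂ (algebraMap F C) a z.charpoly) = Polynomial.eval₂ ι (r a) z.charpoly :=
      Polynomial.hom_eval₂ _ _ _ _
    rw [← h1]
    have h2 : Polynomial.eval₂ (algebraMap F C) a z.charpoly = 0 := by
      apply Subtype.ext
      have h3 : ((Polynomial.aeval a z.charpoly : C) : M7 F) = Polynomial.aeval a.1 z.charpoly :=
        (Polynomial.aeval_algHom_apply C.val a z.charpoly).symm
      exact h3.trans ha
    rw [h2, map_zero]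
  let Z : Finset ↥(reeComm z) := insert 1 (S.attach.image (fun s => r ⟨s.1, hmem s.1 s.2⟩))
  have hZ : Z.val ⊆ P.roots := by
    intro x hx
    have hx' : x ∈ Z := hx
    rw [Polynomial.mem_roots hP0, Polynomial.IsRoot.def]
    rcases Finset.mem_insert.mp hx' with rfl | hx'
    · have := hroot 1 (by
        obtain ⟨v₀, hv₀, hv0, -⟩ := hz.exists_fix
        have hdet : (Matrix.scalar (Fin 7) (1 : F) - z).det = 0 := by
          apply Matrix.exists_mulVec_eq_zero_iff.mp
          refine ⟨v₀, hv0, ?_⟩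
          rw [Matrix.sub_mulVec, mem_reeFixSub.mp hv₀]
          simp
        have h4 : (z.charpoly).eval (1 : F) = 0 := by
          rw [Matrix.eval_charpoly]
          exact hdet
        have h5 : Polynomial.aeval ((1 : C) : M7 F) z.charpoly = algebraMap F (M7 F) (z.charpoly.eval 1) := by
          show Polynomial.aeval (1 : M7 F) z.charpoly = _
          have := Polynomial.aeval_algebraMap_apply (M7 F) (1 : F) z.charpoly
          simpa using this
        rw [h5, h4, map_zero])
      simpa using this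
    · obtain ⟨s, -, rfl⟩ := Finset.mem_image.mp hx'
      apply hroot
      show Polynomial.aeval s.1 z.charpoly = 0
      rw [← (hS s.1 s.2).2.1]
      exact Matrix.aeval_self_charpoly _
  have h := Polynomial.card_le_degree_of_subset_roots hZ
  rw [hdeg] at h
  have hnot : (1 : ↥(reeComm z)) ∉ S.attach.image (fun s => r ⟨s.1, hmem s.1 s.2⟩) := by
    intro h1
    obtain ⟨s, -, e⟩ := Finset.mem_image.mp h1
    exact hne1 s.1 s.2 e
  have hcard : Z.card = S.card + 1 := by
    rw [Finset.card_insert_of_notMem hnot, Finset.card_image_of_injective, Finset.card_attach]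
    intro s s' e
    exact Subtype.ext (hext s.1 s.2 s'.1 s'.2 e)
  omega

end

end Cfsg.Agent.H10
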