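import Cfsg.Agent.Lib.H10.ReeQ7
import Cfsg.Agent.Lib.H10.ReeE1

/-!
# The small Ree group: centralisers of elements whose order divides `q² - q + 1`
-/

set_option autoImplicit false
set_option linter.style.longLine false
set_option linter.unusedSimpArgs false
set_option linter.unusedSectionVars false
set_option linter.style.haveILetI false
set_option maxRecDepth 100000

open Cfsg Cfsg.Lie Cfsg.Agent.H04.Chev Matrix
open scoped MatrixGroups commutatorElement Pointwise

namespace Cfsg.Agent.H10

section generic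

variable {G : Type*} [Group G] [Finite G]

/-- Elements of equal prime order are conjugate into each other's cyclic group. -/
lemma exists_conj_zpowers_of_cyclic {p : ℕ} [Fact p.Prime] (hc : ∀ P : Sylow p G, IsCyclic (P : Subgroup G))
    {y y' : G} (hy : orderOf y = p) (hy' : orderOf y' = p) :
    ∃ g : G, g * y * g⁻¹ ∈ Subgroup.zpowers y' := by
  classical
  haveI : Fintype G := Fintype.ofFinite G
  have hpy : ∀ t : G, orderOf t = p → IsPGroup p (Subgroup.zpowers t) := by
    intro t ht
    rw [IsPGroup.iff_card]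
    exact ⟨1, by rw [Nat.card_zpowers, ht, pow_one]⟩
  obtain ⟨Q, hQ⟩ := (hpy y hy).exists_le_sylow
  obtain ⟨P, hP⟩ := (hpy y' hy').exists_le_sylow
  obtain ⟨g, hg⟩ := MulAction.exists_smul_eq G Q P
  refine ⟨g, ?_⟩
  have hyQ : y ∈ (Q : Subgroup G) := hQ (Subgroup.mem_zpowers y)
  have hy'P : y' ∈ (P : Subgroup G) := hP (Subgroup.mem_zpowers y')
  have hgy : g * y * g⁻¹ ∈ (P : Subgroup G) := by
    rw [← hg, Sylow.coe_subgroup_smul, Subgroup.mem_pointwise_smul_iff_inv_smul_mem]
    simpa [MulAut.smul_def, MulAut.conj_apply, mul_assoc] using hyQ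
  haveI hcyc : IsCyclic ↥(P : Subgroup G) := hc P
  have hle := IsCyclic.card_pow_eq_one_le (α := ↥(P : Subgroup G)) (n := p) (Fact.out : p.Prime).pos
  let S : Finset ↥(P : Subgroup G) := Finset.univ.filter (fun a => a ^ p = 1)
  let y'' : ↥(P : Subgroup G) := ⟨y', hy'P⟩
  have hy''ord : orderOf y'' = p := by
    exact (Subgroup.orderOf_mk _ _).trans hy'
  let T : Finset ↥(P : Subgroup G) := Finset.univ.filter (· ∈ Subgroup.zpowers y'')
  have hTS : T ⊆ S := by
    intro a ha
    simp only [T, Finset.mem_filter, Finset.mem_univ, true_and] at ha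
    simp only [S, Finset.mem_filter, Finset.mem_univ, true_and]
    obtain ⟨i, rfl⟩ := ha
    show (y'' ^ i) ^ p = 1
    have hy''p : y'' ^ p = 1 := orderOf_dvd_iff_pow_eq_one.1 (dvd_of_eq hy''ord)
    rw [← zpow_natCast, ← _root_.zpow_mul, mul_comm, _root_.zpow_mul, zpow_natCast, hy''p, _root_.one_zpow]
  have hTc : T.card = p := by
    have : T.card = Nat.card (Subgroup.zpowers y'') := by
      rw [Nat.card_eq_fintype_card, Fintype.card_subtype]
    rw [this, Nat.card_zpowers, hy''ord]
  have hST : S = T := (Finset.eq_of_subset_of_card_le hTS (by rw [hTc]; exact hle)).symm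
  have hmemS : (⟨g * y * g⁻¹, hgy⟩ : ↥(P : Subgroup G)) ∈ S := by
    simp only [S, Finset.mem_filter, Finset.mem_univ, true_and]
    apply Subtype.ext
    show (g * y * g⁻¹) ^ p = 1
    have hyp : y ^ p = 1 := orderOf_dvd_iff_pow_eq_one.1 (dvd_of_eq hy)
    rw [conj_pow, hyp, mul_one, mul_inv_cancel]
  rw [hST] at hmemS
  simp only [T, Finset.mem_filter, Finset.mem_univ, true_and] at hmemS
  obtain ⟨i, hi⟩ := hmemS
  refine ⟨i, ?_⟩
  have := congrArg Subtype.val hi
  simpa using this

end generic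

variable {K : Type*} [Field K] [CharP K 3] {m : ℕ} [Fintype K] (hK : Fintype.card K = 3 ^ (2 * m + 1))

/-- the matrix of an element -/
noncomputable def r7M : RT K m →* M7 K := (Units.coeHom _).comp (r7 hK)

lemma r7M_inj : Function.Injective (r7M hK) := fun _ _ h => r7_ext hK h

include hK

lemma reeEl_of {s : ℕ} [hs : Fact s.Prime] (hsD : s ∣ reeDD m) {z : RT K m} (hz : orderOf z = s) : ReeEl (r7M hK z) s where
  pow := by rw [← map_pow, ← hz, pow_orderOf_eq_one, map_one]
  ne := by
    intro h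
    have : z = 1 := r7M_inj hK (by rw [h, map_one])
    rw [this, orderOf_one] at hz
    exact hs.out.one_lt.ne hz
  qq := by
    have h1 : ((reeDD m : ℕ) : ZMod s) = 0 := (ZMod.natCast_eq_zero_iff _ _).2 hsD
    have h2 := congrArg (Nat.cast : ℕ → ZMod s) (reeD_spec m)
    push_cast at h2
    rw [hK]
    push_cast
    rw [h1] at h2
    linear_combination -h2
  two := by
    intro h
    have h1 : ((2 : ℕ) : ZMod s) = 0 := by exact_mod_cast h
    have h2 := (ZMod.natCast_eq_zero_iff _ _).1 h1
    have h3 := (Nat.prime_dvd_prime_iff_eq hs.out Nat.prime_two).1 h2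
    subst h3
    exact reeD_not_two m hsD
  three := by
    intro h
    have h1 : ((3 : ℕ) : ZMod s) = 0 := by exact_mod_cast h
    have h2 := (ZMod.natCast_eq_zero_iff _ _).1 h1
    have h3 := (Nat.prime_dvd_prime_iff_eq hs.out Nat.prime_three).1 h2
    subst h3
    exact reeD_not_three m hsD

lemma r7M_comm {x y : RT K m} (h : x * y = y * x) : r7M hK x * r7M hK y = r7M hK y * r7M hK x := by
  rw [← map_mul, ← map_mul, h]

/-- the centraliser of a prime-order element with order dividing `D` is abelian -/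
lemma comm_of_prime_D {s : ℕ} (hs : s.Prime) (hsD : s ∣ reeDD m) {z a b : RT K m} (hz : orderOf z = s) (ha : a * z = z * a) (hb : b * z = z * b) :
    a * b = b * a := by
  haveI : Fact s.Prime := ⟨hs⟩
  have h := (reeEl_of hK hsD hz).comm (r7M_comm hK ha) (r7M_comm hK hb)
  apply r7M_inj hK
  rw [map_mul, map_mul, h]

/-- elements with order dividing `D` act trivially on the fixed line -/
lemma trivial_on_fix {s : ℕ} [hs : Fact s.Prime] (hsD : s ∣ reeDD m) {z y : RT K m} (hz : orderOf z = s) (hc : y * z = z * y) (hy : orderOf y ∣ reeDD m)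
    (v : Fin 7 → K) (hv : v ∈ reeFixSub (r7M hK z)) : r7M hK y *ᵥ v = v := by
  have hEl := reeEl_of hK hsD hz
  obtain ⟨v₀, hv₀, hv0, hspan⟩ := hEl.exists_fix
  have hcM := r7M_comm hK hc
  obtain ⟨c, hc'⟩ := hspan _ (Fix_inv hcM hv₀)
  have hpow : ∀ k : ℕ, (r7M hK y) ^ k *ᵥ v₀ = c ^ k • v₀ := by
    intro k
    induction k with
    | zero => simp
    | succ k ih =>
      rw [pow_succ, ← Matrix.mulVec_mulVec, hc', Matrix.mulVec_smul, ih, smul_smul, pow_succ, mul_comm]
  have h1 : c ^ orderOf y = 1 := by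
    have h2 := hpow (orderOf y)
    rw [← map_pow, pow_orderOf_eq_one, map_one, Matrix.one_mulVec] at h2
    have h3 : (c ^ orderOf y - 1) • v₀ = 0 := by
      rw [sub_smul, one_smul, ← h2, sub_self]
    rcases smul_eq_zero.1 h3 with h4 | h4
    · linear_combination h4
    · exact absurd h4 hv0
  have hc0 : c ≠ 0 := by
    rintro rfl
    rw [zero_pow (orderOf_pos y).ne'] at h1
    exact zero_ne_one h1
  have h2 : c ^ (2 * reeH m) = 1 := by
    have := FiniteField.pow_card_sub_one_eq_one c hc0
    have e : Fintype.card K - 1 = 2 * reeH m := by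
      rw [hK, ← reeH_spec m]
      simp
    rwa [e] at this
  have h3 : c = 1 := by
    have h4 : orderOf c ∣ orderOf y := orderOf_dvd_of_pow_eq_one h1
    have h5 : orderOf c ∣ 2 * reeH m := orderOf_dvd_of_pow_eq_one h2
    have h6 : Nat.Coprime (orderOf y) (2 * reeH m) := Nat.Coprime.coprime_dvd_left hy (reeD_cop_2h m)
    have h7 : orderOf c ∣ 1 := by
      rw [← h6]
      exact Nat.dvd_gcd h4 h5
    exact orderOf_eq_one_iff.mp (Nat.dvd_one.mp h7)
  obtain ⟨c', rfl⟩ := hspan v hv
  rw [Matrix.mulVec_smul, hc', h3, one_smul]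

omit hK in
/-- The centralisers of the relevant elements. -/
def IsRA (hK : Fintype.card K = 3 ^ (2 * m + 1)) (A : Subgroup (RT K m)) : Prop :=
  ∃ (s : ℕ) (z : RT K m), s.Prime ∧ s ∣ reeDD m ∧ orderOf z = s ∧ A = Subgroup.centralizer ({z} : Set (RT K m))

variable {hK} {A : Subgroup (RT K m)}

lemma IsRA.comm (hA : IsRA hK A) {a b : RT K m} (ha : a ∈ A) (hb : b ∈ A) : a * b = b * a := by
  obtain ⟨s, z, hs, hsD, hz, rfl⟩ := hA
  exact comm_of_prime_D hK hs hsD hz (Subgroup.mem_centralizer_singleton_iff.1 ha) (Subgroup.mem_centralizer_singleton_iff.1 hb)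

lemma IsRA.ord (hA : IsRA hK A) {a : RT K m} (ha : a ∈ A) : orderOf a ∣ reeDD m := by
  obtain ⟨s, z, hs, hsD, hz, rfl⟩ := hA
  exact orderOf_dvd_D_of_comm hK hs hsD hz (Subgroup.mem_centralizer_singleton_iff.1 ha)

lemma IsRA.exists_ne (hA : IsRA hK A) : ∃ a ∈ A, a ≠ 1 := by
  obtain ⟨s, z, hs, hsD, hz, rfl⟩ := hA
  refine ⟨z, Subgroup.mem_centralizer_singleton_iff.2 rfl, ?_⟩
  rintro rfl
  rw [orderOf_one] at hz
  exact hs.one_lt.ne hz

omit hK in
/-- elements of order dividing `D` have a prime power -/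
lemma exists_prime_pow_D {y : RT K m} (hy : orderOf y ∣ reeDD m) (h1 : y ≠ 1) :
    ∃ s k, s.Prime ∧ s ∣ reeDD m ∧ orderOf (y ^ k) = s := by
  have h2 : orderOf y ≠ 1 := fun h => h1 (orderOf_eq_one_iff.mp h)
  obtain ⟨s, hs, hsy⟩ := Nat.exists_prime_and_dvd h2
  exact ⟨s, orderOf y / s, hs, dvd_trans hsy hy, orderOf_pow_orderOf_div (orderOf_pos y).ne' hsy⟩

/-- the subgroup is the centraliser of each of its non-trivial elements -/
lemma IsRA.centralizer_eq (hA : IsRA hK A) {y : RT K m} (hy : y ∈ A) (h1 : y ≠ 1) : Subgroup.centralizer ({y} : Set (RT K m)) = A := by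
  apply le_antisymm
  · obtain ⟨s, z, hs, hsD, hz, rfl⟩ := id hA
    intro t ht
    have ht' := Subgroup.mem_centralizer_singleton_iff.1 ht
    obtain ⟨s', k, hs', hsD', hz'⟩ := exists_prime_pow_D (hA.ord hy) h1
    have hy' := Subgroup.mem_centralizer_singleton_iff.1 hy
    have c1 : t * y ^ k = y ^ k * t := (Commute.pow_right (show Commute t y from ht') k)
    have c2 : z * y ^ k = y ^ k * z := (Commute.pow_right (show Commute z y from hy'.symm) k)
    rw [Subgroup.mem_centralizer_singleton_iff]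
    exact comm_of_prime_D hK hs' hsD' hz' c1 c2
  · intro t ht
    rw [Subgroup.mem_centralizer_singleton_iff]
    exact hA.comm ht hy

variable (hK) in
/-- elements of order dividing `D` yield the subgroups -/
lemma isRA_centralizer {y : RT K m} (hy : orderOf y ∣ reeDD m) (h1 : y ≠ 1) :
    IsRA hK (Subgroup.centralizer ({y} : Set (RT K m))) := by
  obtain ⟨s', k, hs', hsD', hz'⟩ := exists_prime_pow_D hy h1
  have hA : IsRA hK (Subgroup.centralizer ({y ^ k} : Set (RT K m))) := ⟨s', _, hs', hsD', hz', rfl⟩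
  have hmem : y ∈ Subgroup.centralizer ({y ^ k} : Set (RT K m)) := by
    rw [Subgroup.mem_centralizer_singleton_iff]
    exact (Commute.pow_right (Commute.refl y) k)
  rw [hA.centralizer_eq hmem h1]
  exact hA

lemma IsRA.isCyclic (hA : IsRA hK A) : IsCyclic A := by
  haveI := t_finite hK
  obtain ⟨s, z, hs, hsD, hz, rfl⟩ := id hA
  haveI : Fact s.Prime := ⟨hs⟩
  exact (reeEl_of hK hsD hz).isCyclic_of_comm ((r7M hK).comp (Subgroup.subtype _))
    (fun a b h => Subtype.ext (r7M_inj hK h))
    (fun h => r7M_comm hK (Subgroup.mem_centralizer_singleton_iff.1 h.2))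
    (fun h v hv => trivial_on_fix hK hsD hz (Subgroup.mem_centralizer_singleton_iff.1 h.2) (hA.ord h.2) v hv)

lemma IsRA.card_dvd (hA : IsRA hK A) : Nat.card A ∣ reeDD m := by
  haveI := t_finite hK
  haveI := hA.isCyclic
  obtain ⟨g, hg⟩ := IsCyclic.exists_generator (α := A)
  have h1 := orderOf_eq_card_of_forall_mem_zpowers hg
  rw [← h1, Subgroup.orderOf_coe g |>.symm]
  exact hA.ord g.2

omit hK in
lemma ree_q_mod5 (m : ℕ) : 3 ^ (2 * m + 1) % 5 = 3 ∨ 3 ^ (2 * m + 1) % 5 = 2 := by
  induction m with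
  | zero => left; rfl
  | succ n ih =>
    have : 3 ^ (2 * (n + 1) + 1) = 3 ^ (2 * n + 1) * 9 := by ring
    generalize 3 ^ (2 * n + 1) = q at *
    omega

omit hK in
lemma ree_five_not (m : ℕ) : ¬ 5 ∣ (3 ^ (2 * m + 1)) ^ 3 * (2 * reeH m) * (4 * reeN m) * reeDD m := by
  intro h
  have h5 := ree_q_mod5 m
  have h1 := reeH_spec m
  have h2 := reeN_spec m
  have h3 := reeD_spec m
  rcases ree_prime_cases (by norm_num) h with h | h | h | h | h
  · omega
  · omega
  · generalize 3 ^ (2 * m + 1) = q at *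
    omega
  · generalize 3 ^ (2 * m + 1) = q at *
    omega
  · obtain ⟨c, hc⟩ := h
    rw [hc] at h3
    generalize 3 ^ (2 * m + 1) = q at *
    have e : q ^ 2 % 5 = (q % 5) ^ 2 % 5 := Nat.pow_mod q 2 5
    rcases h5 with h5 | h5 <;> rw [h5] at e <;> norm_num at e <;> omega

lemma IsRA.seven_le (hA : IsRA hK A) : 7 ≤ Nat.card A := by
  haveI := t_finite hK
  obtain ⟨a, ha, ha1⟩ := hA.exists_ne
  have h1 : Nat.card A ≠ 1 := by
    intro h
    have h2 : (⟨a, ha⟩ : A) = 1 := by
      have := Finite.card_le_one_iff_subsingleton.mp h.le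
      exact Subsingleton.elim _ _
    exact ha1 (congrArg Subtype.val h2)
  obtain ⟨s, hs, hsA⟩ := Nat.exists_prime_and_dvd h1
  have hsD := dvd_trans hsA hA.card_dvd
  have h7 : 7 ≤ s := by
    have h2 : s ≠ 2 := by
      rintro rfl
      exact reeD_not_two m hsD
    have h3 : s ≠ 3 := by
      rintro rfl
      exact reeD_not_three m hsD
    have h5 : s ≠ 5 := by
      rintro rfl
      exact ree_five_not m (Dvd.dvd.mul_left hsD _)
    have h4 : s ≠ 4 := by
      rintro rfl
      exact absurd hs (by norm_num)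
    have h6 : s ≠ 6 := by
      rintro rfl
      exact absurd hs (by norm_num)
    have := hs.two_le
    omega
  exact le_trans h7 (Nat.le_of_dvd Nat.card_pos hsA)

/-- The bound on the normaliser. -/
theorem IsRA.card_normalizer_le (hA : IsRA hK A) : Nat.card (Subgroup.normalizer (A : Set (RT K m))) ≤ 6 * Nat.card A := by
  classical
  haveI := t_finite hK
  haveI : Fintype (RT K m) := Fintype.ofFinite _
  obtain ⟨s, z, hs, hsD, hz, hAz⟩ := id hA
  haveI : Fact s.Prime := ⟨hs⟩
  have hEl := reeEl_of hK hsD hz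
  have hz1 : z ≠ 1 := by
    rintro rfl
    rw [orderOf_one] at hz
    exact hs.one_lt.ne hz
  have hzA : z ∈ A := by
    rw [hAz, Subgroup.mem_centralizer_singleton_iff]
  let f : RT K m → M7 K := fun g => r7M hK (g * z * g⁻¹)
  let N : Finset (RT K m) := Finset.univ.filter (· ∈ Subgroup.normalizer (A : Set (RT K m)))
  let AA : Finset (RT K m) := Finset.univ.filter (· ∈ A)
  have hNc : Nat.card (Subgroup.normalizer (A : Set (RT K m))) = N.card := by
    rw [Nat.card_eq_fintype_card, Fintype.card_subtype]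
  have hAc : Nat.card A = AA.card := by
    rw [Nat.card_eq_fintype_card, Fintype.card_subtype]
  have hfib : ∀ b ∈ N.image f, (N.filter (fun g => f g = b)).card ≤ Nat.card A := by
    intro b hb
    obtain ⟨g₀, hg₀, rfl⟩ := Finset.mem_image.1 hb
    rw [hAc]
    apply Finset.card_le_card_of_injOn (fun g => g₀⁻¹ * g)
    · intro g hg
      have hg' := (Finset.mem_filter.1 hg).2
      have h1 : g * z * g⁻¹ = g₀ * z * g₀⁻¹ := r7M_inj hK hg'
      simp only [AA, Finset.coe_filter, Finset.mem_univ, true_and, Set.mem_setOf_eq]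
      rw [hAz, Subgroup.mem_centralizer_singleton_iff]
      calc g₀⁻¹ * g * z = g₀⁻¹ * (g * z * g⁻¹) * g := by group
        _ = g₀⁻¹ * (g₀ * z * g₀⁻¹) * g := by rw [h1]
        _ = _ := by group
    · intro a _ b _ h
      exact mul_left_cancel h
  have himg : (N.image f).card ≤ 6 := by
    apply hEl.card_conj_le
    intro t ht
    obtain ⟨g, hg, rfl⟩ := Finset.mem_image.1 ht
    have hgN := (Finset.mem_filter.1 hg).2
    have hmem : g * z * g⁻¹ ∈ A := (Subgroup.mem_normalizer_iff.1 hgN _).1 hzA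
    refine ⟨?_, ?_, ?_, ?_⟩
    · exact r7M_comm hK (hA.comm hmem hzA)
    · let u : (M7 K)ˣ := ⟨r7M hK g, r7M hK g⁻¹, by rw [← map_mul, mul_inv_cancel, map_one], by
        rw [← map_mul, inv_mul_cancel, map_one]⟩
      have hinv : ((u : M7 K))⁻¹ = r7M hK g⁻¹ := by
        rw [← Matrix.coe_units_inv]
        rfl
      have e : f g = (u : M7 K) * r7M hK z * ((u : M7 K))⁻¹ := by
        rw [hinv]
        show r7M hK _ = r7M hK g * r7M hK z * r7M hK g⁻¹
        rw [map_mul, map_mul]
      rw [e]
      exact Matrix.charpoly_units_conj u _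
    · intro h
      have h1 : g * z * g⁻¹ = 1 := r7M_inj hK (by rw [map_one]; exact h)
      apply hz1
      have : z = g⁻¹ * (g * z * g⁻¹) * g := by group
      rw [this, h1]
      group
    · intro v hv
      exact trivial_on_fix hK hsD hz (hA.comm hmem hzA) (hA.ord hmem) v hv
  have h := Finset.card_le_mul_card_image (f := f) N (Nat.card A) hfib
  rw [hNc]
  calc N.card ≤ Nat.card A * (N.image f).card := h
    _ ≤ Nat.card A * 6 := Nat.mul_le_mul_left _ himg
    _ = _ := mul_comm _ _

/-- The index of the subgroup in its normaliser. -/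
theorem IsRA.exists_index (hA : IsRA hK A) : ∃ e : ℕ, (e = 1 ∨ e = 2 ∨ e = 3 ∨ e = 4 ∨ e = 6) ∧
      Nat.card (Subgroup.normalizer (A : Set (RT K m))) = e * Nat.card A := by
  haveI := t_finite hK
  have hle : A ≤ Subgroup.normalizer (A : Set (RT K m)) := Subgroup.le_normalizer
  obtain ⟨e, he⟩ := Subgroup.card_dvd_of_le hle
  have hApos : 0 < Nat.card A := Nat.card_pos
  have h1 := hA.card_normalizer_le
  have h2 : 0 < Nat.card (Subgroup.normalizer (A : Set (RT K m))) := Nat.card_pos
  have he1 : e ≤ 6 := by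
    rw [he] at h1
    rw [mul_comm] at h1
    exact Nat.le_of_mul_le_mul_right h1 hApos
  have he0 : e ≠ 0 := by
    rintro rfl
    rw [he, mul_zero] at h2
    exact lt_irrefl _ h2
  have he5 : e ≠ 5 := by
    rintro rfl
    apply ree_five_not m
    rw [← card_T' hK]
    apply dvd_trans _ (Subgroup.card_subgroup_dvd_card (Subgroup.normalizer (A : Set (RT K m))))
    rw [he]
    exact dvd_mul_left _ _
  refine ⟨e, ?_, by rw [he, mul_comm]⟩
  omega

variable (hK) in
/-- Sylow subgroups for primes dividing `D` are cyclic. -/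
theorem isCyclic_sylow_D {p : ℕ} [hp : Fact p.Prime] (hpD : p ∣ reeDD m) (P : Sylow p (RT K m)) : IsCyclic (P : Subgroup (RT K m)) := by
  haveI := t_finite hK
  by_cases hn : Nontrivial (P : Subgroup (RT K m))
  · have hcen := P.isPGroup'.center_nontrivial
    have h1 : p ∣ Nat.card (Subgroup.center (P : Subgroup (RT K m))) := by
      obtain ⟨k, hk⟩ := IsPGroup.iff_card.mp ((P.isPGroup').to_subgroup (Subgroup.center _))
      have h2 : Nat.card (Subgroup.center (P : Subgroup (RT K m))) ≠ 1 := by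
        intro h
        have := Finite.one_lt_card_iff_nontrivial.mpr hcen
        omega
      rw [hk]
      apply dvd_pow_self
      rintro rfl
      rw [pow_zero] at hk
      exact h2 hk
    obtain ⟨x, hx⟩ := exists_prime_orderOf_dvd_card' p h1
    have hxo : orderOf ((x : P.1) : RT K m) = p := by
      have e1 : orderOf ((x : P.1) : RT K m) = orderOf x := by
        rw [Subgroup.orderOf_coe, Subgroup.orderOf_coe]
      exact e1.trans hx
    have hA : IsRA hK (Subgroup.centralizer ({(x : P.1).1} : Set (RT K m))) := ⟨p, _, hp.out, hpD, hxo, rfl⟩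
    haveI := hA.isCyclic
    apply Subgroup.isCyclic_of_le (H := P.1) (H' := Subgroup.centralizer ({(x : P.1).1} : Set (RT K m)))
    intro y hy
    rw [Subgroup.mem_centralizer_singleton_iff]
    have h3 := Subgroup.mem_center_iff.1 x.2 ⟨y, hy⟩
    have h4 := congrArg Subtype.val h3
    exact h4
  · rw [not_nontrivial_iff_subsingleton] at hn
    exact isCyclic_of_subsingleton

end Cfsg.Agent.H10
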