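import Cfsg.Agent.Lib.H10.ReeTori

/-!
# The small Ree group: consequences of the structure of tori
-/

set_option autoImplicit false
set_option linter.style.longLine false
set_option linter.unusedSimpArgs false
set_option linter.unusedSectionVars false
set_option linter.style.haveILetI false
set_option maxRecDepth 100000

open Cfsg Cfsg.Lie Cfsg.Agent.H04.Chev Matrix
open scoped MatrixGroups commutatorElement Pointwise

namespace Cfsg.Agent.H10

section generic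
variable {G : Type*} [Group G]

lemma isCyclic_of_map_conj {P : Subgroup G} (c : G) (h : IsCyclic (P.map (MulAut.conj c).toMonoidHom)) : IsCyclic P :=
  isCyclic_of_surjective ((P.equivMapOfInjective (MulAut.conj c).toMonoidHom (MulAut.conj c).injective).symm : _ ≃* _) (MulEquiv.surjective _)

lemma conj_ne_one {x c : G} (h : x ≠ 1) : c * x * c⁻¹ ≠ 1 := by
  intro h1
  apply h
  have e : x = c⁻¹ * (c * x * c⁻¹) * c := by group
  rw [e, h1]
  group

lemma comm_conj {x y c : G} (h : x * y = y * x) : (c * x * c⁻¹) * (c * y * c⁻¹) = (c * y * c⁻¹) * (c * x * c⁻¹) := by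
  have e1 : (c * x * c⁻¹) * (c * y * c⁻¹) = c * (x * y) * c⁻¹ := by group
  have e2 : (c * y * c⁻¹) * (c * x * c⁻¹) = c * (y * x) * c⁻¹ := by group
  rw [e1, e2, h]

lemma comm_of_conj {x y c : G} (h : (c * x * c⁻¹) * (c * y * c⁻¹) = (c * y * c⁻¹) * (c * x * c⁻¹)) : x * y = y * x := by
  have e1 : (c * x * c⁻¹) * (c * y * c⁻¹) = c * (x * y) * c⁻¹ := by group
  have e2 : (c * y * c⁻¹) * (c * x * c⁻¹) = c * (y * x) * c⁻¹ := by group
  rw [e1, e2] at h
  exact mul_right_cancel (mul_left_cancel (a := c) (by simpa [mul_assoc] using h))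

/-- membership in a conjugate in elementwise form -/
lemma mem_map_conj_inv (K₀ : Subgroup G) (c y : G) : y ∈ K₀.map (MulAut.conj c⁻¹).toMonoidHom ↔ c * y * c⁻¹ ∈ K₀ := by
  constructor
  · rintro ⟨a, ha, rfl⟩
    have : c * (MulAut.conj c⁻¹).toMonoidHom a * c⁻¹ = a := by
      show c * (c⁻¹ * a * c⁻¹⁻¹) * c⁻¹ = a
      group
    rw [this]
    exact ha
  · intro h
    refine ⟨_, h, ?_⟩
    show c⁻¹ * (c * y * c⁻¹) * c⁻¹⁻¹ = y
    group

end generic

variable {K : Type*} [Field K] [CharP K 3] {m : ℕ} [Fintype K] (hK : Fintype.card K = 3 ^ (2 * m + 1))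

/-- the torus as a homomorphism -/
noncomputable def tHm : Kˣ →* RT K m := MonoidHom.mk' (tH hK) (fun a b => tH_mul hK a b)

include hK

lemma tHm_apply (β : Kˣ) : tHm hK β = tH hK β := rfl

lemma tHm_inj : Function.Injective (tHm hK) := fun _ _ h => tH_inj hK h

lemma isCyclic_tHH : IsCyclic (tHH K m) := by
  have hs : Function.Surjective (fun β : Kˣ => (⟨tH hK β, (mem_tHH_iff hK _).2 ⟨β, rfl⟩⟩ : tHH K m)) := by
    rintro ⟨x, hx⟩
    obtain ⟨β, rfl⟩ := (mem_tHH_iff hK _).1 hx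
    exact ⟨β, rfl⟩
  let f : Kˣ →* tHH K m :=
    { toFun := fun β => ⟨tH hK β, (mem_tHH_iff hK _).2 ⟨β, rfl⟩⟩
      map_one' := Subtype.ext (tH_one hK)
      map_mul' := fun a b => Subtype.ext (tH_mul hK a b) }
  exact isCyclic_of_surjective f hs

lemma card_tHH' : Nat.card (tHH K m) = 2 * reeH m := by
  rw [card_tHH hK, hK, ← reeH_spec m]
  simp

lemma orderOf_tH (β : Kˣ) : orderOf (tH hK β) = orderOf β := orderOf_injective (tHm hK) (tHm_inj hK) β

/-- odd non-trivial elements of the torus are generic -/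
lemma tH_generic_of_odd {β : Kˣ} (h1 : tH hK β ≠ 1) (h2 : Odd (orderOf (tH hK β))) : (β : K) ^ 2 ≠ 1 := by
  intro h
  have hs : β * β = 1 := Units.ext (by simpa [sq] using h)
  have h3 : tH hK β ^ 2 = 1 := by
    rw [sq, ← tH_mul hK, hs, tH_one hK]
  have h4 := orderOf_dvd_of_pow_eq_one h3
  obtain ⟨k, hk⟩ := h2
  have h5 := Nat.le_of_dvd (by norm_num) h4
  have h6 : orderOf (tH hK β) = 1 := by omega
  exact h1 (orderOf_eq_one_iff.mp h6)

/-- elements of order dividing `h` lie in a conjugate of the torus -/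
lemma conj_tH_of_dvd_h {y : RT K m} (hy : orderOf y ∣ reeH m) (h1 : y ≠ 1) : ∃ c, ∃ β : Kˣ, c * y * c⁻¹ = tH hK β ∧ (β : K) ^ 2 ≠ 1 := by
  have h2 : orderOf y ≠ 1 := fun h => h1 (orderOf_eq_one_iff.mp h)
  obtain ⟨p, hp, hpy⟩ := Nat.exists_prime_and_dvd h2
  have hz := orderOf_pow_orderOf_div (orderOf_pos y).ne' hpy
  obtain ⟨c, β, e, hβ⟩ := prime_conj_h hK hp (dvd_trans hpy hy) hz
  have hcomm : y * y ^ (orderOf y / p) = y ^ (orderOf y / p) * y := (Commute.pow_right (Commute.refl y) _)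
  have h3 := comm_conj (c := c) hcomm
  rw [e] at h3
  obtain ⟨γ, hγ⟩ := comm_tH_mem hK hβ h3
  refine ⟨c, γ, hγ, ?_⟩
  apply tH_generic_of_odd hK
  · rw [← hγ]
    exact conj_ne_one h1
  · rw [← hγ, orderOf_conj_eq]
    exact (reeH_odd m).of_dvd_nat hy

/-- elements of order dividing `n` lie in a conjugate of `D₀` -/
lemma conj_D0_of_dvd_n {y : RT K m} (hy : orderOf y ∣ reeN m) (h1 : y ≠ 1) : ∃ c, c * y * c⁻¹ ∈ tD0 hK := by
  have h2 : orderOf y ≠ 1 := fun h => h1 (orderOf_eq_one_iff.mp h)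
  obtain ⟨p, hp, hpy⟩ := Nat.exists_prime_and_dvd h2
  have hz := orderOf_pow_orderOf_div (orderOf_pos y).ne' hpy
  obtain ⟨c, e, hne⟩ := prime_conj_n hK hp (dvd_trans hpy hy) hz
  have hcomm : y * y ^ (orderOf y / p) = y ^ (orderOf y / p) * y := (Commute.pow_right (Commute.refl y) _)
  have h3 := comm_conj (c := c) hcomm
  have h4 := (tD0_centralizer hK e hne _).1 h3
  refine ⟨c, mem_tD0_of_odd hK h4 ?_⟩
  rw [orderOf_conj_eq]
  exact (reeN_odd m).of_dvd_nat hy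

/-- The centraliser of a generic element of `H`. -/
lemma comm_tH_iff {β : Kˣ} (hβ : (β : K) ^ 2 ≠ 1) (x : RT K m) : x * tH hK β = tH hK β * x ↔ x ∈ tHH K m := by
  constructor
  · intro h
    obtain ⟨γ, hγ⟩ := comm_tH_mem hK hβ h
    exact (mem_tHH_iff hK _).2 ⟨γ, hγ⟩
  · intro h
    obtain ⟨γ, rfl⟩ := (mem_tHH_iff hK _).1 h
    rw [← tH_mul hK, ← tH_mul hK, mul_comm]

/-- The centraliser of a subgroup of `D₀`, in conjugate form. -/
lemma centralizer_of_le_conj {H C : Subgroup (RT K m)} (c : RT K m) (hne : H ≠ ⊥)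
    (hcen : ∀ y ∈ H, y ≠ 1 → ∀ x, x * y = y * x ↔ c * x * c⁻¹ ∈ C) :
    Subgroup.centralizer (H : Set (RT K m)) = C.map (MulAut.conj c⁻¹).toMonoidHom := by
  obtain ⟨y, hy1⟩ := (Subgroup.ne_bot_iff_exists_ne_one.mp hne)
  have hy' : (y : RT K m) ≠ 1 := fun h => hy1 (Subtype.ext h)
  ext x
  rw [mem_map_conj_inv, Subgroup.mem_centralizer_iff]
  constructor
  · intro h
    exact (hcen y y.2 hy' x).1 (h y y.2).symm
  · intro h t ht
    by_cases ht1 : t = 1
    · subst ht1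
      simp
    · exact ((hcen t ht ht1 x).2 h).symm

/-- Non-trivial subgroups of cyclic subgroups of order `h`. -/
theorem centralizer_of_dvd_h {H : Subgroup (RT K m)} (hH : ∀ y ∈ H, orderOf y ∣ reeH m) (hne : H ≠ ⊥) (hc : ∀ a ∈ H, ∀ b ∈ H, a * b = b * a) :
    ∃ c, Subgroup.centralizer (H : Set (RT K m)) = (tHH K m).map (MulAut.conj c⁻¹).toMonoidHom ∧ ∀ y ∈ H, c * y * c⁻¹ ∈ tHH K m := by
  obtain ⟨y₀, hy1⟩ := (Subgroup.ne_bot_iff_exists_ne_one.mp hne)
  have hy' : (y₀ : RT K m) ≠ 1 := fun h => hy1 (Subtype.ext h)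
  obtain ⟨c, β, e, hβ⟩ := conj_tH_of_dvd_h hK (hH _ y₀.2) hy'
  have hmem : ∀ y ∈ H, c * y * c⁻¹ ∈ tHH K m := by
    intro y hy
    have h3 := comm_conj (c := c) (hc y hy _ y₀.2)
    rw [e] at h3
    exact (comm_tH_iff hK hβ _).1 h3
  refine ⟨c, centralizer_of_le_conj hK c hne ?_, hmem⟩
  intro y hy hy1 x
  obtain ⟨γ, hγ⟩ := (mem_tHH_iff hK _).1 (hmem y hy)
  have hγ2 : (γ : K) ^ 2 ≠ 1 := by
    apply tH_generic_of_odd hK
    · rw [← hγ]
      exact conj_ne_one hy1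
    · rw [← hγ, orderOf_conj_eq]
      exact (reeH_odd m).of_dvd_nat (hH y hy)
  rw [← comm_tH_iff hK hγ2, ← hγ]
  constructor
  · exact comm_conj
  · exact comm_of_conj

/-- Non-trivial subgroups of cyclic subgroups of order `n`. -/
theorem centralizer_of_dvd_n {H : Subgroup (RT K m)} (hH : ∀ y ∈ H, orderOf y ∣ reeN m) (hne : H ≠ ⊥) (hc : ∀ a ∈ H, ∀ b ∈ H, a * b = b * a) :
    ∃ c, Subgroup.centralizer (H : Set (RT K m)) = (tK0 hK).map (MulAut.conj c⁻¹).toMonoidHom ∧ ∀ y ∈ H, c * y * c⁻¹ ∈ tD0 hK := by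
  obtain ⟨y₀, hy1⟩ := (Subgroup.ne_bot_iff_exists_ne_one.mp hne)
  have hy' : (y₀ : RT K m) ≠ 1 := fun h => hy1 (Subtype.ext h)
  obtain ⟨c, e⟩ := conj_D0_of_dvd_n hK (hH _ y₀.2) hy'
  have hmem : ∀ y ∈ H, c * y * c⁻¹ ∈ tD0 hK := by
    intro y hy
    have h3 := comm_conj (c := c) (hc y hy _ y₀.2)
    have h4 := (tD0_centralizer hK e (conj_ne_one hy') _).1 h3
    apply mem_tD0_of_odd hK h4
    rw [orderOf_conj_eq]
    exact (reeN_odd m).of_dvd_nat (hH y hy)
  refine ⟨c, centralizer_of_le_conj hK c hne ?_, hmem⟩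
  intro y hy hy1 x
  rw [← tD0_centralizer hK (hmem y hy) (conj_ne_one hy1)]
  constructor
  · exact comm_conj
  · exact comm_of_conj

/-- a generator of the multiplicative group -/
lemma exists_tH_gen : ∃ β₀ : Kˣ, orderOf β₀ = 2 * reeH m ∧ ∀ β : Kˣ, ∃ k : ℕ, β = β₀ ^ k := by
  classical
  obtain ⟨β₀, hβ₀⟩ := IsCyclic.exists_generator (α := Kˣ)
  have h1 := orderOf_eq_card_of_forall_mem_zpowers hβ₀
  refine ⟨β₀, ?_, ?_⟩
  · rw [h1, Nat.card_eq_fintype_card, Fintype.card_units, hK, ← reeH_spec m]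
    simp
  · intro β
    have hm := hβ₀ β
    rw [mem_powers_iff_mem_zpowers.symm] at hm
    obtain ⟨k, hk⟩ := hm
    exact ⟨k, hk.symm⟩

/-- The normaliser of `H`. -/
theorem mem_norm_tHH_iff (hm : 1 ≤ m) {b : RT K m} (hb : b ∈ Subgroup.normalizer (tHH K m : Set (RT K m))) : b ∈ tHH K m ∨ b * tW K m ∈ tHH K m := by
  obtain ⟨β₀, hβ₀, -⟩ := exists_tH_gen hK
  have hh : 7 ≤ reeH m := by
    have h1 := reeH_spec m
    have h2 := ree_q_ge hm
    omega
  have hβ₀2 : (β₀ : K) ^ 2 ≠ 1 := by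
    intro h
    have hs : β₀ ^ 2 = 1 := Units.ext (by simpa using h)
    have := orderOf_dvd_of_pow_eq_one hs
    rw [hβ₀] at this
    have := Nat.le_of_dvd (by norm_num) this
    omega
  have h1 := (Subgroup.mem_normalizer_iff.1 hb _).1 ((mem_tHH_iff hK _).2 ⟨β₀, rfl⟩)
  obtain ⟨γ, hγ⟩ := (mem_tHH_iff hK _).1 h1
  have hγ2 : (γ : K) ^ 2 ≠ 1 := by
    intro h
    have hs : γ ^ 2 = 1 := Units.ext (by simpa using h)
    have h2 := orderOf_dvd_of_pow_eq_one hs
    have h3 : orderOf γ = orderOf β₀ := by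
      rw [← orderOf_tH hK γ, ← hγ, orderOf_conj_eq, orderOf_tH hK]
    rw [h3, hβ₀] at h2
    have := Nat.le_of_dvd (by norm_num) h2
    omega
  have hfix0 : tH hK β₀ • pt0 K m = pt0 K m := mem_tB_smul_pt0 hK (tH_mem_tB hK _)
  have hfix1 : tH hK β₀ • (tW K m • pt0 K m) = tW K m • pt0 K m := tH_smul_w hK _
  have e0 : tH hK γ • (b • pt0 K m) = b • pt0 K m := by
    rw [← hγ, mul_smul, mul_smul, inv_smul_smul, hfix0]
  have e1 : tH hK γ • (b • (tW K m • pt0 K m)) = b • (tW K m • pt0 K m) := by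
    rw [← hγ, mul_smul, mul_smul, inv_smul_smul, hfix1]
  have hne : b • pt0 K m ≠ b • (tW K m • pt0 K m) := fun h => pt0_ne_w hK (MulAction.injective b h)
  rcases fix_tH_generic hK hγ2 _ e0 with h2 | h2 <;> rcases fix_tH_generic hK hγ2 _ e1 with h3 | h3
  · exact absurd (h2.trans h3.symm) hne
  · left
    obtain ⟨δ, hδ⟩ := stab_two hK h2 h3
    exact (mem_tHH_iff hK _).2 ⟨δ, hδ⟩
  · right
    have h4 : (tW K m * b) • pt0 K m = pt0 K m := by
      rw [mul_smul, h2, tW_smul_w hK]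
    have h5 : (tW K m * b) • (tW K m • pt0 K m) = tW K m • pt0 K m := by
      rw [mul_smul, h3]
    obtain ⟨δ, hδ⟩ := stab_two hK h4 h5
    have h6 : b = tW K m * tH hK δ := by
      rw [← hδ, ← mul_assoc, tW_sq, one_mul]
    refine (mem_tHH_iff hK _).2 ⟨δ⁻¹, ?_⟩
    rw [h6, tW_tH hK, mul_assoc, tW_sq, mul_one]
  · exact absurd (h2.trans h3.symm) hne

lemma tW_mem_norm_tHH : tW K m ∈ Subgroup.normalizer (tHH K m : Set (RT K m)) := by
  haveI := t_finite hK
  apply mem_normalizer_of_conj_le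
  intro x hx
  obtain ⟨γ, rfl⟩ := (mem_tHH_iff hK _).1 hx
  refine (mem_tHH_iff hK _).2 ⟨γ⁻¹, ?_⟩
  rw [tW_tH hK, tW_inv, mul_assoc, tW_sq, mul_one]

lemma tW_not_mem_tHH : tW K m ∉ tHH K m := by
  intro h
  obtain ⟨γ, hγ⟩ := (mem_tHH_iff hK _).1 h
  apply tW_not_mem_tB hK
  rw [hγ]
  exact tH_mem_tB hK γ

/-- The order of the normaliser of `H`. -/
theorem card_norm_tHH (hm : 1 ≤ m) : Nat.card (Subgroup.normalizer (tHH K m : Set (RT K m))) = 2 * (3 ^ (2 * m + 1) - 1) := by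
  haveI := t_finite hK
  set S := Subgroup.normalizer (tHH K m : Set (RT K m)) with hS
  have hle : tHH K m ≤ S := Subgroup.le_normalizer
  have hidx : ((tHH K m).subgroupOf S).index = 2 := by
    rw [Subgroup.index_eq_two_iff]
    refine ⟨⟨tW K m, tW_mem_norm_tHH hK⟩, ?_⟩
    rintro ⟨b, hb⟩
    rw [Subgroup.mem_subgroupOf, Subgroup.mem_subgroupOf]
    show Xor (b * tW K m ∈ tHH K m) (b ∈ tHH K m)
    by_cases h : b ∈ tHH K m
    · right
      refine ⟨h, fun h2 => tW_not_mem_tHH hK ?_⟩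
      have e : tW K m = b⁻¹ * (b * tW K m) := by group
      rw [e]
      exact (tHH K m).mul_mem ((tHH K m).inv_mem h) h2
    · left
      exact ⟨(mem_norm_tHH_iff hK hm hb).resolve_left h, h⟩
  have h1 := Subgroup.index_mul_card ((tHH K m).subgroupOf S)
  have h2 : Nat.card ((tHH K m).subgroupOf S) = Nat.card (tHH K m) := Nat.card_congr (Subgroup.subgroupOfEquivOfLe hle).toEquiv
  rw [hidx, h2, card_tHH hK, hK] at h1
  exact h1.symm

/-- the split torus -/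
theorem ree_split_torus (hm : 1 ≤ m) : ∃ A : Subgroup (RT K m), IsCyclic A ∧ Nat.card A = reeH m ∧
    A ≤ tHH K m ∧ (∀ y ∈ A, orderOf y ∣ reeH m) ∧
    Nat.card (Subgroup.normalizer (A : Set (RT K m))) = 2 * (3 ^ (2 * m + 1) - 1) ∧
    ∀ A₀ : Subgroup (RT K m), A₀ ≤ A → A₀ ≠ ⊥ → Subgroup.normalizer (A₀ : Set (RT K m)) = Subgroup.normalizer (A : Set (RT K m)) := by
  haveI := t_finite hK
  obtain ⟨β₀, hβ₀, -⟩ := exists_tH_gen hK
  set x := tH hK (β₀ ^ 2) with hx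
  have hord : orderOf x = reeH m := by
    rw [hx, orderOf_tH hK, orderOf_pow' _ (by norm_num), hβ₀]
    have : Nat.gcd (2 * reeH m) 2 = 2 := by simp
    rw [this]
    simp
  have hle : Subgroup.zpowers x ≤ tHH K m := by
    rw [Subgroup.zpowers_le]
    exact (mem_tHH_iff hK _).2 ⟨_, rfl⟩
  have hdvd : ∀ y ∈ Subgroup.zpowers x, orderOf y ∣ reeH m := by
    intro y hy
    rw [← hord]
    exact orderOf_dvd_of_mem_zpowers hy
  -- the normaliser of a non-trivial subgroup is that of `H`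
  have key : ∀ A₀ : Subgroup (RT K m), A₀ ≤ Subgroup.zpowers x → A₀ ≠ ⊥ → Subgroup.normalizer (A₀ : Set (RT K m)) = Subgroup.normalizer (tHH K m : Set (RT K m)) := by
    intro A₀ h0 hne
    apply le_antisymm
    · intro g hg
      obtain ⟨y, hy1⟩ := (Subgroup.ne_bot_iff_exists_ne_one.mp hne)
      have hy' : (y : RT K m) ≠ 1 := fun h => hy1 (Subtype.ext h)
      have hgen : ∀ t ∈ A₀, t ≠ 1 → ∃ β : Kˣ, t = tH hK β ∧ (β : K) ^ 2 ≠ 1 := by
        intro t ht ht1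
        obtain ⟨β, rfl⟩ := (mem_tHH_iff hK _).1 (hle (h0 ht))
        exact ⟨β, rfl, tH_generic_of_odd hK ht1 ((reeH_odd m).of_dvd_nat (hdvd _ (h0 ht)))⟩
      apply mem_normalizer_of_conj_le
      intro t ht
      obtain ⟨β, hβ, hβ2⟩ := hgen _ y.2 hy'
      have h1 : g * y * g⁻¹ ∈ A₀ := (Subgroup.mem_normalizer_iff.1 hg _).1 y.2
      obtain ⟨γ, hγ, hγ2⟩ := hgen _ h1 (conj_ne_one hy')
      rw [← comm_tH_iff hK hγ2, ← hγ]
      apply comm_conj
      rw [hβ]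
      exact (comm_tH_iff hK hβ2 t).2 ht
    · intro g hg
      exact mem_normalizer_of_cyclic (isCyclic_tHH hK) (h0.trans hle) hg
  have hne : Subgroup.zpowers x ≠ ⊥ := by
    rw [ne_eq, Subgroup.zpowers_eq_bot]
    intro h
    rw [h, orderOf_one] at hord
    have h1 := reeH_spec m
    have h2 := ree_q_ge hm
    omega
  refine ⟨Subgroup.zpowers x, inferInstance, by rw [Nat.card_zpowers, hord], hle, hdvd, ?_, ?_⟩
  · rw [key _ le_rfl hne, card_norm_tHH hK hm]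
  · intro A₀ h0 h1
    rw [key A₀ h0 h1, key _ le_rfl hne]

/-- The subgroup `D₀`. -/
theorem ree_D0_torus (hm : 1 ≤ m) : Nat.card (Subgroup.normalizer (tD0 hK : Set (RT K m))) = 6 * (3 ^ (2 * m + 1) + 1) ∧
    ∀ A₀ : Subgroup (RT K m), A₀ ≤ tD0 hK → A₀ ≠ ⊥ → Subgroup.normalizer (A₀ : Set (RT K m)) = Subgroup.normalizer (tD0 hK : Set (RT K m)) := by
  have hne : tD0 hK ≠ ⊥ := by
    intro h
    have h1 := card_tD0 hK
    rw [h, Subgroup.card_bot] at h1
    have := reeN_gt hm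
    omega
  have key : ∀ A₀ : Subgroup (RT K m), A₀ ≤ tD0 hK → A₀ ≠ ⊥ → Subgroup.normalizer (A₀ : Set (RT K m)) = Subgroup.normalizer (tK0 hK : Set (RT K m)) := by
    intro A₀ h0 h1
    ext g
    exact norm_D0_sub_iff hK hm h0 h1 g
  constructor
  · rw [key _ le_rfl hne, card_normalizer_K0 hK hm]
  · intro A₀ h0 h1
    rw [key A₀ h0 h1, key _ le_rfl hne]

/-- The other tori. -/
theorem IsRA.normalizer_eq {A : Subgroup (RT K m)} (hA : IsRA hK A) (A₀ : Subgroup (RT K m)) (h0 : A₀ ≤ A) (hne : A₀ ≠ ⊥) :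
    Subgroup.normalizer (A₀ : Set (RT K m)) = Subgroup.normalizer (A : Set (RT K m)) := by
  haveI := t_finite hK
  apply le_antisymm
  · intro g hg
    obtain ⟨y, hy1⟩ := (Subgroup.ne_bot_iff_exists_ne_one.mp hne)
    have hy' : (y : RT K m) ≠ 1 := fun h => hy1 (Subtype.ext h)
    apply mem_normalizer_of_conj_le
    intro t ht
    have h1 : g * y * g⁻¹ ∈ A₀ := (Subgroup.mem_normalizer_iff.1 hg _).1 y.2
    rw [← hA.centralizer_eq (h0 h1) (conj_ne_one hy'), Subgroup.mem_centralizer_singleton_iff]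
    apply comm_conj
    exact hA.comm ht (h0 y.2)
  · intro g hg
    exact mem_normalizer_of_cyclic hA.isCyclic h0 hg

end Cfsg.Agent.H10
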