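import Cfsg.Agent.Lib.H10.ReeF1

/-!
# The small Ree group: element orders, Sylow subgroups, conjugacy of cyclic subgroups
-/

set_option autoImplicit false
set_option linter.style.longLine false
set_option linter.unusedSimpArgs false
set_option linter.unusedSectionVars false
set_option linter.style.haveILetI false
set_option maxRecDepth 100000

open Cfsg Cfsg.Lie Cfsg.Agent.H04.Chev Matrix
open scoped MatrixGroups commutatorElement Pointwise

namespace Cfsg.Agent.H10

section numbers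

lemma ree_r_le (m : ℕ) : 3 ^ (m + 1) ≤ 3 ^ (2 * m + 1) := Nat.pow_le_pow_right (by norm_num) (by omega)

/-- the factorisation of `D` -/
lemma reeDD_factor (m : ℕ) : reeDD m = (3 ^ (2 * m + 1) - 3 ^ (m + 1) + 1) * (3 ^ (2 * m + 1) + 3 ^ (m + 1) + 1) := by
  have h1 := reeD_spec m
  have h2 := ree_r_le m
  have h3 : (3 ^ (m + 1)) ^ 2 = 3 * 3 ^ (2 * m + 1) := by ring
  generalize 3 ^ (2 * m + 1) = q at *
  generalize 3 ^ (m + 1) = r at *
  obtain ⟨s, rfl⟩ : ∃ s, q = s + r := ⟨q - r, by omega⟩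
  simp only [Nat.add_sub_cancel]
  nlinarith

lemma ree_two_n (m : ℕ) : (3 ^ (2 * m + 1) + 1) / 2 = 2 * reeN m := by
  have h := reeN_spec m
  omega

end numbers

section generic

variable {G : Type*} [Group G] [Finite G]

/-- a non-trivial `p`-subgroup has a central element of order `p` -/
lemma exists_central_prime {p : ℕ} [hp : Fact p.Prime] (P : Subgroup G) (hP : IsPGroup p P) (hn : Nontrivial P) :
    ∃ z ∈ P, orderOf z = p ∧ ∀ y ∈ P, y * z = z * y := by
  have hcen := hP.center_nontrivial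
  have h1 : p ∣ Nat.card (Subgroup.center P) := by
    obtain ⟨k, hk⟩ := IsPGroup.iff_card.mp (hP.to_subgroup (Subgroup.center _))
    have h2 : Nat.card (Subgroup.center P) ≠ 1 := by
      intro h
      have := Finite.one_lt_card_iff_nontrivial.mpr hcen
      omega
    rw [hk]
    apply dvd_pow_self
    rintro rfl
    rw [pow_zero] at hk
    exact h2 hk
  obtain ⟨x, hx⟩ := exists_prime_orderOf_dvd_card' p h1
  refine ⟨(x : P).1, (x : P).2, ?_, ?_⟩
  · have e1 : orderOf ((x : P) : G) = orderOf x := by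
      rw [Subgroup.orderOf_coe, Subgroup.orderOf_coe]
    exact e1.trans hx
  · intro y hy
    have h3 := Subgroup.mem_center_iff.1 x.2 ⟨y, hy⟩
    exact congrArg Subtype.val h3

lemma comm_of_isCyclic {H : Subgroup G} (hH : IsCyclic H) {a b : G} (ha : a ∈ H) (hb : b ∈ H) : a * b = b * a := by
  letI : CommGroup H := IsCyclic.commGroup
  have h1 := mul_comm (⟨a, ha⟩ : H) ⟨b, hb⟩
  exact congrArg Subtype.val h1

lemma orderOf_dvd_of_mem {H : Subgroup G} {y : G} (hy : y ∈ H) : orderOf y ∣ Nat.card H := by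
  rw [← Subgroup.orderOf_mk y hy]
  exact orderOf_dvd_natCard _

lemma map_conj_mul (A : Subgroup G) (c c' : G) : (A.map (MulAut.conj c).toMonoidHom).map (MulAut.conj c').toMonoidHom = A.map (MulAut.conj (c' * c)).toMonoidHom := by
  rw [Subgroup.map_map]
  congr 1
  ext y
  simp [MulAut.conj_apply, mul_assoc]

/-- conjugate subgroups from equality after conjugation -/
lemma exists_conj_of_eq {A B : Subgroup G} {c c' : G} (h : A.map (MulAut.conj c).toMonoidHom = B.map (MulAut.conj c').toMonoidHom) :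
    ∃ g : G, B = A.map (MulAut.conj g).toMonoidHom := by
  refine ⟨c'⁻¹ * c, ?_⟩
  rw [← map_conj_mul, h, map_conj_mul, inv_mul_cancel]
  ext y
  rw [mem_map_conj_iff]
  simp

end generic

variable {K : Type*} [Field K] [CharP K 3] {m : ℕ} [Fintype K] (hK : Fintype.card K = 3 ^ (2 * m + 1))

include hK

/-- Sylow subgroups for primes greater than `3` -/
theorem ree_sylow_cyclic {p : ℕ} [hp : Fact p.Prime] (hp3 : 3 < p) (P : Sylow p (RT K m)) : IsCyclic (P : Subgroup (RT K m)) := by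
  haveI := t_finite hK
  by_cases hn : Nontrivial (P : Subgroup (RT K m))
  · obtain ⟨z, hzP, hz, hcomm⟩ := exists_central_prime (P : Subgroup (RT K m)) P.isPGroup' hn
    have hodd : ∀ y ∈ (P : Subgroup (RT K m)), Odd (orderOf y) := by
      intro y hy
      obtain ⟨k, hk⟩ := (IsPGroup.iff_orderOf.1 P.isPGroup') ⟨y, hy⟩
      rw [Subgroup.orderOf_mk] at hk
      rw [hk]
      exact (hp.out.odd_of_ne_two (by omega)).pow
    rcases ree_element_prime_cases hK hp.out hz with h | h | h | h | h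
    · omega
    · omega
    · obtain ⟨c, β, e, hβ⟩ := prime_conj_h hK hp.out h hz
      apply isCyclic_of_map_conj c
      haveI := isCyclic_tHH hK
      apply Subgroup.isCyclic_of_le (H' := tHH K m)
      rintro _ ⟨y, hy, rfl⟩
      have h3 := comm_conj (c := c) (hcomm y hy)
      rw [e] at h3
      exact (comm_tH_iff hK hβ _).1 h3
    · obtain ⟨c, e, hne⟩ := prime_conj_n hK hp.out h hz
      apply isCyclic_of_map_conj c
      haveI := tD0_cyclic hK
      apply Subgroup.isCyclic_of_le (H' := tD0 hK)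
      rintro _ ⟨y, hy, rfl⟩
      have h3 := comm_conj (c := c) (hcomm y hy)
      have h4 := (tD0_centralizer hK e hne _).1 h3
      apply mem_tD0_of_odd hK h4
      rw [orderOf_conj_eq]
      exact hodd y hy
    · exact isCyclic_sylow_D hK h P
  · rw [not_nontrivial_iff_subsingleton] at hn
    exact isCyclic_of_subsingleton

/-- cyclic subgroups of order dividing `D` are conjugate -/
theorem conj_cyclic_of_dvd_D {A B : Subgroup (RT K m)} (hA : IsCyclic A) (hB : IsCyclic B) (hcard : Nat.card A = Nat.card B) (hD : Nat.card A ∣ reeDD m) (h1 : Nat.card A ≠ 1) :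
    ∃ g : RT K m, B = A.map (MulAut.conj g).toMonoidHom := by
  haveI := t_finite hK
  obtain ⟨p, hp, hpA⟩ := Nat.exists_prime_and_dvd h1
  haveI : Fact p.Prime := ⟨hp⟩
  have hpD := dvd_trans hpA hD
  obtain ⟨z, hz⟩ := exists_prime_orderOf_dvd_card' p hpA
  obtain ⟨z', hz'⟩ := exists_prime_orderOf_dvd_card' p (show p ∣ Nat.card B by rw [← hcard]; exact hpA)
  have hzo : orderOf (z : RT K m) = p := by rw [← hz]; exact Subgroup.orderOf_coe z
  have hzo' : orderOf (z' : RT K m) = p := by rw [← hz']; exact Subgroup.orderOf_coe z'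
  obtain ⟨g, hg⟩ := exists_conj_zpowers_of_cyclic (isCyclic_sylow_D hK hpD) hzo hzo'
  have hA' : IsRA hK (Subgroup.centralizer ({(z' : RT K m)} : Set (RT K m))) := ⟨p, _, hp, hpD, hzo', rfl⟩
  have hz1 : (z : RT K m) ≠ 1 := by
    intro h
    rw [h, orderOf_one] at hzo
    exact hp.one_lt.ne hzo
  have hgz : g * z * g⁻¹ ∈ Subgroup.centralizer ({(z' : RT K m)} : Set (RT K m)) := by
    rw [Subgroup.mem_centralizer_singleton_iff]
    obtain ⟨i, hi⟩ := hg
    rw [← hi]
    exact (Commute.zpow_left (Commute.refl _) i)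
  have hcen := hA'.centralizer_eq hgz (conj_ne_one hz1)
  refine ⟨g, (eq_of_le_cyclic hA'.isCyclic (C := Subgroup.centralizer ({(z' : RT K m)} : Set (RT K m))) ?_ ?_ ?_).symm⟩
  · rintro _ ⟨t, ht, rfl⟩
    rw [← hcen, Subgroup.mem_centralizer_singleton_iff]
    exact comm_conj (comm_of_isCyclic hA ht z.2)
  · intro y hy
    rw [Subgroup.mem_centralizer_singleton_iff]
    exact comm_of_isCyclic hB hy z'.2
  · rw [card_map_conj, hcard]

/-- cyclic subgroups of order dividing `h` are conjugate -/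
theorem conj_cyclic_of_dvd_h {A B : Subgroup (RT K m)} (hA : IsCyclic A) (hB : IsCyclic B) (hcard : Nat.card A = Nat.card B) (hD : Nat.card A ∣ reeH m) (h1 : Nat.card A ≠ 1) :
    ∃ g : RT K m, B = A.map (MulAut.conj g).toMonoidHom := by
  haveI := t_finite hK
  have hne : ∀ C : Subgroup (RT K m), Nat.card C ≠ 1 → C ≠ ⊥ := by
    rintro C hC rfl
    exact hC Subgroup.card_bot
  obtain ⟨c, -, hm1⟩ := centralizer_of_dvd_h hK (H := A) (fun y hy => dvd_trans (orderOf_dvd_of_mem hy) hD) (hne A h1) (fun a ha b hb => comm_of_isCyclic hA ha hb)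
  obtain ⟨c', -, hm2⟩ := centralizer_of_dvd_h hK (H := B) (fun y hy => dvd_trans (orderOf_dvd_of_mem hy) (hcard ▸ hD)) (hne B (hcard ▸ h1)) (fun a ha b hb => comm_of_isCyclic hB ha hb)
  apply exists_conj_of_eq (c := c) (c' := c')
  apply eq_of_le_cyclic (isCyclic_tHH hK)
  · rintro _ ⟨t, ht, rfl⟩
    exact hm1 t ht
  · rintro _ ⟨t, ht, rfl⟩
    exact hm2 t ht
  · rw [card_map_conj, card_map_conj, hcard]

/-- cyclic subgroups of order dividing `n` are conjugate -/
theorem conj_cyclic_of_dvd_n {A B : Subgroup (RT K m)} (hA : IsCyclic A) (hB : IsCyclic B) (hcard : Nat.card A = Nat.card B) (hD : Nat.card A ∣ reeN m) (h1 : Nat.card A ≠ 1) :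
    ∃ g : RT K m, B = A.map (MulAut.conj g).toMonoidHom := by
  haveI := t_finite hK
  have hne : ∀ C : Subgroup (RT K m), Nat.card C ≠ 1 → C ≠ ⊥ := by
    rintro C hC rfl
    exact hC Subgroup.card_bot
  obtain ⟨c, -, hm1⟩ := centralizer_of_dvd_n hK (H := A) (fun y hy => dvd_trans (orderOf_dvd_of_mem hy) hD) (hne A h1) (fun a ha b hb => comm_of_isCyclic hA ha hb)
  obtain ⟨c', -, hm2⟩ := centralizer_of_dvd_n hK (H := B) (fun y hy => dvd_trans (orderOf_dvd_of_mem hy) (hcard ▸ hD)) (hne B (hcard ▸ h1)) (fun a ha b hb => comm_of_isCyclic hB ha hb)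
  apply exists_conj_of_eq (c := c) (c' := c')
  apply eq_of_le_cyclic (tD0_cyclic hK)
  · rintro _ ⟨t, ht, rfl⟩
    exact hm1 t ht
  · rintro _ ⟨t, ht, rfl⟩
    exact hm2 t ht
  · rw [card_map_conj, card_map_conj, hcard]

/-- Elements of the Borel subgroup with torus part `-1`. -/
lemma tU_tA_pow_six (t u v : K) : (tU m t u v * tA hK) ^ 6 = 1 := by
  have e1 : (tU m t u v * tA hK) ^ 2 = tU m t u v * (tA hK * tU m t u v * (tA hK)⁻¹) * (tA hK * tA hK) := by
    rw [sq]
    group
  rw [tA_conj_tU hK, tA_sq hK, mul_one, tU_mul hK] at e1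
  rw [show (6 : ℕ) = 2 * 3 by rfl, pow_mul, e1]
  rw [add_neg_cancel]
  exact tU_cube0 hK _ _

/-- The order of an element with a fixed point. -/
theorem order_of_fix {g : RT K m} {p : ROm K m} (h : g • p = p) : orderOf g ∣ 6 ∨ orderOf g ∣ 9 ∨ orderOf g ∣ 2 * reeH m := by
  obtain ⟨c, hc⟩ := exists_conj_tB_of_fix hK h
  obtain ⟨t, u, v, β, e⟩ := (mem_tB_iff hK _).1 hc
  rw [← orderOf_conj_eq c g, e]
  by_cases hβ : (β : K) ^ 2 = 1
  · rcases eq_one_or_of_sq hβ with h1 | h1
    · have hβ1 : β = 1 := Units.ext h1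
      right; left
      rw [hβ1, tH_one hK, mul_one]
      exact orderOf_dvd_of_pow_eq_one (tU_pow_nine hK t u v)
    · have hβ1 : β = -1 := Units.ext (by simpa using h1)
      left
      rw [hβ1]
      exact orderOf_dvd_of_pow_eq_one (tU_tA_pow_six hK t u v)
  · right; right
    obtain ⟨t', u', v', hfix⟩ := exists_B_fix hK t u v β hβ
    -- two fixed points
    have h0 : (tU m t u v * tH hK β) • pt0 K m = pt0 K m := by
      rw [mul_smul, mem_tB_smul_pt0 hK (tH_mem_tB hK _), mem_tB_smul_pt0 hK (tU_mem_tB hK _ _ _)]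
    obtain ⟨d, hd0, hd1⟩ := two_trans hK (x := pt0 K m) (y := Pt m t' u' v') (Pt_ne_pt0 hK _ _ _).symm
    have e0 : (d * (tU m t u v * tH hK β) * d⁻¹) • pt0 K m = pt0 K m := by
      calc (d * (tU m t u v * tH hK β) * d⁻¹) • pt0 K m = (d * (tU m t u v * tH hK β) * d⁻¹) • (d • pt0 K m) := by rw [hd0]
        _ = d • ((tU m t u v * tH hK β) • pt0 K m) := by rw [← mul_smul, inv_mul_cancel_right, mul_smul]
        _ = pt0 K m := by rw [h0, hd0]
    have e1 : (d * (tU m t u v * tH hK β) * d⁻¹) • (tW K m • pt0 K m) = tW K m • pt0 K m := by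
      calc (d * (tU m t u v * tH hK β) * d⁻¹) • (tW K m • pt0 K m) = (d * (tU m t u v * tH hK β) * d⁻¹) • (d • Pt m t' u' v') := by rw [hd1]
        _ = d • ((tU m t u v * tH hK β) • Pt m t' u' v') := by rw [← mul_smul, inv_mul_cancel_right, mul_smul]
        _ = tW K m • pt0 K m := by rw [hfix, hd1]
    obtain ⟨γ, hγ⟩ := stab_two hK e0 e1
    rw [← orderOf_conj_eq d, hγ]
    exact orderOf_dvd_of_pow_eq_one (tH_pow_card hK γ)

/-- The order of an element of a conjugate of `K₀`. -/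
lemma order_of_KT {g c : RT K m} (h : c * g * c⁻¹ ∈ tK0 hK) : orderOf g ∣ 2 * reeN m := by
  have h1 := tD0_pow hK (sq_mem_tD0' hK h)
  rw [← pow_mul] at h1
  rw [← orderOf_conj_eq c g]
  exact orderOf_dvd_of_pow_eq_one h1

/-- Classification of element orders. -/
theorem order_cases (hm : 1 ≤ m) (g : RT K m) : orderOf g ∣ 6 ∨ orderOf g ∣ 9 ∨ orderOf g ∣ 3 ^ (2 * m + 1) - 1 ∨ orderOf g ∣ (3 ^ (2 * m + 1) + 1) / 2 ∨
    orderOf g ∣ 3 ^ (2 * m + 1) - 3 ^ (m + 1) + 1 ∨ orderOf g ∣ 3 ^ (2 * m + 1) + 3 ^ (m + 1) + 1 := by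
  have e1 : 3 ^ (2 * m + 1) - 1 = 2 * reeH m := by
    rw [← reeH_spec m]
    simp
  rw [e1, ree_two_n]
  by_cases hf : IsFpfR g
  · rcases (fpf_iff hK g).1 hf with h | ⟨-, c, hc⟩
    · obtain ⟨A₁, A₂, h1, h2, -, -, hall⟩ := exists_ree_tori hK hm
      have hA := isRA_centralizer hK h.2 h.1
      have hg : orderOf g ∣ Nat.card (Subgroup.centralizer ({g} : Set (RT K m))) :=
        orderOf_dvd_of_mem (Subgroup.mem_centralizer_singleton_iff.2 rfl)
      rcases hall ⟨_, hA⟩ with ⟨d, hd⟩ | ⟨d, hd⟩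
      · right; right; right; right; right
        rw [← h1, ← card_rsmul_val d A₁, hd]
        exact hg
      · right; right; right; right; left
        have h3 : Nat.card A₂.1 = 3 ^ (2 * m + 1) - 3 ^ (m + 1) + 1 := by omega
        rw [← h3, ← card_rsmul_val d A₂, hd]
        exact hg
    · right; right; right; left
      exact order_of_KT hK hc
  · unfold IsFpfR at hf
    push Not at hf
    obtain ⟨p, hp⟩ := hf
    rcases order_of_fix hK hp with h | h | h
    · exact Or.inl h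
    · exact Or.inr (Or.inl h)
    · exact Or.inr (Or.inr (Or.inl h))

/-- Existence of elements of given order. -/
theorem exists_order_six : ∃ x : RT K m, orderOf x = 6 := by
  have h1 : orderOf (tU m (0 : K) 1 0) = 3 := (orderOf_tU_eq_three_iff hK _ _ _).2 ⟨rfl, Or.inl one_ne_zero⟩
  have h2 : orderOf (tA hK) = 2 := orderOf_eq_prime (by rw [sq, tA_sq hK]) (tA_ne_one hK)
  have hc : Commute (tA hK) (tU m (0 : K) 1 0) := by
    have e := tA_conj_tU hK (0 : K) 1 0
    simp only [neg_zero] at e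
    rw [mul_inv_eq_iff_eq_mul] at e
    exact e
  refine ⟨tA hK * tU m (0 : K) 1 0, ?_⟩
  rw [hc.orderOf_mul_eq_mul_orderOf_of_coprime (by rw [h1, h2]; norm_num), h1, h2]

theorem exists_order_nine : ∃ x : RT K m, orderOf x = 9 := by
  refine ⟨tU m (1 : K) 0 0, ?_⟩
  have h : orderOf (tU m (1 : K) 0 0) = 3 ^ (1 + 1) := by
    apply orderOf_eq_prime_pow (p := 3) (n := 1)
    · intro h1
      have h2 : orderOf (tU m (1 : K) 0 0) ∣ 3 := orderOf_dvd_of_pow_eq_one (by simpa using h1)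
      rcases (Nat.dvd_prime Nat.prime_three).1 h2 with h3 | h3
      · rw [orderOf_eq_one_iff] at h3
        have := tU_inj (m := m) (h3.trans tU_zero.symm)
        exact one_ne_zero this.1
      · have := (orderOf_tU_eq_three_iff hK _ _ _).1 h3
        exact one_ne_zero this.1
    · exact tU_pow_nine hK _ _ _
  simpa using h

theorem exists_order_q1 : ∃ x : RT K m, orderOf x = 3 ^ (2 * m + 1) - 1 := by
  obtain ⟨β₀, hβ₀, -⟩ := exists_tH_gen hK
  refine ⟨tH hK β₀, ?_⟩
  rw [orderOf_tH hK, hβ₀, ← reeH_spec m]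
  simp

theorem exists_order_q2 : ∃ x : RT K m, orderOf x = (3 ^ (2 * m + 1) + 1) / 2 := by
  haveI := t_finite hK
  haveI := isCyclic_tTT hK
  obtain ⟨z₀, hz₀⟩ := IsCyclic.exists_generator (α := tTT hK)
  have hord : orderOf z₀ = Nat.card (tTT hK) := orderOf_eq_card_of_forall_mem_zpowers hz₀
  refine ⟨z₀.1, ?_⟩
  rw [Subgroup.orderOf_coe, hord]
  have h1 := card_tTT_mul hK
  omega

/-- A generator of a torus. -/
theorem IsRA.exists_gen {A : Subgroup (RT K m)} (hA : IsRA hK A) : ∃ x : RT K m, orderOf x = Nat.card A := by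
  haveI := t_finite hK
  haveI := hA.isCyclic
  obtain ⟨z₀, hz₀⟩ := IsCyclic.exists_generator (α := A)
  exact ⟨z₀.1, by rw [Subgroup.orderOf_coe]; exact orderOf_eq_card_of_forall_mem_zpowers hz₀⟩

/-- the set of orders -/
theorem exists_orderOf_iff (hm : 1 ≤ m) (d : ℕ) : (∃ g : RT K m, orderOf g = d) ↔
    (d ∣ 6 ∨ d ∣ 9 ∨ d ∣ 3 ^ (2 * m + 1) - 1 ∨ d ∣ (3 ^ (2 * m + 1) + 1) / 2 ∨
        d ∣ 3 ^ (2 * m + 1) - 3 ^ (m + 1) + 1 ∨ d ∣ 3 ^ (2 * m + 1) + 3 ^ (m + 1) + 1) := by
  haveI := t_finite hK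
  constructor
  · rintro ⟨g, rfl⟩
    exact order_cases hK hm g
  · have hpow : ∀ (x : RT K m) (n : ℕ), orderOf x = n → d ∣ n → ∃ g : RT K m, orderOf g = d := by
      rintro x n rfl hd
      exact ⟨x ^ (orderOf x / d), orderOf_pow_orderOf_div (orderOf_pos x).ne' hd⟩
    obtain ⟨A₁, A₂, h1, h2, -, -, -⟩ := exists_ree_tori hK hm
    rintro (h | h | h | h | h | h)
    · obtain ⟨x, hx⟩ := exists_order_six hK
      exact hpow x _ hx h
    · obtain ⟨x, hx⟩ := exists_order_nine hK
      exact hpow x _ hx h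
    · obtain ⟨x, hx⟩ := exists_order_q1 hK
      exact hpow x _ hx h
    · obtain ⟨x, hx⟩ := exists_order_q2 hK
      exact hpow x _ hx h
    · obtain ⟨x, hx⟩ := A₂.2.exists_gen
      have h3 : Nat.card A₂.1 = 3 ^ (2 * m + 1) - 3 ^ (m + 1) + 1 := by omega
      exact hpow x _ (hx.trans h3) h
    · obtain ⟨x, hx⟩ := A₁.2.exists_gen
      exact hpow x _ (hx.trans h1) h

end Cfsg.Agent.H10
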