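import Cfsg.Agent.Lib.H10.ReeF2

/-!
# The small Ree group: counting elements of given order
-/

set_option autoImplicit false
set_option linter.style.longLine false
set_option linter.unusedSimpArgs false
set_option linter.unusedSectionVars false
set_option linter.style.haveILetI false
set_option maxRecDepth 100000

open Cfsg Cfsg.Lie Cfsg.Agent.H04.Chev Matrix
open scoped MatrixGroups commutatorElement Pointwise

namespace Cfsg.Agent.H10

section generic

variable {G : Type*} [Group G] [Finite G]

/-- The number of elements of given order in a cyclic subgroup. -/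
lemma card_order_in_cyclic (A : Subgroup G) (hA : IsCyclic A) {i : ℕ} (hi : i ∣ Nat.card A) :
    Nat.card {y : G // orderOf y = i ∧ y ∈ A} = Nat.totient i := by
  classical
  haveI : Fintype A := Fintype.ofFinite A
  have h1 := IsCyclic.card_orderOf_eq_totient (α := A) (d := i) (by rwa [← Nat.card_eq_fintype_card])
  rw [← h1, ← Fintype.card_subtype, ← Nat.card_eq_fintype_card]
  apply Nat.card_congr
  exact
    { toFun := fun y => ⟨⟨y.1, y.2.2⟩, (Subgroup.orderOf_mk _ _).trans y.2.1⟩
      invFun := fun a => ⟨a.1.1, (Subgroup.orderOf_coe a.1).trans a.2, a.1.2⟩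
      left_inv := fun y => rfl
      right_inv := fun a => rfl }

/-- Double counting with unique conjugate. -/
lemma count_conj_unique (K₀ : Subgroup G) (P : G → Prop) (hP : ∀ g y, P y → P (g * y * g⁻¹))
    (hex : ∀ y, P y → ∃ c, c * y * c⁻¹ ∈ K₀)
    (huni : ∀ y, P y → ∀ g g' : G, y ∈ K₀.map (MulAut.conj g).toMonoidHom → y ∈ K₀.map (MulAut.conj g').toMonoidHom →
      K₀.map (MulAut.conj g).toMonoidHom = K₀.map (MulAut.conj g').toMonoidHom) :
    Nat.card {y : G // P y} * Nat.card (Subgroup.normalizer (K₀ : Set G)) = Nat.card G * Nat.card {y : G // P y ∧ y ∈ K₀} := by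
  classical
  haveI : Fintype G := Fintype.ofFinite G
  obtain ⟨𝓞, h𝓞⟩ := exists_conj_orbit K₀
  have h1 := card_conj_orbit K₀ 𝓞 h𝓞
  letI := conjActSub G
  let C : Finset G := Finset.univ.filter P
  have h2 := double_count 𝓞 K₀ (fun K' => by
      rw [h𝓞]
      constructor
      · rintro ⟨g, rfl⟩
        exact ⟨g, rfl⟩
      · rintro ⟨g, rfl⟩
        exact ⟨g, rfl⟩) C (fun g y hy => Finset.mem_filter.2 ⟨Finset.mem_univ _, hP g y (Finset.mem_filter.1 hy).2⟩)
    (fun (y : G) (K' : Subgroup G) => y ∈ K')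
    (fun g y K' hy => (show g * y * g⁻¹ ∈ K'.map (MulAut.conj g).toMonoidHom from ⟨y, hy, rfl⟩)) 1 (by
      intro y hy
      have hPy := (Finset.mem_filter.1 hy).2
      obtain ⟨c, hc⟩ := hex y hPy
      have h6 : y ∈ K₀.map (MulAut.conj c⁻¹).toMonoidHom := by
        rw [mem_map_conj_iff, inv_inv]
        simpa [mul_assoc] using hc
      rw [Finset.card_eq_one]
      refine ⟨K₀.map (MulAut.conj c⁻¹).toMonoidHom, ?_⟩
      ext K'
      simp only [Finset.mem_filter, Finset.mem_singleton]
      constructor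
      · rintro ⟨h4, h5⟩
        obtain ⟨g, rfl⟩ := (h𝓞 K').1 h4
        exact huni y hPy g c⁻¹ h5 h6
      · rintro rfl
        exact ⟨(h𝓞 _).2 ⟨c⁻¹, rfl⟩, h6⟩)
  rw [mul_one] at h2
  have e1 : Nat.card {y : G // P y} = C.card := by
    rw [Nat.card_eq_fintype_card, Fintype.card_subtype]
  have e2 : Nat.card {y : G // P y ∧ y ∈ K₀} = (C.filter (fun y => y ∈ K₀)).card := by
    rw [Nat.card_eq_fintype_card, Fintype.card_subtype, Finset.filter_filter]
  rw [e1, e2, ← h1, h2]
  ring

end generic

variable {K : Type*} [Field K] [CharP K 3] {m : ℕ} [Fintype K] (hK : Fintype.card K = 3 ^ (2 * m + 1))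

include hK

/-- Counting with a prescribed number of fixed points. -/
lemma count_fix_const (P : RT K m → Prop) (hP : ∀ g y, P y → P (g * y * g⁻¹)) (a : ℕ)
    (ha : ∀ y, P y → rfixN (ROm K m) y = a) :
    Nat.card {y : RT K m // P y} * a = ((3 ^ (2 * m + 1)) ^ 3 + 1) * Nat.card {y : RT K m // P y ∧ y ∈ tB K m} := by
  classical
  haveI := t_finite hK
  haveI : Fintype (RT K m) := Fintype.ofFinite _
  haveI hfin : Finite (ROm K m) := Quotient.finite _
  haveI : Fintype (ROm K m) := Fintype.ofFinite _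
  let C : Finset (RT K m) := Finset.univ.filter P
  have h2 := double_count (G := RT K m) (X := ROm K m) Finset.univ (pt0 K m) (fun x => by
      simp only [Finset.mem_univ, true_iff]
      obtain ⟨g, rfl⟩ := QuotientGroup.mk_surjective x
      exact ⟨g, (smul_pt0 g).symm⟩) C (fun g y hy => Finset.mem_filter.2 ⟨Finset.mem_univ _, hP g y (Finset.mem_filter.1 hy).2⟩)
    (fun (y : RT K m) (x : ROm K m) => y • x = x)
    (fun g y x hy => by
      show (g * y * g⁻¹) • (g • x) = g • x
      rw [← mul_smul, inv_mul_cancel_right, mul_smul, hy]) a (by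
      intro y hy
      rw [← ha y (Finset.mem_filter.1 hy).2]
      unfold rfixN
      rw [Nat.card_eq_fintype_card]
      rw [Fintype.card_subtype]
      rfl)
  have e1 : Nat.card {y : RT K m // P y} = C.card := by
    rw [Nat.card_eq_fintype_card, Fintype.card_subtype]
  have e2 : Nat.card {y : RT K m // P y ∧ y ∈ tB K m} = (C.filter (fun y => y • pt0 K m = pt0 K m)).card := by
    rw [Nat.card_eq_fintype_card, Fintype.card_subtype, Finset.filter_filter]
    congr 1
    ext y
    simp only [Finset.mem_filter, Finset.mem_univ, true_and]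
    rw [← stabilizer_pt0]
    rfl
  have e3 : (Finset.univ : Finset (ROm K m)).card = (3 ^ (2 * m + 1)) ^ 3 + 1 := by
    rw [Finset.card_univ, ← Nat.card_eq_fintype_card, card_ROm hK]
  rw [e1, e2, h2, e3]

/-- Counting elements with two fixed points. -/
lemma count_fix_two (P : RT K m → Prop) (hP : ∀ g y, P y → P (g * y * g⁻¹))
    (ha : ∀ y, P y → ∃ c, ∃ β : Kˣ, c * y * c⁻¹ = tH hK β ∧ (β : K) ^ 2 ≠ 1) :
    Nat.card {y : RT K m // P y} * 2 = ((3 ^ (2 * m + 1)) ^ 3 + 1) * (3 ^ (2 * m + 1)) ^ 3 * Nat.card {y : RT K m // P y ∧ ∃ β : Kˣ, y = tH hK β} := by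
  classical
  haveI := t_finite hK
  haveI : Fintype (RT K m) := Fintype.ofFinite _
  haveI hfin : Finite (ROm K m) := Quotient.finite _
  haveI : Fintype (ROm K m) := Fintype.ofFinite _
  let C : Finset (RT K m) := Finset.univ.filter P
  have hfix : ∀ y : RT K m, y • pt0 K m = pt0 K m → y • (tW K m • pt0 K m) = tW K m • pt0 K m → ∃ β, y = tH hK β := fun y h1 h2 => stab_two hK h1 h2
  have h2 := double_count (G := RT K m) (X := ROm K m × ROm K m) (Finset.univ : Finset (ROm K m)).offDiag (pt0 K m, tW K m • pt0 K m) (fun x => by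
      rw [Finset.mem_offDiag]
      constructor
      · rintro ⟨-, -, hne⟩
        obtain ⟨g, h3, h4⟩ := two_trans hK hne
        refine ⟨g⁻¹, ?_⟩
        apply Prod.ext
        · show x.1 = g⁻¹ • pt0 K m
          rw [← h3, inv_smul_smul]
        · show x.2 = g⁻¹ • (tW K m • pt0 K m)
          rw [← h4, inv_smul_smul]
      · rintro ⟨g, rfl⟩
        refine ⟨Finset.mem_univ _, Finset.mem_univ _, ?_⟩
        intro h
        exact pt0_ne_w hK (MulAction.injective g h)) C (fun g y hy => Finset.mem_filter.2 ⟨Finset.mem_univ _, hP g y (Finset.mem_filter.1 hy).2⟩)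
    (fun (y : RT K m) (x : ROm K m × ROm K m) => y • x.1 = x.1 ∧ y • x.2 = x.2)
    (fun g y x hy => by
      constructor
      · show (g * y * g⁻¹) • (g • x.1) = g • x.1
        rw [← mul_smul, inv_mul_cancel_right, mul_smul, hy.1]
      · show (g * y * g⁻¹) • (g • x.2) = g • x.2
        rw [← mul_smul, inv_mul_cancel_right, mul_smul, hy.2]) 2 (by
      intro y hy
      obtain ⟨c, β, e, hβ⟩ := ha y (Finset.mem_filter.1 hy).2
      have hy0 : y = c⁻¹ * tH hK β * c := by
        rw [← e]
        group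
      set p₁ := c⁻¹ • pt0 K m with hp₁
      set p₂ := c⁻¹ • (tW K m • pt0 K m) with hp₂
      have h12 : p₁ ≠ p₂ := fun h => pt0_ne_w hK (MulAction.injective c⁻¹ h)
      have hf : ∀ p : ROm K m, y • p = p ↔ p = p₁ ∨ p = p₂ := by
        intro p
        constructor
        · intro h
          have h3 : tH hK β • (c • p) = c • p := by
            rw [← e, ← mul_smul, inv_mul_cancel_right, mul_smul, h]
          rcases fix_tH_generic hK hβ _ h3 with h4 | h4
          · left
            rw [hp₁, ← h4, inv_smul_smul]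
          · right
            rw [hp₂, ← h4, inv_smul_smul]
        · rintro (rfl | rfl)
          · rw [hy0, hp₁, mul_smul, mul_smul, smul_inv_smul, mem_tB_smul_pt0 hK (tH_mem_tB hK _)]
          · rw [hy0, hp₂, mul_smul, mul_smul, smul_inv_smul, tH_smul_w hK]
      have : (Finset.univ : Finset (ROm K m)).offDiag.filter (fun x => y • x.1 = x.1 ∧ y • x.2 = x.2) = {(p₁, p₂), (p₂, p₁)} := by
        ext x
        simp only [Finset.mem_filter, Finset.mem_offDiag, Finset.mem_univ, true_and, Finset.mem_insert, Finset.mem_singleton, hf]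
        obtain ⟨a, b⟩ := x
        simp only [Prod.mk.injEq]
        constructor
        · rintro ⟨hab, h3 | h3, h4 | h4⟩
          · exact absurd (h3.trans h4.symm) hab
          · exact Or.inl ⟨h3, h4⟩
          · exact Or.inr ⟨h3, h4⟩
          · exact absurd (h3.trans h4.symm) hab
        · rintro (⟨rfl, rfl⟩ | ⟨rfl, rfl⟩)
          · exact ⟨h12, Or.inl rfl, Or.inr rfl⟩
          · exact ⟨h12.symm, Or.inr rfl, Or.inl rfl⟩
      rw [this, Finset.card_pair]
      intro h
      exact h12 (Prod.ext_iff.1 h).1)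
  have e1 : Nat.card {y : RT K m // P y} = C.card := by
    rw [Nat.card_eq_fintype_card, Fintype.card_subtype]
  have e2 : Nat.card {y : RT K m // P y ∧ ∃ β : Kˣ, y = tH hK β} = (C.filter (fun y => y • pt0 K m = pt0 K m ∧ y • (tW K m • pt0 K m) = tW K m • pt0 K m)).card := by
    rw [Nat.card_eq_fintype_card, Fintype.card_subtype, Finset.filter_filter]
    congr 1
    ext y
    simp only [Finset.mem_filter, Finset.mem_univ, true_and]
    constructor
    · rintro ⟨h3, β, rfl⟩
      exact ⟨h3, mem_tB_smul_pt0 hK (tH_mem_tB hK _), tH_smul_w hK _⟩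
    · rintro ⟨h3, h4, h5⟩
      exact ⟨h3, hfix y h4 h5⟩
  have e3 : (Finset.univ : Finset (ROm K m)).offDiag.card = ((3 ^ (2 * m + 1)) ^ 3 + 1) * (3 ^ (2 * m + 1)) ^ 3 := by
    rw [Finset.offDiag_card, Finset.card_univ, ← Nat.card_eq_fintype_card, card_ROm hK]
    rw [Nat.mul_succ]
    simp
  rw [e1, e2, h2, e3]

/-- unique fixed point in terms of the count -/
lemma rfixN_eq_one {y : RT K m} {p₀ : ROm K m} (h1 : y • p₀ = p₀) (h2 : ∀ p, y • p = p → p = p₀) : rfixN (ROm K m) y = 1 := by
  unfold rfixN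
  rw [Nat.card_eq_one_iff_unique]
  refine ⟨⟨fun a b => Subtype.ext ((h2 _ a.2).trans (h2 _ b.2).symm)⟩, ⟨⟨p₀, h1⟩⟩⟩

omit hK in
lemma pow_smul_fix {y : RT K m} {p : ROm K m} (hp : y • p = p) (k : ℕ) : (y ^ k) • p = p := by
  induction k with
  | zero => simp
  | succ k ih => rw [pow_succ, mul_smul, hp, ih]

/-- elements with a power of order three have a unique fixed point -/
lemma unique_fix_of_pow_three {y : RT K m} {k : ℕ} (hz : orderOf (y ^ k) = 3) : rfixN (ROm K m) y = 1 := by
  obtain ⟨c, a, b, d, e, hne⟩ := prime_conj_three hK hz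
  have hu : ∀ p, (y ^ k) • p = p → p = c⁻¹ • pt0 K m := by
    intro p hp
    have h1 : tU m a b d • (c • p) = c • p := by
      rw [← e, ← mul_smul, inv_mul_cancel_right, mul_smul, hp]
    have h2 := tU_fix_unique hK hne h1
    rw [← h2, inv_smul_smul]
  have hf : (y ^ k) • (c⁻¹ • pt0 K m) = c⁻¹ • pt0 K m := by
    have e2 : y ^ k = c⁻¹ * tU m a b d * c := by
      rw [← e]
      group
    rw [e2, mul_smul, mul_smul, smul_inv_smul, mem_tB_smul_pt0 hK (tU_mem_tB hK _ _ _)]
  have hcomm : y * y ^ k = y ^ k * y := (Commute.pow_right (Commute.refl y) _)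
  apply rfixN_eq_one hK (p₀ := c⁻¹ • pt0 K m)
  · apply hu
    rw [← mul_smul, ← hcomm, mul_smul, hf]
  · intro p hp
    exact hu p (pow_smul_fix hp k)

/-- the torus part of a relation in the Borel subgroup -/
lemma tU_mul_tH_eq_one {a b c : K} {γ : Kˣ} (h : tU m a b c * tH hK γ = 1) : γ = 1 := by
  have h1 : tH hK γ = (tU m a b c)⁻¹ := eq_inv_of_mul_eq_one_right h
  have h2 : tH hK γ ^ 9 = 1 := by
    rw [h1, inv_pow, tU_pow_nine hK, inv_one]
  have h3 := tH_pow_card hK γ
  have h4 : Nat.Coprime 9 (2 * reeH m) := by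
    have h5 : Nat.Coprime (2 * reeH m) 3 := Nat.Coprime.coprime_dvd_right (ree_three_dvd m) (reeH_cop_q m)
    have h6 : Nat.Coprime (2 * reeH m) (3 ^ 2) := Nat.Coprime.pow_right 2 h5
    exact (by simpa using h6 : Nat.Coprime (2 * reeH m) 9).symm
  have h7 : orderOf (tH hK γ) ∣ 1 := by
    rw [← h4]
    exact Nat.dvd_gcd (orderOf_dvd_of_pow_eq_one h2) (orderOf_dvd_of_pow_eq_one h3)
  exact tH_inj_one hK (orderOf_eq_one_iff.mp (Nat.dvd_one.mp h7))

/-- powers in the Borel subgroup -/
lemma tB_torus_pow {t u v : K} {β : Kˣ} {k : ℕ} (h : (tU m t u v * tH hK β) ^ k = 1) : β ^ k = 1 := by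
  obtain ⟨t', u', v', e⟩ := tB_pow hK t u v β k
  rw [e] at h
  exact tU_mul_tH_eq_one hK h

lemma units_pow_three_eq_one {β : Kˣ} {j : ℕ} (h : β ^ 3 ^ j = 1) : β = 1 := by
  have h3 : β ^ (2 * reeH m) = 1 := by
    apply tH_inj hK
    rw [tH_pow hK, tH_pow_card hK, tH_one hK]
  have h5 : Nat.Coprime (3 ^ j) (2 * reeH m) := by
    have h6 : Nat.Coprime (2 * reeH m) 3 := Nat.Coprime.coprime_dvd_right (ree_three_dvd m) (reeH_cop_q m)
    exact (Nat.Coprime.pow_right j h6).symm
  have h7 : orderOf β ∣ 1 := by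
    rw [← h5]
    exact Nat.dvd_gcd (orderOf_dvd_of_pow_eq_one h) (orderOf_dvd_of_pow_eq_one h3)
  exact orderOf_eq_one_iff.mp (Nat.dvd_one.mp h7)

lemma units_sq_of_pow_six {β : Kˣ} (h : β ^ 6 = 1) : β ^ 2 = 1 := by
  have h1 : (β ^ 2) ^ 3 ^ 1 = 1 := by
    rw [← pow_mul]
    exact h
  exact units_pow_three_eq_one hK h1

/-- the order of elements of `U` -/
lemma orderOf_tU_nine {t u v : K} (ht : t ≠ 0) : orderOf (tU m t u v) = 9 := by
  have h : orderOf (tU m t u v) = 3 ^ (1 + 1) := by
    apply orderOf_eq_prime_pow (p := 3) (n := 1)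
    · intro h1
      have h2 : orderOf (tU m t u v) ∣ 3 := orderOf_dvd_of_pow_eq_one (by simpa using h1)
      rcases (Nat.dvd_prime Nat.prime_three).1 h2 with h3 | h3
      · rw [orderOf_eq_one_iff] at h3
        have := tU_inj (m := m) (h3.trans tU_zero.symm)
        exact ht this.1
      · have := (orderOf_tU_eq_three_iff hK _ _ _).1 h3
        exact ht this.1
    · exact tU_pow_nine hK _ _ _
  simpa using h

/-- The elements of order `3` in the Borel subgroup. -/
theorem card_order_three_B : Nat.card {y : RT K m // orderOf y = 3 ∧ y ∈ tB K m} = (3 ^ (2 * m + 1)) ^ 2 - 1 := by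
  classical
  let f : {p : K × K // p ≠ 0} → {y : RT K m // orderOf y = 3 ∧ y ∈ tB K m} := fun p =>
    ⟨tU m 0 p.1.1 p.1.2, (orderOf_tU_eq_three_iff hK _ _ _).2 ⟨rfl, by
      by_contra hcon
      push Not at hcon
      exact p.2 (Prod.ext hcon.1 hcon.2)⟩, tU_mem_tB hK _ _ _⟩
  have hf : Function.Bijective f := by
    constructor
    · intro p p' h
      have h0 : tU m (0 : K) p.1.1 p.1.2 = tU m 0 p'.1.1 p'.1.2 := congrArg Subtype.val h
      have h1 := tU_inj h0
      exact Subtype.ext (Prod.ext h1.2.1 h1.2.2)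
    · rintro ⟨y, hy, hyB⟩
      obtain ⟨t, u, v, β, rfl⟩ := (mem_tB_iff hK _).1 hyB
      have h3 : β ^ 3 ^ 1 = 1 := by
        apply tB_torus_pow hK (t := t) (u := u) (v := v)
        have := pow_orderOf_eq_one (tU m t u v * tH hK β)
        rw [hy] at this
        simpa using this
      have hβ := units_pow_three_eq_one hK h3
      subst hβ
      rw [tH_one hK, mul_one] at hy
      obtain ⟨h0, h1⟩ := (orderOf_tU_eq_three_iff hK _ _ _).1 hy
      subst h0
      refine ⟨⟨(u, v), ?_⟩, Subtype.ext ?_⟩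
      · intro h
        have h4 := Prod.ext_iff.1 h
        rcases h1 with h1 | h1
        · exact h1 h4.1
        · exact h1 h4.2
      · show tU m 0 u v = tU m 0 u v * tH hK 1
        rw [tH_one hK, mul_one]
  rw [← Nat.card_congr (Equiv.ofBijective f hf), Nat.card_eq_fintype_card, Fintype.card_subtype_compl, Fintype.card_subtype_eq, Fintype.card_prod, hK]
  ring_nf

/-- The elements of order `9` in the Borel subgroup. -/
theorem card_order_nine_B : Nat.card {y : RT K m // orderOf y = 9 ∧ y ∈ tB K m} = (3 ^ (2 * m + 1)) ^ 2 * (3 ^ (2 * m + 1) - 1) := by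
  classical
  let f : Kˣ × K × K → {y : RT K m // orderOf y = 9 ∧ y ∈ tB K m} := fun p =>
    ⟨tU m p.1 p.2.1 p.2.2, orderOf_tU_nine hK p.1.ne_zero, tU_mem_tB hK _ _ _⟩
  have hf : Function.Bijective f := by
    constructor
    · rintro ⟨a, b, c⟩ ⟨a', b', c'⟩ h
      have h0 : tU m (a : K) b c = tU m (a' : K) b' c' := congrArg Subtype.val h
      have h1 := tU_inj h0
      have e1 : a = a' := Units.ext h1.1
      rw [e1, h1.2.1, h1.2.2]
    · rintro ⟨y, hy, hyB⟩
      obtain ⟨t, u, v, β, rfl⟩ := (mem_tB_iff hK _).1 hyB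
      have h3 : β ^ 3 ^ 2 = 1 := by
        apply tB_torus_pow hK (t := t) (u := u) (v := v)
        have := pow_orderOf_eq_one (tU m t u v * tH hK β)
        rwa [hy] at this
      have hβ := units_pow_three_eq_one hK h3
      subst hβ
      rw [tH_one hK, mul_one] at hy
      have ht : t ≠ 0 := by
        rintro rfl
        have h4 : orderOf (tU m (0 : K) u v) ∣ 3 := orderOf_dvd_of_pow_eq_one (tU_cube0 hK _ _)
        rw [hy] at h4
        omega
      refine ⟨(Units.mk0 t ht, u, v), Subtype.ext ?_⟩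
      show tU m t u v = tU m t u v * tH hK 1
      rw [tH_one hK, mul_one]
  rw [← Nat.card_congr (Equiv.ofBijective f hf), Nat.card_prod, Nat.card_prod, Nat.card_eq_fintype_card, Nat.card_eq_fintype_card, Fintype.card_units, hK]
  ring

/-- The involutions in the Borel subgroup. -/
theorem card_invol_B : Nat.card {y : RT K m // (y * y = 1 ∧ y ≠ 1) ∧ y ∈ tB K m} = (3 ^ (2 * m + 1)) ^ 2 := by
  have h1 := count_fix_const hK (fun y => y * y = 1 ∧ y ≠ 1) (fun g y hy => by
    refine ⟨?_, conj_ne_one hy.2⟩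
    have : (g * y * g⁻¹) * (g * y * g⁻¹) = g * (y * y) * g⁻¹ := by group
    rw [this, hy.1]
    group) (3 ^ (2 * m + 1) + 1) (fun y hy => by
    obtain ⟨c, hc⟩ := invol_conj_a hK hy.1 hy.2
    rw [← rfixN_conj hK c y, hc, rfixN_tA hK])
  rw [card_involutions hK, ree_N_eq] at h1
  have h2 := reeN_spec m
  rw [h2] at h1
  have hpos : 0 < (3 ^ (2 * m + 1) + 1) * reeDD m := by
    have := reeD_pos m
    positivity
  apply Nat.eq_of_mul_eq_mul_left hpos
  rw [← h1]
  ring

/-- The elements of order `6` in the Borel subgroup. -/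
theorem card_order_six_B : Nat.card {y : RT K m // orderOf y = 6 ∧ y ∈ tB K m} + (3 ^ (2 * m + 1)) ^ 2 = (3 ^ (2 * m + 1)) ^ 3 := by
  classical
  haveI := t_finite hK
  haveI : Fintype (RT K m) := Fintype.ofFinite _
  let f : K × K × K → RT K m := fun p => tU m p.1 p.2.1 p.2.2 * tA hK
  have hinj : Function.Injective f := by
    rintro ⟨a, b, c⟩ ⟨a', b', c'⟩ h
    have h0 : tU m a b c = tU m a' b' c' := mul_right_cancel h
    have h1 := tU_inj h0
    rw [h1.1, h1.2.1, h1.2.2]
  let S : Finset (RT K m) := Finset.univ.image f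
  have hS : S.card = (3 ^ (2 * m + 1)) ^ 3 := by
    rw [Finset.card_image_of_injective _ hinj, Finset.card_univ, Fintype.card_prod, Fintype.card_prod, hK]
    ring
  have hmem : ∀ y, y ∈ S ↔ ∃ t u v, y = tU m t u v * tA hK := by
    intro y
    simp only [S, Finset.mem_image, Finset.mem_univ, true_and]
    constructor
    · rintro ⟨⟨t, u, v⟩, rfl⟩
      exact ⟨t, u, v, rfl⟩
    · rintro ⟨t, u, v, rfl⟩
      exact ⟨(t, u, v), rfl⟩
  have h1 := Finset.card_filter_add_card_filter_not (s := S) (fun y => y * y = 1)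
  have hne1 : ∀ t u v : K, tU m t u v * tA hK ≠ 1 := by
    intro t u v h
    have := tU_mul_tH_eq_one hK (show tU m t u v * tH hK (-1) = 1 from h)
    have h5 : (-1 : Kˣ) = 1 := this
    have h6 : (-1 : K) = 1 := by
      have := congrArg Units.val h5
      simpa using this
    have h2 : (2 : K) ≠ 0 := ree_two_ne
    apply h2
    linear_combination -h6
  have h2 : (S.filter (fun y => y * y = 1)).card = (3 ^ (2 * m + 1)) ^ 2 := by
    rw [← card_invol_B hK, Nat.card_eq_fintype_card, Fintype.card_subtype]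
    congr 1
    ext y
    simp only [Finset.mem_filter, Finset.mem_univ, true_and, hmem]
    constructor
    · rintro ⟨⟨t, u, v, rfl⟩, h3⟩
      exact ⟨⟨h3, hne1 t u v⟩, mul_mem (tU_mem_tB hK _ _ _) (tH_mem_tB hK _)⟩
    · rintro ⟨⟨h3, h4⟩, h5⟩
      refine ⟨?_, h3⟩
      obtain ⟨t, u, v, β, rfl⟩ := (mem_tB_iff hK _).1 h5
      have h6 : β ^ 2 = 1 := by
        apply tB_torus_pow hK (t := t) (u := u) (v := v)
        rw [sq, h3]
      have h7 : (β : K) ^ 2 = 1 := by
        have := congrArg Units.val h6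
        simpa using this
      rcases eq_one_or_of_sq h7 with h8 | h8
      · exfalso
        have hβ : β = 1 := Units.ext h8
        subst hβ
        rw [tH_one hK, mul_one] at h3 h4
        -- `u * u = 1` and `u ^ 9 = 1`
        have h9 : orderOf (tU m t u v) ∣ 1 := by
          have h10 : Nat.Coprime 2 9 := by norm_num
          rw [← h10]
          apply Nat.dvd_gcd
          · exact orderOf_dvd_of_pow_eq_one (by rw [sq, h3])
          · exact orderOf_dvd_of_pow_eq_one (tU_pow_nine hK _ _ _)
        exact h4 (orderOf_eq_one_iff.mp (Nat.dvd_one.mp h9))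
      · have hβ : β = -1 := Units.ext (by simpa using h8)
        subst hβ
        exact ⟨t, u, v, rfl⟩
  have h3 : (S.filter (fun y => ¬ y * y = 1)).card = Nat.card {y : RT K m // orderOf y = 6 ∧ y ∈ tB K m} := by
    rw [Nat.card_eq_fintype_card, Fintype.card_subtype]
    congr 1
    ext y
    simp only [Finset.mem_filter, Finset.mem_univ, true_and, hmem]
    constructor
    · rintro ⟨⟨t, u, v, rfl⟩, h3⟩
      refine ⟨?_, mul_mem (tU_mem_tB hK _ _ _) (tH_mem_tB hK _)⟩
      -- the order divides 6, is not 1, 2, 3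
      have h6 := tU_tA_pow_six hK t u v
      have h4 : orderOf (tU m t u v * tA hK) ∣ 6 := orderOf_dvd_of_pow_eq_one h6
      have h5 : orderOf (tU m t u v * tA hK) ≠ 1 := fun h => hne1 t u v (orderOf_eq_one_iff.mp h)
      have h7 : orderOf (tU m t u v * tA hK) ≠ 2 := by
        intro h
        apply h3
        have := pow_orderOf_eq_one (tU m t u v * tA hK)
        rwa [h, sq] at this
      have h8 : orderOf (tU m t u v * tA hK) ≠ 3 := by
        intro h
        have h9 : (tU m t u v * tA hK) ^ 3 = 1 := by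
          have := pow_orderOf_eq_one (tU m t u v * tA hK)
          rwa [h] at this
        have h10 := tB_torus_pow hK (t := t) (u := u) (v := v) (β := -1) h9
        have h11 := units_pow_three_eq_one hK (j := 1) (by simpa using h10)
        have h12 : (-1 : K) = 1 := by
          have := congrArg Units.val h11
          simpa using this
        have h2 : (2 : K) ≠ 0 := ree_two_ne
        apply h2
        linear_combination -h12
      have h9 : orderOf (tU m t u v * tA hK) ≤ 6 := Nat.le_of_dvd (by norm_num) h4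
      interval_cases h : orderOf (tU m t u v * tA hK) <;> first | rfl | omega | contradiction
    · rintro ⟨h3, h5⟩
      obtain ⟨t, u, v, β, rfl⟩ := (mem_tB_iff hK _).1 h5
      have h6 : β ^ 6 = 1 := by
        apply tB_torus_pow hK (t := t) (u := u) (v := v)
        have := pow_orderOf_eq_one (tU m t u v * tH hK β)
        rwa [h3] at this
      have h7 : (β : K) ^ 2 = 1 := by
        have := congrArg Units.val (units_sq_of_pow_six hK h6)
        simpa using this
      constructor
      · rcases eq_one_or_of_sq h7 with h8 | h8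
        · exfalso
          have hβ : β = 1 := Units.ext h8
          subst hβ
          rw [tH_one hK, mul_one] at h3
          have h9 : orderOf (tU m t u v) ∣ 9 := orderOf_dvd_of_pow_eq_one (tU_pow_nine hK _ _ _)
          rw [h3] at h9
          omega
        · have hβ : β = -1 := Units.ext (by simpa using h8)
          subst hβ
          exact ⟨t, u, v, rfl⟩
      · intro h
        have h8 : orderOf (tU m t u v * tH hK β) ∣ 2 := orderOf_dvd_of_pow_eq_one (by rw [sq, h])
        rw [h3] at h8
        omega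
  rw [h2, h3, hS] at h1
  rw [add_comm]
  exact h1

end Cfsg.Agent.H10
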