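import Cfsg.Agent.Lib.H10.ReeF3

/-!
# The small Ree group: counting elements of given order, continued
-/

set_option autoImplicit false
set_option linter.style.longLine false
set_option linter.unusedSimpArgs false
set_option linter.unusedSectionVars false
set_option linter.style.haveILetI false
set_option maxRecDepth 100000

open Cfsg Cfsg.Lie Cfsg.Agent.H04.Chev Matrix
open scoped MatrixGroups commutatorElement Pointwise

namespace Cfsg.Agent.H10

variable {K : Type*} [Field K] [CharP K 3] {m : ℕ} [Fintype K] (hK : Fintype.card K = 3 ^ (2 * m + 1))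

include hK

theorem count_order_two : Nat.card {g : RT K m // orderOf g = 2} = (3 ^ (2 * m + 1)) ^ 2 * ((3 ^ (2 * m + 1)) ^ 2 - 3 ^ (2 * m + 1) + 1) := by
  have h := card_involutions (m := m) hK
  rw [show ((3 ^ (2 * m + 1)) ^ 2 - 3 ^ (2 * m + 1) + 1) = reeDD m from rfl, ← h]
  apply Nat.card_congr
  apply Equiv.subtypeEquivRight
  intro g
  constructor
  · intro h1
    constructor
    · have := pow_orderOf_eq_one g
      rwa [h1, sq] at this
    · rintro rfl
      rw [orderOf_one] at h1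
      omega
  · rintro ⟨h1, h2⟩
    exact orderOf_eq_prime (by rw [sq, h1]) h2

lemma hP_order (i : ℕ) (g y : RT K m) (h : orderOf y = i) : orderOf (g * y * g⁻¹) = i := by
  rw [orderOf_conj_eq, h]

theorem count_order_three : Nat.card {g : RT K m // orderOf g = 3} = ((3 ^ (2 * m + 1)) ^ 2 - 1) * ((3 ^ (2 * m + 1)) ^ 3 + 1) := by
  have h1 := count_fix_const hK (fun y => orderOf y = 3) (hP_order hK 3) 1 (fun y hy => unique_fix_of_pow_three hK (k := 1) (by rw [pow_one]; exact hy))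
  rw [card_order_three_B hK, mul_one] at h1
  rw [h1, mul_comm]

theorem count_order_nine : Nat.card {g : RT K m // orderOf g = 9} = (3 ^ (2 * m + 1)) ^ 2 * (3 ^ (2 * m + 1) - 1) * ((3 ^ (2 * m + 1)) ^ 3 + 1) := by
  have h1 := count_fix_const hK (fun y => orderOf y = 9) (hP_order hK 9) 1 (fun y hy => unique_fix_of_pow_three hK (k := 3) (by
    have := orderOf_pow_orderOf_div (x := y) (n := 3) (orderOf_pos y).ne' (by rw [hy]; norm_num)
    rwa [hy] at this))
  rw [card_order_nine_B hK, mul_one] at h1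
  rw [h1, mul_comm]

theorem count_order_six : Nat.card {g : RT K m // orderOf g = 6} = (3 ^ (2 * m + 1)) ^ 2 * (3 ^ (2 * m + 1) - 1) * ((3 ^ (2 * m + 1)) ^ 3 + 1) := by
  have h1 := count_fix_const hK (fun y => orderOf y = 6) (hP_order hK 6) 1 (fun y hy => unique_fix_of_pow_three hK (k := 2) (by
    have := orderOf_pow_orderOf_div (x := y) (n := 3) (orderOf_pos y).ne' (by rw [hy]; norm_num)
    rwa [hy] at this))
  have h2 := card_order_six_B hK
  have h3 : Nat.card {y : RT K m // orderOf y = 6 ∧ y ∈ tB K m} = (3 ^ (2 * m + 1)) ^ 2 * (3 ^ (2 * m + 1) - 1) := by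
    have hq : 1 ≤ 3 ^ (2 * m + 1) := Nat.one_le_pow _ _ (by norm_num)
    generalize 3 ^ (2 * m + 1) = q at *
    obtain ⟨t, rfl⟩ : ∃ t, q = t + 1 := ⟨q - 1, by omega⟩
    simp only [Nat.add_sub_cancel]
    nlinarith [h2]
  rw [h3, mul_one] at h1
  rw [h1, mul_comm]

/-- order dividing `q - 1` -/
theorem count_order_h {i : ℕ} (hi : 2 < i) (hd : i ∣ 3 ^ (2 * m + 1) - 1) :
    2 * Nat.card {g : RT K m // orderOf g = i} = Nat.totient i * (3 ^ (2 * m + 1)) ^ 3 * ((3 ^ (2 * m + 1)) ^ 3 + 1) := by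
  haveI := t_finite hK
  have e : 3 ^ (2 * m + 1) - 1 = 2 * reeH m := by
    rw [← reeH_spec m]
    simp
  rw [e] at hd
  have h1 := count_fix_two hK (fun y => orderOf y = i) (hP_order hK i) (by
    intro y hy
    have hy2 : y ^ 2 ≠ 1 := by
      intro h
      have := orderOf_dvd_of_pow_eq_one h
      rw [hy] at this
      have := Nat.le_of_dvd (by norm_num) this
      omega
    have hdv : orderOf (y ^ 2) ∣ reeH m := by
      apply orderOf_dvd_of_pow_eq_one
      rw [← pow_mul]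
      apply orderOf_dvd_iff_pow_eq_one.1
      rw [hy]
      exact hd
    obtain ⟨c, β, e1, hβ⟩ := conj_tH_of_dvd_h hK hdv hy2
    have hcomm : y * y ^ 2 = y ^ 2 * y := (Commute.pow_right (Commute.refl y) _)
    have h3 := comm_conj (c := c) hcomm
    rw [e1] at h3
    obtain ⟨γ, hγ⟩ := comm_tH_mem hK hβ h3
    refine ⟨c, γ, hγ, ?_⟩
    intro h
    have hs : γ * γ = 1 := Units.ext (by simpa [sq] using h)
    apply hy2
    have h5 : (c * y * c⁻¹) ^ 2 = 1 := by
      rw [hγ, sq, ← tH_mul hK, hs, tH_one hK]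
    rw [conj_pow] at h5
    have e2 : y ^ 2 = c⁻¹ * (c * y ^ 2 * c⁻¹) * c := by group
    rw [e2, h5]
    group)
  have h2 : Nat.card {y : RT K m // orderOf y = i ∧ ∃ β : Kˣ, y = tH hK β} = Nat.totient i := by
    have h3 := card_order_in_cyclic (tHH K m) (isCyclic_tHH hK) (i := i) (by rw [card_tHH' hK]; exact hd)
    rw [← h3]
    apply Nat.card_congr
    apply Equiv.subtypeEquivRight
    intro y
    rw [mem_tHH_iff hK]
  rw [h2] at h1
  rw [mul_comm 2, h1]
  ring

/-- `K₀` conjugates are centralisers of squares -/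
lemma conj_K0_unique {y : RT K m} (h3 : y * y ≠ 1) (g : RT K m) (hg : y ∈ (tK0 hK).map (MulAut.conj g).toMonoidHom) :
    (tK0 hK).map (MulAut.conj g).toMonoidHom = Subgroup.centralizer ({y * y} : Set (RT K m)) := by
  haveI := t_finite hK
  rw [mem_map_conj_iff] at hg
  have h4 := sq_mem_tD0' hK hg
  have e : y * y = g * ((g⁻¹ * y * g) ^ 2) * g⁻¹ := by
    rw [sq]
    group
  have h5 : (g⁻¹ * y * g) ^ 2 ≠ 1 := by
    intro h6
    apply h3
    rw [e, h6]
    group
  rw [e, centralizer_conj]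
  congr 1
  ext t
  rw [Subgroup.mem_centralizer_singleton_iff]
  exact (tD0_centralizer hK h4 h5 t).symm

/-- Counting elements in the conjugates of `K₀`. -/
theorem count_K0 (hm : 1 ≤ m) (P : RT K m → Prop) (hP : ∀ g y, P y → P (g * y * g⁻¹))
    (hsub : ∀ y, P y → y * y ≠ 1 ∧ ∃ c, c * y * c⁻¹ ∈ tK0 hK) :
    Nat.card {y : RT K m // P y} * (6 * (3 ^ (2 * m + 1) + 1)) = Nat.card (RT K m) * Nat.card {y : RT K m // P y ∧ y ∈ tK0 hK} := by
  haveI := t_finite hK
  have h := count_conj_unique (tK0 hK) P hP (fun y hy => (hsub y hy).2) (fun y hy g g' h1 h2 => by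
    rw [conj_K0_unique hK (hsub y hy).1 g h1, conj_K0_unique hK (hsub y hy).1 g' h2])
  rwa [card_normalizer_K0 hK hm] at h

/-- The elements of order `2 i` in `K₀`. -/
theorem card_order_2i_K0 {i : ℕ} (hi : 1 < i) (hd : i ∣ reeN m) :
    Nat.card {y : RT K m // orderOf y = 2 * i ∧ y ∈ tK0 hK} = 3 * Nat.totient i := by
  classical
  haveI := t_finite hK
  haveI : Fintype (RT K m) := Fintype.ofFinite _
  have hiodd : Odd i := (reeN_odd m).of_dvd_nat hd
  let V : Finset (RT K m) := {tA hK, tW K m, tA hK * tW K m}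
  have hV : V.card = 3 := by
    apply Finset.card_eq_three.2
    exact ⟨_, _, _, (tW_ne_tA hK).symm, (mul_tW_ne_tA hK).symm, (mul_tW_ne_tW hK).symm, rfl⟩
  have hVK : ∀ v ∈ V, v ∈ tK0 hK ∧ orderOf v = 2 := by
    intro v hv
    simp only [V, Finset.mem_insert, Finset.mem_singleton] at hv
    rcases hv with rfl | rfl | rfl
    · exact ⟨tA_mem_tK0 hK, orderOf_eq_prime (by rw [sq, tA_sq hK]) (tA_ne_one hK)⟩
    · exact ⟨tW_mem_tK0 hK, orderOf_eq_prime (by rw [sq, tW_sq]) (tW_ne_one hK)⟩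
    · refine ⟨mul_mem (tA_mem_tK0 hK) (tW_mem_tK0 hK), orderOf_eq_prime ?_ (mul_tW_ne_one hK)⟩
      have h1 := tK0_comm hK (tA_mem_tK0 hK) (tW_mem_tK0 hK)
      rw [sq]
      calc tA hK * tW K m * (tA hK * tW K m) = tA hK * (tW K m * tA hK) * tW K m := by group
        _ = (tA hK * tA hK) * (tW K m * tW K m) := by rw [← h1]; group
        _ = 1 := by rw [tA_sq hK, tW_sq, one_mul]
  let O : Finset (RT K m) := Finset.univ.filter (fun y => orderOf y = i ∧ y ∈ tD0 hK)
  have hO : O.card = Nat.totient i := by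
    rw [← card_order_in_cyclic (tD0 hK) (tD0_cyclic hK) (i := i) (by rw [card_tD0 hK]; exact hd), Nat.card_eq_fintype_card, Fintype.card_subtype]
  let f : RT K m × RT K m → RT K m := fun p => p.1 * p.2
  have hinj : Set.InjOn f ((V ×ˢ O : Finset (RT K m × RT K m)) : Set (RT K m × RT K m)) := by
    rintro ⟨v, d⟩ hp ⟨v', d'⟩ hp' h
    have h1 := Finset.mem_product.1 hp
    have h2 := Finset.mem_product.1 hp'
    obtain ⟨hvK, hvo⟩ := hVK v h1.1
    obtain ⟨hvK', hvo'⟩ := hVK v' h2.1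
    obtain ⟨hdo, hdD⟩ := (Finset.mem_filter.1 h1.2).2
    obtain ⟨hdo', hdD'⟩ := (Finset.mem_filter.1 h2.2).2
    have hf : v * d = v' * d' := h
    -- taking squares
    have hsq : ∀ {a b : RT K m}, a ∈ tK0 hK → b ∈ tK0 hK → orderOf a = 2 → (a * b) * (a * b) = b * b := by
      intro a b ha hb hao
      have h3 : a * a = 1 := by
        have := pow_orderOf_eq_one a
        rwa [hao, sq] at this
      have h4 := tK0_comm hK ha hb
      calc a * b * (a * b) = a * (b * a) * b := by group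
        _ = (a * a) * (b * b) := by rw [← h4]; group
        _ = b * b := by rw [h3, one_mul]
    have h3 : d * d = d' * d' := by
      rw [← hsq hvK (tD0_le_K0 hK hdD) hvo, hf, hsq hvK' (tD0_le_K0 hK hdD') hvo']
    have hc : d * d' = d' * d := tK0_comm hK (tD0_le_K0 hK hdD) (tD0_le_K0 hK hdD')
    have h4 : (d * d'⁻¹) * (d * d'⁻¹) = 1 := by
      have e1 : d * d'⁻¹ = d'⁻¹ * d := by
        rw [mul_inv_eq_iff_eq_mul, mul_assoc, hc, inv_mul_cancel_left]
      calc d * d'⁻¹ * (d * d'⁻¹) = d * (d'⁻¹ * d) * d'⁻¹ := by group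
        _ = d * (d * d'⁻¹) * d'⁻¹ := by rw [e1]
        _ = (d * d) * (d'⁻¹ * d'⁻¹) := by group
        _ = 1 := by rw [h3]; group
    have h5 : d * d'⁻¹ ∈ tD0 hK := mul_mem hdD (inv_mem hdD')
    have h6 := tD0_odd hK h5
    have h7 : orderOf (d * d'⁻¹) ∣ 2 := orderOf_dvd_of_pow_eq_one (by rw [sq, h4])
    have h8 : orderOf (d * d'⁻¹) = 1 := by
      have := Nat.le_of_dvd (by norm_num) h7
      obtain ⟨k, hk⟩ := h6
      omega
    have h9 : d = d' := by
      rw [orderOf_eq_one_iff, mul_inv_eq_one] at h8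
      exact h8
    subst h9
    have h10 : v = v' := mul_right_cancel hf
    rw [h10]
  have hcard : ((V ×ˢ O).image f).card = 3 * Nat.totient i := by
    rw [Finset.card_image_of_injOn hinj, Finset.card_product, hV, hO]
  rw [← hcard, Nat.card_eq_fintype_card, Fintype.card_subtype]
  congr 1
  ext y
  simp only [Finset.mem_filter, Finset.mem_univ, true_and, Finset.mem_image, Finset.mem_product]
  constructor
  · rintro ⟨hy, hyK⟩
    -- decomposition
    have hsqD := sq_mem_tD0' hK hyK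
    obtain ⟨k, hk⟩ := reeN_odd m
    set d := (y ^ 2) ^ (k + 1) with hd'
    have hdD : d ∈ tD0 hK := pow_mem hsqD _
    have hdd : d ^ 2 = y ^ 2 := by
      rw [hd', ← pow_mul]
      have e1 : (k + 1) * 2 = reeN m + 1 := by omega
      rw [e1, pow_succ, tD0_pow hK hsqD, one_mul]
    set v := y * d⁻¹ with hv
    have hvK : v ∈ tK0 hK := mul_mem hyK (inv_mem (tD0_le_K0 hK hdD))
    have hcyd := tK0_comm hK hyK (tD0_le_K0 hK hdD)
    have hvv : v * v = 1 := by
      have e1 : d⁻¹ * y = y * d⁻¹ := by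
        rw [inv_mul_eq_iff_eq_mul, ← mul_assoc, hcyd.symm, mul_assoc, mul_inv_cancel, mul_one]
      calc v * v = y * (d⁻¹ * y) * d⁻¹ := by rw [hv]; group
        _ = y * (y * d⁻¹) * d⁻¹ := by rw [e1]
        _ = y ^ 2 * (d ^ 2)⁻¹ := by rw [sq, sq]; group
        _ = 1 := by rw [hdd]; group
    have hyvd : y = v * d := by rw [hv]; group
    have hv1 : v ≠ 1 := by
      intro h
      rw [h, one_mul] at hyvd
      have h1 := tD0_odd hK hdD
      rw [← hyvd, hy] at h1
      obtain ⟨c, hc⟩ := h1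
      omega
    have hc2 : Commute v d := tK0_comm hK hvK (tD0_le_K0 hK hdD)
    have hvo : orderOf v = 2 := orderOf_eq_prime (by rw [sq, hvv]) hv1
    have hdo : orderOf d = i := by
      have h1 := hc2.orderOf_mul_eq_mul_orderOf_of_coprime (by
        rw [hvo]
        exact (Nat.coprime_two_left.mpr (tD0_odd hK hdD)))
      rw [← hyvd, hy, hvo] at h1
      exact (Nat.eq_of_mul_eq_mul_left (by norm_num) h1).symm
    refine ⟨(v, d), ⟨?_, Finset.mem_filter.2 ⟨Finset.mem_univ _, hdo, hdD⟩⟩, hyvd.symm⟩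
    simp only [V, Finset.mem_insert, Finset.mem_singleton]
    rcases tK0_invol hK hvK hvv with h | h | h | h
    · exact absurd h hv1
    · exact Or.inl h
    · exact Or.inr (Or.inl h)
    · exact Or.inr (Or.inr h)
  · rintro ⟨⟨v, d⟩, ⟨hv, hd2⟩, rfl⟩
    obtain ⟨hvK, hvo⟩ := hVK v hv
    obtain ⟨hdo, hdD⟩ := (Finset.mem_filter.1 hd2).2
    have hc2 : Commute v d := tK0_comm hK hvK (tD0_le_K0 hK hdD)
    refine ⟨?_, mul_mem hvK (tD0_le_K0 hK hdD)⟩
    show orderOf (v * d) = 2 * i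
    rw [hc2.orderOf_mul_eq_mul_orderOf_of_coprime (by
        rw [hvo, hdo]
        exact Nat.coprime_two_left.mpr hiodd), hvo, hdo]

/-- order `i` and `2 i` for `i` dividing `n` -/
theorem count_order_n (hm : 1 ≤ m) {i : ℕ} (hi : 1 < i) (hd : i ∣ reeN m) :
    6 * Nat.card {g : RT K m // orderOf g = i} = Nat.totient i * (3 ^ (2 * m + 1)) ^ 3 * (3 ^ (2 * m + 1) - 1) * ((3 ^ (2 * m + 1)) ^ 2 - 3 ^ (2 * m + 1) + 1) ∧
    2 * Nat.card {g : RT K m // orderOf g = 2 * i} = Nat.totient i * (3 ^ (2 * m + 1)) ^ 3 * (3 ^ (2 * m + 1) - 1) * ((3 ^ (2 * m + 1)) ^ 2 - 3 ^ (2 * m + 1) + 1) := by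
  haveI := t_finite hK
  have hiodd : Odd i := (reeN_odd m).of_dvd_nat hd
  rw [show ((3 ^ (2 * m + 1)) ^ 2 - 3 ^ (2 * m + 1) + 1) = reeDD m from rfl]
  have hG : Nat.card (RT K m) = (3 ^ (2 * m + 1) + 1) * ((3 ^ (2 * m + 1)) ^ 3 * (3 ^ (2 * m + 1) - 1) * reeDD m) := by
    rw [card_T hK, hK, ree_N_eq, reeN_spec]
    ring
  have hqpos : 0 < 3 ^ (2 * m + 1) + 1 := by positivity
  have hne : ∀ {y : RT K m} {j : ℕ}, orderOf y = j → 2 < j → y * y ≠ 1 := by
    intro y j hy hj h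
    have := orderOf_dvd_of_pow_eq_one (show y ^ 2 = 1 by rw [sq, h])
    rw [hy] at this
    have := Nat.le_of_dvd (by norm_num) this
    omega
  have hi3 : 2 < i := by
    obtain ⟨k, hk⟩ := hiodd
    omega
  constructor
  · have h1 := count_K0 hK hm (fun y => orderOf y = i) (hP_order hK i) (by
      intro y hy
      refine ⟨hne hy hi3, ?_⟩
      have hy1 : y ≠ 1 := by
        rintro rfl
        rw [orderOf_one] at hy
        omega
      obtain ⟨c, hc⟩ := conj_D0_of_dvd_n hK (by rw [hy]; exact hd) hy1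
      exact ⟨c, tD0_le_K0 hK hc⟩)
    have h2 : Nat.card {y : RT K m // orderOf y = i ∧ y ∈ tK0 hK} = Nat.totient i := by
      rw [← card_order_in_cyclic (tD0 hK) (tD0_cyclic hK) (i := i) (by rw [card_tD0 hK]; exact hd)]
      apply Nat.card_congr
      apply Equiv.subtypeEquivRight
      intro y
      constructor
      · rintro ⟨h3, h4⟩
        exact ⟨h3, mem_tD0_of_odd hK h4 (by rw [h3]; exact hiodd)⟩
      · rintro ⟨h3, h4⟩
        exact ⟨h3, tD0_le_K0 hK h4⟩
    rw [h2, hG] at h1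
    apply Nat.eq_of_mul_eq_mul_left hqpos
    calc (3 ^ (2 * m + 1) + 1) * (6 * Nat.card {g : RT K m // orderOf g = i}) = Nat.card {g : RT K m // orderOf g = i} * (6 * (3 ^ (2 * m + 1) + 1)) := by ring
      _ = _ := by rw [h1]; ring
  · have h1 := count_K0 hK hm (fun y => orderOf y = 2 * i) (hP_order hK (2 * i)) (by
      intro y hy
      refine ⟨hne hy (by omega), ?_⟩
      have hy2 : y ^ 2 ≠ 1 := by
        rw [sq]
        exact hne hy (by omega)
      have hdv : orderOf (y ^ 2) ∣ reeN m := by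
        apply orderOf_dvd_of_pow_eq_one
        obtain ⟨j, hj⟩ := hd
        rw [← pow_mul, hj]
        have : 2 * (i * j) = (2 * i) * j := by ring
        rw [this, pow_mul, ← hy, pow_orderOf_eq_one, one_pow]
      obtain ⟨c, hc⟩ := conj_D0_of_dvd_n hK hdv hy2
      refine ⟨c, ?_⟩
      have hcomm : y * y ^ 2 = y ^ 2 * y := (Commute.pow_right (Commute.refl y) _)
      exact (tD0_centralizer hK hc (conj_ne_one hy2) _).1 (comm_conj hcomm))
    rw [card_order_2i_K0 hK hi hd, hG] at h1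
    have h3 : 3 * (2 * Nat.card {g : RT K m // orderOf g = 2 * i}) = 3 * (Nat.totient i * (3 ^ (2 * m + 1)) ^ 3 * (3 ^ (2 * m + 1) - 1) * reeDD m) := by
      apply Nat.eq_of_mul_eq_mul_left hqpos
      calc (3 ^ (2 * m + 1) + 1) * (3 * (2 * Nat.card {g : RT K m // orderOf g = 2 * i})) = Nat.card {g : RT K m // orderOf g = 2 * i} * (6 * (3 ^ (2 * m + 1) + 1)) := by ring
        _ = _ := by rw [h1]; ring
    exact Nat.eq_of_mul_eq_mul_left (by norm_num) h3

/-- Counting elements in the conjugates of a torus `A`. -/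
theorem count_RA {A : Subgroup (RT K m)} (hA : IsRA hK A) (P : RT K m → Prop) (hP : ∀ g y, P y → P (g * y * g⁻¹))
    (hsub : ∀ y, P y → y ≠ 1 ∧ ∃ c, c * y * c⁻¹ ∈ A) :
    Nat.card {y : RT K m // P y} * Nat.card (Subgroup.normalizer (A : Set (RT K m))) = Nat.card (RT K m) * Nat.card {y : RT K m // P y ∧ y ∈ A} := by
  haveI := t_finite hK
  exact count_conj_unique A P hP (fun y hy => (hsub y hy).2) (fun y hy g g' h1 h2 => by
    rw [← (hA.conj g).centralizer_eq h1 (hsub y hy).1, ← (hA.conj g').centralizer_eq h2 (hsub y hy).1])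

omit hK in
lemma ree_d_coprime (m : ℕ) : Nat.Coprime (3 ^ (2 * m + 1) - 3 ^ (m + 1) + 1) (3 ^ (2 * m + 1) + 3 ^ (m + 1) + 1) := by
  rw [Nat.coprime_iff_gcd_eq_one] 
  by_contra hcon
  obtain ⟨p, hp, hpg⟩ := Nat.exists_prime_and_dvd hcon
  have h1 := dvd_trans hpg (Nat.gcd_dvd_left _ _)
  have h2 := dvd_trans hpg (Nat.gcd_dvd_right _ _)
  have h3 := ree_r_le m
  have hD : p ∣ reeDD m := by
    rw [reeDD_factor]
    exact Dvd.dvd.mul_right h1 _
  have h4 : p ∣ 2 * 3 ^ (m + 1) := by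
    have e : 3 ^ (2 * m + 1) + 3 ^ (m + 1) + 1 = (3 ^ (2 * m + 1) - 3 ^ (m + 1) + 1) + 2 * 3 ^ (m + 1) := by omega
    rw [e] at h2
    exact (Nat.dvd_add_right h1).1 h2
  rcases (Nat.Prime.dvd_mul hp).1 h4 with h5 | h5
  · have := (Nat.prime_dvd_prime_iff_eq hp Nat.prime_two).1 h5
    subst this
    exact reeD_not_two m hD
  · have := (Nat.prime_dvd_prime_iff_eq hp Nat.prime_three).1 (hp.dvd_of_dvd_pow h5)
    subst this
    exact reeD_not_three m hD

/-- order dividing one of the two factors of `D`. -/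
theorem count_order_d (hm : 1 ≤ m) {i : ℕ} (hi : 1 < i) :
    (i ∣ 3 ^ (2 * m + 1) - 3 ^ (m + 1) + 1 → 6 * Nat.card {g : RT K m // orderOf g = i} =
        Nat.totient i * (3 ^ (2 * m + 1)) ^ 3 * ((3 ^ (2 * m + 1)) ^ 2 - 1) * (3 ^ (2 * m + 1) + 3 ^ (m + 1) + 1)) ∧
    (i ∣ 3 ^ (2 * m + 1) + 3 ^ (m + 1) + 1 → 6 * Nat.card {g : RT K m // orderOf g = i} =
        Nat.totient i * (3 ^ (2 * m + 1)) ^ 3 * ((3 ^ (2 * m + 1)) ^ 2 - 1) * (3 ^ (2 * m + 1) - 3 ^ (m + 1) + 1)) := by
  haveI := t_finite hK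
  obtain ⟨A₁, A₂, h1, h2, hN1, hN2, hall⟩ := exists_ree_tori hK hm
  have h2' : Nat.card A₂.1 = 3 ^ (2 * m + 1) - 3 ^ (m + 1) + 1 := by omega
  have hcop := ree_d_coprime m
  have hDf := reeDD_factor m
  set d₁ := 3 ^ (2 * m + 1) + 3 ^ (m + 1) + 1 with hd₁
  set d₂ := 3 ^ (2 * m + 1) - 3 ^ (m + 1) + 1 with hd₂
  have hG : Nat.card (RT K m) = (3 ^ (2 * m + 1)) ^ 3 * ((3 ^ (2 * m + 1)) ^ 2 - 1) * (d₂ * d₁) := by
    rw [card_T' hK, ← hDf]
    have e : (3 ^ (2 * m + 1)) ^ 2 - 1 = 2 * reeH m * (4 * reeN m) := by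
      rw [reeN_spec, ← reeH_spec m]
      rw [show (2 * reeH m + 1) ^ 2 = 2 * reeH m * (2 * reeH m + 1 + 1) + 1 by ring]
      simp
    rw [e]
    ring
  -- every element of order `i` dividing `D` is in a conjugate of `A₁` or `A₂`
  have hconj : ∀ y : RT K m, y ≠ 1 → orderOf y ∣ reeDD m → ((∃ c, c * y * c⁻¹ ∈ A₁.1) ∧ orderOf y ∣ d₁) ∨ ((∃ c, c * y * c⁻¹ ∈ A₂.1) ∧ orderOf y ∣ d₂) := by
    intro y hy1 hy
    have hA := isRA_centralizer hK hy hy1
    have hmem : y ∈ Subgroup.centralizer ({y} : Set (RT K m)) := Subgroup.mem_centralizer_singleton_iff.2 rfl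
    rcases hall ⟨_, hA⟩ with ⟨d, hd⟩ | ⟨d, hd⟩
    · left
      have e1 : y ∈ (d • A₁).1 := by rw [hd]; exact hmem
      rw [rsmul_val, mem_map_conj_iff] at e1
      refine ⟨⟨d⁻¹, by simpa using e1⟩, ?_⟩
      rw [← orderOf_conj_eq d⁻¹ y, ← h1]
      have := orderOf_dvd_of_mem e1
      simpa using this
    · right
      have e1 : y ∈ (d • A₂).1 := by rw [hd]; exact hmem
      rw [rsmul_val, mem_map_conj_iff] at e1
      refine ⟨⟨d⁻¹, by simpa using e1⟩, ?_⟩
      rw [← orderOf_conj_eq d⁻¹ y, ← h2']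
      have := orderOf_dvd_of_mem e1
      simpa using this
  have hne1 : ∀ {y : RT K m}, orderOf y = i → y ≠ 1 := by
    rintro y hy rfl
    rw [orderOf_one] at hy
    omega
  have hd1pos : 0 < d₁ := by positivity
  have hd2pos : 0 < d₂ := by positivity
  constructor
  · intro hd
    have h3 := count_RA hK A₂.2 (fun y => orderOf y = i) (hP_order hK i) (by
      intro y hy
      refine ⟨hne1 hy, ?_⟩
      have hy2 : orderOf y ∣ reeDD m := by
        rw [hy, hDf]
        exact Dvd.dvd.mul_right hd _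
      rcases hconj y (hne1 hy) hy2 with ⟨-, h4⟩ | ⟨h4, -⟩
      · exfalso
        rw [hy] at h4
        have : i ∣ 1 := by
          rw [← hcop]
          exact Nat.dvd_gcd hd h4
        have := Nat.le_of_dvd (by norm_num) this
        omega
      · exact h4)
    rw [hN2, h2', card_order_in_cyclic A₂.1 A₂.2.isCyclic (i := i) (by rw [h2']; exact hd), hG] at h3
    apply Nat.eq_of_mul_eq_mul_left hd2pos
    calc d₂ * (6 * Nat.card {g : RT K m // orderOf g = i}) = Nat.card {g : RT K m // orderOf g = i} * (6 * d₂) := by ring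
      _ = _ := by rw [h3]; ring
  · intro hd
    have h3 := count_RA hK A₁.2 (fun y => orderOf y = i) (hP_order hK i) (by
      intro y hy
      refine ⟨hne1 hy, ?_⟩
      have hy2 : orderOf y ∣ reeDD m := by
        rw [hy, hDf]
        exact Dvd.dvd.mul_left hd _
      rcases hconj y (hne1 hy) hy2 with ⟨h4, -⟩ | ⟨-, h4⟩
      · exact h4
      · exfalso
        rw [hy] at h4
        have : i ∣ 1 := by
          rw [← hcop]
          exact Nat.dvd_gcd h4 hd
        have := Nat.le_of_dvd (by norm_num) this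
        omega)
    rw [hN1, h1, card_order_in_cyclic A₁.1 A₁.2.isCyclic (i := i) (by rw [h1]; exact hd), hG] at h3
    apply Nat.eq_of_mul_eq_mul_left hd1pos
    calc d₁ * (6 * Nat.card {g : RT K m // orderOf g = i}) = Nat.card {g : RT K m // orderOf g = i} * (6 * d₁) := by ring
      _ = _ := by rw [h3]; ring

end Cfsg.Agent.H10
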