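import Cfsg.Agent.Lib.H10.ReeM7

/-!
# Identities between the seven-dimensional matrices (machine generated, checked by `linear_combination`)
-/

set_option autoImplicit false
set_option linter.style.longLine false
set_option linter.unusedVariables false

open Matrix

namespace Cfsg.Agent.H10

variable {K : Type*} [Field K] 
/-- explicit matrix -/
def m7U (A t B u C v : K) : Matrix (Fin 7) (Fin 7) K :=
  !![1, 0, 0, A, -A^2, A*B + C, -A*C - A^2*B + A^3*t + u;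
    t, 1, 0, A*t + B, -A^2*t - C, A*B*t - B^2 + C*t, -A*C*t - A^2*B*t - A^3*t^2 - B*C + t*u + v;
    -B, A, 1, A*B - C, -A*C - A^3*t - u, -A*B^2 - A^3*t^2 - B*C - v, -A*B*C + A*v - A^3*B*t + A^4*t^2 - B*u - C^2;
    0, 0, 0, 1, A, B, A*B - C;
    0, 0, 0, 0, 1, -t, A*t + B;
    0, 0, 0, 0, 0, 1, -A;
    0, 0, 0, 0, 0, 0, 1]
lemma m7U_act (A t B u C v x0 x1 x2 x3 x4 x5 x6 : K) : m7U A t B u C v *ᵥ ![x0, x1, x2, x3, x4, x5, x6] =
    ![A*B*x5 - A*C*x6 + A*x3 - A^2*B*x6 - A^2*x4 + A^3*t*x6 + C*x5 + u*x6 + x0, A*B*t*x5 - A*C*t*x6 + A*t*x3 - A^2*B*t*x6 - A^2*t*x4 - A^3*t^2*x6 - B*C*x6 + B*x3 - B^2*x5 + C*t*x5 - C*x4 + t*u*x6 + t*x0 + v*x6 + x1, -A*B*C*x6 + A*B*x3 - A*B^2*x5 - A*C*x4 + A*v*x6 + A*x1 - A^3*B*t*x6 - A^3*t*x4 - A^3*t^2*x5 + A^4*t^2*x6 - B*C*x5 - B*u*x6 - B*x0 - C*x3 - C^2*x6 - u*x4 - v*x5 + x2, A*B*x6 + A*x4 + B*x5 - C*x6 + x3, A*t*x6 + B*x6 - t*x5 + x4, -A*x6 + x5, x6] := by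
  funext i; fin_cases i <;> simp [m7U, Matrix.mulVec, dotProduct, Fin.sum_univ_succ] <;> ring

theorem ree_word_U (A t B u C v : K) [CharP K 3] :
    m7a (A) * m7b (t) * m7ab (A*t+B) * m7aab (A^2*t+C) * m7aaab (u) * m7aaabb (v) =
    (m7U A t B u C v) := by
  have h3 : (3:K) = 0 := ree_three
  apply m7_ext
  intro x0 x1 x2 x3 x4 x5 x6
  simp only [← Matrix.mulVec_mulVec, m7U_act, m7a_act, m7aaab_act, m7aaabb_act, m7aab_act, m7ab_act, m7b_act]
  refine vec7_eq ?_ ?_ ?_ ?_ ?_ ?_ ?_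
  · linear_combination (A^2*t*x5 - A^3*t*x6) * h3
  · linear_combination (-A*B*t*x5) * h3
  · linear_combination (-A^2*B*t*x5 - A^2*C*t*x6 - A^4*t^2*x6) * h3
  · linear_combination (0) * h3
  · linear_combination (0) * h3
  · linear_combination (0) * h3
  · linear_combination (0) * h3

theorem ree_fixed_id (t u v A B C : K) [CharP K 3] :
    m7b (t) * m7a (A) * m7aaab (t*A^3+u) * m7aaabb (t^2*A^3+v) * m7ab (B) * m7aab (C) =
    m7a (A) * m7b (t) * m7ab (A*t+B) * m7aab (A^2*t+C) * m7aaab (u) * m7aaabb (v) := by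
  have h3 : (3:K) = 0 := ree_three
  apply m7_ext
  intro x0 x1 x2 x3 x4 x5 x6
  simp only [← Matrix.mulVec_mulVec, m7a_act, m7aaab_act, m7aaabb_act, m7aab_act, m7ab_act, m7b_act]
  refine vec7_eq ?_ ?_ ?_ ?_ ?_ ?_ ?_
  · linear_combination (-A^2*t*x5 + A^3*t*x6) * h3
  · linear_combination (A*B*t*x5 + A^3*t^2*x6) * h3
  · linear_combination (A^2*B*t*x5 + A^2*C*t*x6 + A^4*t^2*x6) * h3
  · linear_combination (0) * h3
  · linear_combination (0) * h3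
  · linear_combination (0) * h3
  · linear_combination (0) * h3

theorem ree_norm (A t p r B C : K) [CharP K 3] :
    m7a (A) * m7b (t) * m7aaab (p) * m7aaabb (r) * m7ab (B) * m7aab (C) =
    m7b (t) * m7a (A) * m7ab (B-A*t) * m7aab (C-A^2*t) * m7aaab (p+t*A^3) * m7aaabb (r+t^2*A^3) := by
  have h3 : (3:K) = 0 := ree_three
  apply m7_ext
  intro x0 x1 x2 x3 x4 x5 x6
  simp only [← Matrix.mulVec_mulVec, m7a_act, m7aaab_act, m7aaabb_act, m7aab_act, m7ab_act, m7b_act]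
  refine vec7_eq ?_ ?_ ?_ ?_ ?_ ?_ ?_
  · linear_combination (A^2*t*x5 - A^3*t*x6) * h3
  · linear_combination (-A*B*t*x5 + A^2*t^2*x5 - A^3*t^2*x6) * h3
  · linear_combination (-A^2*B*t*x5 - A^2*C*t*x6 + A^3*t^2*x5) * h3
  · linear_combination (0) * h3
  · linear_combination (0) * h3
  · linear_combination (0) * h3
  · linear_combination (0) * h3

theorem ree_law (t u v A B C t2 u2 v2 A2 B2 C2 : K) [CharP K 3] :
    m7a (A) * m7b (t) * m7ab (A*t+B) * m7aab (A^2*t+C) * m7aaab (u) * m7aaabb (v) * m7a (A2) * m7b (t2) * m7ab (A2*t2+B2) * m7aab (A2^2*t2+C2) * m7aaab (u2) * m7aaabb (v2) =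
    m7a (A+A2) * m7b (t+t2) * m7ab ((A+A2)*(t+t2)+(B+B2-A*t2)) * m7aab ((A+A2)^2*(t+t2)+(C+C2-A2*B+A*A2*t2-A^2*t2)) * m7aaab (u+u2-t*A2^3) * m7aaabb (v+v2-t2*u+t*t2*A2^3-t^2*A2^3) := by
  have h3 : (3:K) = 0 := ree_three
  apply m7_ext
  intro x0 x1 x2 x3 x4 x5 x6
  simp only [← Matrix.mulVec_mulVec, m7a_act, m7aaab_act, m7aaabb_act, m7aab_act, m7ab_act, m7b_act]
  refine vec7_eq ?_ ?_ ?_ ?_ ?_ ?_ ?_
  · linear_combination (A*A2*B2*x6 - 2*A*A2*t*x5 - 2*A*A2*t2*x5 + A*A2*x4 + 2*A*A2^2*t*x6 + 2*A*A2^2*t2*x6 + A^2*A2*t*x6 + A^2*A2*t2*x6 - A2^2*t*x5 + A2^3*t*x6) * h3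
  · linear_combination (A*A2*B*t*x6 + A*A2*B*t2*x6 + A*A2*B2*t*x6 + A*A2*B2*t2*x6 - A*A2*t*t2*x5 + A*A2*t*x4 + A*A2*t2*x4 - A*A2*t2^2*x5 + 2*A*A2^2*t*t2*x6 + A*A2^2*t^2*x6 + A*A2^2*t2^2*x6 + A*B2*t*x5 + A^2*A2*t*t2*x6 + A^2*A2*t^2*x6 + A2*B*t*x5 + A2*B*t2*x5 + A2*B2*t*x5 + A2^2*t*t2*x5 + A2^3*t^2*x6 + B*B2*x5) * h3
  · linear_combination (2*A*A2*B*t*x5 + 2*A*A2*B*t2*x5 + 2*A*A2*B2*t*x5 + A*A2*B2*t2*x5 + 2*A*A2*C*t*x6 + 2*A*A2*C*t2*x6 + 2*A*A2*C2*t*x6 + 2*A*A2*C2*t2*x6 + A*A2*t2*x3 - A*A2^2*B*t*x6 - A*A2^2*B*t2*x6 + A*A2^2*B2*t*x6 + A*A2^2*B2*t2*x6 + A*A2^2*t*t2*x5 + A*A2^2*t*x4 + A*A2^2*t^2*x5 + A*A2^2*t2*x4 + 6*A*A2^3*t*t2*x6 + 3*A*A2^3*t^2*x6 + 3*A*A2^3*t2^2*x6 + A*B*B2*x5 + A^2*A2*B*t*x6 + A^2*A2*B*t2*x6 + A^2*A2*B2*t*x6 + A^2*A2*B2*t2*x6 + A^2*A2*t*x4 + A^2*A2*t^2*x5 + A^2*A2*t2*x4 - A^2*A2*t2^2*x5 + 8*A^2*A2^2*t*t2*x6 + 4*A^2*A2^2*t^2*x6 + 4*A^2*A2^2*t2^2*x6 + A^2*B2*t*x5 + A^2*C2*t*x6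 + 3*A^3*A2*t*t2*x6 + 3*A^3*A2*t^2*x6 - A2*B*x3 + A2^2*B*t*x5 + A2^2*B2*t*x5 + A2^2*C*t*x6 + A2^2*C*t2*x6 + A2^2*C2*t*x6 - A2^3*B*t*x6 + A2^3*t*t2*x5 + A2^4*t*t2*x6 + A2^4*t^2*x6 + C*C2*x6) * h3
  · linear_combination (A*A2*t2*x6 - A2*B*x6) * h3
  · linear_combination (0) * h3
  · linear_combination (0) * h3
  · linear_combination (0) * h3

/-- explicit matrix -/
def m7W : Matrix (Fin 7) (Fin 7) K :=
  !![0, 0, 0, 0, -1, 0, 0;
    0, 0, 0, 0, 0, -1, 0;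
    0, 0, 0, 0, 0, 0, -1;
    0, 0, 0, -1, 0, 0, 0;
    -1, 0, 0, 0, 0, 0, 0;
    0, -1, 0, 0, 0, 0, 0;
    0, 0, -1, 0, 0, 0, 0]
lemma m7W_act (x0 x1 x2 x3 x4 x5 x6 : K) : m7W  *ᵥ ![x0, x1, x2, x3, x4, x5, x6] =
    ![-x4, -x5, -x6, -x3, -x0, -x1, -x2] := by
  funext i; fin_cases i <;> simp [m7W, Matrix.mulVec, dotProduct, Fin.sum_univ_succ] <;> ring

theorem ree_W_word  [CharP K 3] :
    m7ab (1:K) * m7mab (-1:K) * m7ab (1:K) * m7aaab (1:K) * m7maaab (-1:K) * m7aaab (1:K) =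
    (m7W : Matrix (Fin 7) (Fin 7) K) := by
  have h3 : (3:K) = 0 := ree_three
  apply m7_ext
  intro x0 x1 x2 x3 x4 x5 x6
  simp only [← Matrix.mulVec_mulVec, m7W_act, m7aaab_act, m7ab_act, m7maaab_act, m7mab_act]
  refine vec7_eq ?_ ?_ ?_ ?_ ?_ ?_ ?_
  · linear_combination (0) * h3
  · linear_combination (x1 + x3 - x5) * h3
  · linear_combination (0) * h3
  · linear_combination (x3 + x5) * h3
  · linear_combination (0) * h3
  · linear_combination (x5) * h3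
  · linear_combination (0) * h3

theorem ree_W_sq  [CharP K 3] :
    (m7W : Matrix (Fin 7) (Fin 7) K) * (m7W : Matrix (Fin 7) (Fin 7) K) =
    1 := by
  have h3 : (3:K) = 0 := ree_three
  apply m7_ext
  intro x0 x1 x2 x3 x4 x5 x6
  simp only [← Matrix.mulVec_mulVec, Matrix.one_mulVec, m7W_act]
  refine vec7_eq ?_ ?_ ?_ ?_ ?_ ?_ ?_
  · linear_combination (0) * h3
  · linear_combination (0) * h3
  · linear_combination (0) * h3
  · linear_combination (0) * h3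
  · linear_combination (0) * h3
  · linear_combination (0) * h3
  · linear_combination (0) * h3

theorem ree_W_conj0 (t : K) [CharP K 3] :
    (m7W : Matrix (Fin 7) (Fin 7) K) * m7maaabb (t) =
    m7aaabb (-t) * (m7W : Matrix (Fin 7) (Fin 7) K) := by
  have h3 : (3:K) = 0 := ree_three
  apply m7_ext
  intro x0 x1 x2 x3 x4 x5 x6
  simp only [← Matrix.mulVec_mulVec, m7W_act, m7aaabb_act, m7maaabb_act]
  refine vec7_eq ?_ ?_ ?_ ?_ ?_ ?_ ?_
  · linear_combination (0) * h3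
  · linear_combination (0) * h3
  · linear_combination (0) * h3
  · linear_combination (0) * h3
  · linear_combination (0) * h3
  · linear_combination (0) * h3
  · linear_combination (0) * h3

theorem ree_W_conj1 (t : K) [CharP K 3] :
    (m7W : Matrix (Fin 7) (Fin 7) K) * m7maaab (t) =
    m7aaab (-t) * (m7W : Matrix (Fin 7) (Fin 7) K) := by
  have h3 : (3:K) = 0 := ree_three
  apply m7_ext
  intro x0 x1 x2 x3 x4 x5 x6
  simp only [← Matrix.mulVec_mulVec, m7W_act, m7aaab_act, m7maaab_act]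
  refine vec7_eq ?_ ?_ ?_ ?_ ?_ ?_ ?_
  · linear_combination (0) * h3
  · linear_combination (0) * h3
  · linear_combination (0) * h3
  · linear_combination (0) * h3
  · linear_combination (0) * h3
  · linear_combination (0) * h3
  · linear_combination (0) * h3

theorem ree_W_conj2 (t : K) [CharP K 3] :
    (m7W : Matrix (Fin 7) (Fin 7) K) * m7maab (t) =
    m7aab (-t) * (m7W : Matrix (Fin 7) (Fin 7) K) := by
  have h3 : (3:K) = 0 := ree_three
  apply m7_ext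
  intro x0 x1 x2 x3 x4 x5 x6
  simp only [← Matrix.mulVec_mulVec, m7W_act, m7aab_act, m7maab_act]
  refine vec7_eq ?_ ?_ ?_ ?_ ?_ ?_ ?_
  · linear_combination (0) * h3
  · linear_combination (0) * h3
  · linear_combination (0) * h3
  · linear_combination (0) * h3
  · linear_combination (0) * h3
  · linear_combination (0) * h3
  · linear_combination (0) * h3

theorem ree_W_conj3 (t : K) [CharP K 3] :
    (m7W : Matrix (Fin 7) (Fin 7) K) * m7mab (t) =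
    m7ab (-t) * (m7W : Matrix (Fin 7) (Fin 7) K) := by
  have h3 : (3:K) = 0 := ree_three
  apply m7_ext
  intro x0 x1 x2 x3 x4 x5 x6
  simp only [← Matrix.mulVec_mulVec, m7W_act, m7ab_act, m7mab_act]
  refine vec7_eq ?_ ?_ ?_ ?_ ?_ ?_ ?_
  · linear_combination (0) * h3
  · linear_combination (0) * h3
  · linear_combination (0) * h3
  · linear_combination (0) * h3
  · linear_combination (0) * h3
  · linear_combination (0) * h3
  · linear_combination (0) * h3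

theorem ree_W_conj4 (t : K) [CharP K 3] :
    (m7W : Matrix (Fin 7) (Fin 7) K) * m7ma (t) =
    m7a (-t) * (m7W : Matrix (Fin 7) (Fin 7) K) := by
  have h3 : (3:K) = 0 := ree_three
  apply m7_ext
  intro x0 x1 x2 x3 x4 x5 x6
  simp only [← Matrix.mulVec_mulVec, m7W_act, m7a_act, m7ma_act]
  refine vec7_eq ?_ ?_ ?_ ?_ ?_ ?_ ?_
  · linear_combination (0) * h3
  · linear_combination (0) * h3
  · linear_combination (0) * h3
  · linear_combination (0) * h3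
  · linear_combination (0) * h3
  · linear_combination (0) * h3
  · linear_combination (0) * h3

theorem ree_W_conj5 (t : K) [CharP K 3] :
    (m7W : Matrix (Fin 7) (Fin 7) K) * m7mb (t) =
    m7b (-t) * (m7W : Matrix (Fin 7) (Fin 7) K) := by
  have h3 : (3:K) = 0 := ree_three
  apply m7_ext
  intro x0 x1 x2 x3 x4 x5 x6
  simp only [← Matrix.mulVec_mulVec, m7W_act, m7b_act, m7mb_act]
  refine vec7_eq ?_ ?_ ?_ ?_ ?_ ?_ ?_
  · linear_combination (0) * h3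
  · linear_combination (0) * h3
  · linear_combination (0) * h3
  · linear_combination (0) * h3
  · linear_combination (0) * h3
  · linear_combination (0) * h3
  · linear_combination (0) * h3

theorem ree_W_conj6 (t : K) [CharP K 3] :
    (m7W : Matrix (Fin 7) (Fin 7) K) * m7b (t) =
    m7mb (-t) * (m7W : Matrix (Fin 7) (Fin 7) K) := by
  have h3 : (3:K) = 0 := ree_three
  apply m7_ext
  intro x0 x1 x2 x3 x4 x5 x6
  simp only [← Matrix.mulVec_mulVec, m7W_act, m7b_act, m7mb_act]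
  refine vec7_eq ?_ ?_ ?_ ?_ ?_ ?_ ?_
  · linear_combination (0) * h3
  · linear_combination (0) * h3
  · linear_combination (0) * h3
  · linear_combination (0) * h3
  · linear_combination (0) * h3
  · linear_combination (0) * h3
  · linear_combination (0) * h3

theorem ree_W_conj7 (t : K) [CharP K 3] :
    (m7W : Matrix (Fin 7) (Fin 7) K) * m7a (t) =
    m7ma (-t) * (m7W : Matrix (Fin 7) (Fin 7) K) := by
  have h3 : (3:K) = 0 := ree_three
  apply m7_ext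
  intro x0 x1 x2 x3 x4 x5 x6
  simp only [← Matrix.mulVec_mulVec, m7W_act, m7a_act, m7ma_act]
  refine vec7_eq ?_ ?_ ?_ ?_ ?_ ?_ ?_
  · linear_combination (0) * h3
  · linear_combination (0) * h3
  · linear_combination (0) * h3
  · linear_combination (0) * h3
  · linear_combination (0) * h3
  · linear_combination (0) * h3
  · linear_combination (0) * h3

theorem ree_W_conj8 (t : K) [CharP K 3] :
    (m7W : Matrix (Fin 7) (Fin 7) K) * m7ab (t) =
    m7mab (-t) * (m7W : Matrix (Fin 7) (Fin 7) K) := by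
  have h3 : (3:K) = 0 := ree_three
  apply m7_ext
  intro x0 x1 x2 x3 x4 x5 x6
  simp only [← Matrix.mulVec_mulVec, m7W_act, m7ab_act, m7mab_act]
  refine vec7_eq ?_ ?_ ?_ ?_ ?_ ?_ ?_
  · linear_combination (0) * h3
  · linear_combination (0) * h3
  · linear_combination (0) * h3
  · linear_combination (0) * h3
  · linear_combination (0) * h3
  · linear_combination (0) * h3
  · linear_combination (0) * h3

theorem ree_W_conj9 (t : K) [CharP K 3] :
    (m7W : Matrix (Fin 7) (Fin 7) K) * m7aab (t) =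
    m7maab (-t) * (m7W : Matrix (Fin 7) (Fin 7) K) := by
  have h3 : (3:K) = 0 := ree_three
  apply m7_ext
  intro x0 x1 x2 x3 x4 x5 x6
  simp only [← Matrix.mulVec_mulVec, m7W_act, m7aab_act, m7maab_act]
  refine vec7_eq ?_ ?_ ?_ ?_ ?_ ?_ ?_
  · linear_combination (0) * h3
  · linear_combination (0) * h3
  · linear_combination (0) * h3
  · linear_combination (0) * h3
  · linear_combination (0) * h3
  · linear_combination (0) * h3
  · linear_combination (0) * h3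

theorem ree_W_conj10 (t : K) [CharP K 3] :
    (m7W : Matrix (Fin 7) (Fin 7) K) * m7aaab (t) =
    m7maaab (-t) * (m7W : Matrix (Fin 7) (Fin 7) K) := by
  have h3 : (3:K) = 0 := ree_three
  apply m7_ext
  intro x0 x1 x2 x3 x4 x5 x6
  simp only [← Matrix.mulVec_mulVec, m7W_act, m7aaab_act, m7maaab_act]
  refine vec7_eq ?_ ?_ ?_ ?_ ?_ ?_ ?_
  · linear_combination (0) * h3
  · linear_combination (0) * h3
  · linear_combination (0) * h3
  · linear_combination (0) * h3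
  · linear_combination (0) * h3
  · linear_combination (0) * h3
  · linear_combination (0) * h3

theorem ree_W_conj11 (t : K) [CharP K 3] :
    (m7W : Matrix (Fin 7) (Fin 7) K) * m7aaabb (t) =
    m7maaabb (-t) * (m7W : Matrix (Fin 7) (Fin 7) K) := by
  have h3 : (3:K) = 0 := ree_three
  apply m7_ext
  intro x0 x1 x2 x3 x4 x5 x6
  simp only [← Matrix.mulVec_mulVec, m7W_act, m7aaabb_act, m7maaabb_act]
  refine vec7_eq ?_ ?_ ?_ ?_ ?_ ?_ ?_
  · linear_combination (0) * h3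
  · linear_combination (0) * h3
  · linear_combination (0) * h3
  · linear_combination (0) * h3
  · linear_combination (0) * h3
  · linear_combination (0) * h3
  · linear_combination (0) * h3

theorem ree_W_word2  [CharP K 3] :
    m7aaab (1:K) * m7maaab (-1:K) * m7aaab (1:K) * m7ab (1:K) * m7mab (-1:K) * m7ab (1:K) =
    (m7W : Matrix (Fin 7) (Fin 7) K) := by
  have h3 : (3:K) = 0 := ree_three
  apply m7_ext
  intro x0 x1 x2 x3 x4 x5 x6
  simp only [← Matrix.mulVec_mulVec, m7W_act, m7aaab_act, m7ab_act, m7maaab_act, m7mab_act]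
  refine vec7_eq ?_ ?_ ?_ ?_ ?_ ?_ ?_
  · linear_combination (0) * h3
  · linear_combination (x1 + x3 - x5) * h3
  · linear_combination (0) * h3
  · linear_combination (x3 + x5) * h3
  · linear_combination (0) * h3
  · linear_combination (x5) * h3
  · linear_combination (0) * h3

theorem ree_comm2 (p r B C : K) [CharP K 3] :
    m7aaab (p) * m7aaabb (r) * m7ab (B) * m7aab (C) =
    m7ab (B) * m7aab (C) * m7aaab (p) * m7aaabb (r) := by
  have h3 : (3:K) = 0 := ree_three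
  apply m7_ext
  intro x0 x1 x2 x3 x4 x5 x6
  simp only [← Matrix.mulVec_mulVec, m7aaab_act, m7aaabb_act, m7aab_act, m7ab_act]
  refine vec7_eq ?_ ?_ ?_ ?_ ?_ ?_ ?_
  · linear_combination (0) * h3
  · linear_combination (0) * h3
  · linear_combination (0) * h3
  · linear_combination (0) * h3
  · linear_combination (0) * h3
  · linear_combination (0) * h3
  · linear_combination (0) * h3

/-- explicit matrix -/
def m7Hm : Matrix (Fin 7) (Fin 7) K :=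
  !![-1, 0, 0, 0, 0, 0, 0;
    0, 1, 0, 0, 0, 0, 0;
    0, 0, -1, 0, 0, 0, 0;
    0, 0, 0, 1, 0, 0, 0;
    0, 0, 0, 0, -1, 0, 0;
    0, 0, 0, 0, 0, 1, 0;
    0, 0, 0, 0, 0, 0, -1]
lemma m7Hm_act (x0 x1 x2 x3 x4 x5 x6 : K) : m7Hm  *ᵥ ![x0, x1, x2, x3, x4, x5, x6] =
    ![-x0, x1, -x2, x3, -x4, x5, -x6] := by
  funext i; fin_cases i <;> simp [m7Hm, Matrix.mulVec, dotProduct, Fin.sum_univ_succ] <;> ring

theorem ree_Hm_word  [CharP K 3] :
    m7ab (1:K) * m7aab (1:K) * m7aaab (1:K) * m7aaabb (1:K) * (m7W : Matrix (Fin 7) (Fin 7) K) * m7a (-1:K) * m7b (-1:K) * m7ab (2:K) * m7aaab (1:K) * m7aaabb (1:K) * (m7W : Matrix (Fin 7) (Fin 7) K) * m7ab (-1:K) * m7aab (1:K) * m7aaab (-1:K) * m7aaabb (1:K) * (m7W : Matrix (Fin 7) (Fin 7) K) =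
    (m7Hm : Matrix (Fin 7) (Fin 7) K) := by
  have h3 : (3:K) = 0 := ree_three
  apply m7_ext
  intro x0 x1 x2 x3 x4 x5 x6
  simp only [← Matrix.mulVec_mulVec, m7Hm_act, m7W_act, m7a_act, m7aaab_act, m7aaabb_act, m7aab_act, m7ab_act, m7b_act]
  refine vec7_eq ?_ ?_ ?_ ?_ ?_ ?_ ?_
  · linear_combination (x0 - x2) * h3
  · linear_combination (3*x0 + 3*x1 - 6*x2 + 3*x3 - 3*x5) * h3
  · linear_combination (-2*x0 + 5*x2 + 3*x3 - 3*x4 - x5 - 2*x6) * h3
  · linear_combination (-2*x0 - x1 + 6*x2 - 4*x3 + 2*x5) * h3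
  · linear_combination (x0 - 4*x2 + 2*x4 + x6) * h3
  · linear_combination (-x0 - x1 + 3*x2 - 2*x3 + x5) * h3
  · linear_combination (2*x0 + x1 - 5*x2 + x3 + x4 - x5 + x6) * h3

/-- explicit matrix -/
def m7T (a b ai bi : K) : Matrix (Fin 7) (Fin 7) K :=
  !![a, 0, 0, 0, 0, 0, 0;
    0, a*b, 0, 0, 0, 0, 0;
    0, 0, a^2*b, 0, 0, 0, 0;
    0, 0, 0, 1, 0, 0, 0;
    0, 0, 0, 0, ai, 0, 0;
    0, 0, 0, 0, 0, ai*bi, 0;
    0, 0, 0, 0, 0, 0, ai^2*bi]
lemma m7T_act (a b ai bi x0 x1 x2 x3 x4 x5 x6 : K) : m7T a b ai bi *ᵥ ![x0, x1, x2, x3, x4, x5, x6] =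
    ![a*x0, a*b*x1, a^2*b*x2, x3, ai*x4, ai*bi*x5, ai^2*bi*x6] := by
  funext i; fin_cases i <;> simp [m7T, Matrix.mulVec, dotProduct, Fin.sum_univ_succ] <;> ring

theorem ree_W_T (a b ai bi : K) [CharP K 3] :
    (m7W : Matrix (Fin 7) (Fin 7) K) * (m7T a b ai bi) =
    (m7T ai bi a b) * (m7W : Matrix (Fin 7) (Fin 7) K) := by
  have h3 : (3:K) = 0 := ree_three
  apply m7_ext
  intro x0 x1 x2 x3 x4 x5 x6
  simp only [← Matrix.mulVec_mulVec, m7T_act, m7W_act]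
  refine vec7_eq ?_ ?_ ?_ ?_ ?_ ?_ ?_
  · linear_combination (0) * h3
  · linear_combination (0) * h3
  · linear_combination (0) * h3
  · linear_combination (0) * h3
  · linear_combination (0) * h3
  · linear_combination (0) * h3
  · linear_combination (0) * h3

theorem ree_W_U  [CharP K 3] :
    m7ab (1:K) * m7aaab (1:K) * (m7W : Matrix (Fin 7) (Fin 7) K) * m7ab (1:K) * m7aaab (1:K) * (m7W : Matrix (Fin 7) (Fin 7) K) * m7ab (1:K) * m7aaab (1:K) =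
    (m7W : Matrix (Fin 7) (Fin 7) K) := by
  have h3 : (3:K) = 0 := ree_three
  apply m7_ext
  intro x0 x1 x2 x3 x4 x5 x6
  simp only [← Matrix.mulVec_mulVec, m7W_act, m7aaab_act, m7ab_act]
  refine vec7_eq ?_ ?_ ?_ ?_ ?_ ?_ ?_
  · linear_combination (0) * h3
  · linear_combination (x1 + x3 - x5) * h3
  · linear_combination (0) * h3
  · linear_combination (x3 + x5) * h3
  · linear_combination (0) * h3
  · linear_combination (x5) * h3
  · linear_combination (0) * h3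

theorem ree_n_word (u B ui Bi : K) (hu : u * ui = 1) (hB : B * Bi = 1) [CharP K 3] :
    m7ab (B) * m7aaab (u) * (m7W : Matrix (Fin 7) (Fin 7) K) * m7ab (Bi) * m7aaab (ui) * (m7W : Matrix (Fin 7) (Fin 7) K) * m7ab (B) * m7aaab (u) * (m7W : Matrix (Fin 7) (Fin 7) K) =
    (m7T (u*Bi) (B^3*ui) (ui*B) (Bi^3*u)) := by
  have h3 : (3:K) = 0 := ree_three
  apply m7_ext
  intro x0 x1 x2 x3 x4 x5 x6
  simp only [← Matrix.mulVec_mulVec, m7T_act, m7W_act, m7aaab_act, m7ab_act]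
  refine vec7_eq ?_ ?_ ?_ ?_ ?_ ?_ ?_
  · linear_combination (-B*Bi*u*x2 - B*Bi*x4 - Bi*u*x0 + Bi*x6 + u*x2 + x4) * hu + (u*x2) * hB + (0) * h3
  · linear_combination (-B^3*Bi*x1) * hu + (-B*Bi*x5 - B*x3 - B^2*Bi*x3 + 2*B^2*x1 + B^3*Bi*x1 - 2*x5) * hB + (-B*x3 + B^2*x1 - x5) * h3
  · linear_combination (B*Bi*u*x0 - B*Bi*x6 - 2*B*u*x2 - 2*B*x4 + B^2*Bi*u*x2 + B^2*Bi*x4 - B^3*Bi^2*u*x2 - u*x0 + x6) * hu + (-2*B*u*x2 - B^2*Bi*u*x2 - u*x0) * hB + (0) * h3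
  · linear_combination (B*Bi*x3 - B*x1 - B^2*Bi*x1 + Bi*x5 - x3) * hB + (-B*x1 - x3) * h3
  · linear_combination (-B*Bi*x0 + 2*B*x2 - B^2*Bi*x2 + x0) * hu + (-B*ui*x4 + ui*x6) * hB + (0) * h3
  · linear_combination (-B*Bi^3*x5) * hu + (-B*Bi*x1 + Bi*x3 - Bi^2*x5 - 2*x1) * hB + (-x1) * h3
  · linear_combination (-B*Bi*x2 - B^2*Bi^3*ui*x6 - Bi*x0 + x2) * hu + (-B*Bi^2*ui*x6 - Bi*ui*x6 - ui*x4) * hB + (0) * h3

end Cfsg.Agent.H10
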