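import Cfsg.Agent.Lib.H10.ReeRho
import Cfsg.Agent.Lib.H10.ReeIds

/-!
# Fixed points of the graph-field endomorphism of `G₂`: the unipotent part
-/

set_option autoImplicit false
set_option linter.style.longLine false
set_option linter.unusedSimpArgs false
set_option maxRecDepth 100000

open Cfsg Cfsg.Lie Cfsg.Agent.H04.Chev
open scoped MatrixGroups

namespace Cfsg.Agent.H10
variable {K : Type*} [Field K]

/-- Tits endomorphisms: `f ∘ f ∘ (·)³ = id` -/
def ReeTits (f : K →+* K) : Prop := ∀ t, f (f (t ^ 3)) = t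

lemma ReeTits.pow3 {f : K →+* K} (hf : ReeTits f) (t : K) : f (f t ^ 3) = t := by
  have := hf t
  rwa [map_pow] at this

lemma reeM_6 (t : K) : reeM 6 t = m7b t := rfl
lemma reeM_7 (t : K) : reeM 7 t = m7a t := rfl
lemma reeM_8 (t : K) : reeM 8 t = m7ab t := rfl
lemma reeM_9 (t : K) : reeM 9 t = m7aab t := rfl
lemma reeM_10 (t : K) : reeM 10 t = m7aaab t := rfl
lemma reeM_11 (t : K) : reeM 11 t = m7aaabb t := rfl
lemma reeM_0 (t : K) : reeM 0 t = m7maaabb t := rfl
lemma reeM_1 (t : K) : reeM 1 t = m7maaab t := rfl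
lemma reeM_2 (t : K) : reeM 2 t = m7maab t := rfl
lemma reeM_3 (t : K) : reeM 3 t = m7mab t := rfl
lemma reeM_4 (t : K) : reeM 4 t = m7ma t := rfl
lemma reeM_5 (t : K) : reeM 5 t = m7mb t := rfl

variable [CharP K 3]

lemma ree_add_cube (a b : K) : (a + b) ^ 3 = a ^ 3 + b ^ 3 := by
  have h3 : (3 : K) = 0 := ree_three
  linear_combination (a ^ 2 * b + a * b ^ 2) * h3

/-- the roots as elements of `G₂` -/
noncomputable abbrev x0 (t : K) : ↥(G2 K) := rG (r := 0) (by decide) t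
noncomputable abbrev x1 (t : K) : ↥(G2 K) := rG (r := 1) (by decide) t
noncomputable abbrev x2 (t : K) : ↥(G2 K) := rG (r := 2) (by decide) t
noncomputable abbrev x3 (t : K) : ↥(G2 K) := rG (r := 3) (by decide) t
noncomputable abbrev x4 (t : K) : ↥(G2 K) := rG (r := 4) (by decide) t
noncomputable abbrev x5 (t : K) : ↥(G2 K) := rG (r := 5) (by decide) t
noncomputable abbrev x6 (t : K) : ↥(G2 K) := rG (r := 6) (by decide) t
noncomputable abbrev x7 (t : K) : ↥(G2 K) := rG (r := 7) (by decide) t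
noncomputable abbrev x8 (t : K) : ↥(G2 K) := rG (r := 8) (by decide) t
noncomputable abbrev x9 (t : K) : ↥(G2 K) := rG (r := 9) (by decide) t
noncomputable abbrev x10 (t : K) : ↥(G2 K) := rG (r := 10) (by decide) t
noncomputable abbrev x11 (t : K) : ↥(G2 K) := rG (r := 11) (by decide) t

/-- equality in `G₂` from the seven-dimensional matrices -/
lemma ree_ext {g h : ↥(G2 K)} (e : ((ree1 g : GL (Fin 7) K) : Matrix (Fin 7) (Fin 7) K) = ((ree1 h : GL (Fin 7) K) : Matrix (Fin 7) (Fin 7) K)) : g = h :=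
  ree1_inj (Units.ext e)

section
variable (f : K →+* K)

/-- the elements of the Sylow `3`-subgroup -/
noncomputable def rU (t u v : K) : ↥(G2 K) :=
  x7 (f t) * x6 t * x8 (f t * t + f u) * x9 (f t ^ 2 * t + f v) * x10 u * x11 v

lemma ree1_rU (t u v : K) : ((ree1 (rU f t u v) : GL (Fin 7) K) : Matrix (Fin 7) (Fin 7) K) = m7U (f t) t (f u) u (f v) v := by
  simp only [rU, map_mul, Units.val_mul, ree1_x, reeM_6, reeM_7, reeM_8, reeM_9, reeM_10, reeM_11]
  exact ree_word_U _ _ _ _ _ _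

lemma rU_zero : rU f 0 0 0 = 1 := by
  apply ree_ext
  rw [ree1_rU]
  simp only [map_zero, map_one, Units.val_one]
  ext i j
  fin_cases i <;> fin_cases j <;> simp [m7U]

lemma rU_eq_norm (t u v : K) : rU f t u v = x6 t * x7 (f t) * x10 (t * f t ^ 3 + u) * x11 (t ^ 2 * f t ^ 3 + v) * x8 (f u) * x9 (f v) := by
  apply ree_ext
  simp only [rU, map_mul, Units.val_mul, ree1_x, reeM_6, reeM_7, reeM_8, reeM_9, reeM_10, reeM_11]
  exact (ree_fixed_id t u v (f t) (f u) (f v)).symm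

variable {f}

theorem rU_mul (hf : ReeTits f) (t u v t₂ u₂ v₂ : K) :
    rU f t u v * rU f t₂ u₂ v₂ = rU f (t + t₂) (u + u₂ - t * f t₂ ^ 3) (v + v₂ - t₂ * u + t * t₂ * f t₂ ^ 3 - t ^ 2 * f t₂ ^ 3) := by
  apply ree_ext
  simp only [rU, map_mul, Units.val_mul, ree1_x, reeM_6, reeM_7, reeM_8, reeM_9, reeM_10, reeM_11]
  have e := ree_law t u v (f t) (f u) (f v) t₂ u₂ v₂ (f t₂) (f u₂) (f v₂)
  simp only [mul_assoc] at e ⊢
  rw [e]
  have h1 := hf.pow3 t₂
  simp only [map_add, map_sub, map_mul, map_pow, h1]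

theorem rU_inj (t u v t' u' v' : K) (h : rU f t u v = rU f t' u' v') : t = t' ∧ u = u' ∧ v = v' := by
  have e := congrArg (fun g => ((ree1 g : GL (Fin 7) K) : Matrix (Fin 7) (Fin 7) K)) h
  simp only [ree1_rU] at e
  have e1 := congrFun (congrFun e 1) 0
  have e2 := congrFun (congrFun e 3) 5
  have e3 := congrFun (congrFun e 3) 6
  have e4 := congrFun (congrFun e 2) 1
  have e5 := congrFun (congrFun e 0) 6
  have e6 := congrFun (congrFun e 1) 6
  simp [m7U] at e1 e2 e3 e4 e5 e6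
  subst e1
  rw [← e2] at e3 e5 e6
  have e3' : f v = f v' := by linear_combination -e3
  rw [e3'] at e5 e6
  have e5' : u = u' := by linear_combination e5
  subst e5'
  have e6' : v = v' := by linear_combination e6
  exact ⟨rfl, rfl, e6'⟩

end

section
variable {f : K →+* K}

lemma reeSig_rU (hf : ReeTits f) (t u v : K) : reeSig f (rU f t u v) = rU f t u v := by
  conv_rhs => rw [rU_eq_norm f t u v]
  rw [rU]
  simp only [map_mul, reeSig_rG]
  have e1 : f (f t ^ 3) = t := hf.pow3 t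
  have e2 : f ((f t * t + f u) ^ 3) = t * f t ^ 3 + u := by
    rw [ree_add_cube, mul_pow, map_add, map_mul, e1, map_pow, hf.pow3 u]
  have e3 : f ((f t ^ 2 * t + f v) ^ 3) = t ^ 2 * f t ^ 3 + v := by
    rw [ree_add_cube, mul_pow, map_add, map_mul, map_pow (f := f) t 3, ← pow_mul, mul_comm 2 3, pow_mul, map_pow, e1, hf.pow3 v]
  have e4 : ∀ x : K, f (x ^ 1) = f x := fun x => by rw [pow_one]
  show x6 (f (f t ^ 3)) * x7 (f (t ^ 1)) * x10 (f ((f t * t + f u) ^ 3)) * x11 (f ((f t ^ 2 * t + f v) ^ 3)) * x8 (f (u ^ 1)) * x9 (f (v ^ 1)) = _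
  rw [e1, e2, e3, e4, e4, e4]

lemma rU_inv (hf : ReeTits f) (t u v : K) : (rU f t u v)⁻¹ = rU f (-t) (-u - t * f t ^ 3) (-v - t * u + t ^ 2 * f t ^ 3) := by
  rw [inv_eq_iff_mul_eq_one, rU_mul hf, ← rU_zero f]
  have h3 : (3 : K) = 0 := ree_three
  congr 1
  · ring
  · rw [map_neg]; ring
  · rw [map_neg]; linear_combination (t ^ 2 * f t ^ 3) * h3

end

/-- The normal form in the positive unipotent group -/
noncomputable def rNF (a b c d e g : K) : ↥(G2 K) := x6 a * x7 b * x8 c * x9 d * x10 e * x11 g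

lemma rNF_val (a b c d e g : K) : ((rNF a b c d e g : ↥(G2 K)) : GL chevG2.Idx K) =
    wordFrom TG2.checks 6 (fun r => if r = 6 then a else if r = 7 then b else if r = 8 then c else if r = 9 then d else if r = 10 then e else g) := by
  have hs : ∀ m, m < 12 → ∀ (w : ℕ → K), wordFrom TG2.checks m w = xG TG2.checks m (w m) * wordFrom TG2.checks (m + 1) w := fun m hm w => wordFrom_succ TG2.checks hm w
  rw [hs 6 (by decide), hs 7 (by decide), hs 8 (by decide), hs 9 (by decide), hs 10 (by decide), hs 11 (by decide),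
    wordFrom_top TG2.checks _ 12 (le_refl _)]
  simp only [rNF, Subgroup.coe_mul, rG_val, mul_one, mul_assoc]
  rfl

lemma rNF_inj {a b c d e g a' b' c' d' e' g' : K} (h : rNF a b c d e g = rNF a' b' c' d' e' g') :
    a = a' ∧ b = b' ∧ c = c' ∧ d = d' ∧ e = e' ∧ g = g' := by
  have h1 := congrArg Subtype.val h
  rw [rNF_val, rNF_val] at h1
  have h2 := wordFrom_inj TG2.checks TG2.checks2 6 (m := 6) rfl (by decide) h1
  refine ⟨?_, ?_, ?_, ?_, ?_, ?_⟩
  · simpa using h2 6 (by decide) (by decide)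
  · simpa using h2 7 (by decide) (by decide)
  · simpa using h2 8 (by decide) (by decide)
  · simpa using h2 9 (by decide) (by decide)
  · simpa using h2 10 (by decide) (by decide)
  · simpa using h2 11 (by decide) (by decide)

lemma exists_rNF {g : ↥(G2 K)} (hg : (g : GL chevG2.Idx K) ∈ chevG2.posUnipotent K) : ∃ a b c d e g', g = rNF a b c d e g' := by
  rw [posUnipotent_eq TG2.checks TG2.checks2] at hg
  obtain ⟨w, hw⟩ := exists_wordFrom TG2.checks TG2.checks2 6 (m := 6) rfl (by decide) hg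
  refine ⟨w 6, w 7, w 8, w 9, w 10, w 11, ?_⟩
  apply Subtype.ext
  rw [hw, rNF_val]
  apply wordFrom_congr
  intro r h1 h2
  have h3 : r < 12 := h2
  have h4 : 6 ≤ r := h1
  interval_cases r <;> simp

lemma reeSig_rNF (f : K →+* K) (a b c d e g : K) :
    reeSig f (rNF a b c d e g) = x7 (f a) * x6 (f (b ^ 3)) * x10 (f (c ^ 3)) * x11 (f (d ^ 3)) * x8 (f e) * x9 (f g) := by
  simp only [rNF, map_mul, reeSig_rG]
  have e4 : ∀ x : K, f (x ^ 1) = f x := fun x => by rw [pow_one]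
  show x7 (f (a ^ 1)) * x6 (f (b ^ 3)) * x10 (f (c ^ 3)) * x11 (f (d ^ 3)) * x8 (f (e ^ 1)) * x9 (f (g ^ 1)) = _
  rw [e4, e4, e4]

lemma ree_norm_G (A t p r B C : K) :
    x7 A * x6 t * x10 p * x11 r * x8 B * x9 C = rNF t A (B - A * t) (C - A ^ 2 * t) (p + t * A ^ 3) (r + t ^ 2 * A ^ 3) := by
  apply ree_ext
  simp only [rNF, map_mul, Units.val_mul, ree1_x, reeM_6, reeM_7, reeM_8, reeM_9, reeM_10, reeM_11]
  exact ree_norm A t p r B C

lemma ree_comm2_G (p r B C : K) : x10 p * x11 r * x8 B * x9 C = x8 B * x9 C * x10 p * x11 r := by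
  apply ree_ext
  simp only [map_mul, Units.val_mul, ree1_x, reeM_8, reeM_9, reeM_10, reeM_11]
  exact ree_comm2 p r B C

/-- the fixed points in the positive unipotent group -/
theorem exists_rU_of_fix {f : K →+* K} (hf : ReeTits f) {g : ↥(G2 K)} (hU : (g : GL chevG2.Idx K) ∈ chevG2.posUnipotent K)
    (hg : reeSig f g = g) : ∃ t u v, g = rU f t u v := by
  obtain ⟨a, b, c, d, e, g', rfl⟩ := exists_rNF hU
  rw [reeSig_rNF, ree_norm_G] at hg
  obtain ⟨h1, h2, h3, h4, h5, h6⟩ := rNF_inj hg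
  refine ⟨a, f (c ^ 3), f (d ^ 3), ?_⟩
  rw [rU_eq_norm]
  have e1 : f (f (c ^ 3)) = c := hf c
  have e2 : f (f (d ^ 3)) = d := hf d
  rw [e1, e2]
  -- h1 : f (b^3) = a, h2 : f a = b
  have e3 : a * f a ^ 3 + f (c ^ 3) = e := by
    rw [h2]
    have : f (c ^ 3) + f (b ^ 3) * f a ^ 3 = e := h5
    rw [h1, h2] at this
    rw [← this]; ring
  have e4 : a ^ 2 * f a ^ 3 + f (d ^ 3) = g' := by
    rw [h2]
    have : f (d ^ 3) + f (b ^ 3) ^ 2 * f a ^ 3 = g' := h6
    rw [h1, h2] at this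
    rw [← this]; ring
  rw [e3, e4, h2, rNF]
  have := ree_comm2_G e g' c d
  simp only [mul_assoc] at this ⊢
  rw [this]

end Cfsg.Agent.H10
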