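import Cfsg.Agent.Lib.H10.ReeAut3

/-!
# The small Ree group is generated by two elements
-/

set_option autoImplicit false
set_option linter.style.longLine false
set_option linter.unusedSimpArgs false
set_option linter.unusedSectionVars false
set_option maxRecDepth 100000

open Cfsg Cfsg.Lie Cfsg.Agent.H04.Chev
open scoped MatrixGroups commutatorElement Pointwise

namespace Cfsg.Agent.H10

variable {K : Type*} [Field K] [CharP K 3] {m : ℕ} [Fintype K] (hK : Fintype.card K = 3 ^ (2 * m + 1))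

include hK

/-- the torus map on the third coordinate is onto -/
lemma exists_c2_eq (y : Kˣ) : ∃ β : Kˣ, reeF K m (β : K) ^ 3 * (β : K) ^ 2 = y := by
  classical
  let φ : Kˣ →* Kˣ :=
    { toFun := fun β => Units.map (reeF K m : K →* K) β ^ 3 * β ^ 2
      map_one' := by simp
      map_mul' := fun a b => by
        simp only [map_mul, mul_pow]
        exact mul_mul_mul_comm _ _ _ _ }
  have hinj : Function.Injective φ := by
    rw [injective_iff_map_eq_one]
    intro β hβ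
    have e := congrArg Units.val hβ
    apply Units.ext
    apply ree_c2_one hK
    simpa [φ] using e
  obtain ⟨β, hβ⟩ := (Finite.injective_iff_surjective.mp hinj) y
  refine ⟨β, ?_⟩
  have e := congrArg Units.val hβ
  simpa [φ] using e

lemma tU_div_same (t p z p' z' : K) : ∃ v, tU m t p z * (tU m t p' z')⁻¹ = tU m 0 (p - p') v := by
  have e1 : t + -t = 0 := by ring
  have e2 : p + (-p' - t * reeF K m t ^ 3) - t * reeF K m (-t) ^ 3 = p - p' := by
    rw [map_neg]
    ring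
  rw [tU_inv hK, tU_mul hK, e1, e2]
  exact ⟨_, rfl⟩

/-- an `H`-invariant subgroup of `U¹` with a non-central element is everything -/
theorem U_top_of_invariant (hm : 1 ≤ m) {W : Subgroup (RT K m)} (hinv : ∀ (β : Kˣ), ∀ x ∈ W, tH hK β * x * (tH hK β)⁻¹ ∈ W)
    {t₀ u₀ v₀ : K} (ht₀ : t₀ ≠ 0) (h₀ : tU m t₀ u₀ v₀ ∈ W) : ∀ t u v : K, tU m t u v ∈ W := by
  have hf0 : ∀ t : K, t ≠ 0 → reeF K m t ≠ 0 := fun t ht => (map_ne_zero _).mpr ht
  -- the third layer
  have hlayer3 : ∀ v : K, tU m (0 : K) 0 v ∈ W := by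
    have e := tU_cube hK t₀ u₀ v₀
    have h1 : tU m (0 : K) 0 (-(t₀ ^ 2 * reeF K m t₀ ^ 3)) ∈ W := by
      rw [← e]
      exact W.pow_mem h₀ 3
    have hv : -(t₀ ^ 2 * reeF K m t₀ ^ 3) ≠ 0 :=
      neg_ne_zero.mpr (mul_ne_zero (pow_ne_zero _ ht₀) (pow_ne_zero _ (hf0 _ ht₀)))
    intro v
    by_cases hv0 : v = 0
    · subst hv0
      rw [tU_zero]
      exact W.one_mem
    · obtain ⟨β, hβ⟩ := exists_c2_eq hK (Units.mk0 (v / (-(t₀ ^ 2 * reeF K m t₀ ^ 3))) (div_ne_zero hv0 hv))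
      have h2 := hinv β _ h1
      rw [tH_conj hK] at h2
      simp only [mul_zero] at h2
      rw [hβ] at h2
      simp only [Units.val_mk0] at h2
      rwa [div_mul_cancel₀ _ hv] at h2
  -- all first coordinates occur
  have hfirst : ∀ s : K, s ≠ 0 → ∃ u v, tU m s u v ∈ W := by
    intro s hs
    let β : Kˣ := Units.mk0 (s / t₀) (div_ne_zero hs ht₀)
    have h2 := hinv β _ h₀
    rw [tH_conj hK] at h2
    refine ⟨reeF K m β ^ 3 * β * u₀, reeF K m β ^ 3 * β ^ 2 * v₀, ?_⟩
    have e : (β : K) * t₀ = s := by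
      simp only [β, Units.val_mk0]
      field_simp
    rwa [e] at h2
  -- the second layer
  obtain ⟨s, hs0, hs1, hs2⟩ := exists_not_prime hK hm
  have hgs : reeF K m s ^ 3 ≠ s := by
    intro h
    rcases tits_fix hK h with h | h | h
    · exact hs0 h
    · exact hs1 h
    · exact hs2 h
  obtain ⟨u₁, v₁, h₁⟩ := hfirst 1 one_ne_zero
  obtain ⟨u₂, v₂, h₂⟩ := hfirst s hs0
  have hcomm : ∃ u' v', u' ≠ 0 ∧ tU m (0 : K) u' v' ∈ W := by
    have h3 := W.mul_mem (W.mul_mem h₁ h₂) (W.inv_mem (W.mul_mem h₂ h₁))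
    rw [tU_mul hK, tU_mul hK, add_comm s 1] at h3
    obtain ⟨v', e⟩ := tU_div_same hK (m := m) (1 + (s : K)) (u₁ + u₂ - 1 * reeF K m s ^ 3) (v₁ + v₂ - s * u₁ + 1 * s * reeF K m s ^ 3 - 1 ^ 2 * reeF K m s ^ 3)
      (u₂ + u₁ - s * reeF K m 1 ^ 3) (v₂ + v₁ - 1 * u₂ + s * 1 * reeF K m 1 ^ 3 - s ^ 2 * reeF K m 1 ^ 3)
    rw [e] at h3
    refine ⟨_, _, ?_, h3⟩
    rw [map_one]
    intro h
    apply hgs
    linear_combination -h
  obtain ⟨u', v', hu', hmem⟩ := hcomm
  have hsq : ∀ y : K, ∃ v, tU m (0 : K) (u' * y ^ 2) v ∈ W := by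
    intro y
    by_cases hy : y = 0
    · subst hy
      refine ⟨0, ?_⟩
      simp only [ne_eq, OfNat.ofNat_ne_zero, not_false_eq_true, zero_pow, mul_zero, tU_zero]
      exact W.one_mem
    · have hgy : reeF K m y ^ 3 ≠ 0 := pow_ne_zero _ (hf0 _ hy)
      let β : Kˣ := Units.mk0 (reeF K m y ^ 3 / y) (div_ne_zero hgy hy)
      have h2 := hinv β _ hmem
      rw [tH_conj hK] at h2
      simp only [mul_zero] at h2
      have e : reeF K m (β : K) ^ 3 * (β : K) * u' = u' * y ^ 2 := by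
        simp only [β, Units.val_mk0]
        have e4 : reeF K m (reeF K m y ^ 3) = y := (reeF_tits hK).pow3 y
        have hfy := hf0 y hy
        rw [map_div₀, e4]
        field_simp
      rw [e] at h2
      exact ⟨_, h2⟩
  have hlayer2 : ∀ u v : K, tU m (0 : K) u v ∈ W := by
    have hsq' : ∀ y v : K, tU m (0 : K) (u' * y ^ 2) v ∈ W := by
      intro y v
      obtain ⟨v₁, h⟩ := hsq y
      have h3 := W.mul_mem h (hlayer3 (v - v₁))
      rw [tU_0uv hK] at h3
      simpa using h3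
    intro u v
    have h3 := W.mul_mem (hsq' (u / u' + 1) v) (W.inv_mem (hsq' (u / u' - 1) 0))
    rw [tU_0uv_inv hK, tU_0uv hK] at h3
    have h33 : (3 : K) = 0 := ree_three
    have e : u' * (u / u' + 1) ^ 2 + -(u' * (u / u' - 1) ^ 2) = u := by
      field_simp
      linear_combination (u * u') * h33
    rw [e] at h3
    simpa using h3
  intro t u v
  by_cases ht : t = 0
  · subst ht
    exact hlayer2 u v
  · obtain ⟨u₃, v₃, h⟩ := hfirst t ht
    have h3 := W.mul_mem h (hlayer2 (u - u₃) (v - v₃))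
    rw [tU_t0 hK] at h3
    simpa using h3

/-- the two generators -/
theorem exists_two_generators (hm : 1 ≤ m) : ∃ a b : RT K m, Subgroup.closure ({a, b} : Set (RT K m)) = ⊤ := by
  obtain ⟨β₀, hβ₀⟩ := IsCyclic.exists_generator (α := Kˣ)
  refine ⟨tH hK β₀, tU m (1 : K) 0 0 * tW K m, ?_⟩
  set S := Subgroup.closure ({tH hK β₀, tU m (1 : K) 0 0 * tW K m} : Set (RT K m)) with hS
  have hx : tH hK β₀ ∈ S := Subgroup.subset_closure (by simp)
  have hy : tU m (1 : K) 0 0 * tW K m ∈ S := Subgroup.subset_closure (by simp)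
  have hH : ∀ β : Kˣ, tH hK β ∈ S := by
    intro β
    obtain ⟨n, rfl⟩ := Subgroup.mem_zpowers_iff.mp (hβ₀ β)
    have : ∀ n : ℕ, tH hK (β₀ ^ n) ∈ S := by
      intro n
      rw [tH_pow]
      exact S.pow_mem hx n
    cases n with
    | ofNat n => simpa using this n
    | negSucc n =>
      rw [zpow_negSucc, ← tH_inv]
      exact S.inv_mem (this _)
  have hβne : (β₀ : K) ≠ 1 := by
    intro h
    have h1 : β₀ = 1 := Units.ext h
    subst h1
    obtain ⟨s, hs0, hs1, -⟩ := exists_not_prime hK hm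
    have := hβ₀ (Units.mk0 s hs0)
    rw [Subgroup.mem_zpowers_iff] at this
    obtain ⟨n, hn⟩ := this
    rw [one_zpow] at hn
    have e := congrArg Units.val hn
    exact hs1 (by simpa using e.symm)
  have hU : ∀ t u v : K, tU m t u v ∈ S := by
    have hc := S.mul_mem (S.mul_mem (S.mul_mem hy hx) (S.inv_mem hy)) hx
    have e1 : tU m (1 : K) 0 0 * tW K m * tH hK β₀ * (tU m (1 : K) 0 0 * tW K m)⁻¹ * tH hK β₀ =
        tU m (1 : K) 0 0 * (tH hK β₀⁻¹ * (tU m (1 : K) 0 0)⁻¹ * (tH hK β₀⁻¹)⁻¹) := by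
      have e2 := tW_tH hK β₀
      rw [mul_inv_rev, tW_inv, ← tH_inv, inv_inv]
      calc _ = tU m (1 : K) 0 0 * (tW K m * tH hK β₀) * tW K m * (tU m (1 : K) 0 0)⁻¹ * tH hK β₀ := by group
        _ = _ := by
            rw [e2]
            calc _ = tU m (1 : K) 0 0 * tH hK β₀⁻¹ * (tW K m * tW K m) * (tU m (1 : K) 0 0)⁻¹ * tH hK β₀ := by group
              _ = _ := by
                rw [tW_sq, ← tH_inv]
                group
    rw [e1, tU_inv hK, tH_conj hK, tU_mul hK] at hc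
    refine U_top_of_invariant hK hm ?_ ?_ hc
    · intro β x hx'
      exact S.mul_mem (S.mul_mem (hH β) hx') (S.inv_mem (hH β))
    · have : (1 : K) + ((β₀⁻¹ : Kˣ) : K) * -1 = 1 - ((β₀⁻¹ : Kˣ) : K) := by ring
      rw [this, sub_ne_zero]
      intro h
      apply hβne
      have h5 : ((β₀⁻¹ : Kˣ) : K) * β₀ = 1 := by simp
      rw [← h] at h5
      simpa using h5
  have hw : tW K m ∈ S := by
    have := S.mul_mem (S.inv_mem (hU 1 0 0)) hy
    simpa using this
  apply T_eq_top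
  · exact hU
  · intro t u v
    rw [tV_eq]
    exact S.mul_mem (S.mul_mem hw (hU t u v)) hw

end Cfsg.Agent.H10
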