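import Cfsg.Agent.Lib.H10.ReeBru
import Cfsg.Agent.Lib.H04.Chev.TorusCard

/-!
# The torus of the fixed points of the graph-field endomorphism of `G₂`
-/

set_option autoImplicit false
set_option linter.style.longLine false
set_option linter.unusedSimpArgs false
set_option maxRecDepth 100000

open Cfsg Cfsg.Lie Cfsg.Agent.H04.Chev
open scoped MatrixGroups

namespace Cfsg.Agent.H10
variable {K : Type*} [Field K] [CharP K 3]

lemma tv_G2 (ψ : ℕ → Kˣ) (c : ℕ) : tv TG2.U chevG2 ψ c = ψ 0 ^ TG2.U.cofI c 0 * ψ 1 ^ TG2.U.cofI c 1 := by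
  unfold tv
  show ∏ j ∈ Finset.range 2, _ = _
  simp [Finset.prod_range_succ]

section tv
variable (ψ : ℕ → Kˣ)
lemma tv_7 : tv TG2.U chevG2 ψ 7 = ψ 0 := by
  rw [tv_G2, show TG2.U.cofI 7 0 = 1 by decide +kernel, show TG2.U.cofI 7 1 = 0 by decide +kernel]; simp
lemma tv_6 : tv TG2.U chevG2 ψ 6 = ψ 1 := by
  rw [tv_G2, show TG2.U.cofI 6 0 = 0 by decide +kernel, show TG2.U.cofI 6 1 = 1 by decide +kernel]; simp
lemma tv_8 : tv TG2.U chevG2 ψ 8 = ψ 0 * ψ 1 := by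
  rw [tv_G2, show TG2.U.cofI 8 0 = 1 by decide +kernel, show TG2.U.cofI 8 1 = 1 by decide +kernel]; simp
lemma tv_9 : tv TG2.U chevG2 ψ 9 = ψ 0 ^ 2 * ψ 1 := by
  rw [tv_G2, show TG2.U.cofI 9 0 = 2 by decide +kernel, show TG2.U.cofI 9 1 = 1 by decide +kernel]; simp
lemma tv_10 : tv TG2.U chevG2 ψ 10 = ψ 0 ^ 3 * ψ 1 := by
  rw [tv_G2, show TG2.U.cofI 10 0 = 3 by decide +kernel, show TG2.U.cofI 10 1 = 1 by decide +kernel]; simp
lemma tv_11 : tv TG2.U chevG2 ψ 11 = ψ 0 ^ 3 * ψ 1 ^ 2 := by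
  rw [tv_G2, show TG2.U.cofI 11 0 = 3 by decide +kernel, show TG2.U.cofI 11 1 = 2 by decide +kernel]; norm_cast
lemma tv_4 : tv TG2.U chevG2 ψ 4 = (ψ 0)⁻¹ := by
  rw [tv_G2, show TG2.U.cofI 4 0 = -1 by decide +kernel, show TG2.U.cofI 4 1 = 0 by decide +kernel]; simp
lemma tv_5 : tv TG2.U chevG2 ψ 5 = (ψ 1)⁻¹ := by
  rw [tv_G2, show TG2.U.cofI 5 0 = 0 by decide +kernel, show TG2.U.cofI 5 1 = -1 by decide +kernel]; simp
lemma tv_3 : tv TG2.U chevG2 ψ 3 = (ψ 0)⁻¹ * (ψ 1)⁻¹ := by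
  rw [tv_G2, show TG2.U.cofI 3 0 = -1 by decide +kernel, show TG2.U.cofI 3 1 = -1 by decide +kernel]; simp
lemma tv_2 : tv TG2.U chevG2 ψ 2 = (ψ 0)⁻¹ ^ 2 * (ψ 1)⁻¹ := by
  rw [tv_G2, show TG2.U.cofI 2 0 = -2 by decide +kernel, show TG2.U.cofI 2 1 = -1 by decide +kernel]
  simp [zpow_neg]
lemma tv_1 : tv TG2.U chevG2 ψ 1 = (ψ 0)⁻¹ ^ 3 * (ψ 1)⁻¹ := by
  rw [tv_G2, show TG2.U.cofI 1 0 = -3 by decide +kernel, show TG2.U.cofI 1 1 = -1 by decide +kernel]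
  simp [zpow_neg]
lemma tv_0 : tv TG2.U chevG2 ψ 0 = (ψ 0)⁻¹ ^ 3 * (ψ 1)⁻¹ ^ 2 := by
  rw [tv_G2, show TG2.U.cofI 0 0 = -3 by decide +kernel, show TG2.U.cofI 0 1 = -2 by decide +kernel]
  simp [zpow_neg]
lemma tv_12 : tv TG2.U chevG2 ψ 12 = 1 := by
  rw [tv_G2, show TG2.U.cofI 12 0 = 0 by decide +kernel, show TG2.U.cofI 12 1 = 0 by decide +kernel]; simp
lemma tv_13 : tv TG2.U chevG2 ψ 13 = 1 := by
  rw [tv_G2, show TG2.U.cofI 13 0 = 0 by decide +kernel, show TG2.U.cofI 13 1 = 0 by decide +kernel]; simp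
end tv

lemma cartan_vals : chevG2.cartan 0 (chevG2.simple 0) = 2 ∧ chevG2.cartan 1 (chevG2.simple 0) = -1 ∧
    chevG2.cartan 0 (chevG2.simple 1) = -3 ∧ chevG2.cartan 1 (chevG2.simple 1) = 2 := by
  decide +kernel

/-- every character of the root lattice comes from the torus -/
lemma torus_mem_H (ψ : ℕ → Kˣ) : torusG TG2.U chevG2 ψ ∈ chevG2.diagonalSubgroup K := by
  rw [diagonal_eq TG2.checks TG2.checks3]
  refine mem_HT.mpr ⟨fun i => if i = 0 then ψ 0 ^ 2 * ψ 1 else ψ 0 ^ 3 * ψ 1 ^ 2, ?_⟩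
  unfold hProd
  apply torusG_congr
  intro j hj
  have hj' : j < 2 := hj
  obtain ⟨h1, h2, h3, h4⟩ := cartan_vals
  rw [capply_apply]
  show ψ j = ∏ i ∈ Finset.range 2, _
  simp only [Finset.prod_range_succ, Finset.prod_range_zero, one_mul]
  interval_cases j
  · rw [h1, h2]
    simp only [if_true, one_ne_zero, if_false]
    simp only [zpow_neg, zpow_one]
    rw [show (2 : ℤ) = ((2 : ℕ) : ℤ) from rfl, zpow_natCast]
    apply Units.ext
    have h0' := (ψ 0).ne_zero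
    have h1' := (ψ 1).ne_zero
    simp only [Units.val_mul, Units.val_pow_eq_pow_val, Units.val_inv_eq_inv_val]
    field_simp
  · rw [h3, h4]
    simp only [if_true, one_ne_zero, if_false]
    rw [show (-3 : ℤ) = -((3 : ℕ) : ℤ) from rfl, zpow_neg, zpow_natCast, show (2 : ℤ) = ((2 : ℕ) : ℤ) from rfl, zpow_natCast]
    apply Units.ext
    have h0' := (ψ 0).ne_zero
    have h1' := (ψ 1).ne_zero
    simp only [Units.val_mul, Units.val_pow_eq_pow_val, Units.val_inv_eq_inv_val]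
    field_simp

variable (f : K →+* K)

/-- the character of the torus element -/
noncomputable def rPsi (β : Kˣ) : ℕ → Kˣ := fun j => if j = 0 then Units.map (f : K →* K) β else β

/-- the torus elements fixed by `σ` -/
noncomputable def rH (β : Kˣ) : ↥(G2 K) :=
  ⟨torusG TG2.U chevG2 (rPsi f β), H_le_group TG2.checks (torus_mem_H _)⟩

lemma rH_val (β : Kˣ) : ((rH f β : ↥(G2 K)) : GL chevG2.Idx K) = torusG TG2.U chevG2 (rPsi f β) := rfl

lemma rH_mem (β : Kˣ) : ((rH f β : ↥(G2 K)) : GL chevG2.Idx K) ∈ chevG2.diagonalSubgroup K := torus_mem_H _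

lemma rPsi_mul (β γ : Kˣ) : rPsi f (β * γ) = rPsi f β * rPsi f γ := by
  funext j
  by_cases h : j = 0 <;> simp [rPsi, h]

lemma rH_mul (β γ : Kˣ) : rH f (β * γ) = rH f β * rH f γ := by
  apply Subtype.ext
  show torusG _ _ _ = torusG _ _ _ * torusG _ _ _
  rw [rPsi_mul, torusG_mul]

lemma rH_one : rH f 1 = 1 := by
  have := rH_mul f 1 1
  rw [mul_one] at this
  exact (mul_eq_left.mp this.symm)

lemma rH_inv (β : Kˣ) : (rH f β)⁻¹ = rH f β⁻¹ := by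
  rw [inv_eq_iff_mul_eq_one, ← rH_mul, mul_inv_cancel, rH_one]

/-- `rH` as a homomorphism -/
noncomputable def rHom : Kˣ →* ↥(G2 K) where
  toFun := rH f
  map_one' := rH_one f
  map_mul' := rH_mul f

lemma reeA_diag (d : chevG2.Idx → K) : reeA (Matrix.diagonal d) = Matrix.diagonal (fun i => d (reeI i)) := by
  ext i j
  simp only [reeA, Matrix.diagonal_apply, reeI_inj.eq_iff]

lemma reeD_diag (d : chevG2.Idx → K) : reeD (Matrix.diagonal d) = Matrix.diagonal (fun i => d (reeL i)) := by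
  ext i j
  simp only [reeD, Matrix.diagonal_apply, reeL_inj.eq_iff]

lemma m7T_eq (a b ai bi : K) : m7T a b ai bi = Matrix.diagonal ![a, a * b, a ^ 2 * b, 1, ai, ai * bi, ai ^ 2 * bi] := by
  ext i j
  fin_cases i <;> fin_cases j <;> simp [m7T, Matrix.diagonal]

lemma ree1_torus (ψ : ℕ → Kˣ) (hψ : torusG TG2.U chevG2 ψ ∈ G2 K) :
    ((ree1 ⟨torusG TG2.U chevG2 ψ, hψ⟩ : GL (Fin 7) K) : Matrix (Fin 7) (Fin 7) K) =
      m7T (ψ 0 : K) (ψ 1 : K) ((ψ 0)⁻¹ : Kˣ) ((ψ 1)⁻¹ : Kˣ) := by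
  rw [ree1_val, m7T_eq]
  show reeA (Matrix.diagonal _) = _
  rw [reeA_diag]
  congr 1
  funext i
  rw [code_reeI]
  fin_cases i
  · show ((tv _ _ ψ 7 : Kˣ) : K) = _; rw [tv_7]; rfl
  · show ((tv _ _ ψ 8 : Kˣ) : K) = _; rw [tv_8]; simp
  · show ((tv _ _ ψ 9 : Kˣ) : K) = _; rw [tv_9]; simp
  · show ((tv _ _ ψ 12 : Kˣ) : K) = _; rw [tv_12]; simp
  · show ((tv _ _ ψ 4 : Kˣ) : K) = _; rw [tv_4]; simp
  · show ((tv _ _ ψ 3 : Kˣ) : K) = _; rw [tv_3]; simp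
  · show ((tv _ _ ψ 2 : Kˣ) : K) = _; rw [tv_2]; simp

lemma ree2_torus (ψ : ℕ → Kˣ) (hψ : torusG TG2.U chevG2 ψ ∈ G2 K) :
    ((ree2 ⟨torusG TG2.U chevG2 ψ, hψ⟩ : GL (Fin 7) K) : Matrix (Fin 7) (Fin 7) K) =
      Matrix.diagonal ![(ψ 1 : K), ((ψ 0 ^ 3 * ψ 1 : Kˣ) : K), ((ψ 0 ^ 3 * ψ 1 ^ 2 : Kˣ) : K), 1, (((ψ 1)⁻¹ : Kˣ) : K), (((ψ 0)⁻¹ ^ 3 * (ψ 1)⁻¹ : Kˣ) : K), (((ψ 0)⁻¹ ^ 3 * (ψ 1)⁻¹ ^ 2 : Kˣ) : K)] := by
  rw [ree2_val]
  show reeD (Matrix.diagonal _) = _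
  rw [reeD_diag]
  congr 1
  funext i
  rw [code_reeL]
  fin_cases i
  · show ((tv _ _ ψ 6 : Kˣ) : K) = _; rw [tv_6]; rfl
  · show ((tv _ _ ψ 10 : Kˣ) : K) = _; rw [tv_10]; rfl
  · show ((tv _ _ ψ 11 : Kˣ) : K) = _; rw [tv_11]; rfl
  · show ((tv _ _ ψ 13 : Kˣ) : K) = _; rw [tv_13]; simp
  · show ((tv _ _ ψ 5 : Kˣ) : K) = _; rw [tv_5]; rfl
  · show ((tv _ _ ψ 1 : Kˣ) : K) = _; rw [tv_1]; rfl
  · show ((tv _ _ ψ 0 : Kˣ) : K) = _; rw [tv_0]; rfl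

lemma ree1_rH (β : Kˣ) : ((ree1 (rH f β) : GL (Fin 7) K) : Matrix (Fin 7) (Fin 7) K) =
    m7T (f β) β (f β)⁻¹ (β : K)⁻¹ := by
  rw [rH, ree1_torus]
  simp [rPsi]

variable {f}

lemma rH_inj {β γ : Kˣ} (h : rH f β = rH f γ) : β = γ := by
  have e := congrArg (fun g => ((ree1 g : GL (Fin 7) K) : Matrix (Fin 7) (Fin 7) K)) h
  simp only [ree1_rH] at e
  have e1 := congrFun (congrFun e 0) 0
  have e2 := congrFun (congrFun e 1) 1
  simp [m7T] at e1 e2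
  rw [e1] at e2
  have hne : f (γ : K) ≠ 0 := (map_ne_zero f).mpr γ.ne_zero
  exact Units.ext (mul_left_cancel₀ hne e2)

/-- `σ g = g` in terms of the two representations. -/
lemma reeSig_eq_iff (g : ↥(G2 K)) : reeSig f g = g ↔ reeTw f g = ree1 g := by
  constructor
  · intro h
    rw [← ree1_sig, h]
  · intro h
    apply ree1_inj
    rw [ree1_sig, h]

/-- `ree2` after `f`, on the matrices -/
lemma reeTw_val (g : ↥(G2 K)) : ((reeTw f g : GL (Fin 7) K) : Matrix (Fin 7) (Fin 7) K) = ((ree2 g : GL (Fin 7) K) : Matrix (Fin 7) (Fin 7) K).map f := rfl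

lemma reeSig_torus_iff (ψ : ℕ → Kˣ) (hψ : torusG TG2.U chevG2 ψ ∈ G2 K) (hf : ReeTits f) (h : f (ψ 1 : K) = ψ 0) :
    reeSig f ⟨torusG TG2.U chevG2 ψ, hψ⟩ = ⟨torusG TG2.U chevG2 ψ, hψ⟩ := by
  rw [reeSig_eq_iff]
  apply Units.ext
  rw [reeTw_val, ree2_torus, ree1_torus, m7T_eq]
  ext i j
  rw [Matrix.map_apply, Matrix.diagonal_apply, Matrix.diagonal_apply]
  by_cases hij : i = j
  · subst hij
    simp only [if_true]
    have h3 : f ((ψ 0 : K) ^ 3) = ψ 1 := by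
      rw [← h]
      exact hf.pow3 _
    have h0 : (ψ 0 : K) ≠ 0 := (ψ 0).ne_zero
    have h1 : (ψ 1 : K) ≠ 0 := (ψ 1).ne_zero
    fin_cases i
    · simpa using h
    · simp [h, h3, map_mul, map_pow]
      rw [mul_comm]
    · simp [h, h3, map_mul, map_pow]
      ring
    · simp
    · simp [h]
    · simp [h, h3, map_mul, map_pow, map_inv₀]
      exact mul_comm _ _
    · simp [h, h3, map_mul, map_pow, map_inv₀]
      exact mul_comm _ _
  · simp [hij]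

theorem reeSig_rH (hf : ReeTits f) (β : Kˣ) : reeSig f (rH f β) = rH f β :=
  reeSig_torus_iff _ _ hf (by simp [rPsi])

/-- fixed elements in `H` -/
theorem exists_rH_of_fix {g : ↥(G2 K)} (hH : (g : GL chevG2.Idx K) ∈ chevG2.diagonalSubgroup K)
    (hg : reeSig f g = g) : ∃ β, g = rH f β := by
  obtain ⟨g, hgG⟩ := g
  have hH' : g ∈ HT TG2.U chevG2 K := by
    rw [← diagonal_eq TG2.checks TG2.checks3]; exact hH
  obtain ⟨c, hc⟩ := mem_HT.mp hH'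
  subst hc
  have hψ : torusG TG2.U chevG2 (capply chevG2 c) ∈ G2 K := hgG
  have h1 := (reeSig_eq_iff _).mp hg
  have h2 := congrArg Units.val h1
  have h3 : ((reeTw f ⟨torusG TG2.U chevG2 (capply chevG2 c), hψ⟩ : GL (Fin 7) K) : Matrix (Fin 7) (Fin 7) K) = ((ree1 ⟨torusG TG2.U chevG2 (capply chevG2 c), hψ⟩ : GL (Fin 7) K) : Matrix (Fin 7) (Fin 7) K) := h2
  rw [reeTw_val, ree2_torus, ree1_torus, m7T_eq] at h3
  have h4 := congrFun (congrFun h3 0) 0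
  simp only [Matrix.map_apply, Matrix.diagonal_apply_eq, Matrix.cons_val_zero] at h4
  refine ⟨capply chevG2 c 1, ?_⟩
  apply Subtype.ext
  apply torusG_congr
  intro j hj
  have hj' : j < 2 := hj
  interval_cases j
  · apply Units.ext
    simp [rPsi, h4]
  · simp [rPsi]

variable (f)

/-- conjugation of root elements by the torus -/
lemma rH_conj_x {r : ℕ} (hr : r < 12) (β : Kˣ) (t : K) :
    rH f β * rG hr t * (rH f β)⁻¹ = rG hr ((tv TG2.U chevG2 (rPsi f β) r : Kˣ) * t) := by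
  apply Subtype.ext
  exact torusG_conj TG2.checks TG2.checks3 hr _ t

/-- conjugation of the elements of `U¹` by the torus -/
theorem rH_conj_rU {f : K →+* K} (hf : ReeTits f) (β : Kˣ) (t u v : K) :
    rH f β * rU f t u v * (rH f β)⁻¹ = rU f (β * t) (f β ^ 3 * β * u) (f β ^ 3 * β ^ 2 * v) := by
  have key : ∀ (a b : ↥(G2 K)), rH f β * (a * b) * (rH f β)⁻¹ = (rH f β * a * (rH f β)⁻¹) * (rH f β * b * (rH f β)⁻¹) := by
    intro a b; group
  simp only [rU, key, rH_conj_x, tv_7, tv_6, tv_8, tv_9, tv_10, tv_11]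
  have e3 : f ((f (β : K)) ^ 3) = β := hf.pow3 _
  have a0 : rPsi f β 0 = Units.map (f : K →* K) β := by simp [rPsi]
  have a1 : rPsi f β 1 = β := by simp [rPsi]
  rw [a0, a1]
  have hb : ((Units.map (f : K →* K) β : Kˣ) : K) = f β := rfl
  simp only [Units.val_mul, Units.val_pow_eq_pow_val, hb, map_mul, map_pow, e3, map_add]
  congr 5 <;> ring

/-- conjugation of the torus by the Weyl element -/
theorem rW_conj_rH (β : Kˣ) : rW * rH f β * rW⁻¹ = rH f β⁻¹ := by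
  rw [mul_inv_eq_iff_eq_mul]
  apply ree_ext
  simp only [map_mul, Units.val_mul, ree1_rW, ree1_rH]
  have := ree_W_T (K := K) (f β) β (f β)⁻¹ (β : K)⁻¹
  rw [this]
  simp [map_inv₀]

end Cfsg.Agent.H10
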