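import Cfsg.Agent.Lib.H10.ReeGen

/-!
# The small Ree group: the normalizer of a Sylow 2-subgroup
-/

set_option autoImplicit false
set_option linter.style.longLine false
set_option linter.unusedSimpArgs false
set_option linter.unusedSectionVars false
set_option maxRecDepth 100000

open Cfsg Cfsg.Lie Cfsg.Agent.H04.Chev
open scoped MatrixGroups commutatorElement Pointwise

namespace Cfsg.Agent.H10

section general

variable {G : Type*} [Group G]

lemma mem_normalizer_of_conj_le [Finite G] {S : Subgroup G} {g : G} (h : ∀ x ∈ S, g * x * g⁻¹ ∈ S) :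
    g ∈ Subgroup.normalizer (S : Set G) := by
  have hinj : Function.Injective (fun x : S => (⟨g * x * g⁻¹, h x x.2⟩ : S)) := by
    intro x y e
    have e1 := congrArg Subtype.val e
    simp only [mul_left_inj, mul_right_inj] at e1
    exact Subtype.ext e1
  have hsurj := Finite.injective_iff_surjective.mp hinj
  rw [Subgroup.mem_normalizer_iff]
  intro y
  constructor
  · exact h y
  · intro hy
    obtain ⟨x, hx⟩ := hsurj ⟨g * y * g⁻¹, hy⟩
    have e1 := congrArg Subtype.val hx
    simp only [mul_left_inj, mul_right_inj] at e1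
    rw [← e1]
    exact x.2

/-- the order of the normalizer of a self-centralizing subgroup -/
theorem card_normalizer_dvd [Finite G] (E : Subgroup G) (hC : Subgroup.centralizer (E : Set G) = E) :
    Nat.card (Subgroup.normalizer (E : Set G)) ∣ Nat.card E * Nat.card (MulAut E) := by
  classical
  set f := E.normalizerMonoidHom with hf
  have h1 := Subgroup.card_mul_index f.ker
  rw [Subgroup.index_ker] at h1
  have hle : E ≤ Subgroup.normalizer (E : Set G) := Subgroup.le_normalizer
  have h2 : Nat.card f.ker = Nat.card E := by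
    rw [hf, Subgroup.normalizerMonoidHom_ker, hC]
    exact Nat.card_congr (Subgroup.subgroupOfEquivOfLe hle).toEquiv
  rw [← h1, h2]
  exact Nat.mul_dvd_mul_left _ (Subgroup.card_subgroup_dvd_card _)

/-- the automorphism group of an elementary abelian group of order eight -/
theorem card_mulAut_dvd_168 (E : Type*) [Group E] [Finite E] (hexp : ∀ a : E, a * a = 1) (hE : Nat.card E = 8) :
    Nat.card (MulAut E) ∣ 168 := by
  classical
  have hcomm : ∀ a b : E, a * b = b * a := by
    intro a b
    have ha : a⁻¹ = a := inv_eq_of_mul_eq_one_left (hexp a)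
    have hb : b⁻¹ = b := inv_eq_of_mul_eq_one_left (hexp b)
    have hab : (a * b)⁻¹ = a * b := inv_eq_of_mul_eq_one_left (hexp (a * b))
    rw [mul_inv_rev, ha, hb] at hab
    exact hab.symm
  letI : CommGroup E := { (inferInstance : Group E) with mul_comm := hcomm }
  letI : Module (ZMod 2) (Additive E) := AddCommGroup.zmodModule (by
    intro x
    change Additive.ofMul (Additive.toMul x ^ 2) = 0
    rw [pow_two, hexp]; rfl)
  haveI : Fact (Nat.Prime 2) := ⟨Nat.prime_two⟩
  haveI : Fintype (Additive E) := Fintype.ofFinite _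
  have hfin : Module.finrank (ZMod 2) (Additive E) = 3 := by
    have h3 := Module.card_eq_pow_finrank (K := ZMod 2) (V := Additive E)
    rw [ZMod.card, ← Nat.card_eq_fintype_card, show Nat.card (Additive E) = Nat.card E from Nat.card_congr Additive.toMul, hE] at h3
    have h4 : (2 : ℕ) ^ 3 = 2 ^ Module.finrank (ZMod 2) (Additive E) := by simpa using h3
    exact (Nat.pow_right_injective (le_refl 2) h4).symm
  let ι : MulAut E →* (Additive E ≃ₗ[ZMod 2] Additive E) :=
    { toFun := fun σ => AddEquiv.toLinearEquiv (MulEquiv.toAdditive σ) (by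
          intro c x
          obtain ⟨n, rfl⟩ := ZMod.natCast_zmod_surjective c
          rw [Nat.cast_smul_eq_nsmul, Nat.cast_smul_eq_nsmul, map_nsmul])
      map_one' := by ext x; rfl
      map_mul' := fun σ τ => by ext x; rfl }
  have hι : Function.Injective ι := by
    intro σ τ h
    ext x
    have := congrArg (fun s : Additive E ≃ₗ[ZMod 2] Additive E => s (Additive.ofMul x)) h
    exact this
  have hd := Subgroup.card_dvd_of_injective ι hι
  let b : Additive E ≃ₗ[ZMod 2] (Fin 3 → ZMod 2) := LinearEquiv.ofFinrankEq _ _ (by simp [hfin])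
  let e : (Additive E ≃ₗ[ZMod 2] Additive E) ≃ ((Fin 3 → ZMod 2) ≃ₗ[ZMod 2] (Fin 3 → ZMod 2)) :=
    { toFun := fun f => b.symm.trans (f.trans b)
      invFun := fun f => b.trans (f.trans b.symm)
      left_inv := fun f => by ext x; simp
      right_inv := fun f => by ext x; simp }
  have h1 : Nat.card (Additive E ≃ₗ[ZMod 2] Additive E) = Nat.card (GL (Fin 3) (ZMod 2)) := by
    rw [Nat.card_congr e]
    exact Nat.card_congr ((Matrix.GeneralLinearGroup.toLin.trans (LinearMap.GeneralLinearGroup.generalLinearEquiv _ _)).symm.toEquiv)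
  rw [h1, Matrix.card_GL_field, ZMod.card, Fin.prod_univ_three] at hd
  simpa using hd

end general

variable {K : Type*} [Field K] [CharP K 3] {m : ℕ} [Fintype K] (hK : Fintype.card K = 3 ^ (2 * m + 1))

/-- the matrix of the element of order seven -/
def m7G : Matrix (Fin 7) (Fin 7) K :=
  !![0, 1, -1, 0, -1, -1, -1;
    -1, -1, 1, -1, -1, -1, 0;
    -1, -1, -1, 1, 0, -1, -1;
    -1, 0, 0, 0, -1, 0, 1;
    0, -1, -1, 0, -1, 1, -1;
    -1, 1, 1, 1, -1, 1, 0;
    -1, 1, -1, -1, 0, 1, -1]

/-- the matrix of `J` -/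
def m7J : Matrix (Fin 7) (Fin 7) K := m7L 1 1 1 (-1) 1 1 1 (-1)

/-- the matrix of the involution `a` -/
def m7A : Matrix (Fin 7) (Fin 7) K := m7T (-1) (-1) (-1) (-1)

set_option maxHeartbeats 4000000 in
lemma m7G_eq : m7U (1 : K) 1 0 0 0 0 * m7W * m7U (1 : K) 1 0 0 0 0 * m7U (1 : K) 1 0 0 0 0 = m7G := by
  have h3 : (3 : K) = 0 := ree_three
  ext i j
  fin_cases i <;> fin_cases j <;> simp [m7U, m7W, m7G, Matrix.mul_apply, Fin.sum_univ_succ] <;> first | ring1 | linear_combination h3 | linear_combination -h3 | linear_combination 2 * h3 | linear_combination -2 * h3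

set_option maxHeartbeats 4000000 in
lemma m7G_A : m7G * m7A = m7W * (m7G : Matrix (Fin 7) (Fin 7) K) := by
  have h3 : (3 : K) = 0 := ree_three
  ext i j
  fin_cases i <;> fin_cases j <;> simp [m7A, m7T, m7W, m7G, Matrix.mul_apply, Fin.sum_univ_succ] <;> first | ring1 | linear_combination h3 | linear_combination -h3 | linear_combination 2 * h3 | linear_combination -2 * h3

set_option maxHeartbeats 4000000 in
lemma m7G_W : m7G * m7W = m7W * m7J * (m7G : Matrix (Fin 7) (Fin 7) K) := by
  have h3 : (3 : K) = 0 := ree_three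
  ext i j
  fin_cases i <;> fin_cases j <;> simp [m7J, m7L, m7W, m7G, Matrix.mul_apply, Fin.sum_univ_succ] <;> first | ring1 | linear_combination h3 | linear_combination -h3 | linear_combination 2 * h3 | linear_combination -2 * h3

set_option maxHeartbeats 4000000 in
lemma m7G_J : m7G * m7J = m7A * m7J * (m7G : Matrix (Fin 7) (Fin 7) K) := by
  have h3 : (3 : K) = 0 := ree_three
  ext i j
  fin_cases i <;> fin_cases j <;> simp [m7A, m7T, m7J, m7L, m7G, Matrix.mul_apply, Fin.sum_univ_succ] <;> first | ring1 | linear_combination h3 | linear_combination -h3 | linear_combination 2 * h3 | linear_combination -2 * h3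

/-- powers of the matrix of the element of order seven -/
def m7G2 : Matrix (Fin 7) (Fin 7) K :=
  !![-1, -1, 0, 1, 1, 0, 0;
    -1, -1, -1, 1, -1, -1, 0;
    0, -1, 1, 0, -1, 1, 1;
    -1, 1, 1, -1, -1, 1, 1;
    -1, 0, 0, -1, 1, 1, 0;
    -1, -1, 0, 1, -1, -1, -1;
    1, -1, -1, 0, 0, 1, -1]

/-- powers of the matrix of the element of order seven -/
def m7G4 : Matrix (Fin 7) (Fin 7) K :=
  !![0, 0, -1, -1, 0, 0, 1;
    0, -1, 1, 0, 0, 1, 1;
    -1, 1, 1, 1, 1, 1, -1;
    -1, -1, 1, 0, -1, 1, 1;
    0, -1, -1, 0, 0, -1, 1;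
    -1, -1, 0, 0, -1, 1, 0;
    1, 1, 1, 1, -1, 1, -1]

/-- powers of the matrix of the element of order seven -/
def m7G6 : Matrix (Fin 7) (Fin 7) K :=
  !![-1, -1, 0, 1, -1, -1, 0;
    1, 1, 1, 0, -1, -1, -1;
    -1, 0, -1, -1, -1, 0, -1;
    0, -1, 1, 0, 0, 1, -1;
    0, -1, -1, 1, 0, -1, -1;
    -1, 1, 1, 0, 1, -1, -1;
    -1, 1, -1, 0, -1, 1, -1]

set_option maxHeartbeats 4000000 in
lemma m7G_sq : m7G * m7G = (m7G2 : Matrix (Fin 7) (Fin 7) K) := by
  have h3 : (3 : K) = 0 := ree_three
  ext i j
  fin_cases i <;> fin_cases j <;> simp [m7G, m7G2, m7G4, m7G6, Matrix.mul_apply, Fin.sum_univ_succ, Matrix.one_apply] <;> first | ring1 | linear_combination h3 | linear_combination -h3 | linear_combination 2 * h3 | linear_combination -2 * h3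

set_option maxHeartbeats 4000000 in
lemma m7G2_sq : m7G2 * m7G2 = (m7G4 : Matrix (Fin 7) (Fin 7) K) := by
  have h3 : (3 : K) = 0 := ree_three
  ext i j
  fin_cases i <;> fin_cases j <;> simp [m7G, m7G2, m7G4, m7G6, Matrix.mul_apply, Fin.sum_univ_succ, Matrix.one_apply] <;> first | ring1 | linear_combination h3 | linear_combination -h3 | linear_combination 2 * h3 | linear_combination -2 * h3

set_option maxHeartbeats 4000000 in
lemma m7G4_2 : m7G4 * m7G2 = (m7G6 : Matrix (Fin 7) (Fin 7) K) := by
  have h3 : (3 : K) = 0 := ree_three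
  ext i j
  fin_cases i <;> fin_cases j <;> simp [m7G, m7G2, m7G4, m7G6, Matrix.mul_apply, Fin.sum_univ_succ, Matrix.one_apply] <;> first | ring1 | linear_combination h3 | linear_combination -h3 | linear_combination 2 * h3 | linear_combination -2 * h3

set_option maxHeartbeats 4000000 in
lemma m7G6_1 : m7G6 * m7G = (1 : Matrix (Fin 7) (Fin 7) K) := by
  have h3 : (3 : K) = 0 := ree_three
  ext i j
  fin_cases i <;> fin_cases j <;> simp [m7G, m7G2, m7G4, m7G6, Matrix.mul_apply, Fin.sum_univ_succ, Matrix.one_apply] <;> first | ring1 | linear_combination h3 | linear_combination -h3 | linear_combination 2 * h3 | linear_combination -2 * h3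

lemma m7G_pow7 : (m7G : Matrix (Fin 7) (Fin 7) K) ^ 7 = 1 := by
  have e : (m7G : Matrix (Fin 7) (Fin 7) K) ^ 7 = ((m7G * m7G) * (m7G * m7G)) * (m7G * m7G) * m7G := by
    simp only [pow_succ, pow_zero, one_mul, mul_assoc]
  rw [e, m7G_sq, m7G2_sq, m7G4_2, m7G6_1]

lemma m7G_ne_one : (m7G : Matrix (Fin 7) (Fin 7) K) ≠ 1 := by
  intro h
  have e := congrFun (congrFun h 0) 0
  simp [m7G] at e

end Cfsg.Agent.H10
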