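import Cfsg.Agent.Lib.H10.ReeE2
import Cfsg.Agent.Lib.H10.ReeS0

/-!
# The small Ree group: the normaliser of the non-split torus
-/

set_option autoImplicit false
set_option linter.style.longLine false
set_option linter.unusedSimpArgs false
set_option linter.unusedSectionVars false
set_option linter.style.haveILetI false
set_option maxRecDepth 100000

open Cfsg Cfsg.Lie Cfsg.Agent.H04.Chev Matrix
open scoped MatrixGroups commutatorElement Pointwise

namespace Cfsg.Agent.H10

section generic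

variable {G : Type*} [Group G] [Finite G]

/-- The orbit-stabiliser count for conjugation of a subgroup on an element. -/
lemma card_eq_orbit_mul (N : Subgroup G) (z : G) (O : Finset G) (hO : ∀ y, y ∈ O ↔ ∃ g ∈ N, g * z * g⁻¹ = y) :
    Nat.card N = O.card * Nat.card ↥(N ⊓ Subgroup.centralizer ({z} : Set G)) := by
  classical
  haveI : Fintype G := Fintype.ofFinite G
  let S : Finset G := Finset.univ.filter (· ∈ N)
  let f : G → G := fun g => g * z * g⁻¹
  let T : Finset G := Finset.univ.filter (· ∈ N ⊓ Subgroup.centralizer ({z} : Set G))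
  have hS : Nat.card N = S.card := by
    rw [Nat.card_eq_fintype_card, Fintype.card_subtype]
  have hT : Nat.card ↥(N ⊓ Subgroup.centralizer ({z} : Set G)) = T.card := by
    rw [Nat.card_eq_fintype_card, Fintype.card_subtype]
  have hf : ∀ g ∈ S, f g ∈ O := by
    intro g hg
    exact (hO _).2 ⟨g, (Finset.mem_filter.1 hg).2, rfl⟩
  rw [hS, hT, Finset.card_eq_sum_card_fiberwise hf]
  rw [Finset.sum_congr rfl (g := fun _ => T.card), Finset.sum_const, smul_eq_mul]
  intro b hb
  obtain ⟨g₀, hg₀, rfl⟩ := (hO b).1 hb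
  symm
  apply Finset.card_bij (fun t _ => g₀ * t)
  · intro t ht
    have ht' := (Finset.mem_filter.1 ht).2
    obtain ⟨h1, h2⟩ := Subgroup.mem_inf.1 ht'
    have h3 := Subgroup.mem_centralizer_singleton_iff.1 h2
    refine Finset.mem_filter.2 ⟨Finset.mem_filter.2 ⟨Finset.mem_univ _, N.mul_mem hg₀ h1⟩, ?_⟩
    show g₀ * t * z * (g₀ * t)⁻¹ = g₀ * z * g₀⁻¹
    calc g₀ * t * z * (g₀ * t)⁻¹ = g₀ * (t * z) * t⁻¹ * g₀⁻¹ := by group
      _ = g₀ * (z * t) * t⁻¹ * g₀⁻¹ := by rw [h3]
      _ = _ := by group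
  · intro a _ b _ h
    exact mul_left_cancel h
  · intro g hg
    obtain ⟨h1, h2⟩ := Finset.mem_filter.1 hg
    have h1' := (Finset.mem_filter.1 h1).2
    have h2' : g * z * g⁻¹ = g₀ * z * g₀⁻¹ := h2
    refine ⟨g₀⁻¹ * g, Finset.mem_filter.2 ⟨Finset.mem_univ _, Subgroup.mem_inf.2 ⟨N.mul_mem (N.inv_mem hg₀) h1', ?_⟩⟩, by group⟩
    rw [Subgroup.mem_centralizer_singleton_iff]
    calc g₀⁻¹ * g * z = g₀⁻¹ * (g * z * g⁻¹) * g := by group
      _ = g₀⁻¹ * (g₀ * z * g₀⁻¹) * g := by rw [h2']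
      _ = _ := by group

/-- two subgroups of the same order in a cyclic subgroup are equal -/
lemma eq_of_le_cyclic {C A B : Subgroup G} (hC : IsCyclic C) (hA : A ≤ C) (hB : B ≤ C) (h : Nat.card A = Nat.card B) : A = B := by
  classical
  haveI : Fintype G := Fintype.ofFinite G
  haveI : Fintype C := Fintype.ofFinite C
  have hpos : 0 < Nat.card A := Nat.card_pos
  have hle := IsCyclic.card_pow_eq_one_le (α := C) (n := Nat.card A) hpos
  -- the elements of `A` and `B` satisfy `x ^ |A| = 1`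
  let S : Finset C := Finset.univ.filter (fun a => a ^ Nat.card A = 1)
  let TA : Finset C := Finset.univ.filter (fun a => a.1 ∈ A)
  let TB : Finset C := Finset.univ.filter (fun a => a.1 ∈ B)
  have cardA : TA.card = Nat.card A := by
    have : Nat.card A = Nat.card (A.subgroupOf C) := (Nat.card_congr (Subgroup.subgroupOfEquivOfLe hA).toEquiv).symm
    rw [this, Nat.card_eq_fintype_card, Fintype.card_subtype]
    rfl
  have cardB : TB.card = Nat.card A := by
    have : Nat.card B = Nat.card (B.subgroupOf C) := (Nat.card_congr (Subgroup.subgroupOfEquivOfLe hB).toEquiv).symm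
    rw [h, this, Nat.card_eq_fintype_card, Fintype.card_subtype]
    rfl
  have hTA : TA ⊆ S := by
    intro a ha
    have ha' : a.1 ∈ A := (Finset.mem_filter.1 ha).2
    refine Finset.mem_filter.2 ⟨Finset.mem_univ _, ?_⟩
    apply Subtype.ext
    have := pow_card_eq_one' (x := (⟨a.1, ha'⟩ : A))
    have h3 : ((⟨a.1, ha'⟩ : A) ^ Nat.card A : A).1 = 1 := by rw [this]; rfl
    rw [Subgroup.coe_pow] at h3
    exact h3
  have hTB : TB ⊆ S := by
    intro a ha
    have ha' : a.1 ∈ B := (Finset.mem_filter.1 ha).2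
    refine Finset.mem_filter.2 ⟨Finset.mem_univ _, ?_⟩
    apply Subtype.ext
    have := pow_card_eq_one' (x := (⟨a.1, ha'⟩ : B))
    rw [← h] at this
    have h3 : ((⟨a.1, ha'⟩ : B) ^ Nat.card A : B).1 = 1 := by rw [this]; rfl
    rw [Subgroup.coe_pow] at h3
    exact h3
  have e1 : TA = S := Finset.eq_of_subset_of_card_le hTA (by rw [cardA]; exact hle)
  have e2 : TB = S := Finset.eq_of_subset_of_card_le hTB (by rw [cardB]; exact hle)
  ext x
  constructor
  · intro hx
    have h1 : (⟨x, hA hx⟩ : C) ∈ TA := Finset.mem_filter.2 ⟨Finset.mem_univ _, hx⟩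
    rw [e1, ← e2] at h1
    exact (Finset.mem_filter.1 h1).2
  · intro hx
    have h1 : (⟨x, hB hx⟩ : C) ∈ TB := Finset.mem_filter.2 ⟨Finset.mem_univ _, hx⟩
    rw [e2, ← e1] at h1
    exact (Finset.mem_filter.1 h1).2

lemma orderOf_conj_eq (g x : G) : orderOf (g * x * g⁻¹) = orderOf x := by
  have : g * x * g⁻¹ = MulAut.conj g x := rfl
  rw [this]
  exact MulEquiv.orderOf_eq _ _

/-- normaliser of a subgroup of a cyclic subgroup -/
lemma mem_normalizer_of_cyclic {C A : Subgroup G} (hC : IsCyclic C) (hA : A ≤ C) {g : G} (hg : g ∈ Subgroup.normalizer (C : Set G)) :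
    g ∈ Subgroup.normalizer (A : Set G) := by
  have h1 : (A.map (MulAut.conj g).toMonoidHom) = A := by
    apply eq_of_le_cyclic hC
    · rintro _ ⟨a, ha, rfl⟩
      exact (Subgroup.mem_normalizer_iff.1 hg a).1 (hA ha)
    · exact hA
    · exact card_map_conj A g
  exact mem_normalizer_of_map_eq h1

end generic

variable {K : Type*} [Field K] [CharP K 3] {m : ℕ} [Fintype K] (hK : Fintype.card K = 3 ^ (2 * m + 1))

include hK

lemma tW_mem_tK0 : tW K m ∈ tK0 hK := tTT_le_tK0 hK (tW_mem_tTT hK)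

lemma tJ_not_tSL_sW : tJ hK ≠ tW K m := by
  intro h
  rw [tJ, ← tSL_sW hK] at h
  have h1 : tSL hK (sJ * sW⁻¹) = 1 := by
    rw [map_mul, map_inv, h, mul_inv_cancel]
  rcases (tSL_eq_one_iff hK _).1 h1 with h2 | h2
  · have h3 : (sJ : SL(2, K)) = sW := by
      rw [mul_inv_eq_one] at h2
      exact h2
    have h4 := congrArg (fun g : SL(2, K) => (g : Matrix (Fin 2) (Fin 2) K) 0 0) h3
    simp [sJ_val, sW_val] at h4
  · have h3 : (sJ : SL(2, K)) = -sW := by
      have e : (sJ : SL(2, K)) = (sJ * sW⁻¹) * sW := by group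
      rw [e, h2]
      apply Subtype.ext
      simp [Matrix.SpecialLinearGroup.coe_neg]
    have h4 := congrArg (fun g : SL(2, K) => (g : Matrix (Fin 2) (Fin 2) K) 0 0) h3
    simp [sJ_val, sW_val, Matrix.SpecialLinearGroup.coe_neg] at h4

/-- the involutions of the form `tSL g`, `g ∈ T₂` -/
lemma tSL_T2_invol {g : SL(2, K)} (hg : g ∈ tT2 K) (h : tSL hK g * tSL hK g = 1) : tSL hK g = 1 ∨ tSL hK g = tW K m := by
  have h2ne : (2 : K) ≠ 0 := ree_two_ne
  have hn := T2_norm g hg
  obtain ⟨e0, e1⟩ := T2_mul_entries hg hg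
  rw [← map_mul] at h
  have hent := (mem_tT2.1 hg)
  rcases (tSL_eq_one_iff hK _).1 h with h1 | h1
  · left
    rw [h1] at e0 e1
    simp at e0 e1
    have hy : g 0 1 = 0 := by
      have : 2 * g 0 1 ^ 2 = 0 := by linear_combination hn + e0
      have h3 := (mul_eq_zero.1 this).resolve_left h2ne
      exact pow_eq_zero_iff (by norm_num) |>.1 h3
    rw [hy] at hn
    have hx : g 0 0 ^ 2 = 1 := by simpa using hn
    rw [tSL_eq_one_iff]
    rcases eq_one_or_of_sq hx with h5 | h5
    · left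
      apply sl2_ext'
      · simpa using h5
      · simpa using hy
      · rw [hent.1, hy]; simp
      · rw [hent.2, h5]; simp
    · right
      apply sl2_ext'
      · simpa [Matrix.SpecialLinearGroup.coe_neg] using h5
      · simpa [Matrix.SpecialLinearGroup.coe_neg] using hy
      · rw [hent.1, hy]; simp [Matrix.SpecialLinearGroup.coe_neg]
      · rw [hent.2, h5]; simp [Matrix.SpecialLinearGroup.coe_neg]
  · right
    rw [h1] at e0 e1
    simp [Matrix.SpecialLinearGroup.coe_neg] at e0 e1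
    have hx : g 0 0 = 0 := by
      have : 2 * g 0 0 ^ 2 = 0 := by linear_combination hn - e0
      have h3 := (mul_eq_zero.1 this).resolve_left h2ne
      exact pow_eq_zero_iff (by norm_num) |>.1 h3
    rw [hx] at hn
    have hy : g 0 1 ^ 2 = 1 := by simpa using hn
    rw [← tSL_sW hK]
    rcases eq_one_or_of_sq hy with h5 | h5
    · congr 1
      apply sl2_ext'
      · simpa [sW_val] using hx
      · simpa [sW_val] using h5
      · rw [hent.1, h5]; simp [sW_val]
      · rw [hent.2, hx]; simp [sW_val]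
    · rw [← tSL_neg hK sW]
      congr 1
      apply sl2_ext'
      · simpa [sW_val, Matrix.SpecialLinearGroup.coe_neg] using hx
      · simpa [sW_val, Matrix.SpecialLinearGroup.coe_neg] using h5
      · rw [hent.1, h5]; simp [sW_val, Matrix.SpecialLinearGroup.coe_neg]
      · rw [hent.2, hx]; simp [sW_val, Matrix.SpecialLinearGroup.coe_neg]

/-- the involutions of `K₀` -/
lemma tK0_invol {x : RT K m} (hx : x ∈ tK0 hK) (h : x * x = 1) : x = 1 ∨ x = tA hK ∨ x = tW K m ∨ x = tA hK * tW K m := by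
  obtain ⟨g, hg, e | e⟩ := (mem_tK0 hK).1 hx
  · rw [e] at h
    rcases tSL_T2_invol hK hg h with h1 | h1
    · left; rw [e, h1]
    · right; right; left; rw [e, h1]
  · rw [e] at h
    have h1 : tSL hK g * tSL hK g = 1 := by
      have e1 : tA hK * tSL hK g * (tA hK * tSL hK g) = (tA hK * tA hK) * (tSL hK g * tSL hK g) := by
        have := a_comm_tSL hK g
        rw [show tH hK (-1) = tA hK from rfl] at this
        calc tA hK * tSL hK g * (tA hK * tSL hK g) = tA hK * (tSL hK g * tA hK) * tSL hK g := by group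
          _ = tA hK * (tA hK * tSL hK g) * tSL hK g := by rw [this]
          _ = _ := by group
      rw [e1, tA_sq hK, one_mul] at h
      exact h
    rcases tSL_T2_invol hK hg h1 with h2 | h2
    · right; left; rw [e, h2, mul_one]
    · right; right; right; rw [e, h2]

/-- `K₀` is contained in its normaliser, and so on -/
lemma tD0_le_K0 : tD0 hK ≤ tK0 hK := (tD0_le hK).trans (tTT_le_tK0 hK)

/-- normalising `K₀` and normalising `D₀` -/
lemma conj_tD0_of_norm {g : RT K m} (hg : g ∈ Subgroup.normalizer (tK0 hK : Set (RT K m))) {y : RT K m} (hy : y ∈ tD0 hK) : g * y * g⁻¹ ∈ tD0 hK := by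
  apply mem_tD0_of_odd hK
  · exact (Subgroup.mem_normalizer_iff.1 hg y).1 (tD0_le_K0 hK hy)
  · rw [orderOf_conj_eq]
    exact tD0_odd hK hy

lemma norm_D0_of_norm_K0 {g : RT K m} (hg : g ∈ Subgroup.normalizer (tK0 hK : Set (RT K m))) : g ∈ Subgroup.normalizer (tD0 hK : Set (RT K m)) := by
  haveI := t_finite hK
  exact mem_normalizer_of_conj_le (fun x hx => conj_tD0_of_norm hK hg hx)

/-- if a conjugate of a non-trivial element of `D₀` lies in `D₀`, the conjugating element normalises `K₀` -/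
lemma norm_K0_of_conj {g y : RT K m} (hy : y ∈ tD0 hK) (h1 : y ≠ 1) (h2 : g * y * g⁻¹ ∈ tD0 hK) : g ∈ Subgroup.normalizer (tK0 hK : Set (RT K m)) := by
  haveI := t_finite hK
  apply mem_normalizer_of_conj_le
  intro x hx
  have h3 : g * y * g⁻¹ ≠ 1 := by
    intro h
    apply h1
    have e : y = g⁻¹ * (g * y * g⁻¹) * g := by group
    rw [e, h]
    group
  rw [← tD0_centralizer hK h2 h3]
  have h4 := (tD0_centralizer hK hy h1 x).2 hx
  calc g * x * g⁻¹ * (g * y * g⁻¹) = g * (x * y) * g⁻¹ := by group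
    _ = g * (y * x) * g⁻¹ := by rw [h4]
    _ = _ := by group

lemma tD0_ne_bot (hm : 1 ≤ m) : ∃ y ∈ tD0 hK, y ≠ 1 := by
  haveI := t_finite hK
  by_contra hcon
  push Not at hcon
  have h1 : Nat.card (tD0 hK) = 1 := by
    rw [Nat.card_eq_one_iff_unique]
    refine ⟨⟨fun a b => Subtype.ext ?_⟩, ⟨1⟩⟩
    rw [hcon _ a.2, hcon _ b.2]
  rw [card_tD0 hK] at h1
  have := reeN_gt hm
  omega

/-- the normaliser of `K₀` equals that of any non-trivial subgroup of `D₀` -/
theorem norm_D0_sub_iff (hm : 1 ≤ m) {A : Subgroup (RT K m)} (hA : A ≤ tD0 hK) (hne : A ≠ ⊥) (g : RT K m) :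
    g ∈ Subgroup.normalizer (A : Set (RT K m)) ↔ g ∈ Subgroup.normalizer (tK0 hK : Set (RT K m)) := by
  haveI := t_finite hK
  constructor
  · intro hg
    obtain ⟨y, hy1⟩ := (Subgroup.ne_bot_iff_exists_ne_one.mp hne)
    have hy' : (y : RT K m) ≠ 1 := fun h => hy1 (Subtype.ext h)
    exact norm_K0_of_conj hK (hA y.2) hy' (hA ((Subgroup.mem_normalizer_iff.1 hg _).1 y.2))
  · intro hg
    exact mem_normalizer_of_cyclic (tD0_cyclic hK) hA (norm_D0_of_norm_K0 hK hg)

/-- `J` normalises `K₀` -/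
lemma tJ_mem_norm : tJ hK ∈ Subgroup.normalizer (tK0 hK : Set (RT K m)) := by
  haveI := t_finite hK
  apply mem_normalizer_of_conj_le
  intro x hx
  have hTT : ∀ g ∈ tT2 K, tJ hK * tSL hK g * (tJ hK)⁻¹ ∈ tTT hK := by
    intro g hg
    refine (mem_tTT hK).2 ⟨sJ * g * sJ⁻¹, ?_, by rw [map_mul, map_mul, map_inv]; rfl⟩
    have hg' : g * sW = sW * g := Subgroup.mem_centralizer_singleton_iff.1 hg
    have hneg : (sJ : SL(2, K))⁻¹ * sW * sJ = -sW := by
      rw [mul_assoc, sW_sJ, mul_neg, inv_mul_cancel_left]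
    have hc : g * (-sW) = (-sW) * g := by
      rw [mul_neg, neg_mul, hg']
    show sJ * g * sJ⁻¹ ∈ Subgroup.centralizer ({sW} : Set (SL(2, K)))
    rw [Subgroup.mem_centralizer_singleton_iff]
    calc sJ * g * sJ⁻¹ * sW = sJ * g * (sJ⁻¹ * sW * sJ) * sJ⁻¹ := by group
      _ = sJ * (g * (-sW)) * sJ⁻¹ := by rw [hneg]; group
      _ = sJ * ((-sW) * g) * sJ⁻¹ := by rw [hc]
      _ = sJ * (sJ⁻¹ * sW * sJ) * g * sJ⁻¹ := by rw [hneg]; group
      _ = sW * (sJ * g * sJ⁻¹) := by group
  obtain ⟨g, hg, e | e⟩ := (mem_tK0 hK).1 hx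
  · rw [e]
    exact tTT_le_tK0 hK (hTT g hg)
  · rw [e]
    have hJa : tJ hK * tA hK = tA hK * tJ hK := (a_comm_tSL hK sJ).symm
    have e1 : tJ hK * (tA hK * tSL hK g) * (tJ hK)⁻¹ = tA hK * (tJ hK * tSL hK g * (tJ hK)⁻¹) := by
      calc tJ hK * (tA hK * tSL hK g) * (tJ hK)⁻¹ = (tJ hK * tA hK) * tSL hK g * (tJ hK)⁻¹ := by group
        _ = (tA hK * tJ hK) * tSL hK g * (tJ hK)⁻¹ := by rw [hJa]
        _ = _ := by group
    rw [e1]
    exact (tK0 hK).mul_mem (tA_mem_tK0 hK) (tTT_le_tK0 hK (hTT g hg))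

lemma tJ_not_mem_K0 : tJ hK ∉ tK0 hK := by
  intro h
  rcases tK0_invol hK h (tJ_sq hK) with h1 | h1 | h1 | h1
  · have : tSL hK (sJ : SL(2, K)) = 1 := h1
    rcases (tSL_eq_one_iff hK _).1 this with h2 | h2
    · have h4 := congrArg (fun g : SL(2, K) => (g : Matrix (Fin 2) (Fin 2) K) 0 1) h2
      simp [sJ_val] at h4
    · have h4 := congrArg (fun g : SL(2, K) => (g : Matrix (Fin 2) (Fin 2) K) 0 1) h2
      simp [sJ_val, Matrix.SpecialLinearGroup.coe_neg] at h4
  · exact a_not_tSL hK _ h1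
  · exact tJ_not_tSL_sW hK h1
  · -- `J = a w`
    have h2 : tA hK = tSL hK (sJ * sW⁻¹) := by
      rw [map_mul, map_inv, tSL_sW hK]
      rw [show tSL hK sJ = tJ hK from rfl, h1]
      group
    exact a_not_tSL hK _ h2.symm

lemma tW_ne_tA : tW K m ≠ tA hK := by
  intro h
  rw [← tSL_sW hK] at h
  exact a_not_tSL hK _ h

lemma mul_tW_ne_tA : tA hK * tW K m ≠ tA hK := by
  intro h
  have h1 : tW K m = 1 := by simpa using h
  rw [← tSL_sW hK, tSL_eq_one_iff] at h1
  rcases h1 with h2 | h2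
  · have h4 := congrArg (fun g : SL(2, K) => (g : Matrix (Fin 2) (Fin 2) K) 0 1) h2
    simp [sW_val] at h4
  · have h4 := congrArg (fun g : SL(2, K) => (g : Matrix (Fin 2) (Fin 2) K) 0 1) h2
    simp [sW_val, Matrix.SpecialLinearGroup.coe_neg] at h4

lemma mul_tW_ne_tW : tA hK * tW K m ≠ tW K m := by
  intro h
  have h1 : tA hK = 1 := by simpa using h
  exact a_not_tSL hK 1 (by rw [map_one]; exact h1.symm)

lemma tW_ne_one : tW K m ≠ 1 := by
  intro h
  have := mul_tW_ne_tA hK
  rw [h, mul_one] at this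
  exact this rfl

lemma tA_ne_one : tA hK ≠ 1 := fun h1 => a_not_tSL hK 1 (by rw [map_one]; exact h1.symm)

lemma mul_tW_ne_one : tA hK * tW K m ≠ 1 := by
  intro h
  have h1 : tA hK = (tW K m)⁻¹ := eq_inv_of_mul_eq_one_left h
  rw [tW_inv] at h1
  exact tW_ne_tA hK h1.symm

/-- The stabiliser of `a` in the normaliser. -/
lemma stab_a_form {x : RT K m} (hx : x ∈ Subgroup.normalizer (tK0 hK : Set (RT K m))) (ha : x * tA hK = tA hK * x) :
    x ∈ tK0 hK ∨ x * tJ hK ∈ tK0 hK := by
  have hAK := tA_mem_tK0 hK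
  -- reduce to `y = tSL g`
  have key : ∀ g : SL(2, K), tSL hK g ∈ Subgroup.normalizer (tK0 hK : Set (RT K m)) → tSL hK g ∈ tK0 hK ∨ tSL hK g * tJ hK ∈ tK0 hK := by
    intro g hg
    have h1 : tSL hK g * tW K m * (tSL hK g)⁻¹ ∈ tK0 hK := (Subgroup.mem_normalizer_iff.1 hg _).1 (tW_mem_tK0 hK)
    have h2 : (tSL hK g * tW K m * (tSL hK g)⁻¹) * (tSL hK g * tW K m * (tSL hK g)⁻¹) = 1 := by
      have : (tSL hK g * tW K m * (tSL hK g)⁻¹) * (tSL hK g * tW K m * (tSL hK g)⁻¹) = tSL hK g * (tW K m * tW K m) * (tSL hK g)⁻¹ := by group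
      rw [this, tW_sq]
      group
    have hW : tSL hK g * tW K m * (tSL hK g)⁻¹ = tW K m := by
      rcases tK0_invol hK h1 h2 with h3 | h3 | h3 | h3
      · exfalso
        apply tW_ne_one hK
        have e : tW K m = (tSL hK g)⁻¹ * (tSL hK g * tW K m * (tSL hK g)⁻¹) * tSL hK g := by group
        rw [e, h3]
        group
      · exfalso
        have h4 : tSL hK (g * sW * g⁻¹) = tA hK := by
          rw [map_mul, map_mul, map_inv, tSL_sW hK]
          exact h3
        exact a_not_tSL hK _ h4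
      · exact h3
      · exfalso
        have h4 : tSL hK (g * sW * g⁻¹ * sW⁻¹) = tA hK := by
          rw [map_mul, map_mul, map_mul, map_inv, map_inv, tSL_sW hK, h3, tW_inv, mul_assoc, tW_sq, mul_one]
        exact a_not_tSL hK _ h4
    have hc : tSL hK g * tSL hK sW = tSL hK sW * tSL hK g := by
      rw [tSL_sW hK]
      rw [mul_inv_eq_iff_eq_mul] at hW
      exact hW
    rcases tSL_comm_sign hK hc with h3 | h3
    · left
      exact tTT_le_tK0 hK ((mem_tTT hK).2 ⟨g, Subgroup.mem_centralizer_singleton_iff.2 h3, rfl⟩)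
    · right
      refine tTT_le_tK0 hK ((mem_tTT hK).2 ⟨g * sJ, ?_, by rw [map_mul]; rfl⟩)
      show g * sJ ∈ Subgroup.centralizer ({sW} : Set (SL(2, K)))
      rw [Subgroup.mem_centralizer_singleton_iff]
      calc g * sJ * sW = g * (-(sW * sJ)) := by
            rw [mul_assoc]
            congr 1
            rw [sW_sJ, neg_neg]
        _ = (-(g * sW)) * sJ := by rw [mul_neg, neg_mul, mul_assoc]
        _ = (sW * g) * sJ := by rw [h3, neg_neg]
        _ = sW * (g * sJ) := by group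
  obtain ⟨g, e | e⟩ := C_a_form hK ha.symm
  · rw [e] at hx ⊢
    exact key g hx
  · have hAN : tA hK ∈ Subgroup.normalizer (tK0 hK : Set (RT K m)) := Subgroup.le_normalizer hAK
    have h1 : tSL hK g ∈ Subgroup.normalizer (tK0 hK : Set (RT K m)) := by
      have e1 : tSL hK g = tA hK * x := by
        rw [e, ← mul_assoc, tA_sq hK, one_mul]
      rw [e1]
      exact Subgroup.mul_mem _ hAN hx
    rcases key g h1 with h2 | h2
    · left
      rw [e]
      exact (tK0 hK).mul_mem hAK h2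
    · right
      rw [e, mul_assoc]
      exact (tK0 hK).mul_mem hAK h2

/-- the stabiliser has order `2 (q + 1)` -/
theorem card_stab_a : Nat.card ↥(Subgroup.normalizer (tK0 hK : Set (RT K m)) ⊓ Subgroup.centralizer ({tA hK} : Set (RT K m))) = 2 * (3 ^ (2 * m + 1) + 1) := by
  haveI := t_finite hK
  set S := Subgroup.normalizer (tK0 hK : Set (RT K m)) ⊓ Subgroup.centralizer ({tA hK} : Set (RT K m)) with hS
  have hle : tK0 hK ≤ S := by
    intro x hx
    refine Subgroup.mem_inf.2 ⟨Subgroup.le_normalizer hx, ?_⟩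
    rw [Subgroup.mem_centralizer_singleton_iff]
    exact tK0_comm hK hx (tA_mem_tK0 hK)
  have hJS : tJ hK ∈ S := by
    refine Subgroup.mem_inf.2 ⟨tJ_mem_norm hK, ?_⟩
    rw [Subgroup.mem_centralizer_singleton_iff]
    exact (a_comm_tSL hK sJ).symm
  have hidx : ((tK0 hK).subgroupOf S).index = 2 := by
    rw [Subgroup.index_eq_two_iff]
    refine ⟨⟨tJ hK, hJS⟩, ?_⟩
    rintro ⟨b, hb⟩
    rw [Subgroup.mem_subgroupOf, Subgroup.mem_subgroupOf]
    show Xor (b * tJ hK ∈ tK0 hK) (b ∈ tK0 hK)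
    by_cases h : b ∈ tK0 hK
    · right
      refine ⟨h, fun h2 => tJ_not_mem_K0 hK ?_⟩
      have e : tJ hK = b⁻¹ * (b * tJ hK) := by group
      rw [e]
      exact (tK0 hK).mul_mem ((tK0 hK).inv_mem h) h2
    · left
      refine ⟨?_, h⟩
      obtain ⟨h1, h2⟩ := Subgroup.mem_inf.1 hb
      exact (stab_a_form hK h1 (Subgroup.mem_centralizer_singleton_iff.1 h2)).resolve_left h
  have h1 := Subgroup.index_mul_card ((tK0 hK).subgroupOf S)
  have h2 : Nat.card ((tK0 hK).subgroupOf S) = Nat.card (tK0 hK) := Nat.card_congr (Subgroup.subgroupOfEquivOfLe hle).toEquiv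
  rw [hidx, h2, card_tK0 hK] at h1
  exact h1.symm

/-- transitivity on the involutions of `K₀` -/
lemma exists_norm_conj (hm : 1 ≤ m) {t : RT K m} (ht : t ∈ tK0 hK) (ht2 : t * t = 1) (ht1 : t ≠ 1) :
    ∃ n ∈ Subgroup.normalizer (tK0 hK : Set (RT K m)), n * t * n⁻¹ = tA hK := by
  haveI := t_finite hK
  obtain ⟨g, hg⟩ := invol_conj_a hK ht2 ht1
  -- a prime dividing `n`
  have hn1 : reeN m ≠ 1 := by
    have := reeN_gt hm
    omega
  obtain ⟨p, hp, hpn⟩ := Nat.exists_prime_and_dvd hn1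
  haveI : Fact p.Prime := ⟨hp⟩
  obtain ⟨z, hz⟩ := exists_prime_orderOf_dvd_card' (G := tD0 hK) p (by rw [card_tD0 hK]; exact hpn)
  have hzo : orderOf (z : RT K m) = p := by
    rw [← hz]
    exact Subgroup.orderOf_coe z
  have hz1 : (z : RT K m) ≠ 1 := by
    intro h
    rw [h, orderOf_one] at hzo
    exact hp.one_lt.ne hzo
  have hzK : (z : RT K m) ∈ tK0 hK := tD0_le_K0 hK z.2
  -- the centraliser of `a`
  set C := Subgroup.centralizer ({tA hK} : Set (RT K m)) with hC
  have hDC : tD0 hK ≤ C := by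
    intro x hx
    rw [hC, Subgroup.mem_centralizer_singleton_iff]
    exact tK0_comm hK (tD0_le_K0 hK hx) (tA_mem_tK0 hK)
  have hzC : g * z * g⁻¹ ∈ C := by
    rw [hC, Subgroup.mem_centralizer_singleton_iff, ← hg]
    have h1 := tK0_comm hK hzK ht
    calc g * z * g⁻¹ * (g * t * g⁻¹) = g * (z * t) * g⁻¹ := by group
      _ = g * (t * z) * g⁻¹ := by rw [h1]
      _ = _ := by group
  -- the index of `D₀` in the centraliser
  let A : Subgroup ↥C := (tD0 hK).subgroupOf C
  have hcardA : Nat.card A = reeN m := by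
    rw [← card_tD0 hK]
    exact Nat.card_congr (Subgroup.subgroupOfEquivOfLe hDC).toEquiv
  have hi : ¬ p ∣ A.index := by
    intro h
    have h1 := Subgroup.index_mul_card A
    rw [hcardA, card_centralizer_a hK] at h1
    have h2 : A.index = 3 ^ (2 * m + 1) * (2 * reeH m) * 4 := by
      apply Nat.eq_of_mul_eq_mul_right (reeN_pos m)
      rw [h1]
      ring
    rw [h2] at h
    have hq : Nat.Coprime p (3 ^ (2 * m + 1)) := Nat.Coprime.coprime_dvd_left hpn (reeN_cop_q m)
    have hn : Nat.Coprime p (2 * reeH m) := Nat.Coprime.coprime_dvd_left hpn (reeN_cop_2h m)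
    have h4 : Nat.Coprime p 4 := Nat.Coprime.coprime_dvd_left hpn (reeN_cop_four m)
    have h5 : Nat.Coprime p (3 ^ (2 * m + 1) * (2 * reeH m) * 4) :=
      Nat.Coprime.mul_right (Nat.Coprime.mul_right hq hn) h4
    have := h5.eq_one_of_dvd h
    exact hp.one_lt.ne' this
  have hzp : (⟨g * z * g⁻¹, hzC⟩ : ↥C) ^ p ^ 1 = 1 := by
    apply Subtype.ext
    show (g * z * g⁻¹) ^ p ^ 1 = 1
    rw [pow_one, conj_pow, ← hzo, pow_orderOf_eq_one, mul_one, mul_inv_cancel]
  obtain ⟨c, hc⟩ := conj_into_of_index A hi hzp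
  have hc' : (c : RT K m) * (g * z * g⁻¹) * (c : RT K m)⁻¹ ∈ tD0 hK := Subgroup.mem_subgroupOf.1 hc
  have he : (c : RT K m) * (g * z * g⁻¹) * (c : RT K m)⁻¹ = (c * g) * z * (c * g)⁻¹ := by group
  rw [he] at hc'
  refine ⟨c * g, norm_K0_of_conj hK z.2 hz1 hc', ?_⟩
  have hcc : (c : RT K m) * tA hK * (c : RT K m)⁻¹ = tA hK := by
    have := Subgroup.mem_centralizer_singleton_iff.1 c.2
    rw [this]
    group
  calc (c * g) * t * (c * g)⁻¹ = c * (g * t * g⁻¹) * (c : RT K m)⁻¹ := by group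
    _ = tA hK := by rw [hg, hcc]

/-- The order of the normaliser of `K₀` -/
theorem card_normalizer_K0 (hm : 1 ≤ m) : Nat.card (Subgroup.normalizer (tK0 hK : Set (RT K m))) = 6 * (3 ^ (2 * m + 1) + 1) := by
  classical
  haveI := t_finite hK
  let O : Finset (RT K m) := {tA hK, tW K m, tA hK * tW K m}
  have hO : ∀ y, y ∈ O ↔ ∃ g ∈ Subgroup.normalizer (tK0 hK : Set (RT K m)), g * tA hK * g⁻¹ = y := by
    intro y
    simp only [O, Finset.mem_insert, Finset.mem_singleton]
    constructor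
    · have hinv : ∀ {t : RT K m}, t ∈ tK0 hK → t * t = 1 → t ≠ 1 → ∃ g ∈ Subgroup.normalizer (tK0 hK : Set (RT K m)), g * tA hK * g⁻¹ = t := by
        intro t h1 h2 h3
        obtain ⟨n, hn, e⟩ := exists_norm_conj hK hm h1 h2 h3
        refine ⟨n⁻¹, Subgroup.inv_mem _ hn, ?_⟩
        rw [← e]
        group
      rintro (rfl | rfl | rfl)
      · exact hinv (tA_mem_tK0 hK) (tA_sq hK) (tA_ne_one hK)
      · exact hinv (tW_mem_tK0 hK) tW_sq (tW_ne_one hK)
      · refine hinv ((tK0 hK).mul_mem (tA_mem_tK0 hK) (tW_mem_tK0 hK)) ?_ (mul_tW_ne_one hK)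
        have h1 := tK0_comm hK (tA_mem_tK0 hK) (tW_mem_tK0 hK)
        calc tA hK * tW K m * (tA hK * tW K m) = tA hK * (tW K m * tA hK) * tW K m := by group
          _ = (tA hK * tA hK) * (tW K m * tW K m) := by rw [← h1]; group
          _ = 1 := by rw [tA_sq hK, tW_sq, one_mul]
    · rintro ⟨g, hg, rfl⟩
      have h1 := (Subgroup.mem_normalizer_iff.1 hg _).1 (tA_mem_tK0 hK)
      have h2 : (g * tA hK * g⁻¹) * (g * tA hK * g⁻¹) = 1 := by
        have : (g * tA hK * g⁻¹) * (g * tA hK * g⁻¹) = g * (tA hK * tA hK) * g⁻¹ := by group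
        rw [this, tA_sq hK]
        group
      rcases tK0_invol hK h1 h2 with h3 | h3 | h3 | h3
      · exfalso
        apply tA_ne_one hK
        have e : tA hK = g⁻¹ * (g * tA hK * g⁻¹) * g := by group
        rw [e, h3]
        group
      · exact Or.inl h3
      · exact Or.inr (Or.inl h3)
      · exact Or.inr (Or.inr h3)
  have h1 := card_eq_orbit_mul (Subgroup.normalizer (tK0 hK : Set (RT K m))) (tA hK) O hO
  have h3 : O.card = 3 := by
    apply Finset.card_eq_three.2
    exact ⟨_, _, _, (tW_ne_tA hK).symm, (mul_tW_ne_tA hK).symm, (mul_tW_ne_tW hK).symm, rfl⟩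
  rw [h1, h3, card_stab_a hK]
  ring

end Cfsg.Agent.H10
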