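import Cfsg.Agent.Lib.H10.ReeK1

/-!
# The small Ree group: counting fixed-point-free elements
-/

set_option autoImplicit false
set_option linter.style.longLine false
set_option linter.unusedSimpArgs false
set_option linter.unusedSectionVars false
set_option linter.style.haveILetI false
set_option maxRecDepth 100000

open Cfsg Cfsg.Lie Cfsg.Agent.H04.Chev Matrix
open scoped MatrixGroups commutatorElement Pointwise

namespace Cfsg.Agent.H10

section Burnside

variable {G Ω : Type*} [Group G] [Fintype G] [MulAction G Ω] [Fintype Ω]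

/-- The number of fixed points. -/
noncomputable def rfixN (Ω : Type*) [MulAction G Ω] (x : G) : ℕ :=
  Nat.card (MulAction.fixedBy Ω x)

lemma sum_rfixN (hT : MulAction.IsPretransitive G Ω) [Nonempty Ω] :
    ∑ x : G, rfixN Ω x = Fintype.card G := by
  classical
  have h := MulAction.sum_card_fixedBy_eq_card_orbits_mul_card_group G Ω
  have h1 : Fintype.card (Quotient (MulAction.orbitRel G Ω)) = 1 := by
    obtain ⟨a⟩ := ‹Nonempty Ω›
    refine Fintype.card_eq_one_iff.2 ⟨Quotient.mk _ a, ?_⟩
    rintro ⟨b⟩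
    apply Quotient.sound
    obtain ⟨g, hg⟩ := hT.exists_smul_eq a b
    exact ⟨g, hg⟩
  rw [h1, one_mul] at h
  simp only [rfixN, Nat.card_eq_fintype_card]
  convert h

lemma card_rfixedBy_embedding [DecidableEq Ω] (x : G) :
    Nat.card (MulAction.fixedBy (Fin 2 ↪ Ω) x) = rfixN Ω x * (rfixN Ω x - 1) := by
  classical
  let e : MulAction.fixedBy (Fin 2 ↪ Ω) x ≃ (Fin 2 ↪ MulAction.fixedBy Ω x) :=
    { toFun := fun f => ⟨fun i => ⟨f.1 i, by
          have h : x • f.1 = f.1 := f.2
          have h2 := congrArg (fun g : Fin 2 ↪ Ω => g i) h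
          exact h2⟩, by
          intro i j hij
          exact f.1.injective (congrArg Subtype.val hij)⟩
      invFun := fun g => ⟨g.trans (Function.Embedding.subtype _), by
          show x • _ = _
          ext i
          exact (g i).2⟩
      left_inv := fun f => by
        apply Subtype.ext
        ext i
        rfl
      right_inv := fun g => by
        ext i
        rfl }
  rw [Nat.card_congr e, Nat.card_eq_fintype_card, Fintype.card_embedding_eq]
  simp only [Fintype.card_fin, rfixN, Nat.card_eq_fintype_card]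
  simp [Nat.descFactorial, mul_comm]

lemma sum_rfixN_two [DecidableEq Ω] (h2 : MulAction.IsMultiplyPretransitive G Ω 2) [Nonempty (Fin 2 ↪ Ω)] :
    ∑ x : G, rfixN Ω x * (rfixN Ω x - 1) = Fintype.card G := by
  classical
  have h := sum_rfixN (G := G) (Ω := Fin 2 ↪ Ω) h2
  rw [← h]
  apply Finset.sum_congr rfl
  intro x _
  rw [← card_rfixedBy_embedding]
  rfl

end Burnside

variable {K : Type*} [Field K] [CharP K 3] {m : ℕ} [Fintype K] (hK : Fintype.card K = 3 ^ (2 * m + 1))

include hK

/-- the number of involutions -/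
theorem card_involutions : Nat.card {x : RT K m // x * x = 1 ∧ x ≠ 1} = (3 ^ (2 * m + 1)) ^ 2 * reeDD m := by
  classical
  haveI := t_finite hK
  haveI : Fintype (RT K m) := Fintype.ofFinite _
  let O : Finset (RT K m) := Finset.univ.filter (fun x => x * x = 1 ∧ x ≠ 1)
  have hO : ∀ y, y ∈ O ↔ ∃ g ∈ (⊤ : Subgroup (RT K m)), g * tA hK * g⁻¹ = y := by
    intro y
    simp only [O, Finset.mem_filter, Finset.mem_univ, true_and, Subgroup.mem_top]
    constructor
    · rintro ⟨h1, h2⟩
      obtain ⟨c, hc⟩ := invol_conj_a hK h1 h2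
      refine ⟨c⁻¹, ?_⟩
      rw [← hc]
      group
    · rintro ⟨g, rfl⟩
      constructor
      · have : (g * tA hK * g⁻¹) * (g * tA hK * g⁻¹) = g * (tA hK * tA hK) * g⁻¹ := by group
        rw [this, tA_sq hK]
        group
      · intro h
        apply tA_ne_one hK
        have e : tA hK = g⁻¹ * (g * tA hK * g⁻¹) * g := by group
        rw [e, h]
        group
  have h1 := card_eq_orbit_mul (⊤ : Subgroup (RT K m)) (tA hK) O hO
  rw [top_inf_eq, card_centralizer_a hK, Subgroup.card_top, card_T' hK] at h1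
  have h2 : Nat.card {x : RT K m // x * x = 1 ∧ x ≠ 1} = O.card := by
    rw [Nat.card_eq_fintype_card, Fintype.card_subtype]
  rw [h2]
  have hpos : 0 < 3 ^ (2 * m + 1) * (2 * reeH m) * (4 * reeN m) := by
    have := reeH_pos m
    have := reeN_pos m
    positivity
  apply Nat.eq_of_mul_eq_mul_right hpos
  rw [← h1]
  ring

/-- fixed points of conjugates -/
lemma rfixN_conj (c x : RT K m) : rfixN (ROm K m) (c * x * c⁻¹) = rfixN (ROm K m) x := by
  symm
  apply Nat.card_congr
  refine ⟨fun p => ⟨c • p.1, ?_⟩, fun p => ⟨c⁻¹ • p.1, ?_⟩, ?_, ?_⟩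
  · have h : x • p.1 = p.1 := p.2
    show (c * x * c⁻¹) • (c • p.1) = c • p.1
    rw [← mul_smul, inv_mul_cancel_right, mul_smul, h]
  · have h : (c * x * c⁻¹) • p.1 = p.1 := p.2
    show x • (c⁻¹ • p.1) = c⁻¹ • p.1
    have h' : c⁻¹ • ((c * x * c⁻¹) • p.1) = c⁻¹ • p.1 := by rw [h]
    rw [← mul_smul] at h'
    have e : c⁻¹ * (c * x * c⁻¹) = x * c⁻¹ := by group
    rw [e, mul_smul] at h'
    exact h'
  · intro p
    apply Subtype.ext
    simp
  · intro p
    apply Subtype.ext
    simp

/-- the number of fixed points of `a` -/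
lemma rfixN_tA : rfixN (ROm K m) (tA hK) = 3 ^ (2 * m + 1) + 1 := by
  have hf : reeF K m (-1) ^ 3 = -1 := by
    have h1 : reeF K m (-1) = -1 := by
      rw [map_neg, map_one]
    rw [h1]
    ring
  have hact : ∀ t u v : K, tA hK • Pt m t u v = Pt m (-t) u (-v) := by
    intro t u v
    have := tH_smul_Pt hK (-1) t u v
    have e : tA hK = tH hK (-1) := rfl
    rw [e, this]
    simp only [Units.val_neg, Units.val_one]
    rw [hf]
    congr 1 <;> ring
  have h2 : (2 : K) ≠ 0 := ree_two_ne
  have hfix0 : tA hK • pt0 K m = pt0 K m := mem_tB_smul_pt0 hK (tH_mem_tB hK _)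
  have hfixU : ∀ u : K, tA hK • Pt m 0 u 0 = Pt m 0 u 0 := by
    intro u
    rw [hact]
    simp
  let φ : Option K → MulAction.fixedBy (ROm K m) (tA hK) := fun o =>
    match o with
    | none => ⟨pt0 K m, hfix0⟩
    | some u => ⟨Pt m 0 u 0, hfixU u⟩
  have hφ : Function.Bijective φ := by
    constructor
    · rintro (_ | a) (_ | b) h
      · rfl
      · exact absurd (congrArg Subtype.val h).symm (Pt_ne_pt0 hK _ _ _)
      · exact absurd (congrArg Subtype.val h) (Pt_ne_pt0 hK _ _ _)
      · have h1 : Pt m 0 a 0 = Pt m 0 b 0 := congrArg Subtype.val h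
        obtain ⟨-, h2', -⟩ := Pt_inj hK h1
        rw [h2']
    · rintro ⟨p, hp⟩
      rcases pt_cases hK p with rfl | ⟨t, u, v, rfl⟩
      · exact ⟨none, rfl⟩
      · change tA hK • Pt m t u v = Pt m t u v at hp
        rw [hact] at hp
        obtain ⟨e1, -, e3⟩ := Pt_inj hK hp
        have ht : t = 0 := by
          have : 2 * t = 0 := by linear_combination -e1
          exact (mul_eq_zero.1 this).resolve_left h2
        have hv : v = 0 := by
          have : 2 * v = 0 := by linear_combination -e3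
          exact (mul_eq_zero.1 this).resolve_left h2
        subst ht hv
        exact ⟨some u, rfl⟩
  unfold rfixN
  rw [← Nat.card_congr (Equiv.ofBijective φ hφ), Finite.card_option, Nat.card_eq_fintype_card, hK]

/-- elements which are not involutions fix at most two points -/
lemma rfixN_le_two {x : RT K m} (h1 : x ≠ 1) (h2 : x * x ≠ 1) : rfixN (ROm K m) x ≤ 2 := by
  classical
  haveI := t_finite hK
  haveI : Finite (ROm K m) := Quotient.finite _
  haveI : Fintype (ROm K m) := Fintype.ofFinite _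
  by_contra hcon
  push Not at hcon
  unfold rfixN at hcon
  rw [Nat.card_eq_fintype_card] at hcon
  obtain ⟨p₁, p₂, p₃, h12, h13, h23⟩ := Fintype.two_lt_card_iff.1 hcon
  have h12' : p₁.1 ≠ p₂.1 := fun h => h12 (Subtype.ext h)
  obtain ⟨c, hc1, hc2⟩ := two_trans hK h12'
  have hfix : ∀ p : MulAction.fixedBy (ROm K m) x, (c * x * c⁻¹) • (c • p.1) = c • p.1 := by
    intro p
    have h : x • p.1 = p.1 := p.2
    rw [← mul_smul, inv_mul_cancel_right, mul_smul, h]
  have e1 := hfix p₁
  have e2 := hfix p₂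
  have e3 := hfix p₃
  rw [hc1] at e1
  rw [hc2] at e2
  obtain ⟨β, hβ⟩ := stab_two hK e1 e2
  rw [hβ] at e3
  have hsq : (β : K) ^ 2 = 1 := by
    by_contra hne
    rcases fix_tH_generic hK hne _ e3 with h | h
    · apply h13
      apply Subtype.ext
      apply MulAction.injective c
      show c • p₁.1 = c • p₃.1
      rw [h, hc1]
    · apply h23
      apply Subtype.ext
      apply MulAction.injective c
      show c • p₂.1 = c • p₃.1
      rw [h, hc2]
  apply h2
  have hs : β * β = 1 := Units.ext (by simpa [sq] using hsq)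
  have h5 : (c * x * c⁻¹) * (c * x * c⁻¹) = 1 := by
    rw [hβ, ← tH_mul hK, hs, tH_one hK]
  have e : (c * x * c⁻¹) * (c * x * c⁻¹) = c * (x * x) * c⁻¹ := by group
  rw [e] at h5
  have e' : x * x = c⁻¹ * (c * (x * x) * c⁻¹) * c := by group
  rw [e', h5]
  group

omit hK in
/-- fixed-point-free elements -/
def IsFpfR (x : RT K m) : Prop := ∀ p : ROm K m, x • p ≠ p

omit [CharP K 3] hK in
lemma rfixN_eq_zero_iff [Finite (ROm K m)] (x : RT K m) : rfixN (ROm K m) x = 0 ↔ IsFpfR x := by
  unfold rfixN
  haveI : Finite (MulAction.fixedBy (ROm K m) x) := inferInstance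
  rw [Nat.card_eq_zero]
  constructor
  · rintro (h | h) p hp
    · exact h.false ⟨p, hp⟩
    · exact absurd (inferInstance : Finite (MulAction.fixedBy (ROm K m) x)) (not_finite_iff_infinite.2 h)
  · intro h
    left
    exact ⟨fun p => h p.1 p.2⟩

/-- the number of points -/
lemma card_ROm : Nat.card (ROm K m) = (3 ^ (2 * m + 1)) ^ 3 + 1 := by
  let φ : Option (K × K × K) → ROm K m := fun o =>
    match o with
    | none => pt0 K m
    | some t => Pt m t.1 t.2.1 t.2.2
  have hφ : Function.Bijective φ := by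
    constructor
    · rintro (_ | ⟨a, b, c⟩) (_ | ⟨a', b', c'⟩) h
      · rfl
      · exact absurd h.symm (Pt_ne_pt0 hK _ _ _)
      · exact absurd h (Pt_ne_pt0 hK _ _ _)
      · obtain ⟨e1, e2, e3⟩ := Pt_inj hK h
        subst e1 e2 e3
        rfl
    · intro p
      rcases pt_cases hK p with rfl | ⟨t, u, v, rfl⟩
      · exact ⟨none, rfl⟩
      · exact ⟨some (t, u, v), rfl⟩
  rw [← Nat.card_congr (Equiv.ofBijective φ hφ), Finite.card_option, Nat.card_prod, Nat.card_prod, Nat.card_eq_fintype_card, hK]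
  ring

/-- The count of fixed-point-free elements. -/
theorem count_fpfR : 2 * Nat.card {x : RT K m // IsFpfR x} + 2 + ((3 ^ (2 * m + 1)) ^ 3 + 1) * (3 ^ (2 * m + 1)) ^ 3 +
    ((3 ^ (2 * m + 1)) ^ 2 * reeDD m) * (3 ^ (2 * m + 1) * (3 ^ (2 * m + 1) - 1)) =
      Nat.card (RT K m) + 2 * ((3 ^ (2 * m + 1)) ^ 3 + 1) := by
  classical
  haveI := t_finite hK
  haveI : Fintype (RT K m) := Fintype.ofFinite _
  haveI hfin : Finite (ROm K m) := Quotient.finite _
  haveI : Fintype (ROm K m) := Fintype.ofFinite _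
  have hcardΩ : Fintype.card (ROm K m) = (3 ^ (2 * m + 1)) ^ 3 + 1 := by
    rw [← Nat.card_eq_fintype_card, card_ROm hK]
  have hq3 : 1 ≤ 3 ^ (2 * m + 1) := Nat.one_le_pow _ _ (by norm_num)
  have hqq : 1 ≤ (3 ^ (2 * m + 1)) ^ 3 := Nat.one_le_pow _ _ (by omega)
  haveI hne : Nonempty (ROm K m) := ⟨pt0 K m⟩
  haveI hne2 : Nonempty (Fin 2 ↪ ROm K m) := by
    apply Function.Embedding.nonempty_of_card_le
    rw [hcardΩ, Fintype.card_fin]
    omega
  have hT : MulAction.IsPretransitive (RT K m) (ROm K m) := by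
    refine ⟨fun a b => ?_⟩
    obtain ⟨x, rfl⟩ := QuotientGroup.mk_surjective a
    obtain ⟨y, rfl⟩ := QuotientGroup.mk_surjective b
    refine ⟨y * x⁻¹, ?_⟩
    rw [← smul_pt0, ← smul_pt0, ← mul_smul, inv_mul_cancel_right]
  have hT2 : MulAction.IsMultiplyPretransitive (RT K m) (ROm K m) 2 := by
    rw [MulAction.is_two_pretransitive_iff]
    intro a b c d hab hcd
    obtain ⟨g₁, h1, h2⟩ := two_trans hK hab
    obtain ⟨g₂, h3, h4⟩ := two_trans hK hcd
    refine ⟨g₂⁻¹ * g₁, ?_, ?_⟩
    · rw [mul_smul, h1, ← h3, inv_smul_smul]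
    · rw [mul_smul, h2, ← h4, inv_smul_smul]
  have h1 := sum_rfixN (G := RT K m) (Ω := ROm K m) hT
  have h2 := sum_rfixN_two (G := RT K m) (Ω := ROm K m) hT2
  have hcΩ := card_ROm (m := m) hK
  set q := 3 ^ (2 * m + 1) with hq
  set N := q ^ 3 + 1 with hN
  set f : RT K m → ℕ := fun x => rfixN (ROm K m) x with hf
  have hf1 : f 1 = N := by
    show Nat.card (MulAction.fixedBy (ROm K m) (1 : RT K m)) = N
    rw [← hcΩ]
    apply Nat.card_congr
    exact Equiv.subtypeUnivEquiv (fun a => one_smul _ a)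
  have hfinv : ∀ x : RT K m, x * x = 1 → x ≠ 1 → f x = q + 1 := by
    intro x h3 h4
    obtain ⟨c, hc⟩ := invol_conj_a hK h3 h4
    show rfixN (ROm K m) x = q + 1
    rw [← rfixN_conj hK c x, hc, rfixN_tA hK]
  -- the pointwise identity
  have hpt : ∀ x : RT K m, 2 * (if IsFpfR x then 1 else 0) + 2 * f x + (if x * x = 1 ∧ x ≠ 1 then q * (q - 1) else 0) + (if x = 1 then N * (N - 1) + 2 else 0) =
      2 + f x * (f x - 1) + (if x = 1 then 2 * N else 0) := by
    intro x
    have h0 := rfixN_eq_zero_iff (K := K) (m := m) x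
    by_cases h3 : x = 1
    · subst h3
      have hN0 : ¬ IsFpfR (1 : RT K m) := fun h => h (pt0 K m) (one_smul _ _)
      simp only [if_neg hN0, hf1, if_true, and_false, if_false, ne_eq, not_true_eq_false]
      ring
    · by_cases h4 : x * x = 1
      · have h5 := hfinv x h4 h3
        have hN0 : ¬ IsFpfR x := by
          intro h
          have := h0.2 h
          change f x = 0 at this
          omega
        simp only [if_neg hN0, h3, h4, h5, if_false, if_true, ne_eq, not_false_eq_true, and_self]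
        obtain ⟨t, ht⟩ : ∃ t, q = t + 1 := ⟨q - 1, by omega⟩
        rw [ht]
        simp only [Nat.add_sub_cancel]
        ring
      · have h5 := rfixN_le_two hK h3 h4
        change f x ≤ 2 at h5
        simp only [h3, h4, if_false, false_and, add_zero]
        by_cases h6 : IsFpfR x
        · have h7 := h0.2 h6
          change f x = 0 at h7
          rw [if_pos h6, h7]
        · rw [if_neg h6]
          have h7 : f x ≠ 0 := fun h => h6 (h0.1 h)
          interval_cases (f x) <;> first | rfl | exact absurd rfl h7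
  have hsum := Finset.sum_congr (rfl : (Finset.univ : Finset (RT K m)) = Finset.univ) (fun x _ => hpt x)
  simp only [Finset.sum_add_distrib, ← Finset.mul_sum, Finset.sum_const, Finset.card_univ, smul_eq_mul, Finset.sum_ite_eq', Finset.mem_univ, if_true] at hsum
  have h5 : ∑ x : RT K m, (if IsFpfR x then 1 else 0) = Nat.card {x : RT K m // IsFpfR x} := by
    rw [Nat.card_eq_fintype_card, Fintype.card_subtype, Finset.card_filter]
  have h6 : ∑ x : RT K m, (if x * x = 1 ∧ x ≠ 1 then q * (q - 1) else 0) = (q ^ 2 * reeDD m) * (q * (q - 1)) := by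
    rw [← card_involutions hK, Nat.card_eq_fintype_card, Fintype.card_subtype, ← Finset.sum_filter, Finset.sum_const, smul_eq_mul]
  rw [h5, h6] at hsum
  have h7 : Fintype.card (RT K m) = Nat.card (RT K m) := Nat.card_eq_fintype_card.symm
  rw [h7] at hsum h1 h2
  change ∑ x, f x = _ at h1
  change ∑ x, f x * (f x - 1) = _ at h2
  rw [h1, h2] at hsum
  have hNN : N - 1 = q ^ 3 := by
    rw [hN]
    simp
  rw [hNN] at hsum
  linarith [hsum]

end Cfsg.Agent.H10
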