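import Cfsg.Agent.Lib.H10.ReeK2

/-!
# The small Ree group: classification of the fixed-point-free elements
-/

set_option autoImplicit false
set_option linter.style.longLine false
set_option linter.unusedSimpArgs false
set_option linter.unusedSectionVars false
set_option linter.style.haveILetI false
set_option maxRecDepth 100000

open Cfsg Cfsg.Lie Cfsg.Agent.H04.Chev Matrix
open scoped MatrixGroups commutatorElement Pointwise

namespace Cfsg.Agent.H10

variable {K : Type*} [Field K] [CharP K 3] {m : ℕ} [Fintype K] (hK : Fintype.card K = 3 ^ (2 * m + 1))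

/-- elements with order dividing `D` -/
def DT (x : RT K m) : Prop := x ≠ 1 ∧ orderOf x ∣ reeDD m

/-- elements of the conjugates of `K₀` which are not involutions -/
def KT (x : RT K m) : Prop := x * x ≠ 1 ∧ ∃ c, c * x * c⁻¹ ∈ tK0 hK

include hK

lemma exists_conj_tB_of_fix {x : RT K m} {p : ROm K m} (h : x • p = p) : ∃ c, c * x * c⁻¹ ∈ tB K m := by
  obtain ⟨y, rfl⟩ := QuotientGroup.mk_surjective p
  rw [← smul_pt0] at h
  refine ⟨y⁻¹, ?_⟩
  rw [← stabilizer_pt0]
  show (y⁻¹ * x * y⁻¹⁻¹) • pt0 K m = pt0 K m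
  rw [inv_inv, mul_smul, mul_smul, h, inv_smul_smul]

lemma pow_eq_one_of_fix {x : RT K m} {p : ROm K m} (h : x • p = p) : x ^ (9 * (2 * reeH m)) = 1 := by
  obtain ⟨c, hc⟩ := exists_conj_tB_of_fix hK h
  have h1 := tB_pow_eq_one hK hc
  rw [conj_pow] at h1
  have e : x ^ (9 * (2 * reeH m)) = c⁻¹ * (c * x ^ (9 * (2 * reeH m)) * c⁻¹) * c := by group
  rw [e, h1]
  group

omit hK in
lemma reeD_cop_18h (m : ℕ) : Nat.Coprime (reeDD m) (9 * (2 * reeH m)) := by
  apply Nat.Coprime.mul_right _ (reeD_cop_2h m)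
  have h9 : Nat.Coprime (reeDD m) (3 ^ 2) := Nat.Coprime.pow_right 2 ((Nat.Prime.coprime_iff_not_dvd Nat.prime_three).2 (reeD_not_three m)).symm
  simpa using h9

omit hK in
lemma reeN_cop_18h (m : ℕ) : Nat.Coprime (reeN m) (9 * (2 * reeH m)) := by
  apply Nat.Coprime.mul_right _ (reeN_cop_2h m)
  have h3 : Nat.Coprime (reeN m) 3 := Nat.Coprime.coprime_dvd_right (ree_three_dvd m) (reeN_cop_q m)
  have h9 : Nat.Coprime (reeN m) (3 ^ 2) := Nat.Coprime.pow_right 2 h3
  simpa using h9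

lemma DT.fpf {x : RT K m} (h : DT x) : IsFpfR x := by
  intro p hp
  have h1 := pow_eq_one_of_fix hK hp
  have h2 := orderOf_dvd_of_pow_eq_one h1
  have h3 : Nat.Coprime (orderOf x) (9 * (2 * reeH m)) := Nat.Coprime.coprime_dvd_left h.2 (reeD_cop_18h m)
  have h4 : orderOf x = 1 := h3.eq_one_of_dvd h2
  exact h.1 (orderOf_eq_one_iff.mp h4)

/-- the square of an element of a conjugate of `K₀` has order dividing `n` -/
lemma sq_orderOf_dvd_n {x c : RT K m} (hx : c * x * c⁻¹ ∈ tK0 hK) : orderOf (x * x) ∣ reeN m := by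
  have h1 := sq_mem_tD0' hK hx
  have h2 := tD0_pow hK h1
  have e : ((c * x * c⁻¹) ^ 2) ^ reeN m = c * ((x * x) ^ reeN m) * c⁻¹ := by
    rw [sq]
    have : (c * x * c⁻¹) * (c * x * c⁻¹) = c * (x * x) * c⁻¹ := by group
    rw [this, conj_pow]
  rw [e] at h2
  apply orderOf_dvd_of_pow_eq_one
  have e2 : (x * x) ^ reeN m = c⁻¹ * (c * (x * x) ^ reeN m * c⁻¹) * c := by group
  rw [e2, h2]
  group

lemma KT.fpf {x : RT K m} (h : KT hK x) : IsFpfR x := by
  intro p hp
  obtain ⟨h0, c, hc⟩ := h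
  have h1 := pow_eq_one_of_fix hK hp
  have h2 : orderOf (x * x) ∣ 9 * (2 * reeH m) := by
    apply orderOf_dvd_of_pow_eq_one
    rw [← sq, ← pow_mul, mul_comm, pow_mul, h1, one_pow]
  have h3 := sq_orderOf_dvd_n hK hc
  have h4 : Nat.Coprime (orderOf (x * x)) (9 * (2 * reeH m)) := Nat.Coprime.coprime_dvd_left h3 (reeN_cop_18h m)
  have h5 : orderOf (x * x) = 1 := h4.eq_one_of_dvd h2
  exact h0 (orderOf_eq_one_iff.mp h5)

lemma not_DT_KT {x : RT K m} (h1 : DT x) (h2 : KT hK x) : False := by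
  obtain ⟨h0, c, hc⟩ := h2
  have h3 := sq_orderOf_dvd_n hK hc
  have h4 : orderOf (x * x) ∣ reeDD m := by
    apply dvd_trans _ h1.2
    rw [← sq]
    exact orderOf_pow_dvd _
  have h5 : Nat.Coprime (reeN m) (reeDD m) := Nat.Coprime.coprime_dvd_left (Dvd.intro_left 4 rfl) (reeD_cop_4n m).symm
  have h6 : orderOf (x * x) = 1 := Nat.eq_one_of_dvd_coprimes h5 h3 h4
  exact h0 (orderOf_eq_one_iff.mp h6)

/-- involutions have fixed points -/
lemma invol_not_fpf {x : RT K m} (h1 : x * x = 1) (h2 : x ≠ 1) : ¬ IsFpfR x := by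
  obtain ⟨c, hc⟩ := invol_conj_a hK h1 h2
  intro h
  apply h (c⁻¹ • pt0 K m)
  have e : x = c⁻¹ * tA hK * c := by
    rw [← hc]
    group
  have h5 : tA hK • pt0 K m = pt0 K m := mem_tB_smul_pt0 hK (tH_mem_tB hK _)
  rw [e, mul_smul, mul_smul, smul_inv_smul, h5]

/-- the classification of fixed-point-free elements -/
theorem fpf_iff (x : RT K m) : IsFpfR x ↔ DT x ∨ KT hK x := by
  haveI := t_finite hK
  constructor
  · intro hfpf
    have h1 : x ≠ 1 := by
      rintro rfl
      exact hfpf (pt0 K m) (one_smul _ _)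
    have h2 : x * x ≠ 1 := fun h => invol_not_fpf hK h h1 hfpf
    have hpos : orderOf x ≠ 0 := (orderOf_pos x).ne'
    -- an odd prime divides the order
    obtain ⟨p, hp, hpo, hp2⟩ : ∃ p, p.Prime ∧ p ∣ orderOf x ∧ p ≠ 2 := by
      by_contra hcon
      push Not at hcon
      have h3 := Nat.eq_prime_pow_of_unique_prime_dvd hpos (fun {d} hd hd2 => hcon d hd hd2)
      have h4 := pow_orderOf_eq_one x
      rw [h3] at h4
      exact h2 (sq_of_two_elt hK h4)
    have hz := orderOf_pow_orderOf_div hpos hpo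
    set z := x ^ (orderOf x / p) with hzdef
    have hcomm : x * z = z * x := (Commute.pow_right (Commute.refl x) _)
    have hconj : ∀ c : RT K m, (c * x * c⁻¹) * (c * z * c⁻¹) = (c * z * c⁻¹) * (c * x * c⁻¹) := by
      intro c
      have e1 : (c * x * c⁻¹) * (c * z * c⁻¹) = c * (x * z) * c⁻¹ := by group
      have e2 : (c * z * c⁻¹) * (c * x * c⁻¹) = c * (z * x) * c⁻¹ := by group
      rw [e1, e2, hcomm]
    have hnotB : ∀ c : RT K m, c * x * c⁻¹ ∉ tB K m := by
      intro c hc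
      apply hfpf (c⁻¹ • pt0 K m)
      have h5 := mem_tB_smul_pt0 hK hc
      rw [mul_smul, mul_smul] at h5
      rw [← eq_inv_smul_iff] at h5
      exact h5
    rcases ree_element_prime_cases hK hp hz with rfl | rfl | h | h | h
    · exfalso
      obtain ⟨c, a, b, d, e, hne⟩ := prime_conj_three hK hz
      have h3 := hconj c
      rw [e] at h3
      exact hnotB c (comm_tU_mem_tB hK hne h3)
    · exact absurd rfl hp2
    · exfalso
      obtain ⟨c, β, e, hβ⟩ := prime_conj_h hK hp h hz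
      have h3 := hconj c
      rw [e] at h3
      obtain ⟨γ, hγ⟩ := comm_tH_mem hK hβ h3
      apply hnotB c
      rw [hγ]
      exact tH_mem_tB hK γ
    · right
      obtain ⟨c, e, hne⟩ := prime_conj_n hK hp h hz
      refine ⟨h2, c, (tD0_centralizer hK e hne _).1 (hconj c)⟩
    · left
      exact ⟨h1, orderOf_dvd_D_of_comm hK hp h hz hcomm⟩
  · rintro (h | h)
    · exact DT.fpf hK h
    · exact KT.fpf hK h

/-- conjugate-invariant subsets of the conjugates of `K₀` -/
theorem count_conj_K0 (hm : 1 ≤ m) (C : Finset (RT K m)) (hC : ∀ g : RT K m, ∀ y ∈ C, g * y * g⁻¹ ∈ C)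
    (hsub : ∀ y ∈ C, y * y ≠ 1 ∧ ∃ c, c * y * c⁻¹ ∈ tK0 hK) [DecidablePred (· ∈ tK0 hK)] :
    C.card * (6 * (3 ^ (2 * m + 1) + 1)) = Nat.card (RT K m) * (C.filter (· ∈ tK0 hK)).card := by
  classical
  haveI := t_finite hK
  obtain ⟨𝓞, h𝓞⟩ := exists_conj_orbit (tK0 hK)
  have h1 := card_conj_orbit (tK0 hK) 𝓞 h𝓞
  rw [card_normalizer_K0 hK hm] at h1
  letI := conjActSub (RT K m)
  have h2 := double_count 𝓞 (tK0 hK) (fun K' => by
      rw [h𝓞]
      constructor
      · rintro ⟨g, rfl⟩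
        exact ⟨g, rfl⟩
      · rintro ⟨g, rfl⟩
        exact ⟨g, rfl⟩) C hC (fun (y : RT K m) (K' : Subgroup (RT K m)) => y ∈ K')
    (fun g y K' hy => (show g * y * g⁻¹ ∈ K'.map (MulAut.conj g).toMonoidHom from ⟨y, hy, rfl⟩)) 1 (by
      intro y hy
      obtain ⟨h3, c, hc⟩ := hsub y hy
      rw [Finset.card_eq_one]
      refine ⟨Subgroup.centralizer ({y * y} : Set (RT K m)), ?_⟩
      ext K'
      simp only [Finset.mem_filter, Finset.mem_singleton]
      have hkey : ∀ g : RT K m, y ∈ (tK0 hK).map (MulAut.conj g).toMonoidHom → Subgroup.centralizer ({y * y} : Set (RT K m)) = (tK0 hK).map (MulAut.conj g).toMonoidHom := by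
        intro g hg
        rw [mem_map_conj_iff] at hg
        have h4 := sq_mem_tD0' hK hg
        have e : y * y = g * ((g⁻¹ * y * g) ^ 2) * g⁻¹ := by
          rw [sq]
          group
        have h5 : (g⁻¹ * y * g) ^ 2 ≠ 1 := by
          intro h6
          apply h3
          rw [e, h6]
          group
        rw [e, centralizer_conj]
        congr 1
        ext t
        rw [Subgroup.mem_centralizer_singleton_iff]
        exact tD0_centralizer hK h4 h5 t
      constructor
      · rintro ⟨h4, h5⟩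
        obtain ⟨g, rfl⟩ := (h𝓞 K').1 h4
        exact (hkey g h5).symm
      · rintro rfl
        have h6 : y ∈ (tK0 hK).map (MulAut.conj c⁻¹).toMonoidHom := by
          rw [mem_map_conj_iff, inv_inv]
          simpa [mul_assoc] using hc
        rw [hkey c⁻¹ h6]
        exact ⟨(h𝓞 _).2 ⟨c⁻¹, rfl⟩, h6⟩)
  rw [mul_one] at h2
  rw [h2, ← h1, mul_right_comm]
  congr!

/-- the elements `1, a, w, a w` of `K₀` -/
lemma card_KT_filter : ∀ [DecidablePred (KT hK)] [DecidablePred (· ∈ tK0 hK)] [Fintype (RT K m)],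
    ((Finset.univ.filter (KT hK)).filter (· ∈ tK0 hK)).card + 4 = 3 ^ (2 * m + 1) + 1 := by
  intro _ _ _
  classical
  let V : Finset (RT K m) := {1, tA hK, tW K m, tA hK * tW K m}
  have hV : V.card = 4 := by
    rw [Finset.card_eq_succ]
    refine ⟨1, {tA hK, tW K m, tA hK * tW K m}, ?_, rfl, ?_⟩
    · simp only [Finset.mem_insert, Finset.mem_singleton, not_or]
      exact ⟨(tA_ne_one hK).symm, (tW_ne_one hK).symm, (mul_tW_ne_one hK).symm⟩
    · apply Finset.card_eq_three.2
      exact ⟨_, _, _, (tW_ne_tA hK).symm, (mul_tW_ne_tA hK).symm, (mul_tW_ne_tW hK).symm, rfl⟩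
  let KK : Finset (RT K m) := Finset.univ.filter (· ∈ tK0 hK)
  have hKK : KK.card = 3 ^ (2 * m + 1) + 1 := by
    rw [← card_tK0 hK, Nat.card_eq_fintype_card, Fintype.card_subtype]
  have hsq : ∀ x ∈ V, x * x = 1 := by
    intro x hx
    simp only [V, Finset.mem_insert, Finset.mem_singleton] at hx
    rcases hx with rfl | rfl | rfl | rfl
    · simp
    · exact tA_sq hK
    · exact tW_sq
    · have h1 := tK0_comm hK (tA_mem_tK0 hK) (tW_mem_tK0 hK)
      calc tA hK * tW K m * (tA hK * tW K m) = tA hK * (tW K m * tA hK) * tW K m := by group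
        _ = (tA hK * tA hK) * (tW K m * tW K m) := by rw [← h1]; group
        _ = 1 := by rw [tA_sq hK, tW_sq, one_mul]
  have hVK : V ⊆ KK := by
    intro x hx
    refine Finset.mem_filter.2 ⟨Finset.mem_univ _, ?_⟩
    simp only [V, Finset.mem_insert, Finset.mem_singleton] at hx
    rcases hx with rfl | rfl | rfl | rfl
    · exact one_mem _
    · exact tA_mem_tK0 hK
    · exact tW_mem_tK0 hK
    · exact mul_mem (tA_mem_tK0 hK) (tW_mem_tK0 hK)
  have hsplit : (Finset.univ.filter (KT hK)).filter (· ∈ tK0 hK) = KK \ V := by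
    ext x
    simp only [Finset.mem_filter, Finset.mem_univ, true_and, Finset.mem_sdiff, KK]
    constructor
    · rintro ⟨⟨h1, -⟩, h3⟩
      exact ⟨h3, fun h => h1 (hsq x h)⟩
    · rintro ⟨h1, h2⟩
      refine ⟨⟨?_, 1, by simpa using h1⟩, h1⟩
      intro h3
      apply h2
      simp only [V, Finset.mem_insert, Finset.mem_singleton]
      exact tK0_invol hK h1 h3
  rw [hsplit, Finset.card_sdiff_of_subset hVK, hKK, hV]
  have : 4 ≤ 3 ^ (2 * m + 1) + 1 := by
    rw [← hKK, ← hV]
    exact Finset.card_le_card hVK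
  omega

/-- The number of elements with order dividing `D`. -/
theorem count_DT (hm : 1 ≤ m) : 3 * Nat.card {x : RT K m // DT x} =
    (3 ^ (2 * m + 1)) ^ 4 * (3 ^ (2 * m + 1) - 1) * (3 ^ (2 * m + 1) + 1) * (3 ^ (2 * m + 1) - 2) := by
  classical
  haveI := t_finite hK
  haveI : Fintype (RT K m) := Fintype.ofFinite _
  have hq := ree_q_ge hm
  have h1 := count_fpfR hK
  have h2 := count_conj_K0 hK hm (Finset.univ.filter (KT hK)) (by
    intro g y hy
    obtain ⟨-, h3, c, hc⟩ := Finset.mem_filter.1 hy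
    refine Finset.mem_filter.2 ⟨Finset.mem_univ _, ?_, c * g⁻¹, ?_⟩
    · intro h
      apply h3
      have e : (g * y * g⁻¹) * (g * y * g⁻¹) = g * (y * y) * g⁻¹ := by group
      rw [e] at h
      have e2 : y * y = g⁻¹ * (g * (y * y) * g⁻¹) * g := by group
      rw [e2, h]
      group
    · have e : c * g⁻¹ * (g * y * g⁻¹) * (c * g⁻¹)⁻¹ = c * y * c⁻¹ := by group
      rw [e]
      exact hc) (fun y hy => (Finset.mem_filter.1 hy).2)
  have h3 := card_KT_filter hK
  have h4 : Nat.card {x : RT K m // IsFpfR x} = Nat.card {x : RT K m // DT x} + Nat.card {x : RT K m // KT hK x} := by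
    rw [Nat.card_eq_fintype_card, Nat.card_eq_fintype_card, Nat.card_eq_fintype_card]
    rw [Fintype.card_subtype, Fintype.card_subtype, Fintype.card_subtype]
    rw [← Finset.card_union_of_disjoint]
    · congr 1
      ext x
      simp only [Finset.mem_filter, Finset.mem_univ, true_and, Finset.mem_union]
      exact fpf_iff hK x
    · rw [Finset.disjoint_left]
      intro x hx hx2
      exact not_DT_KT hK (Finset.mem_filter.1 hx).2 (Finset.mem_filter.1 hx2).2
  have h5 : Nat.card {x : RT K m // KT hK x} = (Finset.univ.filter (KT hK)).card := by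
    rw [Nat.card_eq_fintype_card, Fintype.card_subtype]
  rw [← h5] at h2
  have h6 := card_T hK
  rw [hK] at h6
  set n₀ := Nat.card {x : RT K m // IsFpfR x}
  set T := Nat.card {x : RT K m // DT x}
  set P := Nat.card {x : RT K m // KT hK x}
  set f := ((Finset.univ.filter (KT hK)).filter (· ∈ tK0 hK)).card
  have hD := reeD_spec m
  set q := 3 ^ (2 * m + 1) with hqq
  set D := reeDD m
  obtain ⟨t, ht⟩ : ∃ t, q = t + 3 := ⟨q - 3, by omega⟩
  have hf : f = t := by omega
  rw [h6] at h1 h2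
  rw [ht] at hD h1 h2 ⊢
  simp only [show t + 3 - 1 = t + 2 by omega, show t + 3 - 2 = t + 1 by omega] at h1 h2 ⊢
  rw [hf] at h2
  have hDz : (D : ℚ) = (t + 3) ^ 2 - (t + 3) + 1 := by
    have : ((D + (t + 3) : ℕ) : ℚ) = (((t + 3) ^ 2 + 1 : ℕ) : ℚ) := by rw [hD]
    push_cast at this
    linarith
  have h1' : (2 : ℚ) * n₀ + 2 + (((t : ℚ) + 3) ^ 3 + 1) * (t + 3) ^ 3 + ((t + 3) ^ 2 * D) * ((t + 3) * (t + 2)) = (t + 3) ^ 3 * (t + 2) * ((t + 3) ^ 3 + 1) + 2 * ((t + 3) ^ 3 + 1) := by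
    exact_mod_cast h1
  have h2' : (P : ℚ) * (6 * ((t : ℚ) + 3 + 1)) = (t + 3) ^ 3 * (t + 2) * ((t + 3) ^ 3 + 1) * t := by
    exact_mod_cast h2
  have h4' : (n₀ : ℚ) = T + P := by exact_mod_cast h4
  rw [hDz] at h1'
  have hne : (t : ℚ) + 3 + 1 ≠ 0 := by positivity
  have h2'' : (P : ℚ) * 6 = (t + 3) ^ 3 * (t + 2) * ((t + 3) ^ 2 - (t + 3) + 1) * t := by
    apply mul_right_cancel₀ hne
    rw [mul_assoc, h2']
    ring
  have hfinal : (3 : ℚ) * T = (t + 3) ^ 4 * (t + 2) * (t + 3 + 1) * (t + 1) := by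
    linear_combination (-3 : ℚ) * h4' + (3 / 2 : ℚ) * h1' - (1 / 2 : ℚ) * h2''
  exact_mod_cast hfinal

end Cfsg.Agent.H10
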