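import Cfsg.Agent.Lib.H10.ReeSyl

/-!
# The small Ree group: the subgroup `PSL₂(q)` in the centralizer of an involution
-/

set_option autoImplicit false
set_option linter.style.longLine false
set_option linter.unusedSimpArgs false
set_option linter.unusedSectionVars false
set_option maxRecDepth 100000

open Cfsg Cfsg.Lie Cfsg.Agent.H04.Chev
open scoped MatrixGroups commutatorElement Pointwise

namespace Cfsg.Agent.H10

variable {K : Type*} [Field K]

/-- the seven-dimensional representation of `SL₂ × SL₂` -/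
def m7L (a b c d A B C D : K) : Matrix (Fin 7) (Fin 7) K :=
  !![a*D, 0, -a*C, 0, b*C, 0, b*D;
    0, A^2, 0, A*B, 0, -B^2, 0;
    -a*B, 0, a*A, 0, -b*A, 0, -b*B;
    0, 2*A*C, 0, A*D + B*C, 0, -2*B*D, 0;
    c*B, 0, -c*A, 0, d*A, 0, d*B;
    0, -C^2, 0, -C*D, 0, D^2, 0;
    c*D, 0, -c*C, 0, d*C, 0, d*D]

set_option maxHeartbeats 4000000 in
lemma m7L_mul (a b c d A B C D a' b' c' d' A' B' C' D' : K) :
    m7L a b c d A B C D * m7L a' b' c' d' A' B' C' D' =
      m7L (a * a' + b * c') (a * b' + b * d') (c * a' + d * c') (c * b' + d * d')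
        (A * A' + B * C') (A * B' + B * D') (C * A' + D * C') (C * B' + D * D') := by
  ext i j
  fin_cases i <;> fin_cases j <;> simp [m7L, Matrix.mul_apply, Fin.sum_univ_succ] <;> ring

lemma m7L_one : m7L (1 : K) 0 0 1 1 0 0 1 = 1 := by
  ext i j
  fin_cases i <;> fin_cases j <;> simp [m7L]

/-- the representation of `SL₂` attached to a ring endomorphism -/
def mL (f : K →+* K) : SL(2, K) →* Matrix (Fin 7) (Fin 7) K where
  toFun g := m7L (g 0 0) (g 0 1) (g 1 0) (g 1 1) (f (g 0 0)) (f (g 0 1)) (f (g 1 0)) (f (g 1 1))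
  map_one' := by
    simp only [Matrix.SpecialLinearGroup.coe_one, Matrix.one_apply_eq, Matrix.one_apply_ne (zero_ne_one' (Fin 2)), Matrix.one_apply_ne (one_ne_zero' (Fin 2)), map_one, map_zero, ne_eq, not_false_eq_true]
    exact m7L_one
  map_mul' g h := by
    rw [m7L_mul]
    simp only [Matrix.SpecialLinearGroup.coe_mul, Matrix.mul_apply, Fin.sum_univ_two, map_add, map_mul]

lemma mL_apply (f : K →+* K) (g : SL(2, K)) : mL f g = m7L (g 0 0) (g 0 1) (g 1 0) (g 1 1) (f (g 0 0)) (f (g 0 1)) (f (g 1 0)) (f (g 1 1)) := rfl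

/-- upper unipotent elements -/
def sU (u : K) : SL(2, K) := ⟨!![1, u; 0, 1], by simp [Matrix.det_fin_two]⟩
/-- lower unipotent elements -/
def sV (u : K) : SL(2, K) := ⟨!![1, 0; u, 1], by simp [Matrix.det_fin_two]⟩
/-- the Weyl element -/
def sW : SL(2, K) := ⟨!![0, 1; -1, 0], by simp [Matrix.det_fin_two]⟩
/-- the diagonal elements -/
def sD (s : Kˣ) : SL(2, K) := ⟨!![(s : K), 0; 0, (s : K)⁻¹], by simp [Matrix.det_fin_two]⟩

lemma sU_val (u : K) : ((sU u : SL(2, K)) : Matrix (Fin 2) (Fin 2) K) = !![1, u; 0, 1] := rfl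
lemma sV_val (u : K) : ((sV u : SL(2, K)) : Matrix (Fin 2) (Fin 2) K) = !![1, 0; u, 1] := rfl
lemma sW_val : ((sW : SL(2, K)) : Matrix (Fin 2) (Fin 2) K) = !![0, 1; -1, 0] := rfl
lemma sD_val (s : Kˣ) : ((sD s : SL(2, K)) : Matrix (Fin 2) (Fin 2) K) = !![(s : K), 0; 0, (s : K)⁻¹] := rfl

/-- every element of `SL₂` is a product of elementary matrices -/
lemma SL2_elem (g : SL(2, K)) : ∃ x y z w v : K, g = sV w * sU x * sV y * sU z * sU v := by
  have key : ∀ g : SL(2, K), g 1 0 ≠ 0 → ∃ x y z : K, g = sU x * sV y * sU z := by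
    intro g hc
    have hdet : g 0 0 * g 1 1 - g 0 1 * g 1 0 = 1 := by
      have := g.2
      rwa [Matrix.det_fin_two] at this
    refine ⟨(g 0 0 - 1) / g 1 0, g 1 0, (g 1 1 - 1) / g 1 0, ?_⟩
    apply Subtype.ext
    rw [Matrix.SpecialLinearGroup.coe_mul, Matrix.SpecialLinearGroup.coe_mul, sU_val, sU_val, sV_val]
    ext i j
    fin_cases i <;> fin_cases j <;> simp [Matrix.mul_apply, Fin.sum_univ_two] <;> field_simp <;> first | ring1 | linear_combination hdet | linear_combination -hdet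
  by_cases hc : g 1 0 = 0
  · have hdet : g 0 0 * g 1 1 - g 0 1 * g 1 0 = 1 := by
      have := g.2
      rwa [Matrix.det_fin_two] at this
    have ha : g 0 0 ≠ 0 := by
      intro h
      rw [h, hc] at hdet
      simp at hdet
    have h1 : ((sV 1 * g : SL(2, K)) : Matrix (Fin 2) (Fin 2) K) 1 0 ≠ 0 := by
      rw [Matrix.SpecialLinearGroup.coe_mul, sV_val]
      simp [Matrix.mul_apply, Fin.sum_univ_two, hc, ha]
    obtain ⟨x, y, z, e⟩ := key _ h1
    refine ⟨x, y, z, -1, 0, ?_⟩
    have e1 : sU (0 : K) = 1 := by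
      apply Subtype.ext
      rw [sU_val]
      ext i j
      fin_cases i <;> fin_cases j <;> simp
    have e2 : sV (-1 : K) * sV 1 = 1 := by
      apply Subtype.ext
      rw [Matrix.SpecialLinearGroup.coe_mul, sV_val, sV_val]
      ext i j
      fin_cases i <;> fin_cases j <;> simp [Matrix.mul_apply, Fin.sum_univ_two]
    calc g = sV (-1) * (sV 1 * g) := by rw [← mul_assoc, e2, one_mul]
      _ = _ := by rw [e, e1, mul_one]; group
  · obtain ⟨x, y, z, e⟩ := key g hc
    refine ⟨x, y, z, 0, 0, ?_⟩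
    have e1 : sU (0 : K) = 1 := by
      apply Subtype.ext
      rw [sU_val]
      ext i j
      fin_cases i <;> fin_cases j <;> simp
    have e2 : sV (0 : K) = 1 := by
      apply Subtype.ext
      rw [sV_val]
      ext i j
      fin_cases i <;> fin_cases j <;> simp
    rw [e1, e2, one_mul, mul_one]
    exact e

variable [CharP K 3] {m : ℕ} [Fintype K] (hK : Fintype.card K = 3 ^ (2 * m + 1))
include hK

lemma T_le_G2 : twistedG2 K (3 ^ m) ≤ G2 K := by
  rw [twisted_eq (reeF_pow m) (reeF_tits hK) (by rw [hK]; exact ree_card_mod)]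
  exact Subgroup.map_subtype_le _

/-- the seven-dimensional representation of the twisted group -/
noncomputable def r7 : RT K m →* GL (Fin 7) K := ree1.comp (Subgroup.inclusion (T_le_G2 hK))

lemma r7_inj : Function.Injective (r7 hK) := by
  intro x y h
  have h1 := ree1_inj h
  have h2 := congrArg Subtype.val h1
  exact Subtype.ext h2

lemma r7_ext {x y : RT K m} (h : ((r7 hK x : GL (Fin 7) K) : Matrix (Fin 7) (Fin 7) K) = (r7 hK y : GL (Fin 7) K)) : x = y :=
  r7_inj hK (Units.ext h)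

lemma r7_tU (t u v : K) : ((r7 hK (tU m t u v) : GL (Fin 7) K) : Matrix (Fin 7) (Fin 7) K) = m7U (reeF K m t) t (reeF K m u) u (reeF K m v) v :=
  ree1_rU _ _ _ _

lemma r7_tH (β : Kˣ) : ((r7 hK (tH hK β) : GL (Fin 7) K) : Matrix (Fin 7) (Fin 7) K) = m7T (reeF K m β) β (reeF K m β)⁻¹ (β : K)⁻¹ :=
  ree1_rH _ _

lemma r7_tW : ((r7 hK (tW K m) : GL (Fin 7) K) : Matrix (Fin 7) (Fin 7) K) = m7W :=
  ree1_rW

/-- the representation of `SL₂` with values in `GL₇` -/
noncomputable def iL (m : ℕ) : SL(2, K) →* GL (Fin 7) K := (mL (reeF K m)).toHomUnits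

lemma iL_val (g : SL(2, K)) : ((iL m g : GL (Fin 7) K) : Matrix (Fin 7) (Fin 7) K) = mL (reeF K m) g := rfl

lemma m7U_eq_L (u B : K) : m7U 0 0 B u 0 0 = m7L 1 u 0 1 1 B 0 1 := by
  have h3 : (3 : K) = 0 := ree_three
  ext i j
  fin_cases i <;> fin_cases j <;> simp [m7U, m7L] <;> first | ring1 | linear_combination (B) * h3 | linear_combination (-B) * h3

lemma m7W_eq_L : (m7W : Matrix (Fin 7) (Fin 7) K) = m7L 0 1 (-1) 0 0 1 (-1) 0 := by
  ext i j
  fin_cases i <;> fin_cases j <;> simp [m7W, m7L]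

lemma iL_sU (u : K) : iL m (sU u) = r7 hK (tU m 0 u 0) := by
  apply Units.ext
  rw [r7_tU hK, iL_val hK, mL_apply]
  simp only [map_zero]
  rw [m7U_eq_L hK]
  simp [sU_val]

lemma iL_sW : iL m (sW : SL(2, K)) = r7 hK (tW K m) := by
  apply Units.ext
  rw [r7_tW hK, iL_val hK, mL_apply, m7W_eq_L hK]
  simp [sW_val]

omit hK in
lemma sW_mul_sU (u : K) : sW * sU u = sV (-u) * sW := by
  apply Subtype.ext
  rw [Matrix.SpecialLinearGroup.coe_mul, Matrix.SpecialLinearGroup.coe_mul, sW_val, sU_val, sV_val]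
  ext i j
  fin_cases i <;> fin_cases j <;> simp [Matrix.mul_apply, Fin.sum_univ_two]

lemma iL_sV (u : K) : iL m (sV u) = r7 hK (tV m 0 (-u) 0) := by
  have e := sW_mul_sU (K := K) (-u)
  rw [neg_neg] at e
  have e1 : sV u = sW * sU (-u) * sW⁻¹ := by rw [e]; group
  rw [e1, map_mul, map_mul, map_inv, iL_sU hK, iL_sW hK, tV_eq, map_mul, map_mul, ← map_inv, tW_inv]

lemma iL_lift (g : SL(2, K)) : ∃ x : RT K m, r7 hK x = iL m g := by
  obtain ⟨x, y, z, w, v, rfl⟩ := SL2_elem g
  simp only [map_mul, iL_sU hK, iL_sV hK]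
  simp only [← map_mul]
  exact ⟨_, rfl⟩

/-- the homomorphism from `SL₂(q)` to the twisted group -/
noncomputable def tSL : SL(2, K) →* RT K m :=
  MonoidHom.mk' (fun g => (iL_lift hK g).choose) (by
    intro g h
    apply r7_inj hK
    calc r7 hK (iL_lift hK (g * h)).choose = iL m (g * h) := (iL_lift hK (g * h)).choose_spec
      _ = iL m g * iL m h := map_mul _ _ _
      _ = r7 hK (iL_lift hK g).choose * r7 hK (iL_lift hK h).choose := by
          rw [(iL_lift hK g).choose_spec, (iL_lift hK h).choose_spec]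
      _ = r7 hK ((iL_lift hK g).choose * (iL_lift hK h).choose) := (map_mul _ _ _).symm)

lemma r7_tSL (g : SL(2, K)) : r7 hK (tSL hK g) = iL m g := (iL_lift hK g).choose_spec

lemma r7_tSL_val (g : SL(2, K)) : ((r7 hK (tSL hK g) : GL (Fin 7) K) : Matrix (Fin 7) (Fin 7) K) = mL (reeF K m) g := by
  rw [r7_tSL]; rfl

lemma tSL_sU (u : K) : tSL hK (sU u) = tU m 0 u 0 := by
  apply r7_inj hK
  rw [r7_tSL, iL_sU hK]

lemma tSL_sV (u : K) : tSL hK (sV u) = tV m 0 (-u) 0 := by
  apply r7_inj hK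
  rw [r7_tSL, iL_sV hK]

lemma tSL_sW : tSL hK (sW : SL(2, K)) = tW K m := by
  apply r7_inj hK
  rw [r7_tSL, iL_sW hK]

lemma tSL_neg_one : tSL hK (-1 : SL(2, K)) = 1 := by
  apply r7_ext hK
  rw [r7_tSL_val, mL_apply]
  simp [Matrix.SpecialLinearGroup.coe_neg, Matrix.SpecialLinearGroup.coe_one]
  ext i j
  fin_cases i <;> fin_cases j <;> simp [m7L]

/-- the kernel of the homomorphism from `SL₂(q)` -/
lemma tSL_eq_one_iff (g : SL(2, K)) : tSL hK g = 1 ↔ g = 1 ∨ g = -1 := by
  constructor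
  · intro h
    have e : mL (reeF K m) g = 1 := by
      rw [← r7_tSL_val hK, h, map_one]; rfl
    rw [mL_apply] at e
    have e1 : ∀ i j, m7L (g 0 0) (g 0 1) (g 1 0) (g 1 1) (reeF K m (g 0 0)) (reeF K m (g 0 1)) (reeF K m (g 1 0)) (reeF K m (g 1 1)) i j = (1 : Matrix (Fin 7) (Fin 7) K) i j := fun i j => by rw [e]
    have h1 := e1 5 1
    have h2 := e1 1 5
    have h3 := e1 1 1
    have h4 := e1 0 0
    have h5 := e1 2 2
    simp [m7L] at h1 h2 h3 h4 h5
    have hf : Function.Injective (reeF K m) := (reeF K m).injective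
    rcases h3 with h3 | h3
    · left
      have ha : g 0 0 = 1 := by
        rw [h3, mul_one] at h5
        exact h5
      have hd : g 1 1 = 1 := by
        apply hf
        rw [ha, one_mul] at h4
        rw [h4, map_one]
      apply Subtype.ext
      ext i j
      fin_cases i <;> fin_cases j <;> simp [h1, h2, ha, hd]
    · right
      have ha : g 0 0 = -1 := by
        rw [h3] at h5
        linear_combination -h5
      have hd : g 1 1 = -1 := by
        apply hf
        rw [ha] at h4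
        rw [map_neg, map_one]
        linear_combination -h4
      apply Subtype.ext
      rw [Matrix.SpecialLinearGroup.coe_neg, Matrix.SpecialLinearGroup.coe_one]
      ext i j
      fin_cases i <;> fin_cases j <;> simp [h1, h2, ha, hd]
  · rintro (rfl | rfl)
    · exact map_one _
    · exact tSL_neg_one hK


lemma m7T_neg_one_comm (a b c d A B C D : K) :
    m7T (-1) (-1) (-1) (-1) * m7L a b c d A B C D = m7L a b c d A B C D * m7T (-1) (-1) (-1) (-1) := by
  ext i j
  fin_cases i <;> fin_cases j <;> simp [m7T, m7L, Matrix.mul_apply, Fin.sum_univ_succ]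

lemma neg_units_val : ((-1 : Kˣ) : K) = -1 := by simp

lemma r7_a : ((r7 hK (tH hK (-1)) : GL (Fin 7) K) : Matrix (Fin 7) (Fin 7) K) = m7T (-1) (-1) (-1) (-1) := by
  rw [r7_tH hK]
  simp

/-- the involution commutes with the image of `SL₂` -/
lemma a_comm_tSL (g : SL(2, K)) : tH hK (-1) * tSL hK g = tSL hK g * tH hK (-1) := by
  apply r7_ext hK
  rw [map_mul, map_mul, Units.val_mul, Units.val_mul, r7_a hK, r7_tSL_val, mL_apply]
  exact m7T_neg_one_comm hK _ _ _ _ _ _ _ _

/-- the involution does not lie in the image of `SL₂` -/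
lemma a_not_tSL (g : SL(2, K)) : tSL hK g ≠ tH hK (-1) := by
  intro h
  have e : mL (reeF K m) g = m7T (-1) (-1) (-1) (-1) := by
    rw [← r7_tSL_val hK, h, r7_a hK]
  rw [mL_apply] at e
  have e1 : ∀ i j, m7L (g 0 0) (g 0 1) (g 1 0) (g 1 1) (reeF K m (g 0 0)) (reeF K m (g 0 1)) (reeF K m (g 1 0)) (reeF K m (g 1 1)) i j = (m7T (-1) (-1) (-1) (-1) : Matrix (Fin 7) (Fin 7) K) i j := fun i j => by rw [e]
  have h1 := e1 1 1
  have h5 := e1 2 2
  simp [m7L, m7T] at h1 h5
  have hf : Function.Injective (reeF K m) := (reeF K m).injective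
  have hne : (1 : K) ≠ -1 := fun h => ree_neg_one_ne_one h.symm
  rcases h1 with h1 | h1
  · rw [h1, mul_one] at h5
    have h6 : reeF K m (g 0 0) = -1 := by
      rw [h5, map_neg, map_one]
    exact hne (h1.symm.trans h6)
  · rw [h1] at h5
    have h6 : g 0 0 = 1 := by linear_combination -h5
    have h7 : reeF K m (g 0 0) = 1 := by rw [h6, map_one]
    exact hne (h7.symm.trans h1)

end Cfsg.Agent.H10
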