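import Mathlib

/-!
# The seven-dimensional matrices of the root elements of `G₂` in characteristic three
-/

set_option autoImplicit false
set_option linter.style.longLine false

open Matrix

namespace Cfsg.Agent.H10

variable {K : Type*} [Field K]

lemma ree_three [CharP K 3] : (3 : K) = 0 := by exact_mod_cast CharP.cast_eq_zero K 3

lemma vec7_eq {a0 a1 a2 a3 a4 a5 a6 b0 b1 b2 b3 b4 b5 b6 : K} (h0 : a0 = b0) (h1 : a1 = b1) (h2 : a2 = b2)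
    (h3 : a3 = b3) (h4 : a4 = b4) (h5 : a5 = b5) (h6 : a6 = b6) :
    ![a0, a1, a2, a3, a4, a5, a6] = ![b0, b1, b2, b3, b4, b5, b6] := by
  subst h0 h1 h2 h3 h4 h5 h6; rfl

/-- two `7 × 7` matrices with the same action are equal -/
lemma m7_ext {M N : Matrix (Fin 7) (Fin 7) K}
    (h : ∀ x0 x1 x2 x3 x4 x5 x6 : K, M *ᵥ ![x0, x1, x2, x3, x4, x5, x6] = N *ᵥ ![x0, x1, x2, x3, x4, x5, x6]) : M = N := by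
  apply Matrix.toLin'.injective
  apply LinearMap.ext
  intro v
  have e : v = ![v 0, v 1, v 2, v 3, v 4, v 5, v 6] := by
    funext i; fin_cases i <;> rfl
  rw [Matrix.toLin'_apply, Matrix.toLin'_apply, e]
  exact h _ _ _ _ _ _ _

/-- `ρ₁(x_r(t))` for r=6 -/
def m7b (t : K) : Matrix (Fin 7) (Fin 7) K :=
  !![1, 0, 0, 0, 0, 0, 0;
    t, 1, 0, 0, 0, 0, 0;
    0, 0, 1, 0, 0, 0, 0;
    0, 0, 0, 1, 0, 0, 0;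
    0, 0, 0, 0, 1, -t, 0;
    0, 0, 0, 0, 0, 1, 0;
    0, 0, 0, 0, 0, 0, 1]
lemma m7b_act (t x0 x1 x2 x3 x4 x5 x6 : K) : m7b t *ᵥ ![x0, x1, x2, x3, x4, x5, x6] =
    ![x0, t*x0 + x1, x2, x3, -t*x5 + x4, x5, x6] := by
  funext i; fin_cases i <;> simp [m7b, Matrix.mulVec, dotProduct, Fin.sum_univ_succ] <;> ring
/-- `ρ₁(x_r(t))` for r=7 -/
def m7a (t : K) : Matrix (Fin 7) (Fin 7) K :=
  !![1, 0, 0, t, -t^2, 0, 0;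
    0, 1, 0, 0, 0, 0, 0;
    0, t, 1, 0, 0, 0, 0;
    0, 0, 0, 1, t, 0, 0;
    0, 0, 0, 0, 1, 0, 0;
    0, 0, 0, 0, 0, 1, -t;
    0, 0, 0, 0, 0, 0, 1]
lemma m7a_act (t x0 x1 x2 x3 x4 x5 x6 : K) : m7a t *ᵥ ![x0, x1, x2, x3, x4, x5, x6] =
    ![t*x3 - t^2*x4 + x0, x1, t*x1 + x2, t*x4 + x3, x4, -t*x6 + x5, x6] := by
  funext i; fin_cases i <;> simp [m7a, Matrix.mulVec, dotProduct, Fin.sum_univ_succ] <;> ring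
/-- `ρ₁(x_r(t))` for r=8 -/
def m7ab (t : K) : Matrix (Fin 7) (Fin 7) K :=
  !![1, 0, 0, 0, 0, 0, 0;
    0, 1, 0, t, 0, -t^2, 0;
    -t, 0, 1, 0, 0, 0, 0;
    0, 0, 0, 1, 0, t, 0;
    0, 0, 0, 0, 1, 0, t;
    0, 0, 0, 0, 0, 1, 0;
    0, 0, 0, 0, 0, 0, 1]
lemma m7ab_act (t x0 x1 x2 x3 x4 x5 x6 : K) : m7ab t *ᵥ ![x0, x1, x2, x3, x4, x5, x6] =
    ![x0, t*x3 - t^2*x5 + x1, -t*x0 + x2, t*x5 + x3, t*x6 + x4, x5, x6] := by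
  funext i; fin_cases i <;> simp [m7ab, Matrix.mulVec, dotProduct, Fin.sum_univ_succ] <;> ring
/-- `ρ₁(x_r(t))` for r=9 -/
def m7aab (t : K) : Matrix (Fin 7) (Fin 7) K :=
  !![1, 0, 0, 0, 0, t, 0;
    0, 1, 0, 0, -t, 0, 0;
    0, 0, 1, -t, 0, 0, -t^2;
    0, 0, 0, 1, 0, 0, -t;
    0, 0, 0, 0, 1, 0, 0;
    0, 0, 0, 0, 0, 1, 0;
    0, 0, 0, 0, 0, 0, 1]
lemma m7aab_act (t x0 x1 x2 x3 x4 x5 x6 : K) : m7aab t *ᵥ ![x0, x1, x2, x3, x4, x5, x6] =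
    ![t*x5 + x0, -t*x4 + x1, -t*x3 - t^2*x6 + x2, -t*x6 + x3, x4, x5, x6] := by
  funext i; fin_cases i <;> simp [m7aab, Matrix.mulVec, dotProduct, Fin.sum_univ_succ] <;> ring
/-- `ρ₁(x_r(t))` for r=10 -/
def m7aaab (t : K) : Matrix (Fin 7) (Fin 7) K :=
  !![1, 0, 0, 0, 0, 0, t;
    0, 1, 0, 0, 0, 0, 0;
    0, 0, 1, 0, -t, 0, 0;
    0, 0, 0, 1, 0, 0, 0;
    0, 0, 0, 0, 1, 0, 0;
    0, 0, 0, 0, 0, 1, 0;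
    0, 0, 0, 0, 0, 0, 1]
lemma m7aaab_act (t x0 x1 x2 x3 x4 x5 x6 : K) : m7aaab t *ᵥ ![x0, x1, x2, x3, x4, x5, x6] =
    ![t*x6 + x0, x1, -t*x4 + x2, x3, x4, x5, x6] := by
  funext i; fin_cases i <;> simp [m7aaab, Matrix.mulVec, dotProduct, Fin.sum_univ_succ] <;> ring
/-- `ρ₁(x_r(t))` for r=11 -/
def m7aaabb (t : K) : Matrix (Fin 7) (Fin 7) K :=
  !![1, 0, 0, 0, 0, 0, 0;
    0, 1, 0, 0, 0, 0, t;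
    0, 0, 1, 0, 0, -t, 0;
    0, 0, 0, 1, 0, 0, 0;
    0, 0, 0, 0, 1, 0, 0;
    0, 0, 0, 0, 0, 1, 0;
    0, 0, 0, 0, 0, 0, 1]
lemma m7aaabb_act (t x0 x1 x2 x3 x4 x5 x6 : K) : m7aaabb t *ᵥ ![x0, x1, x2, x3, x4, x5, x6] =
    ![x0, t*x6 + x1, -t*x5 + x2, x3, x4, x5, x6] := by
  funext i; fin_cases i <;> simp [m7aaabb, Matrix.mulVec, dotProduct, Fin.sum_univ_succ] <;> ring
/-- `ρ₁(x_r(t))` for r=5 -/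
def m7mb (t : K) : Matrix (Fin 7) (Fin 7) K :=
  !![1, t, 0, 0, 0, 0, 0;
    0, 1, 0, 0, 0, 0, 0;
    0, 0, 1, 0, 0, 0, 0;
    0, 0, 0, 1, 0, 0, 0;
    0, 0, 0, 0, 1, 0, 0;
    0, 0, 0, 0, -t, 1, 0;
    0, 0, 0, 0, 0, 0, 1]
lemma m7mb_act (t x0 x1 x2 x3 x4 x5 x6 : K) : m7mb t *ᵥ ![x0, x1, x2, x3, x4, x5, x6] =
    ![t*x1 + x0, x1, x2, x3, x4, -t*x4 + x5, x6] := by
  funext i; fin_cases i <;> simp [m7mb, Matrix.mulVec, dotProduct, Fin.sum_univ_succ] <;> ring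
/-- `ρ₁(x_r(t))` for r=4 -/
def m7ma (t : K) : Matrix (Fin 7) (Fin 7) K :=
  !![1, 0, 0, 0, 0, 0, 0;
    0, 1, t, 0, 0, 0, 0;
    0, 0, 1, 0, 0, 0, 0;
    -t, 0, 0, 1, 0, 0, 0;
    -t^2, 0, 0, -t, 1, 0, 0;
    0, 0, 0, 0, 0, 1, 0;
    0, 0, 0, 0, 0, -t, 1]
lemma m7ma_act (t x0 x1 x2 x3 x4 x5 x6 : K) : m7ma t *ᵥ ![x0, x1, x2, x3, x4, x5, x6] =
    ![x0, t*x2 + x1, x2, -t*x0 + x3, -t*x3 - t^2*x0 + x4, x5, -t*x5 + x6] := by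
  funext i; fin_cases i <;> simp [m7ma, Matrix.mulVec, dotProduct, Fin.sum_univ_succ] <;> ring
/-- `ρ₁(x_r(t))` for r=3 -/
def m7mab (t : K) : Matrix (Fin 7) (Fin 7) K :=
  !![1, 0, -t, 0, 0, 0, 0;
    0, 1, 0, 0, 0, 0, 0;
    0, 0, 1, 0, 0, 0, 0;
    0, -t, 0, 1, 0, 0, 0;
    0, 0, 0, 0, 1, 0, 0;
    0, -t^2, 0, -t, 0, 1, 0;
    0, 0, 0, 0, t, 0, 1]
lemma m7mab_act (t x0 x1 x2 x3 x4 x5 x6 : K) : m7mab t *ᵥ ![x0, x1, x2, x3, x4, x5, x6] =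
    ![-t*x2 + x0, x1, x2, -t*x1 + x3, x4, -t*x3 - t^2*x1 + x5, t*x4 + x6] := by
  funext i; fin_cases i <;> simp [m7mab, Matrix.mulVec, dotProduct, Fin.sum_univ_succ] <;> ring
/-- `ρ₁(x_r(t))` for r=2 -/
def m7maab (t : K) : Matrix (Fin 7) (Fin 7) K :=
  !![1, 0, 0, 0, 0, 0, 0;
    0, 1, 0, 0, 0, 0, 0;
    0, 0, 1, 0, 0, 0, 0;
    0, 0, t, 1, 0, 0, 0;
    0, -t, 0, 0, 1, 0, 0;
    t, 0, 0, 0, 0, 1, 0;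
    0, 0, -t^2, t, 0, 0, 1]
lemma m7maab_act (t x0 x1 x2 x3 x4 x5 x6 : K) : m7maab t *ᵥ ![x0, x1, x2, x3, x4, x5, x6] =
    ![x0, x1, x2, t*x2 + x3, -t*x1 + x4, t*x0 + x5, t*x3 - t^2*x2 + x6] := by
  funext i; fin_cases i <;> simp [m7maab, Matrix.mulVec, dotProduct, Fin.sum_univ_succ] <;> ring
/-- `ρ₁(x_r(t))` for r=1 -/
def m7maaab (t : K) : Matrix (Fin 7) (Fin 7) K :=
  !![1, 0, 0, 0, 0, 0, 0;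
    0, 1, 0, 0, 0, 0, 0;
    0, 0, 1, 0, 0, 0, 0;
    0, 0, 0, 1, 0, 0, 0;
    0, 0, -t, 0, 1, 0, 0;
    0, 0, 0, 0, 0, 1, 0;
    t, 0, 0, 0, 0, 0, 1]
lemma m7maaab_act (t x0 x1 x2 x3 x4 x5 x6 : K) : m7maaab t *ᵥ ![x0, x1, x2, x3, x4, x5, x6] =
    ![x0, x1, x2, x3, -t*x2 + x4, x5, t*x0 + x6] := by
  funext i; fin_cases i <;> simp [m7maaab, Matrix.mulVec, dotProduct, Fin.sum_univ_succ] <;> ring
/-- `ρ₁(x_r(t))` for r=0 -/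
def m7maaabb (t : K) : Matrix (Fin 7) (Fin 7) K :=
  !![1, 0, 0, 0, 0, 0, 0;
    0, 1, 0, 0, 0, 0, 0;
    0, 0, 1, 0, 0, 0, 0;
    0, 0, 0, 1, 0, 0, 0;
    0, 0, 0, 0, 1, 0, 0;
    0, 0, -t, 0, 0, 1, 0;
    0, t, 0, 0, 0, 0, 1]
lemma m7maaabb_act (t x0 x1 x2 x3 x4 x5 x6 : K) : m7maaabb t *ᵥ ![x0, x1, x2, x3, x4, x5, x6] =
    ![x0, x1, x2, x3, x4, -t*x2 + x5, t*x1 + x6] := by
  funext i; fin_cases i <;> simp [m7maaabb, Matrix.mulVec, dotProduct, Fin.sum_univ_succ] <;> ring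

end Cfsg.Agent.H10
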