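import Cfsg.Agent.Lib.H10.ReeT3

/-!
# The small Ree group: the action on the cosets of the Borel subgroup
-/

set_option autoImplicit false
set_option linter.style.longLine false
set_option linter.unusedSimpArgs false
set_option linter.unusedSectionVars false
set_option maxRecDepth 100000

open Cfsg Cfsg.Lie Cfsg.Agent.H04.Chev
open scoped MatrixGroups commutatorElement

namespace Cfsg.Agent.H10

variable {K : Type*} [Field K] [CharP K 3] {m : ℕ}

/-- the Borel subgroup of the twisted group -/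
abbrev tB (K : Type*) [Field K] (m : ℕ) : Subgroup (RT K m) :=
  (chevG2.borelSubgroup K ⊓ twistedG2 K (3 ^ m)).subgroupOf (twistedG2 K (3 ^ m))

/-- the Sylow `3`-subgroup of the twisted group -/
abbrev tUU (K : Type*) [Field K] (m : ℕ) : Subgroup (RT K m) :=
  (chevG2.posUnipotent K ⊓ twistedG2 K (3 ^ m)).subgroupOf (twistedG2 K (3 ^ m))

/-- the torus of the twisted group -/
abbrev tHH (K : Type*) [Field K] (m : ℕ) : Subgroup (RT K m) :=
  (chevG2.diagonalSubgroup K ⊓ twistedG2 K (3 ^ m)).subgroupOf (twistedG2 K (3 ^ m))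

/-- the points -/
abbrev ROm (K : Type*) [Field K] (m : ℕ) := RT K m ⧸ tB K m

/-- the action on the points -/
noncomputable instance rom_action : MulAction (RT K m) (ROm K m) := MulAction.quotient (RT K m) (tB K m)

/-- the base point -/
def pt0 (K : Type*) [Field K] (m : ℕ) : ROm K m := QuotientGroup.mk 1

lemma smul_pt0 (g : RT K m) : g • pt0 K m = QuotientGroup.mk g := by
  show QuotientGroup.mk (g * 1) = _
  rw [mul_one]

lemma smul_pt0_eq_iff (g h : RT K m) : g • pt0 K m = h • pt0 K m ↔ g⁻¹ * h ∈ tB K m := by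
  rw [smul_pt0, smul_pt0, QuotientGroup.eq]

lemma stabilizer_pt0 : MulAction.stabilizer (RT K m) (pt0 K m) = tB K m := by
  ext g
  rw [MulAction.mem_stabilizer_iff]
  have h1 : g • pt0 K m = pt0 K m ↔ g • pt0 K m = (1 : RT K m) • pt0 K m := by rw [one_smul]
  rw [h1, smul_pt0_eq_iff, mul_one]
  exact inv_mem_iff

/-- the stabilizer of a translate -/
lemma stabilizer_smul (g : RT K m) (x : ROm K m) : MulAction.stabilizer (RT K m) (g • x) = (MulAction.stabilizer (RT K m) x).map (MulAut.conj g).toMonoidHom := by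
  rw [MulAction.stabilizer_smul_eq_stabilizer_map_conj]

variable [Fintype K] (hK : Fintype.card K = 3 ^ (2 * m + 1))
include hK

lemma tU_mem_tB (t u v : K) : tU m t u v ∈ tB K m :=
  (mem_tB_iff hK _).mpr ⟨t, u, v, 1, by rw [tH_one, mul_one]⟩

lemma tH_mem_tB (β : Kˣ) : tH hK β ∈ tB K m :=
  (mem_tB_iff hK _).mpr ⟨0, 0, 0, β, by rw [tU_zero, one_mul]⟩

lemma mem_tUU_iff (g : RT K m) : g ∈ tUU K m ↔ ∃ t u v, g = tU m t u v := by
  constructor
  · intro h
    exact (mem_U_iff hK g).mp (Subgroup.mem_inf.mp (Subgroup.mem_subgroupOf.mp h)).1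
  · intro h
    exact Subgroup.mem_subgroupOf.mpr (Subgroup.mem_inf.mpr ⟨(mem_U_iff hK g).mpr h, g.2⟩)

lemma mem_tHH_iff (g : RT K m) : g ∈ tHH K m ↔ ∃ β, g = tH hK β := by
  constructor
  · intro h
    exact (mem_H_iff hK g).mp (Subgroup.mem_inf.mp (Subgroup.mem_subgroupOf.mp h)).1
  · intro h
    exact Subgroup.mem_subgroupOf.mpr (Subgroup.mem_inf.mpr ⟨(mem_H_iff hK g).mpr h, g.2⟩)

lemma card_tUU : Nat.card (tUU K m) = Fintype.card K ^ 3 := by
  rw [← card_U1 hK]
  exact Nat.card_congr (Subgroup.subgroupOfEquivOfLe inf_le_right).toEquiv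

lemma card_tHH : Nat.card (tHH K m) = Fintype.card K - 1 := by
  rw [← card_H1 hK]
  exact Nat.card_congr (Subgroup.subgroupOfEquivOfLe inf_le_right).toEquiv

/-- `U¹` is normal in the Borel subgroup -/
lemma tUU_conj_B {b g : RT K m} (hb : b ∈ tB K m) (hg : g ∈ tUU K m) : b * g * b⁻¹ ∈ tUU K m := by
  obtain ⟨t, u, v, β, rfl⟩ := (mem_tB_iff hK _).mp hb
  obtain ⟨t', u', v', rfl⟩ := (mem_tUU_iff hK _).mp hg
  have e : tU m t u v * tH hK β * tU m t' u' v' * (tU m t u v * tH hK β)⁻¹ = tU m t u v * (tH hK β * tU m t' u' v' * (tH hK β)⁻¹) * (tU m t u v)⁻¹ := by group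
  rw [e, tH_conj, tU_inv hK, tU_mul hK, tU_mul hK]
  exact (mem_tUU_iff hK _).mpr ⟨_, _, _, rfl⟩

/-- every point is the base point or `u w` -/
lemma pt_cases (x : ROm K m) : x = pt0 K m ∨ ∃ t u v, x = (tU m t u v * tW K m) • pt0 K m := by
  obtain ⟨g, rfl⟩ := QuotientGroup.mk_surjective x
  rw [← smul_pt0]
  rcases tcases hK g with ⟨t, u, v, β, rfl⟩ | ⟨t, u, v, β, t', u', v', rfl⟩
  · left
    have := (smul_pt0_eq_iff (tU m t u v * tH hK β) 1).mpr (by
      rw [mul_one]
      exact inv_mem ((mem_tB_iff hK _).mpr ⟨_, _, _, _, rfl⟩))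
    rwa [one_smul] at this
  · right
    refine ⟨t, u, v, ?_⟩
    rw [smul_pt0_eq_iff]
    have e2 : tW K m * tH hK β⁻¹ * tW K m = tH hK β := by
      rw [tW_tH, inv_inv, mul_assoc, tW_sq, mul_one]
    have e : (tU m t u v * tH hK β * tW K m * tU m t' u' v')⁻¹ * (tU m t u v * tW K m) = (tU m t' u' v')⁻¹ * ((tW K m)⁻¹ * (tH hK β)⁻¹ * tW K m) := by group
    rw [e, tW_inv, tH_inv, e2]
    exact mul_mem (inv_mem (tU_mem_tB hK _ _ _)) (tH_mem_tB hK _)

/-- the order of the twisted group -/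
lemma card_T : Nat.card (RT K m) = Fintype.card K ^ 3 * (Fintype.card K - 1) * (Fintype.card K ^ 3 + 1) := by
  rw [Nat.card_congr (reeIso hK).toEquiv, card_reeFix _ (reeF_tits hK)]

/-- the points other than the base point -/
noncomputable def Pt (m : ℕ) (t u v : K) : ROm K m := (tU m t u v * tW K m) • pt0 K m

lemma tW_not_mem_tB : tW K m ∉ tB K m := by
  intro h
  exact rW_not_mem_B (K := K) (Subgroup.mem_inf.mp (Subgroup.mem_subgroupOf.mp h)).1

lemma Pt_ne_pt0 (t u v : K) : Pt m t u v ≠ pt0 K m := by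
  intro h
  have h1 : (tU m t u v * tW K m) • pt0 K m = (1 : RT K m) • pt0 K m := by
    rw [one_smul]; exact h
  rw [smul_pt0_eq_iff, mul_one] at h1
  have h2 := inv_mem h1
  rw [inv_inv] at h2
  have h3 : tW K m = (tU m t u v)⁻¹ * (tU m t u v * tW K m) := by group
  apply tW_not_mem_tB hK
  rw [h3]
  exact mul_mem (inv_mem (tU_mem_tB hK _ _ _)) h2

lemma Pt_inj {t u v t' u' v' : K} (h : Pt m t u v = Pt m t' u' v') : t = t' ∧ u = u' ∧ v = v' := by
  rw [Pt, Pt, smul_pt0_eq_iff] at h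
  have e : (tU m t u v * tW K m)⁻¹ * (tU m t' u' v' * tW K m) = tW K m * ((tU m t u v)⁻¹ * tU m t' u' v') * tW K m := by
    rw [mul_inv_rev, tW_inv]
    group
  obtain ⟨a, b, c, e1⟩ : ∃ a b c : K, (tU m t u v)⁻¹ * tU m t' u' v' = tU m a b c := by
    rw [tU_inv hK, tU_mul hK]
    exact ⟨_, _, _, rfl⟩
  rw [e, e1] at h
  obtain ⟨rfl, rfl, rfl⟩ := tW_U_mem_B hK (Subgroup.mem_inf.mp (Subgroup.mem_subgroupOf.mp h)).1
  rw [tU_zero, inv_mul_eq_one] at e1
  exact tU_inj e1

lemma Pt_zero : Pt m (0 : K) 0 0 = tW K m • pt0 K m := by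
  rw [Pt, tU_zero, one_mul]

lemma pt0_ne_w : pt0 K m ≠ tW K m • pt0 K m := by
  rw [← Pt_zero hK]
  exact (Pt_ne_pt0 hK _ _ _).symm

lemma mem_tB_smul_pt0 {b : RT K m} (hb : b ∈ tB K m) : b • pt0 K m = pt0 K m := by
  rw [← MulAction.mem_stabilizer_iff, stabilizer_pt0]
  exact hb

lemma tU_smul_Pt (a b c t u v : K) : tU m a b c • Pt m t u v = Pt m (a + t) (b + u - a * reeF K m t ^ 3) (c + v - t * b + a * t * reeF K m t ^ 3 - a ^ 2 * reeF K m t ^ 3) := by
  rw [Pt, Pt, smul_smul, ← mul_assoc, tU_mul hK]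

lemma tH_smul_Pt (β : Kˣ) (t u v : K) : tH hK β • Pt m t u v = Pt m (β * t) (reeF K m β ^ 3 * β * u) (reeF K m β ^ 3 * β ^ 2 * v) := by
  rw [Pt, Pt, smul_smul]
  have e1 := tH_conj hK β t u v
  rw [mul_inv_eq_iff_eq_mul] at e1
  rw [← mul_assoc, e1]
  have e2 : tH hK β * tW K m = tW K m * tH hK β⁻¹ := by
    rw [tW_tH, inv_inv]
  rw [mul_assoc, e2, ← mul_assoc, mul_smul, mem_tB_smul_pt0 hK (tH_mem_tB hK _)]

lemma tW_smul_w : tW K m • (tW K m • pt0 K m) = pt0 K m := by
  rw [smul_smul, tW_sq, one_smul]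

lemma t_finite : Finite (RT K m) := by
  apply Nat.finite_of_card_ne_zero
  rw [card_T hK, hK]
  have h1 : 3 ≤ 3 ^ (2 * m + 1) := Nat.le_self_pow (by omega) 3
  have h2 : 3 ^ (2 * m + 1) - 1 ≠ 0 := by omega
  positivity

/-- the group is doubly transitive on the points -/
lemma two_trans {x y : ROm K m} (h : x ≠ y) : ∃ g : RT K m, g • x = pt0 K m ∧ g • y = tW K m • pt0 K m := by
  have hinv : ∀ t u v : K, (tW K m * (tU m t u v)⁻¹) * (tU m t u v * tW K m) = 1 := by
    intro t u v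
    calc (tW K m * (tU m t u v)⁻¹) * (tU m t u v * tW K m) = tW K m * tW K m := by group
      _ = 1 := tW_sq
  rcases pt_cases hK x with rfl | ⟨t, u, v, rfl⟩
  · rcases pt_cases hK y with rfl | ⟨t, u, v, rfl⟩
    · exact absurd rfl h
    · refine ⟨(tU m t u v)⁻¹, mem_tB_smul_pt0 hK (inv_mem (tU_mem_tB hK _ _ _)), ?_⟩
      rw [smul_smul, ← mul_assoc, inv_mul_cancel, one_mul]
  · rcases pt_cases hK y with rfl | ⟨t', u', v', rfl⟩
    · refine ⟨tW K m * (tU m t u v)⁻¹, ?_, ?_⟩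
      · rw [smul_smul, hinv, one_smul]
      · rw [mul_smul, mem_tB_smul_pt0 hK (inv_mem (tU_mem_tB hK _ _ _))]
    · -- move the first point to the base point
      set g₁ := tW K m * (tU m t u v)⁻¹ with hg₁
      have h1 : g₁ • ((tU m t u v * tW K m) • pt0 K m) = pt0 K m := by
        rw [hg₁, smul_smul, hinv, one_smul]
      have hne : g₁ • ((tU m t' u' v' * tW K m) • pt0 K m) ≠ pt0 K m := by
        intro e
        exact h (MulAction.injective g₁ (h1.trans e.symm))
      rcases pt_cases hK (g₁ • ((tU m t' u' v' * tW K m) • pt0 K m)) with e | ⟨a, b, c, e⟩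
      · exact absurd e hne
      · refine ⟨(tU m a b c)⁻¹ * g₁, ?_, ?_⟩
        · rw [mul_smul, h1]
          exact mem_tB_smul_pt0 hK (inv_mem (tU_mem_tB hK _ _ _))
        · rw [mul_smul, e, smul_smul, ← mul_assoc, inv_mul_cancel, one_mul]

/-- the stabilizer of two points -/
lemma stab_two {g : RT K m} (h1 : g • pt0 K m = pt0 K m) (h2 : g • (tW K m • pt0 K m) = tW K m • pt0 K m) : ∃ β, g = tH hK β := by
  have hB : g ∈ tB K m := by
    rw [← stabilizer_pt0]; exact h1
  obtain ⟨t, u, v, β, rfl⟩ := (mem_tB_iff hK _).mp hB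
  have h3 : (tW K m * (tU m t u v * tH hK β) * tW K m) • pt0 K m = pt0 K m := by
    rw [mul_smul, mul_smul, h2, tW_smul_w hK]
  have h4 : tW K m * (tU m t u v * tH hK β) * tW K m ∈ tB K m := by
    rw [← stabilizer_pt0]; exact h3
  obtain ⟨rfl, rfl, rfl⟩ := tW_B_mem_B hK (Subgroup.mem_inf.mp (Subgroup.mem_subgroupOf.mp h4)).1
  exact ⟨β, by rw [tU_zero, one_mul]⟩

lemma tH_smul_w (β : Kˣ) : tH hK β • (tW K m • pt0 K m) = tW K m • pt0 K m := by
  rw [← Pt_zero hK, tH_smul_Pt]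
  simp

/-- the stabilizer of three points contains at most two elements -/
lemma card_stab_three_le (t u v : K) (hne : ¬ (t = 0 ∧ u = 0 ∧ v = 0)) :
    Nat.card ↥(MulAction.stabilizer (RT K m) (pt0 K m) ⊓ MulAction.stabilizer (RT K m) (tW K m • pt0 K m) ⊓ MulAction.stabilizer (RT K m) (Pt m t u v)) ≤ 2 := by
  classical
  set D := MulAction.stabilizer (RT K m) (pt0 K m) ⊓ MulAction.stabilizer (RT K m) (tW K m • pt0 K m) ⊓ MulAction.stabilizer (RT K m) (Pt m t u v) with hD
  have hsub : (D : Set (RT K m)) ⊆ ({1, tH hK (-1)} : Set (RT K m)) := by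
    intro g hg
    have hg1 := Subgroup.mem_inf.mp hg
    have hg2 := Subgroup.mem_inf.mp hg1.1
    obtain ⟨β, rfl⟩ := stab_two hK hg2.1 hg2.2
    have h3 : tH hK β • Pt m t u v = Pt m t u v := hg1.2
    rw [tH_smul_Pt] at h3
    obtain ⟨e1, e2, e3⟩ := Pt_inj hK h3
    by_cases ht : t = 0
    · by_cases hv : v = 0
      · have hu : u ≠ 0 := fun h => hne ⟨ht, h, hv⟩
        have hc : reeF K m β ^ 3 * β = 1 := by
          have : (reeF K m β ^ 3 * β - 1) * u = 0 := by linear_combination e2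
          exact sub_eq_zero.mp ((mul_eq_zero.mp this).resolve_right hu)
        have hs := ree_c1_one hK hc
        have hs2 : ((β : K) - 1) * ((β : K) + 1) = 0 := by linear_combination hs
        rcases mul_eq_zero.mp hs2 with h | h
        · left
          have : β = 1 := Units.ext (sub_eq_zero.mp h)
          rw [this, tH_one]
        · right
          have : β = -1 := Units.ext (by simpa using eq_neg_of_add_eq_zero_left h)
          rw [this]
          rfl
      · left
        have hc : reeF K m β ^ 3 * β ^ 2 = 1 := by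
          have : (reeF K m β ^ 3 * β ^ 2 - 1) * v = 0 := by linear_combination e3
          exact sub_eq_zero.mp ((mul_eq_zero.mp this).resolve_right hv)
        have : β = 1 := Units.ext (ree_c2_one hK hc)
        rw [this, tH_one]
    · left
      have : ((β : K) - 1) * t = 0 := by linear_combination e1
      have : β = 1 := Units.ext (sub_eq_zero.mp ((mul_eq_zero.mp this).resolve_right ht))
      rw [this, tH_one]
  have h1 : Nat.card ↥D = (D : Set (RT K m)).ncard := rfl
  rw [h1]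
  have hfin : ({1, tH hK (-1)} : Set (RT K m)).Finite := by simp
  calc (D : Set (RT K m)).ncard ≤ ({1, tH hK (-1)} : Set (RT K m)).ncard := Set.ncard_le_ncard hsub hfin
    _ ≤ 2 := Set.ncard_insert_le _ _ |>.trans (by simp)

lemma neg_one_ne_one_units : (-1 : Kˣ) ≠ 1 := by
  intro h
  have h1 : (-1 : K) = 1 := by simpa using congrArg Units.val h
  exact ree_neg_one_ne_one h1

lemma card_stab_three_eq :
    Nat.card ↥(MulAction.stabilizer (RT K m) (pt0 K m) ⊓ MulAction.stabilizer (RT K m) (tW K m • pt0 K m) ⊓ MulAction.stabilizer (RT K m) (Pt m (0 : K) 1 0)) = 2 := by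
  classical
  apply le_antisymm (card_stab_three_le hK 0 1 0 (by simp))
  have hmem : tH hK (-1) ∈ MulAction.stabilizer (RT K m) (pt0 K m) ⊓ MulAction.stabilizer (RT K m) (tW K m • pt0 K m) ⊓ MulAction.stabilizer (RT K m) (Pt m (0 : K) 1 0) := by
    refine Subgroup.mem_inf.mpr ⟨Subgroup.mem_inf.mpr ⟨mem_tB_smul_pt0 hK (tH_mem_tB hK _), tH_smul_w hK _⟩, ?_⟩
    show tH hK (-1) • Pt m (0 : K) 1 0 = _
    have e1 : ((-1 : Kˣ) : K) = -1 := by simp
    rw [tH_smul_Pt, e1, map_neg, map_one]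
    congr 1 <;> ring
  set D := MulAction.stabilizer (RT K m) (pt0 K m) ⊓ MulAction.stabilizer (RT K m) (tW K m • pt0 K m) ⊓ MulAction.stabilizer (RT K m) (Pt m (0 : K) 1 0) with hD
  have hne : tH hK (-1) ≠ 1 := by
    intro h
    rw [← tH_one hK] at h
    exact neg_one_ne_one_units hK (tH_inj hK h)
  have h2 : (⟨tH hK (-1), hmem⟩ : ↥D) ≠ 1 := fun h => hne (congrArg Subtype.val h)
  haveI : Nontrivial ↥D := ⟨⟨_, 1, h2⟩⟩
  haveI := t_finite hK
  exact Finite.one_lt_card

end Cfsg.Agent.H10
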