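import Cfsg.Agent.Lib.H10.ReeS1

/-!
# The small Ree group: commutant of a non-split torus element in the seven dimensional representation
-/

set_option autoImplicit false
set_option linter.style.longLine false
set_option linter.unusedSimpArgs false
set_option linter.unusedSectionVars false
set_option maxRecDepth 100000

open Cfsg Cfsg.Lie Cfsg.Agent.H04.Chev
open scoped MatrixGroups commutatorElement Pointwise

namespace Cfsg.Agent.H10

section blocks

variable {K : Type*} [Field K]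

/-- the basic block lemma -/
lemma block_zero (hNoI : ∀ x y : K, x ^ 2 + y ^ 2 = 0 → x = 0 ∧ y = 0) (h2 : (2 : K) ≠ 0) {α β γ e z₁₁ z₁₂ z₂₁ z₂₂ : K}
    (e1 : γ * z₁₁ - e * z₁₂ = α * z₁₁ + β * z₂₁)
    (e2 : e * z₁₁ + γ * z₁₂ = α * z₁₂ + β * z₂₂)
    (e3 : γ * z₂₁ - e * z₂₂ = -β * z₁₁ + α * z₂₁)
    (e4 : e * z₂₁ + γ * z₂₂ = -β * z₁₂ + α * z₂₂)
    (h₁ : ¬ (α = γ ∧ β = e)) (h₂ : ¬ (α = γ ∧ β = -e)) : z₁₁ = 0 ∧ z₁₂ = 0 ∧ z₂₁ = 0 ∧ z₂₂ = 0 := by
  have hA : ∀ {u v : K}, (α = γ → β = u → False) → (γ - α) * v + (β - u) * 0 = 0 → True := fun _ _ => trivial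
  have key1 : ((γ - α) ^ 2 + (β - e) ^ 2) ≠ 0 := by
    intro h
    obtain ⟨h3, h4⟩ := hNoI _ _ h
    exact h₁ ⟨(sub_eq_zero.mp h3).symm, sub_eq_zero.mp h4⟩
  have key2 : ((γ - α) ^ 2 + (β + e) ^ 2) ≠ 0 := by
    intro h
    obtain ⟨h3, h4⟩ := hNoI _ _ h
    exact h₂ ⟨(sub_eq_zero.mp h3).symm, eq_neg_of_add_eq_zero_left h4⟩
  -- the four combinations
  have f1 : (γ - α) * (z₁₁ + z₂₂) + (β - e) * (z₁₂ - z₂₁) = 0 := by linear_combination e1 + e4
  have f2 : (γ - α) * (z₁₂ - z₂₁) - (β - e) * (z₁₁ + z₂₂) = 0 := by linear_combination e2 - e3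
  have f3 : (γ - α) * (z₁₁ - z₂₂) - (β + e) * (z₁₂ + z₂₁) = 0 := by linear_combination e1 - e4
  have f4 : (γ - α) * (z₁₂ + z₂₁) + (β + e) * (z₁₁ - z₂₂) = 0 := by linear_combination e2 + e3
  have s1 : z₁₁ + z₂₂ = 0 := by
    have : ((γ - α) ^ 2 + (β - e) ^ 2) * (z₁₁ + z₂₂) = 0 := by
      linear_combination (γ - α) * f1 - (β - e) * f2
    exact (mul_eq_zero.mp this).resolve_left key1
  have s2 : z₁₂ - z₂₁ = 0 := by
    have : ((γ - α) ^ 2 + (β - e) ^ 2) * (z₁₂ - z₂₁) = 0 := by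
      linear_combination (γ - α) * f2 + (β - e) * f1
    exact (mul_eq_zero.mp this).resolve_left key1
  have s3 : z₁₁ - z₂₂ = 0 := by
    have : ((γ - α) ^ 2 + (β + e) ^ 2) * (z₁₁ - z₂₂) = 0 := by
      linear_combination (γ - α) * f3 + (β + e) * f4
    exact (mul_eq_zero.mp this).resolve_left key2
  have s4 : z₁₂ + z₂₁ = 0 := by
    have : ((γ - α) ^ 2 + (β + e) ^ 2) * (z₁₂ + z₂₁) = 0 := by
      linear_combination (γ - α) * f4 - (β + e) * f3
    exact (mul_eq_zero.mp this).resolve_left key2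
  have t1 : (2 : K) * z₁₁ = 0 := by linear_combination s1 + s3
  have t2 : (2 : K) * z₂₂ = 0 := by linear_combination s1 - s3
  have t3 : (2 : K) * z₁₂ = 0 := by linear_combination s2 + s4
  have t4 : (2 : K) * z₂₁ = 0 := by linear_combination s4 - s2
  exact ⟨(mul_eq_zero.mp t1).resolve_left h2, (mul_eq_zero.mp t3).resolve_left h2,
    (mul_eq_zero.mp t4).resolve_left h2, (mul_eq_zero.mp t2).resolve_left h2⟩

/-- the one dimensional block -/
lemma line_zero (hNoI : ∀ x y : K, x ^ 2 + y ^ 2 = 0 → x = 0 ∧ y = 0) {α β y₁ y₂ : K}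
    (e1 : (α - 1) * y₁ - β * y₂ = 0) (e2 : β * y₁ + (α - 1) * y₂ = 0) (h : ¬ (α = 1 ∧ β = 0)) : y₁ = 0 ∧ y₂ = 0 := by
  have key : ((α - 1) ^ 2 + β ^ 2) ≠ 0 := by
    intro h'
    obtain ⟨h3, h4⟩ := hNoI _ _ h'
    exact h ⟨sub_eq_zero.mp h3, h4⟩
  have s1 : ((α - 1) ^ 2 + β ^ 2) * y₁ = 0 := by linear_combination (α - 1) * e1 + β * e2
  have s2 : ((α - 1) ^ 2 + β ^ 2) * y₂ = 0 := by linear_combination (α - 1) * e2 - β * e1
  exact ⟨(mul_eq_zero.mp s1).resolve_left key, (mul_eq_zero.mp s2).resolve_left key⟩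

end blocks

section main

variable {K : Type*} [Field K]

set_option maxHeartbeats 4000000 in
/-- off-diagonal blocks vanish -/
theorem m7L_offdiag (hNoI : ∀ x y : K, x ^ 2 + y ^ 2 = 0 → x = 0 ∧ y = 0) (h2ne : (2 : K) ≠ 0) (h3 : (3 : K) = 0) {a b A B : K}
    (hA : A ^ 2 + B ^ 2 = 1)
    {X : Matrix (Fin 7) (Fin 7) K} (hX : X * m7L a b (-b) a A B (-B) A = m7L a b (-b) a A B (-B) A * X)
    (C1 : ¬ (a * A - b * B = 1 ∧ a * B + b * A = 0))
    (C2 : ¬ (a * A + b * B = 1 ∧ a * B - b * A = 0))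
    (C3 : ¬ (A ^ 2 - B ^ 2 = a * A - b * B ∧ 2 * A * B = a * B + b * A))
    (C4 : ¬ (A ^ 2 - B ^ 2 = a * A - b * B ∧ 2 * A * B = -(a * B + b * A)))
    (C5 : ¬ (A ^ 2 - B ^ 2 = a * A + b * B ∧ 2 * A * B = a * B - b * A))
    (C6 : ¬ (A ^ 2 - B ^ 2 = a * A + b * B ∧ 2 * A * B = -(a * B - b * A))) :
    ∀ i j : Fin 7, (i.val + j.val) % 2 = 1 → X i j = 0 := by
  have E01 : X 0 1 * (A^2) + X 0 3 * (-2*A*B) + X 0 5 * (-B^2) = (a*A) * X 0 1 + (a*B) * X 2 1 + (-b*B) * X 4 1 + (b*A) * X 6 1 := by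
    have h := congrFun (congrFun hX 0) 1
    simp [m7L, Matrix.mul_apply, Fin.sum_univ_succ] at h
    linear_combination h
  have E03 : X 0 1 * (A*B) + X 0 3 * (A^2-B^2) + X 0 5 * (B*A) = (a*A) * X 0 3 + (a*B) * X 2 3 + (-b*B) * X 4 3 + (b*A) * X 6 3 := by
    have h := congrFun (congrFun hX 0) 3
    simp [m7L, Matrix.mul_apply, Fin.sum_univ_succ] at h
    linear_combination h
  have E05 : X 0 1 * (-B^2) + X 0 3 * (-2*B*A) + X 0 5 * (A^2) = (a*A) * X 0 5 + (a*B) * X 2 5 + (-b*B) * X 4 5 + (b*A) * X 6 5 := by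
    have h := congrFun (congrFun hX 0) 5
    simp [m7L, Matrix.mul_apply, Fin.sum_univ_succ] at h
    linear_combination h
  have E10 : X 1 0 * (a*A) + X 1 2 * (-a*B) + X 1 4 * (-b*B) + X 1 6 * (-b*A) = (A^2) * X 1 0 + (A*B) * X 3 0 + (-B^2) * X 5 0 := by
    have h := congrFun (congrFun hX 1) 0
    simp [m7L, Matrix.mul_apply, Fin.sum_univ_succ] at h
    linear_combination h
  have E12 : X 1 0 * (a*B) + X 1 2 * (a*A) + X 1 4 * (b*A) + X 1 6 * (-b*B) = (A^2) * X 1 2 + (A*B) * X 3 2 + (-B^2) * X 5 2 := by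
    have h := congrFun (congrFun hX 1) 2
    simp [m7L, Matrix.mul_apply, Fin.sum_univ_succ] at h
    linear_combination h
  have E14 : X 1 0 * (-b*B) + X 1 2 * (-b*A) + X 1 4 * (a*A) + X 1 6 * (-a*B) = (A^2) * X 1 4 + (A*B) * X 3 4 + (-B^2) * X 5 4 := by
    have h := congrFun (congrFun hX 1) 4
    simp [m7L, Matrix.mul_apply, Fin.sum_univ_succ] at h
    linear_combination h
  have E16 : X 1 0 * (b*A) + X 1 2 * (-b*B) + X 1 4 * (a*B) + X 1 6 * (a*A) = (A^2) * X 1 6 + (A*B) * X 3 6 + (-B^2) * X 5 6 := by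
    have h := congrFun (congrFun hX 1) 6
    simp [m7L, Matrix.mul_apply, Fin.sum_univ_succ] at h
    linear_combination h
  have E21 : X 2 1 * (A^2) + X 2 3 * (-2*A*B) + X 2 5 * (-B^2) = (-a*B) * X 0 1 + (a*A) * X 2 1 + (-b*A) * X 4 1 + (-b*B) * X 6 1 := by
    have h := congrFun (congrFun hX 2) 1
    simp [m7L, Matrix.mul_apply, Fin.sum_univ_succ] at h
    linear_combination h
  have E23 : X 2 1 * (A*B) + X 2 3 * (A^2-B^2) + X 2 5 * (B*A) = (-a*B) * X 0 3 + (a*A) * X 2 3 + (-b*A) * X 4 3 + (-b*B) * X 6 3 := by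
    have h := congrFun (congrFun hX 2) 3
    simp [m7L, Matrix.mul_apply, Fin.sum_univ_succ] at h
    linear_combination h
  have E25 : X 2 1 * (-B^2) + X 2 3 * (-2*B*A) + X 2 5 * (A^2) = (-a*B) * X 0 5 + (a*A) * X 2 5 + (-b*A) * X 4 5 + (-b*B) * X 6 5 := by
    have h := congrFun (congrFun hX 2) 5
    simp [m7L, Matrix.mul_apply, Fin.sum_univ_succ] at h
    linear_combination h
  have E30 : X 3 0 * (a*A) + X 3 2 * (-a*B) + X 3 4 * (-b*B) + X 3 6 * (-b*A) = (-2*A*B) * X 1 0 + (A^2-B^2) * X 3 0 + (-2*B*A) * X 5 0 := by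
    have h := congrFun (congrFun hX 3) 0
    simp [m7L, Matrix.mul_apply, Fin.sum_univ_succ] at h
    linear_combination h
  have E32 : X 3 0 * (a*B) + X 3 2 * (a*A) + X 3 4 * (b*A) + X 3 6 * (-b*B) = (-2*A*B) * X 1 2 + (A^2-B^2) * X 3 2 + (-2*B*A) * X 5 2 := by
    have h := congrFun (congrFun hX 3) 2
    simp [m7L, Matrix.mul_apply, Fin.sum_univ_succ] at h
    linear_combination h
  have E34 : X 3 0 * (-b*B) + X 3 2 * (-b*A) + X 3 4 * (a*A) + X 3 6 * (-a*B) = (-2*A*B) * X 1 4 + (A^2-B^2) * X 3 4 + (-2*B*A) * X 5 4 := by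
    have h := congrFun (congrFun hX 3) 4
    simp [m7L, Matrix.mul_apply, Fin.sum_univ_succ] at h
    linear_combination h
  have E36 : X 3 0 * (b*A) + X 3 2 * (-b*B) + X 3 4 * (a*B) + X 3 6 * (a*A) = (-2*A*B) * X 1 6 + (A^2-B^2) * X 3 6 + (-2*B*A) * X 5 6 := by
    have h := congrFun (congrFun hX 3) 6
    simp [m7L, Matrix.mul_apply, Fin.sum_univ_succ] at h
    linear_combination h
  have E41 : X 4 1 * (A^2) + X 4 3 * (-2*A*B) + X 4 5 * (-B^2) = (-b*B) * X 0 1 + (b*A) * X 2 1 + (a*A) * X 4 1 + (a*B) * X 6 1 := by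
    have h := congrFun (congrFun hX 4) 1
    simp [m7L, Matrix.mul_apply, Fin.sum_univ_succ] at h
    linear_combination h
  have E43 : X 4 1 * (A*B) + X 4 3 * (A^2-B^2) + X 4 5 * (B*A) = (-b*B) * X 0 3 + (b*A) * X 2 3 + (a*A) * X 4 3 + (a*B) * X 6 3 := by
    have h := congrFun (congrFun hX 4) 3
    simp [m7L, Matrix.mul_apply, Fin.sum_univ_succ] at h
    linear_combination h
  have E45 : X 4 1 * (-B^2) + X 4 3 * (-2*B*A) + X 4 5 * (A^2) = (-b*B) * X 0 5 + (b*A) * X 2 5 + (a*A) * X 4 5 + (a*B) * X 6 5 := by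
    have h := congrFun (congrFun hX 4) 5
    simp [m7L, Matrix.mul_apply, Fin.sum_univ_succ] at h
    linear_combination h
  have E50 : X 5 0 * (a*A) + X 5 2 * (-a*B) + X 5 4 * (-b*B) + X 5 6 * (-b*A) = (-B^2) * X 1 0 + (B*A) * X 3 0 + (A^2) * X 5 0 := by
    have h := congrFun (congrFun hX 5) 0
    simp [m7L, Matrix.mul_apply, Fin.sum_univ_succ] at h
    linear_combination h
  have E52 : X 5 0 * (a*B) + X 5 2 * (a*A) + X 5 4 * (b*A) + X 5 6 * (-b*B) = (-B^2) * X 1 2 + (B*A) * X 3 2 + (A^2) * X 5 2 := by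
    have h := congrFun (congrFun hX 5) 2
    simp [m7L, Matrix.mul_apply, Fin.sum_univ_succ] at h
    linear_combination h
  have E54 : X 5 0 * (-b*B) + X 5 2 * (-b*A) + X 5 4 * (a*A) + X 5 6 * (-a*B) = (-B^2) * X 1 4 + (B*A) * X 3 4 + (A^2) * X 5 4 := by
    have h := congrFun (congrFun hX 5) 4
    simp [m7L, Matrix.mul_apply, Fin.sum_univ_succ] at h
    linear_combination h
  have E56 : X 5 0 * (b*A) + X 5 2 * (-b*B) + X 5 4 * (a*B) + X 5 6 * (a*A) = (-B^2) * X 1 6 + (B*A) * X 3 6 + (A^2) * X 5 6 := by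
    have h := congrFun (congrFun hX 5) 6
    simp [m7L, Matrix.mul_apply, Fin.sum_univ_succ] at h
    linear_combination h
  have E61 : X 6 1 * (A^2) + X 6 3 * (-2*A*B) + X 6 5 * (-B^2) = (-b*A) * X 0 1 + (-b*B) * X 2 1 + (-a*B) * X 4 1 + (a*A) * X 6 1 := by
    have h := congrFun (congrFun hX 6) 1
    simp [m7L, Matrix.mul_apply, Fin.sum_univ_succ] at h
    linear_combination h
  have E63 : X 6 1 * (A*B) + X 6 3 * (A^2-B^2) + X 6 5 * (B*A) = (-b*A) * X 0 3 + (-b*B) * X 2 3 + (-a*B) * X 4 3 + (a*A) * X 6 3 := by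
    have h := congrFun (congrFun hX 6) 3
    simp [m7L, Matrix.mul_apply, Fin.sum_univ_succ] at h
    linear_combination h
  have E65 : X 6 1 * (-B^2) + X 6 3 * (-2*B*A) + X 6 5 * (A^2) = (-b*A) * X 0 5 + (-b*B) * X 2 5 + (-a*B) * X 4 5 + (a*A) * X 6 5 := by
    have h := congrFun (congrFun hX 6) 5
    simp [m7L, Matrix.mul_apply, Fin.sum_univ_succ] at h
    linear_combination h
  have hd : 2 * A * B = -(A * B) := by linear_combination (A * B) * h3
  have C3' : ¬ (a * A - b * B = A ^ 2 - B ^ 2 ∧ a * B + b * A = A * B) := by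
    rintro ⟨h1, h2⟩
    exact C4 ⟨h1.symm, by rw [hd, h2]⟩
  have C4' : ¬ (a * A - b * B = A ^ 2 - B ^ 2 ∧ a * B + b * A = -(A * B)) := by
    rintro ⟨h1, h2⟩
    exact C3 ⟨h1.symm, by rw [hd, h2]⟩
  have C5' : ¬ (a * A + b * B = A ^ 2 - B ^ 2 ∧ a * B - b * A = A * B) := by
    rintro ⟨h1, h2⟩
    exact C6 ⟨h1.symm, by rw [hd, h2]⟩
  have C6' : ¬ (a * A + b * B = A ^ 2 - B ^ 2 ∧ a * B - b * A = -(A * B)) := by
    rintro ⟨h1, h2⟩
    exact C5 ⟨h1.symm, by rw [hd, h2]⟩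
  have C3n : ¬ (A ^ 2 - B ^ 2 = a * A - b * B ∧ 2 * A * B = a * B + b * A) := C3
  have Lp := line_zero hNoI (α := (a * A - b * B)) (β := (a * B + b * A)) (y₁ := (X 1 0 + X 1 4 - X 5 0 - X 5 4)) (y₂ := (X 1 2 + X 1 6 - X 5 2 - X 5 6))
    (by linear_combination E10 + E14 - E50 - E54 + (X 1 0 + X 1 4 - X 5 0 - X 5 4) * hA)
    (by linear_combination E12 + E16 - E52 - E56 + (X 1 2 + X 1 6 - X 5 2 - X 5 6) * hA) C1
  have Bp := block_zero hNoI h2ne (α := (A ^ 2 - B ^ 2)) (β := (2 * A * B)) (γ := (a * A - b * B)) (e := (a * B + b * A)) (z₁₁ := (X 1 0 + X 1 4 + X 5 0 + X 5 4)) (z₁₂ := (X 1 2 + X 1 6 + X 5 2 + X 5 6)) (z₂₁ := (X 3 0 + X 3 4)) (z₂₂ := (X 3 2 + X 3 6))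
    (by linear_combination E10 + E14 + E50 + E54)
    (by linear_combination E12 + E16 + E52 + E56)
    (by linear_combination E30 + E34)
    (by linear_combination E32 + E36) C3 C4
  have Lm := line_zero hNoI (α := (a * A + b * B)) (β := (a * B - b * A)) (y₁ := (X 1 0 - X 1 4 - X 5 0 + X 5 4)) (y₂ := (X 1 2 - X 1 6 - X 5 2 + X 5 6))
    (by linear_combination E10 - E14 - E50 + E54 + (X 1 0 - X 1 4 - X 5 0 + X 5 4) * hA)
    (by linear_combination E12 - E16 - E52 + E56 + (X 1 2 - X 1 6 - X 5 2 + X 5 6) * hA) C2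
  have Bm := block_zero hNoI h2ne (α := (A ^ 2 - B ^ 2)) (β := (2 * A * B)) (γ := (a * A + b * B)) (e := (a * B - b * A)) (z₁₁ := (X 1 0 - X 1 4 + X 5 0 - X 5 4)) (z₁₂ := (X 1 2 - X 1 6 + X 5 2 - X 5 6)) (z₂₁ := (X 3 0 - X 3 4)) (z₂₂ := (X 3 2 - X 3 6))
    (by linear_combination E10 - E14 + E50 - E54)
    (by linear_combination E12 - E16 + E52 - E56)
    (by linear_combination E30 - E34)
    (by linear_combination E32 - E36) C5 C6
  have L'p := line_zero hNoI (α := (a * A - b * B)) (β := -(a * B + b * A)) (y₁ := (X 0 1 - X 0 5 + X 4 1 - X 4 5)) (y₂ := (X 2 1 - X 2 5 + X 6 1 - X 6 5))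
    (by linear_combination -(E01 - E05 + E41 - E45) + (X 0 1 - X 0 5 + X 4 1 - X 4 5) * hA)
    (by linear_combination -(E21 - E25 + E61 - E65) + (X 2 1 - X 2 5 + X 6 1 - X 6 5) * hA) (fun h => C1 ⟨h.1, neg_eq_zero.mp h.2⟩)
  have B'p := block_zero hNoI h2ne (α := (a * A - b * B)) (β := (a * B + b * A)) (γ := (A ^ 2 - B ^ 2)) (e := (A * B)) (z₁₁ := (X 0 1 + X 0 5 + X 4 1 + X 4 5)) (z₁₂ := (X 0 3 + X 4 3)) (z₂₁ := (X 2 1 + X 2 5 + X 6 1 + X 6 5)) (z₂₂ := (X 2 3 + X 6 3))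
    (by linear_combination E01 + E05 + E41 + E45 + (A * B * (X 0 3 + X 4 3)) * h3)
    (by linear_combination E03 + E43)
    (by linear_combination E21 + E25 + E61 + E65 + (A * B * (X 2 3 + X 6 3)) * h3)
    (by linear_combination E23 + E63) C3' C4'
  have L'm := line_zero hNoI (α := (a * A + b * B)) (β := -(a * B - b * A)) (y₁ := (X 0 1 - X 0 5 - X 4 1 + X 4 5)) (y₂ := (X 2 1 - X 2 5 - X 6 1 + X 6 5))
    (by linear_combination -(E01 - E05 - E41 + E45) + (X 0 1 - X 0 5 - X 4 1 + X 4 5) * hA)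
    (by linear_combination -(E21 - E25 - E61 + E65) + (X 2 1 - X 2 5 - X 6 1 + X 6 5) * hA) (fun h => C2 ⟨h.1, neg_eq_zero.mp h.2⟩)
  have B'm := block_zero hNoI h2ne (α := (a * A + b * B)) (β := (a * B - b * A)) (γ := (A ^ 2 - B ^ 2)) (e := (A * B)) (z₁₁ := (X 0 1 + X 0 5 - X 4 1 - X 4 5)) (z₁₂ := (X 0 3 - X 4 3)) (z₂₁ := (X 2 1 + X 2 5 - X 6 1 - X 6 5)) (z₂₂ := (X 2 3 - X 6 3))
    (by linear_combination E01 + E05 - E41 - E45 + (A * B * (X 0 3 - X 4 3)) * h3)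
    (by linear_combination E03 - E43)
    (by linear_combination E21 + E25 - E61 - E65 + (A * B * (X 2 3 - X 6 3)) * h3)
    (by linear_combination E23 - E63) C5' C6'
  obtain ⟨Lp1, Lp2⟩ := Lp
  obtain ⟨Lm1, Lm2⟩ := Lm
  obtain ⟨Bp1, Bp2, Bp3, Bp4⟩ := Bp
  obtain ⟨Bm1, Bm2, Bm3, Bm4⟩ := Bm
  obtain ⟨L'p1, L'p2⟩ := L'p
  obtain ⟨L'm1, L'm2⟩ := L'm
  obtain ⟨B'p1, B'p2, B'p3, B'p4⟩ := B'p
  obtain ⟨B'm1, B'm2, B'm3, B'm4⟩ := B'm
  have X10 : (4 : K) * X 1 0 = 0 := by linear_combination Bp1 + Bm1 + Lp1 + Lm1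
  have X12 : (4 : K) * X 1 2 = 0 := by linear_combination Bp2 + Bm2 + Lp2 + Lm2
  have X14 : (4 : K) * X 1 4 = 0 := by linear_combination Bp1 - Bm1 + Lp1 - Lm1
  have X16 : (4 : K) * X 1 6 = 0 := by linear_combination Bp2 - Bm2 + Lp2 - Lm2
  have X30 : (2 : K) * X 3 0 = 0 := by linear_combination Bp3 + Bm3
  have X32 : (2 : K) * X 3 2 = 0 := by linear_combination Bp4 + Bm4
  have X34 : (2 : K) * X 3 4 = 0 := by linear_combination Bp3 - Bm3
  have X36 : (2 : K) * X 3 6 = 0 := by linear_combination Bp4 - Bm4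
  have X50 : (4 : K) * X 5 0 = 0 := by linear_combination Bp1 + Bm1 - Lp1 - Lm1
  have X52 : (4 : K) * X 5 2 = 0 := by linear_combination Bp2 + Bm2 - Lp2 - Lm2
  have X54 : (4 : K) * X 5 4 = 0 := by linear_combination Bp1 - Bm1 - Lp1 + Lm1
  have X56 : (4 : K) * X 5 6 = 0 := by linear_combination Bp2 - Bm2 - Lp2 + Lm2
  have X01 : (4 : K) * X 0 1 = 0 := by linear_combination B'p1 + L'p1 + B'm1 + L'm1
  have X03 : (2 : K) * X 0 3 = 0 := by linear_combination B'p2 + B'm2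
  have X05 : (4 : K) * X 0 5 = 0 := by linear_combination B'p1 - L'p1 + B'm1 - L'm1
  have X21 : (4 : K) * X 2 1 = 0 := by linear_combination B'p3 + L'p2 + B'm3 + L'm2
  have X23 : (2 : K) * X 2 3 = 0 := by linear_combination B'p4 + B'm4
  have X25 : (4 : K) * X 2 5 = 0 := by linear_combination B'p3 - L'p2 + B'm3 - L'm2
  have X41 : (4 : K) * X 4 1 = 0 := by linear_combination B'p1 + L'p1 - B'm1 - L'm1
  have X43 : (2 : K) * X 4 3 = 0 := by linear_combination B'p2 - B'm2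
  have X45 : (4 : K) * X 4 5 = 0 := by linear_combination B'p1 - L'p1 - B'm1 + L'm1
  have X61 : (4 : K) * X 6 1 = 0 := by linear_combination B'p3 + L'p2 - B'm3 - L'm2
  have X63 : (2 : K) * X 6 3 = 0 := by linear_combination B'p4 - B'm4
  have X65 : (4 : K) * X 6 5 = 0 := by linear_combination B'p3 - L'p2 - B'm3 + L'm2
  have h4ne : (4 : K) ≠ 0 := by
    have : (4 : K) = 2 * 2 := by norm_num
    rw [this]
    exact mul_ne_zero h2ne h2ne
  intro i j hij
  fin_cases i <;> fin_cases j <;> first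
    | exact absurd hij (by decide)
    | exact (mul_eq_zero.mp X01).resolve_left h4ne
    | exact (mul_eq_zero.mp X01).resolve_left h2ne
    | exact (mul_eq_zero.mp X03).resolve_left h4ne
    | exact (mul_eq_zero.mp X03).resolve_left h2ne
    | exact (mul_eq_zero.mp X05).resolve_left h4ne
    | exact (mul_eq_zero.mp X05).resolve_left h2ne
    | exact (mul_eq_zero.mp X10).resolve_left h4ne
    | exact (mul_eq_zero.mp X10).resolve_left h2ne
    | exact (mul_eq_zero.mp X12).resolve_left h4ne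
    | exact (mul_eq_zero.mp X12).resolve_left h2ne
    | exact (mul_eq_zero.mp X14).resolve_left h4ne
    | exact (mul_eq_zero.mp X14).resolve_left h2ne
    | exact (mul_eq_zero.mp X16).resolve_left h4ne
    | exact (mul_eq_zero.mp X16).resolve_left h2ne
    | exact (mul_eq_zero.mp X21).resolve_left h4ne
    | exact (mul_eq_zero.mp X21).resolve_left h2ne
    | exact (mul_eq_zero.mp X23).resolve_left h4ne
    | exact (mul_eq_zero.mp X23).resolve_left h2ne
    | exact (mul_eq_zero.mp X25).resolve_left h4ne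
    | exact (mul_eq_zero.mp X25).resolve_left h2ne
    | exact (mul_eq_zero.mp X30).resolve_left h4ne
    | exact (mul_eq_zero.mp X30).resolve_left h2ne
    | exact (mul_eq_zero.mp X32).resolve_left h4ne
    | exact (mul_eq_zero.mp X32).resolve_left h2ne
    | exact (mul_eq_zero.mp X34).resolve_left h4ne
    | exact (mul_eq_zero.mp X34).resolve_left h2ne
    | exact (mul_eq_zero.mp X36).resolve_left h4ne
    | exact (mul_eq_zero.mp X36).resolve_left h2ne
    | exact (mul_eq_zero.mp X41).resolve_left h4ne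
    | exact (mul_eq_zero.mp X41).resolve_left h2ne
    | exact (mul_eq_zero.mp X43).resolve_left h4ne
    | exact (mul_eq_zero.mp X43).resolve_left h2ne
    | exact (mul_eq_zero.mp X45).resolve_left h4ne
    | exact (mul_eq_zero.mp X45).resolve_left h2ne
    | exact (mul_eq_zero.mp X50).resolve_left h4ne
    | exact (mul_eq_zero.mp X50).resolve_left h2ne
    | exact (mul_eq_zero.mp X52).resolve_left h4ne
    | exact (mul_eq_zero.mp X52).resolve_left h2ne
    | exact (mul_eq_zero.mp X54).resolve_left h4ne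
    | exact (mul_eq_zero.mp X54).resolve_left h2ne
    | exact (mul_eq_zero.mp X56).resolve_left h4ne
    | exact (mul_eq_zero.mp X56).resolve_left h2ne
    | exact (mul_eq_zero.mp X61).resolve_left h4ne
    | exact (mul_eq_zero.mp X61).resolve_left h2ne
    | exact (mul_eq_zero.mp X63).resolve_left h4ne
    | exact (mul_eq_zero.mp X63).resolve_left h2ne
    | exact (mul_eq_zero.mp X65).resolve_left h4ne
    | exact (mul_eq_zero.mp X65).resolve_left h2ne

end main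

end Cfsg.Agent.H10
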