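import Cfsg.Agent.Lib.H10.ReeQ2

/-!
# The small Ree group: the non-split torus
-/

set_option autoImplicit false
set_option linter.style.longLine false
set_option linter.unusedSimpArgs false
set_option linter.unusedSectionVars false
set_option maxRecDepth 100000

open Cfsg Cfsg.Lie Cfsg.Agent.H04.Chev
open scoped MatrixGroups commutatorElement Pointwise

namespace Cfsg.Agent.H10

variable {K : Type*} [Field K] [CharP K 3] {m : ℕ} [Fintype K] (hK : Fintype.card K = 3 ^ (2 * m + 1))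

/-- the centraliser of the Weyl element in `SL₂` -/
def tT2 (K : Type*) [Field K] : Subgroup (SL(2, K)) := Subgroup.centralizer ({sW} : Set (SL(2, K)))

omit [Fintype K] in
lemma mem_tT2 {g : SL(2, K)} : g ∈ tT2 K ↔ g 1 0 = -g 0 1 ∧ g 1 1 = g 0 0 := by
  rw [tT2, Subgroup.mem_centralizer_singleton_iff]
  constructor
  · intro h
    exact sW_comm_entries h
  · rintro ⟨h1, h2⟩
    apply Subtype.ext
    rw [Matrix.SpecialLinearGroup.coe_mul, Matrix.SpecialLinearGroup.coe_mul, sW_val]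
    ext i j
    fin_cases i <;> fin_cases j <;> simp [Matrix.mul_apply, Fin.sum_univ_two, h1, h2]

include hK

/-- `-1` is not a square in `K` -/
lemma ree_noI (x y : K) (h : x ^ 2 + y ^ 2 = 0) : x = 0 ∧ y = 0 := by
  have hmod : Fintype.card K % 4 = 3 := by
    rw [hK]
    have h9 : ∀ m : ℕ, 3 ^ (2 * m + 1) % 4 = 3 := by
      intro m
      induction m with
      | zero => rfl
      | succ n ih =>
        have : 3 ^ (2 * (n + 1) + 1) = 3 ^ (2 * n + 1) * 9 := by ring
        omega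
    exact h9 m
  have hns : ¬ IsSquare (-1 : K) := by
    rw [FiniteField.isSquare_neg_one_iff]
    omega
  by_cases hy : y = 0
  · subst hy
    simp only [ne_eq, OfNat.ofNat_ne_zero, not_false_eq_true, zero_pow, add_zero, pow_eq_zero_iff] at h
    exact ⟨h, rfl⟩
  · exfalso
    apply hns
    refine ⟨x / y, ?_⟩
    field_simp
    linear_combination -h

omit hK in
lemma T2_mul_entries {g h : SL(2, K)} (hg : g ∈ tT2 K) (hh : h ∈ tT2 K) : (g * h) 0 0 = g 0 0 * h 0 0 - g 0 1 * h 0 1 ∧ (g * h) 0 1 = g 0 0 * h 0 1 + g 0 1 * h 0 0 := by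
  obtain ⟨h1, h2⟩ := mem_tT2.mp hh
  constructor <;> simp [Matrix.SpecialLinearGroup.coe_mul, Matrix.mul_apply, Fin.sum_univ_two, h1, h2] <;> ring

omit hK in
lemma T2_ext {g h : SL(2, K)} (hg : g ∈ tT2 K) (hh : h ∈ tT2 K) (h0 : g 0 0 = h 0 0) (h1 : g 0 1 = h 0 1) : g = h := by
  obtain ⟨a1, a2⟩ := mem_tT2.mp hg
  obtain ⟨b1, b2⟩ := mem_tT2.mp hh
  apply sl2_ext' h0 h1
  · rw [a1, b1, h1]
  · rw [a2, b2, h0]

omit hK in
lemma T2_comm {g h : SL(2, K)} (hg : g ∈ tT2 K) (hh : h ∈ tT2 K) : g * h = h * g := by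
  obtain ⟨e1, e2⟩ := T2_mul_entries hg hh
  obtain ⟨e3, e4⟩ := T2_mul_entries hh hg
  apply T2_ext (mul_mem hg hh) (mul_mem hh hg)
  · rw [e1, e3]; ring
  · rw [e2, e4]; ring

omit hK in
lemma T2_norm (g : SL(2, K)) (hg : g ∈ tT2 K) : g 0 0 ^ 2 + g 0 1 ^ 2 = 1 := by
  have d := sl2_det' g
  obtain ⟨a1, a2⟩ := mem_tT2.mp hg
  rw [a1, a2] at d
  linear_combination d

lemma T2_prime_sq {g : SL(2, K)} (hg : g ∈ tT2 K) (h3a : g 0 0 ^ 3 = g 0 0) (h3b : g 0 1 ^ 3 = g 0 1) : tSL hK g ^ 2 = 1 := by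
  have hn := T2_norm g hg
  have h2 : (2 : K) ≠ 0 := ree_two_ne
  obtain ⟨e1, e2⟩ := T2_mul_entries hg hg
  have ha : g 0 0 = 0 ∨ g 0 0 ^ 2 = 1 := by
    have : g 0 0 * (g 0 0 ^ 2 - 1) = 0 := by linear_combination h3a
    rcases mul_eq_zero.mp this with h | h
    · exact Or.inl h
    · exact Or.inr (sub_eq_zero.mp h)
  have hb : g 0 1 = 0 ∨ g 0 1 ^ 2 = 1 := by
    have : g 0 1 * (g 0 1 ^ 2 - 1) = 0 := by linear_combination h3b
    rcases mul_eq_zero.mp this with h | h
    · exact Or.inl h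
    · exact Or.inr (sub_eq_zero.mp h)
  have hab : g 0 0 * g 0 1 = 0 := by
    rcases ha with h | h
    · rw [h, zero_mul]
    · rcases hb with h' | h'
      · rw [h', mul_zero]
      · exfalso
        rw [h, h'] at hn
        have : (1 : K) = 0 := by linear_combination hn
        exact one_ne_zero this
  rw [sq, ← map_mul, tSL_eq_one_iff]
  obtain ⟨a1, a2⟩ := mem_tT2.mp (mul_mem hg hg)
  have h00 : (g * g) 0 0 ^ 2 = 1 ∧ (g * g) 0 1 = 0 := by
    rw [e1, e2]
    constructor
    · have : g 0 1 ^ 2 = 1 - g 0 0 ^ 2 := by linear_combination hn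
      have h4 : (g 0 0 * g 0 0 - g 0 1 * g 0 1) ^ 2 = (g 0 0 ^ 2 + g 0 1 ^ 2) ^ 2 - 4 * (g 0 0 * g 0 1) ^ 2 := by ring
      rw [h4, hn, hab]
      ring
    · linear_combination 2 * hab
  obtain ⟨h5, h6⟩ := h00
  rcases eq_one_or_of_sq h5 with h | h
  · left
    apply sl2_ext'
    · simpa using h
    · simpa using h6
    · rw [a1, h6]; simp
    · rw [a2, h]; simp
  · right
    apply sl2_ext'
    · simpa using h
    · simpa using h6
    · rw [a1, h6]; simp
    · rw [a2, h]; simp

/-- scalar conditions for the block lemma -/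
lemma T2_conditions {a b : K} (hab : a ^ 2 + b ^ 2 = 1) (hnp : ¬ (a ^ 3 = a ∧ b ^ 3 = b)) :
    let A := reeF K m a
    let B := reeF K m b
    ¬ (a * A - b * B = 1 ∧ a * B + b * A = 0) ∧
    ¬ (a * A + b * B = 1 ∧ a * B - b * A = 0) ∧
    ¬ (A ^ 2 - B ^ 2 = a * A - b * B ∧ 2 * A * B = a * B + b * A) ∧
    ¬ (A ^ 2 - B ^ 2 = a * A - b * B ∧ 2 * A * B = -(a * B + b * A)) ∧
    ¬ (A ^ 2 - B ^ 2 = a * A + b * B ∧ 2 * A * B = a * B - b * A) ∧
    ¬ (A ^ 2 - B ^ 2 = a * A + b * B ∧ 2 * A * B = -(a * B - b * A)) := by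
  intro A B
  have h3 : (3 : K) = 0 := ree_three
  have hAB : A ^ 2 + B ^ 2 = 1 := by
    have := congrArg (reeF K m) hab
    simpa [A, B, map_add, map_pow, map_one] using this
  have p3a : reeF K m A ^ 3 = a := by
    have := (reeF_tits hK).pow3 a
    rw [map_pow] at this
    exact this
  have p3b : reeF K m B ^ 3 = b := by
    have := (reeF_tits hK).pow3 b
    rw [map_pow] at this
    exact this
  -- the two basic bad cases
  have bad1 : A = a → B = b → False := by
    intro e1 e2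
    apply hnp
    constructor
    · have h1 : reeF K m A = a := by
        rw [e1]; exact e1
      rw [h1] at p3a
      exact p3a
    · have h1 : reeF K m B = b := by
        rw [e2]; exact e2
      rw [h1] at p3b
      exact p3b
  have bad2 : A = a → B = -b → False := by
    intro e1 e2
    apply hnp
    constructor
    · have h1 : reeF K m A = a := by
        rw [e1]; exact e1
      rw [h1] at p3a
      exact p3a
    · have h1 : reeF K m B = b := by
        rw [e2, map_neg]
        show -B = b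
        rw [e2, neg_neg]
      rw [h1] at p3b
      exact p3b
  refine ⟨?_, ?_, ?_, ?_, ?_, ?_⟩
  · rintro ⟨e1, e2⟩
    apply bad2
    · linear_combination a * e1 + b * e2 - A * hab
    · linear_combination a * e2 - b * e1 - B * hab
  · rintro ⟨e1, e2⟩
    apply bad1
    · linear_combination a * e1 - b * e2 - A * hab
    · linear_combination a * e2 + b * e1 - B * hab
  · rintro ⟨e1, e2⟩
    apply bad1
    · linear_combination A * e1 + B * e2 - (A - a) * hAB
    · linear_combination A * e2 - B * e1 - (B - b) * hAB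
  · rintro ⟨e1, e2⟩
    have c1 : A ^ 3 = a := by
      linear_combination A * e1 - B * e2 + A * B ^ 2 * h3 + a * hAB
    have c2 : B ^ 3 = b := by
      linear_combination -A * e2 - B * e1 + A ^ 2 * B * h3 + b * hAB
    apply bad1
    · have h1 : reeF K m A ^ 3 = A := by
        rw [← map_pow, c1]
      rw [← h1, p3a]
    · have h1 : reeF K m B ^ 3 = B := by
        rw [← map_pow, c2]
      rw [← h1, p3b]
  · rintro ⟨e1, e2⟩
    apply bad2
    · linear_combination A * e1 + B * e2 - (A - a) * hAB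
    · linear_combination A * e2 - B * e1 - (B + b) * hAB
  · rintro ⟨e1, e2⟩
    have c1 : A ^ 3 = a := by
      linear_combination A * e1 - B * e2 + A * B ^ 2 * h3 + a * hAB
    have c2 : B ^ 3 = -b := by
      linear_combination -A * e2 - B * e1 + A ^ 2 * B * h3 - b * hAB
    apply bad2
    · have h1 : reeF K m A ^ 3 = A := by
        rw [← map_pow, c1]
      rw [← h1, p3a]
    · have h1 : reeF K m B ^ 3 = -B := by
        rw [← map_pow, c2, map_neg]
      have h2 : -B = b := by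
        rw [← h1, p3b]
      rw [← h2, neg_neg]

/-- elements of the non-split torus other than the obvious ones: the involution is isolated -/
theorem comm_a_of_T2 {g : SL(2, K)} (hg : g ∈ tT2 K) (hnp : ¬ (g 0 0 ^ 3 = g 0 0 ∧ g 0 1 ^ 3 = g 0 1))
    {x : RT K m} (hx : x * tSL hK g = tSL hK g * x) : x * tA hK = tA hK * x := by
  obtain ⟨a1, a2⟩ := mem_tT2.mp hg
  obtain ⟨C1, C2, C3, C4, C5, C6⟩ := T2_conditions hK (T2_norm g hg) hnp
  have hAB : reeF K m (g 0 0) ^ 2 + reeF K m (g 0 1) ^ 2 = 1 := by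
    have := congrArg (reeF K m) (T2_norm g hg)
    simpa [map_add, map_pow, map_one] using this
  have hM : ((r7 hK (tSL hK g) : GL (Fin 7) K) : Matrix (Fin 7) (Fin 7) K) =
      m7L (g 0 0) (g 0 1) (-(g 0 1)) (g 0 0) (reeF K m (g 0 0)) (reeF K m (g 0 1)) (-(reeF K m (g 0 1))) (reeF K m (g 0 0)) := by
    rw [r7_tSL_val, mL_apply, a1, a2, map_neg]
  have hX : ((r7 hK x : GL (Fin 7) K) : Matrix (Fin 7) (Fin 7) K) * m7L (g 0 0) (g 0 1) (-(g 0 1)) (g 0 0) (reeF K m (g 0 0)) (reeF K m (g 0 1)) (-(reeF K m (g 0 1))) (reeF K m (g 0 0)) =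
      m7L (g 0 0) (g 0 1) (-(g 0 1)) (g 0 0) (reeF K m (g 0 0)) (reeF K m (g 0 1)) (-(reeF K m (g 0 1))) (reeF K m (g 0 0)) * ((r7 hK x : GL (Fin 7) K) : Matrix (Fin 7) (Fin 7) K) := by
    rw [← hM]
    have := congrArg (fun y : RT K m => ((r7 hK y : GL (Fin 7) K) : Matrix (Fin 7) (Fin 7) K)) hx
    simpa only [map_mul, Units.val_mul] using this
  have h0 := m7L_offdiag (ree_noI hK) ree_two_ne ree_three hAB hX C1 C2 C3 C4 C5 C6
  apply r7_ext hK
  simp only [map_mul, Units.val_mul, r7_tA hK]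
  set Y := ((r7 hK x : GL (Fin 7) K) : Matrix (Fin 7) (Fin 7) K) with hY
  ext i j
  have hz : (i.val + j.val) % 2 = 1 → Y i j = 0 := h0 i j
  fin_cases i <;> fin_cases j <;> simp [m7A, m7T, Matrix.mul_apply, Fin.sum_univ_succ] <;> first
    | rfl
    | (have := hz (by decide); simp at this; simp [this])

end Cfsg.Agent.H10
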