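import Cfsg.Agent.Lib.H10.ReeQ3

/-!
# The small Ree group: the non-split torus, II
-/

set_option autoImplicit false
set_option linter.style.longLine false
set_option linter.unusedSimpArgs false
set_option linter.unusedSectionVars false
set_option maxRecDepth 100000

open Cfsg Cfsg.Lie Cfsg.Agent.H04.Chev
open scoped MatrixGroups commutatorElement Pointwise

namespace Cfsg.Agent.H10

section general

variable {G : Type*} [Group G] [Finite G]

/-- `p`-elements are conjugate into a subgroup of index prime to `p` -/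
lemma conj_into_of_index (A : Subgroup G) {p : ℕ} [Fact p.Prime] (hp : ¬ p ∣ A.index) {x : G} {k : ℕ} (hx : x ^ p ^ k = 1) :
    ∃ c : G, c * x * c⁻¹ ∈ A := by
  classical
  -- a Sylow subgroup of `A`
  obtain ⟨P₁⟩ := (inferInstance : Nonempty (Sylow p A))
  let P : Subgroup G := (P₁ : Subgroup A).map A.subtype
  have hP : IsPGroup p P := (P₁.2).map A.subtype
  have hPA : P ≤ A := by
    rintro _ ⟨y, -, rfl⟩
    exact y.2
  have hi : ¬ p ∣ P.index := by
    have e1 : P.index = (P.subgroupOf A).index * A.index := (Subgroup.relIndex_mul_index hPA).symm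
    have e2 : P.subgroupOf A = (P₁ : Subgroup A) := by
      exact Subgroup.comap_map_eq_self_of_injective A.subtype_injective _
    rw [e1, e2]
    intro h
    rcases (Nat.Prime.dvd_mul (Fact.out)).mp h with h | h
    · exact P₁.not_dvd_index h
    · exact hp h
  let Q := hP.toSylow hi
  have hQ : (Q : Subgroup G) = P := rfl
  have hxp : IsPGroup p (Subgroup.zpowers x) := by
    rintro ⟨g, n, rfl⟩
    refine ⟨k, Subtype.ext ?_⟩
    show (x ^ n) ^ p ^ k = 1
    rw [← zpow_natCast, ← zpow_mul, mul_comm, zpow_mul, zpow_natCast, hx, one_zpow]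
  obtain ⟨R, hR⟩ := hxp.exists_le_sylow
  obtain ⟨g, hg⟩ := MulAction.exists_smul_eq G R Q
  refine ⟨g, hPA ?_⟩
  rw [← hQ, ← hg, Sylow.coe_subgroup_smul]
  have hxR : x ∈ R := hR (Subgroup.mem_zpowers x)
  rw [Subgroup.mem_pointwise_smul_iff_inv_smul_mem, MulAut.smul_def, MulAut.conj_inv_apply]
  have e : g⁻¹ * (g * x * g⁻¹) * g = x := by group
  rw [e]
  exact hxR

/-- a finite group mapping injectively to a finite domain is cyclic -/
lemma isCyclic_of_domain_hom {R : Type*} [Ring R] [IsDomain R] [Finite R] {H : Type*} [Group H] [Finite H] (f : H →* R)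
    (hf : Function.Injective f) : IsCyclic H := by
  letI := (Finite.isDomain_to_isField R).toField
  exact isCyclic_of_injective_ringHom f hf

end general

variable {K : Type*} [Field K] [CharP K 3] {m : ℕ} [Fintype K] (hK : Fintype.card K = 3 ^ (2 * m + 1))

/-- construction of elements of the non-split torus -/
def tmk (x y : K) (h : x ^ 2 + y ^ 2 = 1) : SL(2, K) := ⟨!![x, y; -y, x], by
  rw [Matrix.det_fin_two]
  simp
  linear_combination h⟩

omit [CharP K 3] [Fintype K] in
lemma tmk_val (x y : K) (h : x ^ 2 + y ^ 2 = 1) : ((tmk x y h : SL(2, K)) : Matrix (Fin 2) (Fin 2) K) = !![x, y; -y, x] := rfl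

omit [CharP K 3] [Fintype K] in
lemma tmk_00 (x y : K) (h : x ^ 2 + y ^ 2 = 1) : (tmk x y h) 0 0 = x := rfl

omit [CharP K 3] [Fintype K] in
lemma tmk_01 (x y : K) (h : x ^ 2 + y ^ 2 = 1) : (tmk x y h) 0 1 = y := rfl

omit [CharP K 3] [Fintype K] in
lemma stereo1 (h2 : (2 : K) ≠ 0) (t : K) (hD : 1 + t ^ 2 ≠ 0) : (2 * t / (1 + t ^ 2)) / (1 + (1 - t ^ 2) / (1 + t ^ 2)) = t := by
  have e : 1 + (1 - t ^ 2) / (1 + t ^ 2) = 2 / (1 + t ^ 2) := by
    field_simp
    ring
  rw [e]
  field_simp

omit [CharP K 3] [Fintype K] in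
lemma stereo2 {x y : K} (h : x ^ 2 + y ^ 2 = 1) (hx : 1 + x ≠ 0) (h2 : (2 : K) ≠ 0) (hD : 1 + (y / (1 + x)) ^ 2 ≠ 0) :
    (1 - (y / (1 + x)) ^ 2) / (1 + (y / (1 + x)) ^ 2) = x ∧ 2 * (y / (1 + x)) / (1 + (y / (1 + x)) ^ 2) = y := by
  have hy : y ^ 2 = 1 - x ^ 2 := by linear_combination h
  have e1 : 1 + (y / (1 + x)) ^ 2 = 2 / (1 + x) := by
    field_simp
    rw [hy]
    ring
  have e2 : 1 - (y / (1 + x)) ^ 2 = 2 * x / (1 + x) := by
    field_simp
    rw [hy]
    ring
  rw [e1, e2]
  constructor <;> field_simp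

omit [Fintype K] in
lemma tmk_mem (x y : K) (h : x ^ 2 + y ^ 2 = 1) : tmk x y h ∈ tT2 K := by
  rw [mem_tT2]
  simp [tmk_val]

include hK

/-- the order of the non-split torus -/
theorem card_tT2 : Nat.card (tT2 K) = 3 ^ (2 * m + 1) + 1 := by
  classical
  have h2 : (2 : K) ≠ 0 := ree_two_ne
  have hne : ∀ t : K, 1 + t ^ 2 ≠ 0 := by
    intro t h
    have : t ^ 2 + 1 ^ 2 = 0 := by linear_combination h
    exact one_ne_zero (ree_noI hK _ _ this).2
  have hcirc : ∀ t : K, ((1 - t ^ 2) / (1 + t ^ 2)) ^ 2 + (2 * t / (1 + t ^ 2)) ^ 2 = 1 := by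
    intro t
    have := hne t
    field_simp
    ring
  have hneg : (-1 : SL(2, K)) ∈ tT2 K := by
    rw [mem_tT2]
    simp [Matrix.SpecialLinearGroup.coe_neg]
  let e : Option K ≃ tT2 K :=
    { toFun := fun o => match o with
        | none => ⟨-1, hneg⟩
        | some t => ⟨tmk _ _ (hcirc t), tmk_mem _ _ _⟩
      invFun := fun g => if (g : SL(2, K)) 0 0 = -1 then none else some ((g : SL(2, K)) 0 1 / (1 + (g : SL(2, K)) 0 0))
      left_inv := by
        intro o
        cases o with
        | none =>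
          simp [Matrix.SpecialLinearGroup.coe_neg]
        | some t =>
          have h1 : (1 - t ^ 2) / (1 + t ^ 2) ≠ -1 := by
            intro h
            have := hne t
            field_simp at h
            apply h2
            linear_combination h
          simp only [tmk_00, tmk_01, h1, if_false]
          rw [stereo1 h2 t (hne t)]
      right_inv := by
        rintro ⟨g, hg⟩
        have hn := T2_norm g hg
        by_cases h : g 0 0 = -1
        · have hb : g 0 1 = 0 := by
            rw [h] at hn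
            have : g 0 1 ^ 2 = 0 := by linear_combination hn
            exact pow_eq_zero_iff (two_ne_zero) |>.mp this
          have e1 : g = -1 := by
            apply T2_ext hg hneg
            · simpa [Matrix.SpecialLinearGroup.coe_neg] using h
            · simpa [Matrix.SpecialLinearGroup.coe_neg] using hb
          subst e1
          simp [Matrix.SpecialLinearGroup.coe_neg]
        · have h1 : 1 + g 0 0 ≠ 0 := by
            intro h'
            apply h
            linear_combination h'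
          simp only [h, if_false]
          apply Subtype.ext
          obtain ⟨e1, e2⟩ := stereo2 hn h1 h2 (hne _)
          apply T2_ext (tmk_mem _ _ (hcirc _)) hg
          · rw [tmk_00, e1]
          · rw [tmk_01, e2] }
  have := Nat.card_congr e
  rw [← this, Nat.card_eq_fintype_card, Fintype.card_option, hK]

/-- the non-split torus is cyclic -/
theorem isCyclic_tT2 : IsCyclic (tT2 K) := by
  classical
  haveI : Finite (Matrix (Fin 2) (Fin 2) K) := inferInstance
  let z : Matrix (Fin 2) (Fin 2) K := !![0, 1; -1, 0]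
  let R := Subalgebra.centralizer K ({z} : Set (Matrix (Fin 2) (Fin 2) K))
  haveI : Finite R := Finite.of_injective (fun x : R => x.1) Subtype.val_injective
  have hmem : ∀ x : R, (x : Matrix (Fin 2) (Fin 2) K) 1 0 = -(x : Matrix (Fin 2) (Fin 2) K) 0 1 ∧ (x : Matrix (Fin 2) (Fin 2) K) 1 1 = (x : Matrix (Fin 2) (Fin 2) K) 0 0 := by
    rintro ⟨x, hx⟩
    rw [Subalgebra.mem_centralizer_iff] at hx
    have h1 := hx z (by simp)
    have e1 := congrFun (congrFun h1 0) 0
    have e2 := congrFun (congrFun h1 0) 1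
    simp [z, Matrix.mul_apply, Fin.sum_univ_two] at e1 e2
    exact ⟨e1, e2⟩
  haveI : NoZeroDivisors R := ⟨by
    intro u v h
    by_contra hcon
    push Not at hcon
    have hu : (u : Matrix (Fin 2) (Fin 2) K) 0 0 ≠ 0 ∨ (u : Matrix (Fin 2) (Fin 2) K) 0 1 ≠ 0 := by
      by_contra hc
      push Not at hc
      apply hcon.1
      obtain ⟨a1, a2⟩ := hmem u
      apply Subtype.ext
      ext i j
      fin_cases i <;> fin_cases j
      · exact hc.1
      · exact hc.2
      · show (u : Matrix (Fin 2) (Fin 2) K) 1 0 = 0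
        rw [a1, hc.2, neg_zero]
      · show (u : Matrix (Fin 2) (Fin 2) K) 1 1 = 0
        rw [a2, hc.1]
    have hd : (u : Matrix (Fin 2) (Fin 2) K) 0 0 ^ 2 + (u : Matrix (Fin 2) (Fin 2) K) 0 1 ^ 2 ≠ 0 := by
      intro hz
      obtain ⟨h3, h4⟩ := ree_noI hK _ _ hz
      rcases hu with hu | hu
      · exact hu h3
      · exact hu h4
    apply hcon.2
    obtain ⟨a1, a2⟩ := hmem u
    obtain ⟨b1, b2⟩ := hmem v
    have e := congrArg Subtype.val h
    have e1 := congrFun (congrFun e 0) 0
    have e2 := congrFun (congrFun e 0) 1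
    simp [Matrix.mul_apply, Fin.sum_univ_two, b1, b2] at e1 e2
    have s1 : (v : Matrix (Fin 2) (Fin 2) K) 0 0 = 0 := by
      have : ((u : Matrix (Fin 2) (Fin 2) K) 0 0 ^ 2 + (u : Matrix (Fin 2) (Fin 2) K) 0 1 ^ 2) * (v : Matrix (Fin 2) (Fin 2) K) 0 0 = 0 := by
        linear_combination (u : Matrix (Fin 2) (Fin 2) K) 0 0 * e1 + (u : Matrix (Fin 2) (Fin 2) K) 0 1 * e2
      exact (mul_eq_zero.mp this).resolve_left hd
    have s2 : (v : Matrix (Fin 2) (Fin 2) K) 0 1 = 0 := by
      have : ((u : Matrix (Fin 2) (Fin 2) K) 0 0 ^ 2 + (u : Matrix (Fin 2) (Fin 2) K) 0 1 ^ 2) * (v : Matrix (Fin 2) (Fin 2) K) 0 1 = 0 := by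
        linear_combination (u : Matrix (Fin 2) (Fin 2) K) 0 0 * e2 - (u : Matrix (Fin 2) (Fin 2) K) 0 1 * e1
      exact (mul_eq_zero.mp this).resolve_left hd
    apply Subtype.ext
    ext i j
    fin_cases i <;> fin_cases j
    · exact s1
    · exact s2
    · show (v : Matrix (Fin 2) (Fin 2) K) 1 0 = 0
      rw [b1, s2, neg_zero]
    · show (v : Matrix (Fin 2) (Fin 2) K) 1 1 = 0
      rw [b2, s1]⟩
  haveI : IsDomain R := NoZeroDivisors.to_isDomain _
  let f : tT2 K →* R :=
    { toFun := fun g => ⟨((g : SL(2, K)) : Matrix (Fin 2) (Fin 2) K), by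
        rw [Subalgebra.mem_centralizer_iff]
        intro y hy
        obtain rfl : y = z := by simpa using hy
        have h1 := (Subgroup.mem_centralizer_singleton_iff.mp g.2)
        have := congrArg Subtype.val h1
        rw [Matrix.SpecialLinearGroup.coe_mul, Matrix.SpecialLinearGroup.coe_mul] at this
        exact this.symm⟩
      map_one' := rfl
      map_mul' := fun a b => rfl }
  apply isCyclic_of_domain_hom f
  intro a b h
  have e := congrArg Subtype.val h
  exact Subtype.ext (Subtype.ext e)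

/-- the image of the non-split torus -/
noncomputable def tTT : Subgroup (RT K m) := (tT2 K).map (tSL hK)

lemma mem_tTT {x : RT K m} : x ∈ tTT hK ↔ ∃ g ∈ tT2 K, x = tSL hK g := by
  constructor
  · rintro ⟨g, hg, rfl⟩
    exact ⟨g, hg, rfl⟩
  · rintro ⟨g, hg, rfl⟩
    exact ⟨g, hg, rfl⟩

lemma neg_one_mem_tT2 : (-1 : SL(2, K)) ∈ tT2 K := by
  rw [mem_tT2]
  simp [Matrix.SpecialLinearGroup.coe_neg]

lemma sW_mem_tT2 : (sW : SL(2, K)) ∈ tT2 K := by
  rw [mem_tT2, sW_val]
  simp

theorem isCyclic_tTT : IsCyclic (tTT hK) := by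
  haveI := isCyclic_tT2 hK
  let f : tT2 K →* tTT hK := ((tSL hK).comp (tT2 K).subtype).codRestrict (tTT hK) (fun g => ⟨g, g.2, rfl⟩)
  apply isCyclic_of_surjective f
  rintro ⟨_, g, hg, rfl⟩
  exact ⟨⟨g, hg⟩, rfl⟩

theorem card_tTT_mul : 2 * Nat.card (tTT hK) = 3 ^ (2 * m + 1) + 1 := by
  classical
  rw [← card_tT2 hK]
  let f : tT2 K →* RT K m := (tSL hK).comp (tT2 K).subtype
  have hr : Nat.card f.range = Nat.card (tTT hK) := by
    have : f.range = tTT hK := by
      ext x
      rw [mem_tTT, MonoidHom.mem_range]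
      constructor
      · rintro ⟨g, rfl⟩
        exact ⟨g, g.2, rfl⟩
      · rintro ⟨g, hg, rfl⟩
        exact ⟨⟨g, hg⟩, rfl⟩
    rw [this]
  have h1 := Subgroup.card_mul_index f.ker
  rw [Subgroup.index_ker, hr] at h1
  rw [← h1]
  congr 1
  -- the kernel
  have hneg : (-1 : SL(2, K)) ≠ 1 := by
    intro h
    have e := congrArg (fun x : SL(2, K) => (x : Matrix (Fin 2) (Fin 2) K) 0 0) h
    simp [Matrix.SpecialLinearGroup.coe_neg] at e
    have h2 : (2 : K) ≠ 0 := ree_two_ne
    apply h2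
    linear_combination -e
  have hk : (f.ker : Set (tT2 K)) = {1, ⟨-1, neg_one_mem_tT2 hK⟩} := by
    ext g
    simp only [SetLike.mem_coe, MonoidHom.mem_ker, Set.mem_insert_iff, Set.mem_singleton_iff]
    show tSL hK g = 1 ↔ _
    rw [tSL_eq_one_iff]
    constructor
    · rintro (h | h)
      · left
        exact Subtype.ext h
      · right
        exact Subtype.ext h
    · rintro (h | h)
      · left
        rw [h]
        rfl
      · right
        rw [h]
    
  have : Nat.card f.ker = Nat.card ({1, ⟨-1, neg_one_mem_tT2 hK⟩} : Set (tT2 K)) := by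
    rw [← hk]
    rfl
  rw [this, Nat.card_coe_set_eq, Set.ncard_pair]
  intro h
  have e := congrArg Subtype.val h
  exact hneg e.symm

/-- the group `K₀` -/
noncomputable def tK0 : Subgroup (RT K m) where
  carrier := {x | x ∈ tTT hK ∨ tA hK * x ∈ tTT hK}
  one_mem' := Or.inl (one_mem _)
  inv_mem' := by
    rintro x (hx | hx)
    · exact Or.inl (inv_mem hx)
    · right
      obtain ⟨g, hg, e⟩ := (mem_tTT hK).mp hx
      have hxe : x = tA hK * tSL hK g := by
        rw [← e, ← mul_assoc, tA_sq, one_mul]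
      rw [hxe, mul_inv_rev, tA_inv, ← mul_assoc, ← map_inv]
      have e1 := a_comm_tSL hK g⁻¹
      have e2 : tA hK * tSL hK g⁻¹ = tSL hK g⁻¹ * tA hK := e1
      rw [e2, mul_assoc, tA_sq, mul_one]
      exact (mem_tTT hK).mpr ⟨g⁻¹, inv_mem hg, rfl⟩
  mul_mem' := by
    intro x y hx hy
    have hcom : ∀ g : SL(2, K), tA hK * tSL hK g = tSL hK g * tA hK := fun g => a_comm_tSL hK g
    rcases hx with hx | hx <;> rcases hy with hy | hy
    · exact Or.inl (mul_mem hx hy)
    · right
      obtain ⟨g, hg, e⟩ := (mem_tTT hK).mp hx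
      rw [e, ← mul_assoc, hcom, mul_assoc]
      exact mul_mem ((mem_tTT hK).mpr ⟨g, hg, rfl⟩) hy
    · right
      rw [← mul_assoc]
      exact mul_mem hx hy
    · left
      obtain ⟨g, hg, e⟩ := (mem_tTT hK).mp hx
      have hxe : x = tA hK * tSL hK g := by
        rw [← e, ← mul_assoc, tA_sq, one_mul]
      rw [hxe, hcom, mul_assoc]
      exact mul_mem ((mem_tTT hK).mpr ⟨g, hg, rfl⟩) hy

lemma mem_tK0 {x : RT K m} : x ∈ tK0 hK ↔ ∃ g ∈ tT2 K, x = tSL hK g ∨ x = tA hK * tSL hK g := by
  constructor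
  · rintro (hx | hx)
    · obtain ⟨g, hg, e⟩ := (mem_tTT hK).mp hx
      exact ⟨g, hg, Or.inl e⟩
    · obtain ⟨g, hg, e⟩ := (mem_tTT hK).mp hx
      refine ⟨g, hg, Or.inr ?_⟩
      rw [← e, ← mul_assoc, tA_sq, one_mul]
  · rintro ⟨g, hg, rfl | rfl⟩
    · exact Or.inl ((mem_tTT hK).mpr ⟨g, hg, rfl⟩)
    · right
      rw [← mul_assoc, tA_sq, one_mul]
      exact (mem_tTT hK).mpr ⟨g, hg, rfl⟩

lemma tTT_le_tK0 : tTT hK ≤ tK0 hK := fun _ hx => Or.inl hx

lemma tA_mem_tK0 : tA hK ∈ tK0 hK := by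
  right
  rw [tA_sq]
  exact one_mem _

lemma tW_mem_tTT : tW K m ∈ tTT hK := (mem_tTT hK).mpr ⟨sW, sW_mem_tT2 hK, (tSL_sW hK).symm⟩

lemma tK0_comm {x y : RT K m} (hx : x ∈ tK0 hK) (hy : y ∈ tK0 hK) : x * y = y * x := by
  have hcom : ∀ g : SL(2, K), tA hK * tSL hK g = tSL hK g * tA hK := fun g => a_comm_tSL hK g
  obtain ⟨g, hg, e⟩ := (mem_tK0 hK).mp hx
  obtain ⟨h, hh, e'⟩ := (mem_tK0 hK).mp hy
  have c : tSL hK g * tSL hK h = tSL hK h * tSL hK g := by
    rw [← map_mul, T2_comm hg hh, map_mul]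
  rcases e with rfl | rfl <;> rcases e' with rfl | rfl
  · exact c
  · rw [← mul_assoc, ← hcom, mul_assoc, c, mul_assoc]
  · rw [mul_assoc, c, ← mul_assoc, ← mul_assoc, hcom]
  · calc tA hK * tSL hK g * (tA hK * tSL hK h) = tA hK * (tSL hK g * tA hK) * tSL hK h := by group
      _ = tA hK * (tA hK * tSL hK g) * tSL hK h := by rw [hcom]
      _ = tA hK * tA hK * (tSL hK g * tSL hK h) := by group
      _ = tA hK * tA hK * (tSL hK h * tSL hK g) := by rw [c]
      _ = tA hK * (tA hK * tSL hK h) * tSL hK g := by group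
      _ = tA hK * (tSL hK h * tA hK) * tSL hK g := by rw [hcom]
      _ = _ := by group

/-- the order of `K₀` -/
theorem card_tK0 : Nat.card (tK0 hK) = 3 ^ (2 * m + 1) + 1 := by
  classical
  rw [← card_tTT_mul hK]
  have hnot : tA hK ∉ tTT hK := by
    intro h
    obtain ⟨g, -, e⟩ := (mem_tTT hK).mp h
    exact a_not_tSL hK g e.symm
  let F : Bool × tTT hK → tK0 hK := fun p =>
    if p.1 then ⟨tA hK * p.2, mul_mem (tA_mem_tK0 hK) (tTT_le_tK0 hK p.2.2)⟩ else ⟨p.2, tTT_le_tK0 hK p.2.2⟩
  have hF : Function.Bijective F := by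
    constructor
    · rintro ⟨i, x⟩ ⟨j, y⟩ h
      have e := congrArg Subtype.val h
      cases i <;> cases j <;> simp [F] at e
      · rw [e]
      · exfalso
        apply hnot
        have : tA hK = x.1 * (y.1)⁻¹ := by
          rw [e]
          group
        rw [this]
        exact mul_mem x.2 (inv_mem y.2)
      · exfalso
        apply hnot
        have : tA hK = y.1 * (x.1)⁻¹ := by
          rw [← e]
          group
        rw [this]
        exact mul_mem y.2 (inv_mem x.2)
      · rw [e]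
    · rintro ⟨x, hx | hx⟩
      · exact ⟨(false, ⟨x, hx⟩), rfl⟩
      · refine ⟨(true, ⟨_, hx⟩), Subtype.ext ?_⟩
        show tA hK * (tA hK * x) = x
        rw [← mul_assoc, tA_sq, one_mul]
  have h := Nat.card_congr (Equiv.ofBijective F hF)
  rw [← h, Nat.card_prod]
  simp

end Cfsg.Agent.H10
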