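import Cfsg.Agent.Lib.H10.ReeQ4
import Cfsg.Agent.Lib.H10.CardSL

/-!
# The small Ree group: the odd part of the non-split torus
-/

set_option autoImplicit false
set_option linter.style.longLine false
set_option linter.unusedSimpArgs false
set_option linter.unusedSectionVars false
set_option maxRecDepth 100000

open Cfsg Cfsg.Lie Cfsg.Agent.H04.Chev
open scoped MatrixGroups commutatorElement Pointwise

namespace Cfsg.Agent.H10

variable {K : Type*} [Field K] [CharP K 3] {m : ℕ} [Fintype K] (hK : Fintype.card K = 3 ^ (2 * m + 1))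

/-- the number `n = (q + 1) / 4` -/
def reeN (m : ℕ) : ℕ := (3 ^ (2 * m + 1) + 1) / 4

lemma reeN_spec (m : ℕ) : 4 * reeN m = 3 ^ (2 * m + 1) + 1 := by
  have := ree_num_mod8 m
  unfold reeN
  omega

lemma reeN_odd (m : ℕ) : Odd (reeN m) := by
  have h1 := ree_num_mod8 m
  have h2 := reeN_spec m
  rw [Nat.odd_iff]
  omega

lemma reeN_gt (hm : 1 ≤ m) : 7 ≤ reeN m := by
  have h2 := reeN_spec m
  have h3 : 3 ^ 3 ≤ 3 ^ (2 * m + 1) := Nat.pow_le_pow_right (by norm_num) (by omega)
  omega

include hK

lemma exists_D0 : ∃ D : Subgroup (RT K m), D ≤ tTT hK ∧ IsCyclic D ∧ Nat.card D = reeN m ∧ ∀ x ∈ tTT hK, x ^ 2 ∈ D := by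
  haveI := isCyclic_tTT hK
  obtain ⟨z₀, hz₀⟩ := IsCyclic.exists_generator (α := tTT hK)
  have hord : orderOf z₀ = Nat.card (tTT hK) := orderOf_eq_card_of_forall_mem_zpowers hz₀
  have h2n : Nat.card (tTT hK) = 2 * reeN m := by
    have h1 := card_tTT_mul hK
    have h2 := reeN_spec m
    omega
  have hpos := reeN_odd m
  have hz : z₀.1 ∈ tTT hK := z₀.2
  refine ⟨Subgroup.zpowers (z₀.1 ^ 2), ?_, inferInstance, ?_, ?_⟩
  · rw [Subgroup.zpowers_le]
    exact pow_mem hz 2
  · rw [Nat.card_zpowers, orderOf_pow' _ (by norm_num), Subgroup.orderOf_coe, hord, h2n]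
    have : Nat.gcd (2 * reeN m) 2 = 2 := by simp
    rw [this]
    simp
  · intro x hx
    obtain ⟨k, hk⟩ := Subgroup.mem_zpowers_iff.mp (hz₀ ⟨x, hx⟩)
    have e := congrArg Subtype.val hk
    simp only [Subgroup.coe_zpow] at e
    refine Subgroup.mem_zpowers_iff.mpr ⟨k, ?_⟩
    rw [← e, ← zpow_natCast, ← zpow_natCast, ← zpow_mul, ← zpow_mul, mul_comm]

/-- the odd part of the non-split torus -/
noncomputable def tD0 : Subgroup (RT K m) := (exists_D0 hK).choose

lemma tD0_le : tD0 hK ≤ tTT hK := (exists_D0 hK).choose_spec.1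
lemma tD0_cyclic : IsCyclic (tD0 hK) := (exists_D0 hK).choose_spec.2.1
lemma card_tD0 : Nat.card (tD0 hK) = reeN m := (exists_D0 hK).choose_spec.2.2.1
lemma sq_mem_tD0 {x : RT K m} (hx : x ∈ tTT hK) : x ^ 2 ∈ tD0 hK := (exists_D0 hK).choose_spec.2.2.2 x hx

lemma tD0_pow {y : RT K m} (hy : y ∈ tD0 hK) : y ^ reeN m = 1 := by
  have := pow_card_eq_one' (G := tD0 hK) (x := ⟨y, hy⟩)
  rw [card_tD0] at this
  exact congrArg Subtype.val this

lemma tD0_odd {y : RT K m} (hy : y ∈ tD0 hK) : Odd (orderOf y) :=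
  (reeN_odd m).of_dvd_nat (orderOf_dvd_of_pow_eq_one (tD0_pow hK hy))

lemma sq_mem_tD0' {x : RT K m} (hx : x ∈ tK0 hK) : x ^ 2 ∈ tD0 hK := by
  rcases hx with hx | hx
  · exact sq_mem_tD0 hK hx
  · have h := sq_mem_tD0 hK hx
    obtain ⟨g, -, e⟩ := (mem_tTT hK).mp hx
    have hxe : x = tA hK * tSL hK g := by
      rw [← e, ← mul_assoc, tA_sq, one_mul]
    rw [hxe] at h ⊢
    have hc := a_comm_tSL hK g
    have e2 : tA hK * (tA hK * tSL hK g) = tSL hK g := by rw [← mul_assoc, tA_sq, one_mul]
    rw [e2] at h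
    have e3 : (tA hK * tSL hK g) ^ 2 = tSL hK g ^ 2 := by
      rw [sq, sq]
      calc tA hK * tSL hK g * (tA hK * tSL hK g) = tA hK * (tSL hK g * tA hK) * tSL hK g := by group
        _ = tA hK * (tA hK * tSL hK g) * tSL hK g := by rw [show tA hK * tSL hK g = tSL hK g * tA hK from hc]
        _ = (tA hK * tA hK) * (tSL hK g * tSL hK g) := by group
        _ = _ := by rw [tA_sq, one_mul]
    rw [e3]
    exact h

/-- elements of odd order in `K₀` -/
lemma mem_tD0_of_odd {x : RT K m} (hx : x ∈ tK0 hK) (hodd : Odd (orderOf x)) : x ∈ tD0 hK := by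
  have h := sq_mem_tD0' hK hx
  obtain ⟨k, hk⟩ := hodd
  have e : x = (x ^ 2) ^ (k + 1) := by
    rw [← pow_mul]
    have : 2 * (k + 1) = orderOf x + 1 := by omega
    rw [this, pow_succ, pow_orderOf_eq_one, one_mul]
  rw [e]
  exact pow_mem h _

/-- the centraliser of a non-trivial element of odd order of the non-split torus -/
theorem centralizer_of_tTT {g : SL(2, K)} (hg : g ∈ tT2 K) (hodd : Odd (orderOf (tSL hK g))) (hne : tSL hK g ≠ 1) (x : RT K m) :
    x * tSL hK g = tSL hK g * x ↔ x ∈ tK0 hK := by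
  constructor
  · intro hx
    have h2ne : (2 : K) ≠ 0 := ree_two_ne
    have hsq : tSL hK g ^ 2 ≠ 1 := by
      intro h
      have h1 : orderOf (tSL hK g) ∣ 2 := orderOf_dvd_of_pow_eq_one h
      obtain ⟨k, hk⟩ := hodd
      have h3 : orderOf (tSL hK g) ≤ 2 := Nat.le_of_dvd (by norm_num) h1
      have h4 : orderOf (tSL hK g) = 1 := by omega
      exact hne (orderOf_eq_one_iff.mp h4)
    have hnp : ¬ (g 0 0 ^ 3 = g 0 0 ∧ g 0 1 ^ 3 = g 0 1) := fun h => hsq (T2_prime_sq hK hg h.1 h.2)
    have hax := comm_a_of_T2 hK hg hnp hx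
    obtain ⟨h, hh⟩ := C_a_form hK hax.symm
    have hcom : ∀ g : SL(2, K), tA hK * tSL hK g = tSL hK g * tA hK := fun g => a_comm_tSL hK g
    have hc : tSL hK h * tSL hK g = tSL hK g * tSL hK h := by
      rcases hh with rfl | rfl
      · exact hx
      · apply mul_left_cancel (a := tA hK)
        calc tA hK * (tSL hK h * tSL hK g) = tA hK * tSL hK h * tSL hK g := (mul_assoc _ _ _).symm
          _ = tSL hK g * (tA hK * tSL hK h) := hx
          _ = tA hK * (tSL hK g * tSL hK h) := by rw [← mul_assoc, ← hcom, mul_assoc]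
    obtain ⟨a1, a2⟩ := mem_tT2.mp hg
    have hsig : g 0 1 ≠ 0 := by
      intro h0
      apply hsq
      have hn := T2_norm g hg
      rw [h0] at hn
      apply T2_prime_sq hK hg
      · have : g 0 0 ^ 2 = 1 := by linear_combination hn
        calc g 0 0 ^ 3 = g 0 0 ^ 2 * g 0 0 := by ring
          _ = _ := by rw [this, one_mul]
      · rw [h0]; simp
    have hhT : h ∈ tT2 K := by
      rcases tSL_comm_sign hK hc with c | c
      · rw [mem_tT2]
        have e := congrArg Subtype.val c
        have e1 := congrFun (congrFun e 0) 0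
        have e2 := congrFun (congrFun e 0) 1
        simp [Matrix.mul_apply, Fin.sum_univ_two, a1, a2] at e1 e2
        constructor
        · have : g 0 1 * (h 1 0 + h 0 1) = 0 := by linear_combination -e1
          have h5 := (mul_eq_zero.mp this).resolve_left hsig
          linear_combination h5
        · have : g 0 1 * (h 1 1 - h 0 0) = 0 := by linear_combination -e2
          have h5 := (mul_eq_zero.mp this).resolve_left hsig
          linear_combination h5
      · exfalso
        have e := congrArg Subtype.val c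
        have e1 := congrFun (congrFun e 0) 0
        have e2 := congrFun (congrFun e 0) 1
        have e3 := congrFun (congrFun e 1) 0
        have e4 := congrFun (congrFun e 1) 1
        simp [Matrix.mul_apply, Fin.sum_univ_two, a1, a2, Matrix.vecMul, dotProduct] at e1 e2 e3 e4
        have hn := T2_norm g hg
        have d := sl2_det' h
        by_cases hξ : g 0 0 = 0
        · apply hsq
          apply T2_prime_sq hK hg
          · rw [hξ]; simp
          · rw [hξ] at hn
            have : g 0 1 ^ 2 = 1 := by linear_combination hn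
            calc g 0 1 ^ 3 = g 0 1 ^ 2 * g 0 1 := by ring
              _ = _ := by rw [this, one_mul]
        · have h5 : (2 * g 0 0) ≠ 0 := mul_ne_zero h2ne hξ
          have hps : h 0 0 = h 1 1 := by
            have : (2 * g 0 0) * (h 0 0 - h 1 1) = 0 := by linear_combination e1 - e4
            exact sub_eq_zero.mp ((mul_eq_zero.mp this).resolve_left h5)
          have hqr : h 1 0 = -h 0 1 := by
            have : (2 * g 0 0) * (h 0 1 + h 1 0) = 0 := by linear_combination e2 + e3
            have h6 := (mul_eq_zero.mp this).resolve_left h5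
            linear_combination h6
          have c1 : g 0 0 * h 0 0 = g 0 1 * h 0 1 := by
            have : (2 : K) * (g 0 0 * h 0 0 - g 0 1 * h 0 1) = 0 := by linear_combination e1 - g 0 1 * hqr
            exact sub_eq_zero.mp ((mul_eq_zero.mp this).resolve_left h2ne)
          have c2 : g 0 0 * h 0 1 = - (g 0 1 * h 0 0) := by
            have : (2 : K) * (g 0 0 * h 0 1 + g 0 1 * h 0 0) = 0 := by linear_combination e2 + g 0 1 * hps
            have h7 := (mul_eq_zero.mp this).resolve_left h2ne
            linear_combination h7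
          have p0 : h 0 0 = 0 := by
            linear_combination (g 0 0) * c1 + (g 0 1) * c2 - (h 0 0) * hn
          have q0 : h 0 1 = 0 := by
            linear_combination (g 0 0) * c2 - (g 0 1) * c1 - (h 0 1) * hn
          rw [p0, q0] at d
          simp at d
    rcases hh with rfl | rfl
    · exact (mem_tK0 hK).mpr ⟨h, hhT, Or.inl rfl⟩
    · exact (mem_tK0 hK).mpr ⟨h, hhT, Or.inr rfl⟩
  · intro hx
    have h1 : tSL hK g ∈ tK0 hK := tTT_le_tK0 hK ((mem_tTT hK).mpr ⟨g, hg, rfl⟩)
    exact tK0_comm hK hx h1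

end Cfsg.Agent.H10
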