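import Cfsg.Agent.Lib.H10.ReeS0

/-!
# The small Ree group: the normalizer of a Sylow 2-subgroup, II
-/

set_option autoImplicit false
set_option linter.style.longLine false
set_option linter.unusedSimpArgs false
set_option linter.unusedSectionVars false
set_option maxRecDepth 100000

open Cfsg Cfsg.Lie Cfsg.Agent.H04.Chev
open scoped MatrixGroups commutatorElement Pointwise

namespace Cfsg.Agent.H10

section general

variable {G : Type*} [Group G]

/-- transport of centralizers and normalizers -/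
lemma transport_cent_norm (E E' : Subgroup G) (g : G) (key : ∀ x, x ∈ E' ↔ g⁻¹ * x * g ∈ E) :
    (Subgroup.centralizer (E : Set G) = E → Subgroup.centralizer (E' : Set G) = E') ∧
      Nat.card (Subgroup.normalizer (E' : Set G)) = Nat.card (Subgroup.normalizer (E : Set G)) := by
  have hE' : E' = E.map (MulAut.conj g).toMonoidHom := by
    ext x
    rw [key]
    constructor
    · intro h
      refine ⟨_, h, ?_⟩
      simp [MulAut.conj_apply]
      group
    · rintro ⟨y, hy, rfl⟩
      simp only [MulEquiv.toMonoidHom_eq_coe, MonoidHom.coe_coe, MulAut.conj_apply]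
      have e : g⁻¹ * (g * y * g⁻¹) * g = y := by group
      rwa [e]
  constructor
  · intro hC
    ext x
    rw [Subgroup.mem_centralizer_iff, key]
    have h1 : g⁻¹ * x * g ∈ E ↔ g⁻¹ * x * g ∈ Subgroup.centralizer (E : Set G) := by rw [hC]
    rw [h1, Subgroup.mem_centralizer_iff]
    constructor
    · intro h y hy
      have h2 := h (g * y * g⁻¹) ((key _).mpr (by
        have e : g⁻¹ * (g * y * g⁻¹) * g = y := by group
        rw [e]; exact hy))
      have h3 : y * (g⁻¹ * x * g) = g⁻¹ * (g * y * g⁻¹ * x) * g := by group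
      have h4 : g⁻¹ * x * g * y = g⁻¹ * (x * (g * y * g⁻¹)) * g := by group
      rw [h3, h4, h2]
    · intro h y hy
      have h2 := h _ ((key _).mp hy)
      have h3 : y * x = g * (g⁻¹ * y * g * (g⁻¹ * x * g)) * g⁻¹ := by group
      have h4 : x * y = g * (g⁻¹ * x * g * (g⁻¹ * y * g)) * g⁻¹ := by group
      rw [h3, h4, h2]
  · rw [hE']
    have := Subgroup.map_equiv_normalizer_eq E (MulAut.conj g)
    rw [← this]
    exact Subgroup.card_map_of_injective (MulEquiv.injective _)

end general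

variable {K : Type*} [Field K] [CharP K 3] {m : ℕ} [Fintype K] (hK : Fintype.card K = 3 ^ (2 * m + 1))

/-- the element of order seven -/
noncomputable def tG7 (K : Type*) [Field K] [CharP K 3] (m : ℕ) : RT K m := tU m (1 : K) 0 0 * tW K m * tU m (1 : K) 0 0 * tU m (1 : K) 0 0

include hK

lemma r7_tG7 : ((r7 hK (tG7 K m) : GL (Fin 7) K) : Matrix (Fin 7) (Fin 7) K) = m7G := by
  unfold tG7
  simp only [map_mul, Units.val_mul, r7_tU hK, r7_tW hK, map_one, map_zero]
  exact m7G_eq

lemma r7_tA : ((r7 hK (tA hK) : GL (Fin 7) K) : Matrix (Fin 7) (Fin 7) K) = m7A := r7_a hK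

lemma r7_tJ : ((r7 hK (tJ hK) : GL (Fin 7) K) : Matrix (Fin 7) (Fin 7) K) = m7J := by
  rw [tJ, r7_tSL_val, mL_apply, sJ_val]
  simp [m7J]

lemma tG7_A : tG7 K m * tA hK = tW K m * tG7 K m := by
  apply r7_ext hK
  simp only [map_mul, Units.val_mul, r7_tG7 hK, r7_tA hK, r7_tW hK]
  exact m7G_A

lemma tG7_W : tG7 K m * tW K m = tW K m * tJ hK * tG7 K m := by
  apply r7_ext hK
  simp only [map_mul, Units.val_mul, r7_tG7 hK, r7_tJ hK, r7_tW hK]
  exact m7G_W

lemma tG7_J : tG7 K m * tJ hK = tA hK * tJ hK * tG7 K m := by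
  apply r7_ext hK
  simp only [map_mul, Units.val_mul, r7_tG7 hK, r7_tA hK, r7_tJ hK]
  exact m7G_J

lemma orderOf_tG7 : orderOf (tG7 K m) = 7 := by
  haveI : Fact (Nat.Prime 7) := ⟨by norm_num⟩
  apply orderOf_eq_prime
  · apply r7_ext hK
    rw [map_pow, map_one, Units.val_pow_eq_pow_val, r7_tG7 hK, m7G_pow7]
    rfl
  · intro h
    have h1 := r7_tG7 hK
    rw [h, map_one] at h1
    exact m7G_ne_one h1.symm

/-- conjugates of words in the generators -/
lemma conj_bpow {G : Type*} [Group G] {S : Subgroup G} {g x : G} (h : g * x * g⁻¹ ∈ S) (i : Bool) : g * bpow x i * g⁻¹ ∈ S := by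
  cases i
  · simp [bpow, S.one_mem]
  · simpa [bpow] using h

omit hK [Fintype K] in
lemma sl2_ext' {g h : SL(2, K)} (h00 : g 0 0 = h 0 0) (h01 : g 0 1 = h 0 1) (h10 : g 1 0 = h 1 0) (h11 : g 1 1 = h 1 1) : g = h := by
  apply Subtype.ext
  ext i j
  fin_cases i <;> fin_cases j
  · exact h00
  · exact h01
  · exact h10
  · exact h11

omit hK [Fintype K] [CharP K 3] in
lemma sl2_det' (g : SL(2, K)) : g 0 0 * g 1 1 - g 0 1 * g 1 0 = 1 := by
  have h := g.2
  rw [Matrix.det_fin_two] at h
  exact h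

lemma tSL_comm_sign {g h : SL(2, K)} (e : tSL hK g * tSL hK h = tSL hK h * tSL hK g) : g * h = h * g ∨ g * h = -(h * g) := by
  have e1 : tSL hK (g * h * (h * g)⁻¹) = 1 := by
    rw [map_mul, map_inv, map_mul, map_mul, e, mul_inv_cancel]
  rcases (tSL_eq_one_iff hK _).mp e1 with h1 | h1
  · left
    exact mul_inv_eq_one.mp h1
  · right
    have h2 := mul_inv_eq_iff_eq_mul.mp h1
    rw [h2]
    apply Subtype.ext
    simp

omit hK [Fintype K] in
lemma sW_comm_entries {g : SL(2, K)} (c : g * sW = sW * g) : g 1 0 = -g 0 1 ∧ g 1 1 = g 0 0 := by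
  have e := congrArg Subtype.val c
  have e1 := congrFun (congrFun e 0 ) 0
  have e2 := congrFun (congrFun e 0 ) 1
  simp [sW_val, Matrix.mul_apply, Fin.sum_univ_two] at e1 e2
  exact ⟨by linear_combination -e1, by linear_combination -e2⟩

omit hK [Fintype K] in
lemma sW_anti_entries {g : SL(2, K)} (c : g * sW = -(sW * g)) : g 1 0 = g 0 1 ∧ g 1 1 = -g 0 0 := by
  have e := congrArg Subtype.val c
  have e1 := congrFun (congrFun e 0 ) 0
  have e2 := congrFun (congrFun e 0 ) 1
  simp [sW_val, Matrix.mul_apply, Fin.sum_univ_two, Matrix.vecMul, dotProduct] at e1 e2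
  exact ⟨by linear_combination -e1, by linear_combination e2⟩

omit hK [Fintype K] in
lemma sJ_comm_entries {g : SL(2, K)} (c : g * sJ = sJ * g) : g 1 0 = g 0 1 ∧ g 0 0 - g 0 1 = g 0 1 + g 1 1 := by
  have e := congrArg Subtype.val c
  have e1 := congrFun (congrFun e 0 ) 0
  have e2 := congrFun (congrFun e 0 ) 1
  simp [sJ_val, Matrix.mul_apply, Fin.sum_univ_two] at e1 e2
  exact ⟨by linear_combination -e1, by linear_combination e2⟩

omit hK [Fintype K] in
lemma sJ_anti_entries {g : SL(2, K)} (c : g * sJ = -(sJ * g)) : g 1 1 = -g 0 0 ∧ g 0 0 + g 0 1 = -g 0 0 - g 1 0 := by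
  have e := congrArg Subtype.val c
  have e1 := congrFun (congrFun e 0 ) 0
  have e2 := congrFun (congrFun e 0 ) 1
  simp [sJ_val, Matrix.mul_apply, Fin.sum_univ_two, Matrix.vecMul, dotProduct] at e1 e2
  exact ⟨by linear_combination e2, by linear_combination e1⟩

omit hK [Fintype K] in
lemma eq_one_or_of_sq {x : K} (h : x ^ 2 = 1) : x = 1 ∨ x = -1 := by
  have : (x - 1) * (x + 1) = 0 := by linear_combination h
  rcases mul_eq_zero.mp this with h1 | h1
  · exact Or.inl (sub_eq_zero.mp h1)
  · exact Or.inr (eq_neg_of_add_eq_zero_left h1)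

/-- an element of `SL₂` which commutes in `PSL₂` with the Klein four group lies in it -/
lemma tSL_mem_of_comm {S : Subgroup (RT K m)} (hw : tW K m ∈ S) (hJ : tJ hK ∈ S) (g : SL(2, K))
    (e1 : tSL hK g * tW K m = tW K m * tSL hK g) (e2 : tSL hK g * tJ hK = tJ hK * tSL hK g) : tSL hK g ∈ S := by
  have h3 : (3 : K) = 0 := ree_three
  rw [← tSL_sW hK] at e1
  have d := sl2_det' g
  rcases tSL_comm_sign hK e1 with c1 | c1 <;> rcases tSL_comm_sign hK e2 with c2 | c2
  · obtain ⟨a1, a2⟩ := sW_comm_entries c1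
    obtain ⟨b1, b2⟩ := sJ_comm_entries c2
    have hβ : g 0 1 = 0 := eq_zero_of_eq_neg' hK (by rw [← a1, b1])
    have hγ : g 1 0 = 0 := by rw [b1, hβ]
    have hα : g 0 0 ^ 2 = 1 := by
      rw [a2, hβ] at d
      linear_combination d
    have hg : tSL hK g = 1 := by
      rw [tSL_eq_one_iff]
      rcases eq_one_or_of_sq hα with h | h
      · left
        apply sl2_ext'
        · simpa using h
        · simpa using hβ
        · simpa using hγ
        · rw [a2]; simpa using h
      · right
        apply sl2_ext'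
        · simpa using h
        · simpa using hβ
        · simpa using hγ
        · rw [a2]; simpa using h
    rw [hg]
    exact S.one_mem
  · obtain ⟨a1, a2⟩ := sW_comm_entries c1
    obtain ⟨b1, b2⟩ := sJ_anti_entries c2
    have hα : g 0 0 = 0 := eq_zero_of_eq_neg' hK (by rw [← b1, a2])
    have hδ : g 1 1 = 0 := by rw [a2, hα]
    have hβ : g 0 1 ^ 2 = 1 := by
      rw [hα, a1] at d
      linear_combination d
    have hg : tSL hK g = tW K m := by
      rw [← tSL_sW hK]
      rcases eq_one_or_of_sq hβ with h | h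
      · congr 1
        apply sl2_ext'
        · simpa [sW_val] using hα
        · simpa [sW_val] using h
        · rw [a1, h]; simp [sW_val]
        · simpa [sW_val] using hδ
      · rw [← tSL_neg hK sW]
        congr 1
        apply sl2_ext'
        · simpa [sW_val] using hα
        · simpa [sW_val] using h
        · rw [a1, h]; simp [sW_val]
        · simpa [sW_val] using hδ
    rw [hg]
    exact hw
  · obtain ⟨a1, a2⟩ := sW_anti_entries c1
    obtain ⟨b1, b2⟩ := sJ_comm_entries c2
    have hβ : g 0 1 = g 0 0 := by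
      have : (2 : K) * (g 0 0 - g 0 1) = 0 := by
        rw [a2] at b2
        linear_combination b2
      have h2 := (mul_eq_zero.mp this).resolve_left ree_two_ne
      exact (sub_eq_zero.mp h2).symm
    have hα : g 0 0 ^ 2 = 1 := by
      rw [a2, a1, hβ] at d
      linear_combination d + (g 0 0 ^ 2) * h3
    have hg : tSL hK g = tJ hK := by
      rw [tJ]
      rcases eq_one_or_of_sq hα with h | h
      · congr 1
        apply sl2_ext'
        · simpa [sJ_val] using h
        · rw [hβ, h]; simp [sJ_val]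
        · rw [a1, hβ, h]; simp [sJ_val]
        · rw [a2, h]; simp [sJ_val]
      · rw [← tSL_neg hK sJ]
        congr 1
        apply sl2_ext'
        · simpa [sJ_val] using h
        · rw [hβ, h]; simp [sJ_val]
        · rw [a1, hβ, h]; simp [sJ_val]
        · rw [a2, h]; simp [sJ_val]
    rw [hg]
    exact hJ
  · obtain ⟨a1, a2⟩ := sW_anti_entries c1
    obtain ⟨b1, b2⟩ := sJ_anti_entries c2
    have hβ : g 0 1 = -g 0 0 := by
      have : (2 : K) * (g 0 0 + g 0 1) = 0 := by
        rw [a1] at b2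
        linear_combination b2
      have h2 := (mul_eq_zero.mp this).resolve_left ree_two_ne
      linear_combination h2
    have hα : g 0 0 ^ 2 = 1 := by
      rw [a2, a1, hβ] at d
      linear_combination d + (g 0 0 ^ 2) * h3
    have hg : tSL hK g = tW K m * tJ hK := by
      rw [tJ, ← tSL_sW hK, ← map_mul]
      have hv : ∀ i j, (sW * sJ : SL(2, K)) i j = (!![1, -1; -1, -1] : Matrix (Fin 2) (Fin 2) K) i j := by
        intro i j
        rw [Matrix.SpecialLinearGroup.coe_mul, sW_val, sJ_val]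
        fin_cases i <;> fin_cases j <;> simp [Matrix.mul_apply, Fin.sum_univ_two]
      rcases eq_one_or_of_sq hα with h | h
      · congr 1
        apply sl2_ext'
        · rw [hv, h]; simp
        · rw [hv, hβ, h]; simp
        · rw [hv, a1, hβ, h]; simp
        · rw [hv, a2, h]; simp
      · rw [← tSL_neg hK (sW * sJ)]
        congr 1
        apply sl2_ext'
        · rw [Matrix.SpecialLinearGroup.coe_neg, Matrix.neg_apply, hv, h]; simp
        · rw [Matrix.SpecialLinearGroup.coe_neg, Matrix.neg_apply, hv, hβ, h]; simp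
        · rw [Matrix.SpecialLinearGroup.coe_neg, Matrix.neg_apply, hv, a1, hβ, h]; simp
        · rw [Matrix.SpecialLinearGroup.coe_neg, Matrix.neg_apply, hv, a2, h]; simp
    rw [hg]
    exact S.mul_mem hw hJ

/-- the self-centralizing property -/
theorem S0_centralizer {S : Subgroup (RT K m)} (helem : ∀ x ∈ S, x * x = 1) (ha : tA hK ∈ S) (hw : tW K m ∈ S) (hJ : tJ hK ∈ S) :
    Subgroup.centralizer (S : Set (RT K m)) = S := by
  have hcomm : ∀ x ∈ S, ∀ y ∈ S, x * y = y * x := by
    intro x hx y hy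
    have h1 := helem x hx
    have h2 := helem y hy
    have h3 := helem _ (S.mul_mem hx hy)
    have ix : x⁻¹ = x := inv_eq_of_mul_eq_one_left h1
    have iy : y⁻¹ = y := inv_eq_of_mul_eq_one_left h2
    have ixy : (x * y)⁻¹ = x * y := inv_eq_of_mul_eq_one_left h3
    rw [mul_inv_rev, ix, iy] at ixy
    exact ixy.symm
  apply le_antisymm
  · intro x hx
    rw [Subgroup.mem_centralizer_iff] at hx
    have h1 := hx _ ha
    have h2 := hx _ hw
    have h3 := hx _ hJ
    obtain ⟨g, e | e⟩ := C_a_form hK h1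
    · rw [e] at h2 h3 ⊢
      exact tSL_mem_of_comm hK hw hJ g h2.symm h3.symm
    · rw [e] at h2 h3 ⊢
      have aux : ∀ w : RT K m, tA hK * w = w * tA hK → w * (tA hK * tSL hK g) = tA hK * tSL hK g * w → tSL hK g * w = w * tSL hK g := by
        intro w e1 h
        apply mul_left_cancel (a := tA hK)
        calc tA hK * (tSL hK g * w) = tA hK * tSL hK g * w := (mul_assoc _ _ _).symm
          _ = w * (tA hK * tSL hK g) := h.symm
          _ = tA hK * (w * tSL hK g) := by rw [← mul_assoc, ← e1, mul_assoc]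
      refine S.mul_mem ha (tSL_mem_of_comm hK hw hJ g (aux _ (tA_tW hK) h2) (aux _ ?_ h3))
      rw [tJ]
      exact a_comm_tSL hK _
  · intro x hx
    rw [Subgroup.mem_centralizer_iff]
    intro y hy
    exact hcomm y hy x hx

lemma mem_N_of_gens {S : Subgroup (RT K m)} (hform : ∀ x ∈ S, ∃ i j k : Bool, x = bpow (tA hK) i * bpow (tW K m) j * bpow (tJ hK) k)
    {g : RT K m} (h1 : g * tA hK * g⁻¹ ∈ S) (h2 : g * tW K m * g⁻¹ ∈ S) (h3 : g * tJ hK * g⁻¹ ∈ S) :
    g ∈ Subgroup.normalizer (S : Set (RT K m)) := by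
  haveI := t_finite hK
  apply mem_normalizer_of_conj_le
  intro x hx
  obtain ⟨i, j, k, rfl⟩ := hform x hx
  have e : g * (bpow (tA hK) i * bpow (tW K m) j * bpow (tJ hK) k) * g⁻¹ =
      (g * bpow (tA hK) i * g⁻¹) * (g * bpow (tW K m) j * g⁻¹) * (g * bpow (tJ hK) k * g⁻¹) := by group
  rw [e]
  exact S.mul_mem (S.mul_mem (conj_bpow hK h1 i) (conj_bpow hK h2 j)) (conj_bpow hK h3 k)

omit hK in
lemma sU_sW : (sU (1 : K) : SL(2, K)) * sW = -(sJ * sU 1) := by
  have h3 : (3 : K) = 0 := ree_three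
  apply Subtype.ext
  rw [Matrix.SpecialLinearGroup.coe_neg, Matrix.SpecialLinearGroup.coe_mul, Matrix.SpecialLinearGroup.coe_mul, sU_val, sW_val, sJ_val]
  ext i j
  fin_cases i <;> fin_cases j <;> simp [Matrix.mul_apply, Fin.sum_univ_two] <;> first | ring1 | linear_combination h3 | linear_combination -h3

omit hK in
lemma sU_sJ : (sU (1 : K) : SL(2, K)) * sJ = sJ * sW * sU 1 := by
  have h3 : (3 : K) = 0 := ree_three
  apply Subtype.ext
  rw [Matrix.SpecialLinearGroup.coe_mul, Matrix.SpecialLinearGroup.coe_mul, Matrix.SpecialLinearGroup.coe_mul, sU_val, sW_val, sJ_val]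
  ext i j
  fin_cases i <;> fin_cases j <;> simp [Matrix.mul_apply, Fin.sum_univ_two] <;> first | ring1 | linear_combination h3 | linear_combination -h3

/-- the order three element -/
lemma tG3_rels : tU m (0 : K) 1 0 * tA hK * (tU m (0 : K) 1 0)⁻¹ = tA hK ∧
    tU m (0 : K) 1 0 * tW K m * (tU m (0 : K) 1 0)⁻¹ = tJ hK ∧
    tU m (0 : K) 1 0 * tJ hK * (tU m (0 : K) 1 0)⁻¹ = tJ hK * tW K m := by
  have e0 := tSL_sU hK (1 : K)
  have e1 : tSL hK (sU (1 : K) * sW) = tSL hK (-(sJ * sU 1)) := by rw [sU_sW]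
  have e2 : tSL hK (sU (1 : K) * sJ) = tSL hK (sJ * sW * sU 1) := by rw [sU_sJ]
  rw [tSL_neg, map_mul, map_mul, tSL_sW hK, e0] at e1
  rw [map_mul, map_mul, map_mul, tSL_sW hK, e0] at e2
  refine ⟨?_, ?_, ?_⟩
  · rw [← e0, mul_inv_eq_iff_eq_mul]
    have := a_comm_tSL hK (sU (1 : K))
    exact this.symm
  · rw [mul_inv_eq_iff_eq_mul]
    exact e1
  · rw [mul_inv_eq_iff_eq_mul]
    exact e2

/-- the main theorem for the standard Sylow 2-subgroup -/
theorem S0_main {S : Subgroup (RT K m)} (h8 : Nat.card S = 8) (helem : ∀ x ∈ S, x * x = 1) (ha : tA hK ∈ S) (hw : tW K m ∈ S) (hJ : tJ hK ∈ S)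
    (hform : ∀ x ∈ S, ∃ i j k : Bool, x = bpow (tA hK) i * bpow (tW K m) j * bpow (tJ hK) k) :
    Subgroup.centralizer (S : Set (RT K m)) = S ∧ Nat.card (Subgroup.normalizer (S : Set (RT K m))) = 168 := by
  haveI := t_finite hK
  have hC := S0_centralizer hK helem ha hw hJ
  refine ⟨hC, ?_⟩
  haveI : Finite S := inferInstance
  have hd1 := card_normalizer_dvd S hC
  have hd2 := card_mulAut_dvd_168 S (fun x => Subtype.ext (helem x x.2)) h8
  rw [h8] at hd1
  have hd : Nat.card (Subgroup.normalizer (S : Set (RT K m))) ∣ 8 * 168 := hd1.trans (Nat.mul_dvd_mul_left _ hd2)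
  have h8d : 8 ∣ Nat.card (Subgroup.normalizer (S : Set (RT K m))) := by
    rw [← h8]
    exact Subgroup.card_dvd_of_le Subgroup.le_normalizer
  have h7d : 7 ∣ Nat.card (Subgroup.normalizer (S : Set (RT K m))) := by
    have hmem : tG7 K m ∈ Subgroup.normalizer (S : Set (RT K m)) := by
      apply mem_N_of_gens hK hform
      · rw [mul_inv_eq_of_eq_mul (tG7_A hK)]
        exact hw
      · rw [mul_inv_eq_of_eq_mul (tG7_W hK)]
        exact S.mul_mem hw hJ
      · rw [mul_inv_eq_of_eq_mul (tG7_J hK)]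
        exact S.mul_mem ha hJ
    have := orderOf_dvd_natCard (⟨tG7 K m, hmem⟩ : Subgroup.normalizer (S : Set (RT K m)))
    rwa [Subgroup.orderOf_mk, orderOf_tG7 hK] at this
  have h3d : 3 ∣ Nat.card (Subgroup.normalizer (S : Set (RT K m))) := by
    obtain ⟨g1, g2, g3⟩ := tG3_rels hK
    have hmem : tU m (0 : K) 1 0 ∈ Subgroup.normalizer (S : Set (RT K m)) := by
      apply mem_N_of_gens hK hform
      · rw [g1]; exact ha
      · rw [g2]; exact hJ
      · rw [g3]; exact S.mul_mem hJ hw
    have := orderOf_dvd_natCard (⟨_, hmem⟩ : Subgroup.normalizer (S : Set (RT K m)))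
    rw [Subgroup.orderOf_mk] at this
    have h3 : orderOf (tU m (0 : K) 1 0) = 3 := by
      haveI : Fact (Nat.Prime 3) := ⟨Nat.prime_three⟩
      apply orderOf_eq_prime (tU_cube0 hK 1 0)
      intro h
      rw [← tU_zero (K := K) (m := m)] at h
      obtain ⟨-, e, -⟩ := tU_inj h
      exact one_ne_zero e
    rwa [h3] at this
  -- the Sylow bound
  obtain ⟨k, hk, hc⟩ := card_T_two hK
  have hG := Subgroup.card_subgroup_dvd_card (Subgroup.normalizer (S : Set (RT K m)))
  rw [hc] at hG
  have h16 : ¬ 16 ∣ Nat.card (Subgroup.normalizer (S : Set (RT K m))) := by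
    intro h
    have h1 := h.trans hG
    have h2 : 2 ∣ k := by
      have : 8 * 2 ∣ 8 * k := h1
      exact Nat.dvd_of_mul_dvd_mul_left (by norm_num) this
    exact hk.not_two_dvd_nat h2
  generalize Nat.card (Subgroup.normalizer (S : Set (RT K m))) = n at *
  have h168 : 168 ∣ n := by
    have c1 : Nat.Coprime 8 3 := by norm_num
    have c2 : Nat.Coprime 24 7 := by norm_num
    have d1 : 24 ∣ n := c1.mul_dvd_of_dvd_of_dvd h8d h3d
    exact c2.mul_dvd_of_dvd_of_dvd d1 h7d
  obtain ⟨c, rfl⟩ := h168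
  have hc8 : c ∣ 8 := by
    have : 168 * c ∣ 168 * 8 := by simpa [mul_comm] using hd
    exact Nat.dvd_of_mul_dvd_mul_left (by norm_num) this
  have hc1 : c ≤ 8 := Nat.le_of_dvd (by norm_num) hc8
  interval_cases c <;> first | rfl | omega

/-- statement for an arbitrary Sylow 2-subgroup -/
theorem sylow2_cent_norm (S : Sylow 2 (RT K m)) :
    Subgroup.centralizer ((S : Subgroup (RT K m)) : Set (RT K m)) = S ∧ Nat.card (Subgroup.normalizer ((S : Subgroup (RT K m)) : Set (RT K m))) = 168 := by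
  haveI := t_finite hK
  obtain ⟨S₀, h8, helem, ha, hw, hJ, hform⟩ := exists_S0 hK
  obtain ⟨k, hk, hc⟩ := card_T_two hK
  have hp : IsPGroup 2 S₀ := IsPGroup.of_card (n := 3) (by rw [h8]; norm_num)
  have hi : ¬ 2 ∣ S₀.index := by
    have h1 := Subgroup.card_mul_index S₀
    rw [h8, hc] at h1
    have h2 : S₀.index = k := by omega
    rw [h2]
    exact hk.not_two_dvd_nat
  let P := hp.toSylow hi
  have hP : (P : Subgroup (RT K m)) = S₀ := rfl
  obtain ⟨g, hg⟩ := MulAction.exists_smul_eq (RT K m) P S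
  have key : ∀ x, x ∈ (S : Subgroup (RT K m)) ↔ g⁻¹ * x * g ∈ S₀ := by
    intro x
    rw [← hg, Sylow.coe_subgroup_smul, Subgroup.mem_pointwise_smul_iff_inv_smul_mem, hP]
    simp [MulAut.smul_def, MulAut.conj_apply]
  obtain ⟨h1, h2⟩ := S0_main hK h8 helem ha hw hJ hform
  obtain ⟨t1, t2⟩ := transport_cent_norm S₀ S g key
  exact ⟨t1 h1, t2.trans h2⟩

end Cfsg.Agent.H10
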