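import Mathlib

/-! Generic facts on self-centralising odd subgroups and double counting. -/

set_option autoImplicit false
set_option linter.unusedSectionVars false
set_option linter.unusedSimpArgs false
set_option linter.style.haveILetI false

namespace Cfsg.Agent.H10

section generic

variable {G : Type*} [Group G] [Finite G]

/-- Odd subgroups which are the centraliser of each of their non-identity elements. -/
structure IsTor (K : Subgroup G) (e : ℕ) : Prop where
  cent : ∀ a ∈ K, a ≠ 1 → Subgroup.centralizer ({a} : Set G) = K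
  odd : ¬ 2 ∣ Nat.card K
  card : Nat.card (Subgroup.normalizer (K : Set G)) = e * Nat.card K
  ne : ∃ a ∈ K, a ≠ 1
  he : e = 2 ∨ e = 4

variable {K : Subgroup G} {e : ℕ}

lemma IsTor.comm (h : IsTor K e) {a b : G} (ha : a ∈ K) (hb : b ∈ K) : a * b = b * a := by
  by_cases ha1 : a = 1
  · subst ha1
    simp
  · have h1 := h.cent a ha ha1
    rw [← h1, Subgroup.mem_centralizer_singleton_iff] at hb
    exact hb.symm

lemma IsTor.index_eq (h : IsTor K e) : (K.subgroupOf (Subgroup.normalizer (K : Set G))).index = e := by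
  have h1 := Subgroup.index_mul_card (K.subgroupOf (Subgroup.normalizer (K : Set G)))
  have h2 : Nat.card (K.subgroupOf (Subgroup.normalizer (K : Set G))) = Nat.card K :=
    Nat.card_congr (Subgroup.subgroupOfEquivOfLe Subgroup.le_normalizer).toEquiv
  rw [h2, h.card] at h1
  exact Nat.eq_of_mul_eq_mul_right Nat.card_pos h1

lemma IsTor.pow_mem (h : IsTor K e) {y : G} (hy : y ∈ Subgroup.normalizer (K : Set G)) : y ^ e ∈ K := by
  haveI hn : (K.subgroupOf (Subgroup.normalizer (K : Set G))).Normal := Subgroup.normal_in_normalizer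
  have h4 := Subgroup.pow_index_mem (K.subgroupOf (Subgroup.normalizer (K : Set G))) (⟨y, hy⟩ : Subgroup.normalizer (K : Set G))
  rw [h.index_eq] at h4
  exact h4

lemma IsTor.pow_eq_one (h : IsTor K e) {y : G} (hy : y ∈ Subgroup.normalizer (K : Set G)) (hyK : y ∉ K) : y ^ e = 1 := by
  by_contra hcon
  have h1 := h.cent _ (h.pow_mem hy) hcon
  apply hyK
  rw [← h1, Subgroup.mem_centralizer_singleton_iff]
  exact pow_mul_comm' y e |>.symm

lemma IsTor.mem_of_odd (h : IsTor K e) {y : G} (hy : y ∈ Subgroup.normalizer (K : Set G)) {n : ℕ} (hn : ¬ 2 ∣ n)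
    (hyn : y ^ n = 1) : y ∈ K := by
  by_contra hyK
  have h1 := h.pow_eq_one hy hyK
  have h2 : orderOf y ∣ Nat.gcd e n := Nat.dvd_gcd (orderOf_dvd_of_pow_eq_one h1) (orderOf_dvd_of_pow_eq_one hyn)
  have h3 : Nat.gcd e n = 1 := by
    rcases h.he with rfl | rfl
    · exact (Nat.Prime.coprime_iff_not_dvd Nat.prime_two).2 hn
    · have : Nat.Coprime 4 n := by
        have h5 : Nat.Coprime (2 ^ 2) n := Nat.Coprime.pow_left 2 ((Nat.Prime.coprime_iff_not_dvd Nat.prime_two).2 hn)
        simpa using h5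
      exact this
  rw [h3, Nat.dvd_one, orderOf_eq_one_iff] at h2
  exact hyK (h2 ▸ K.one_mem)

lemma IsTor.not_mem_of_sq (h : IsTor K e) {t : G} (ht : t * t = 1) (ht1 : t ≠ 1) : t ∉ K := by
  intro htK
  apply h.odd
  have h1 : orderOf t = 2 := orderOf_eq_prime (by rw [sq, ht]) ht1
  rw [← h1, ← Subgroup.orderOf_mk t htK]
  exact orderOf_dvd_natCard _

lemma IsTor.inv (h : IsTor K e) {t : G} (ht : t ∈ Subgroup.normalizer (K : Set G)) (ht2 : t * t = 1) (ht1 : t ≠ 1)
    {a : G} (ha : a ∈ K) : t * a * t⁻¹ = a⁻¹ := by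
  have htK := h.not_mem_of_sq ht2 ht1
  have h1 : t * a * t⁻¹ ∈ K := (Subgroup.mem_normalizer_iff.1 ht a).1 ha
  have hinv : t⁻¹ = t := inv_eq_of_mul_eq_one_left ht2
  set b := a * (t * a * t⁻¹) with hb
  have hbK : b ∈ K := K.mul_mem ha h1
  have hc : t * (t * a * t⁻¹) * t⁻¹ = a := by
    rw [hinv]
    calc t * (t * a * t) * t = (t * t) * a * (t * t) := by group
      _ = a := by rw [ht2]; group
  have hcomm : t * b = b * t := by
    have e1 : t * b * t⁻¹ = (t * a * t⁻¹) * (t * (t * a * t⁻¹) * t⁻¹) := by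
      rw [hb]
      group
    rw [hc, h.comm h1 ha, ← hb] at e1
    calc t * b = (t * b * t⁻¹) * t := by group
      _ = b * t := by rw [e1]
  by_cases hb1 : b = 1
  · rw [hb] at hb1
    exact eq_inv_of_mul_eq_one_right hb1
  · exfalso
    apply htK
    rw [← h.cent b hbK hb1, Subgroup.mem_centralizer_singleton_iff]
    exact hcomm

lemma IsTor.mul_mem_of_invol (h : IsTor K e) {t t' : G} (ht : t ∈ Subgroup.normalizer (K : Set G)) (ht2 : t * t = 1)
    (ht1 : t ≠ 1) (ht' : t' ∈ Subgroup.normalizer (K : Set G)) (ht'2 : t' * t' = 1) (ht'1 : t' ≠ 1) : t * t' ∈ K := by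
  obtain ⟨a, ha, ha1⟩ := h.ne
  rw [← h.cent a ha ha1, Subgroup.mem_centralizer_singleton_iff]
  have h1 := h.inv ht ht2 ht1 ha
  have h2 := h.inv ht' ht'2 ht'1 ha
  have h3 : t' * a = a⁻¹ * t' := by
    rw [← h2]
    group
  have h4 : t * a⁻¹ = a * t := by
    have h5 := h.inv ht ht2 ht1 (K.inv_mem ha)
    rw [inv_inv] at h5
    calc t * a⁻¹ = (t * a⁻¹ * t⁻¹) * t := by group
      _ = a * t := by rw [h5]
  rw [mul_assoc, h3, ← mul_assoc, h4, mul_assoc]

lemma IsTor.exists_invol (h : IsTor K e) : ∃ t ∈ Subgroup.normalizer (K : Set G), t * t = 1 ∧ t ≠ 1 := by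
  haveI : Fact (Nat.Prime 2) := ⟨Nat.prime_two⟩
  have h1 : 2 ∣ Nat.card (Subgroup.normalizer (K : Set G)) := by
    rw [h.card]
    rcases h.he with rfl | rfl <;> omega
  obtain ⟨x, hx⟩ := exists_prime_orderOf_dvd_card' 2 h1
  refine ⟨x.1, x.2, ?_, ?_⟩
  · have : x ^ 2 = 1 := by rw [← hx]; exact pow_orderOf_eq_one x
    rw [sq] at this
    exact congrArg Subtype.val this
  · intro h2
    have : x = 1 := Subtype.ext h2
    rw [this, orderOf_one] at hx
    omega

/-- The number of involutions in the normaliser. -/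
lemma IsTor.card_invol (h : IsTor K e) :
    Nat.card {y : G // y ∈ Subgroup.normalizer (K : Set G) ∧ y * y = 1 ∧ y ≠ 1} = Nat.card K := by
  classical
  obtain ⟨t, ht, ht2, ht1⟩ := h.exists_invol
  have hinv : t⁻¹ = t := inv_eq_of_mul_eq_one_left ht2
  have htK := h.not_mem_of_sq ht2 ht1
  symm
  refine Nat.card_congr (Equiv.ofBijective (fun a : K => (⟨a.1 * t, ?_⟩ : {y : G // y ∈ Subgroup.normalizer (K : Set G) ∧ y * y = 1 ∧ y ≠ 1})) ⟨?_, ?_⟩)
  · refine ⟨Subgroup.mul_mem _ (Subgroup.le_normalizer a.2) ht, ?_, ?_⟩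
    · have h1 := h.inv ht ht2 ht1 a.2
      rw [hinv] at h1
      calc a.1 * t * (a.1 * t) = a.1 * (t * a.1 * t) := by group
        _ = 1 := by rw [h1]; group
    · intro h2
      apply htK
      have : t = a.1⁻¹ := eq_inv_of_mul_eq_one_right h2
      rw [this]
      exact K.inv_mem a.2
  · intro a b hab
    have h1 : a.1 * t = b.1 * t := congrArg Subtype.val hab
    exact Subtype.ext (mul_right_cancel h1)
  · rintro ⟨y, hy, hy2, hy1⟩
    refine ⟨⟨y * t, h.mul_mem_of_invol hy hy2 hy1 ht ht2 ht1⟩, Subtype.ext ?_⟩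
    show y * t * t = y
    rw [mul_assoc, ht2, mul_one]

/-- Conjugates. -/
lemma mem_map_conj_iff (K : Subgroup G) (g y : G) : y ∈ K.map (MulAut.conj g).toMonoidHom ↔ g⁻¹ * y * g ∈ K := by
  constructor
  · rintro ⟨a, ha, rfl⟩
    have : g⁻¹ * (MulAut.conj g).toMonoidHom a * g = a := by
      show g⁻¹ * (g * a * g⁻¹) * g = a
      group
    rw [this]
    exact ha
  · intro h
    refine ⟨_, h, ?_⟩
    show g * (g⁻¹ * y * g) * g⁻¹ = y
    group

lemma normalizer_map_conj (K : Subgroup G) (g : G) :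
    Subgroup.normalizer ((K.map (MulAut.conj g).toMonoidHom : Subgroup G) : Set G) =
      (Subgroup.normalizer (K : Set G)).map (MulAut.conj g).toMonoidHom :=
  (Subgroup.map_equiv_normalizer_eq _ _).symm

lemma centralizer_conj (g x : G) :
    Subgroup.centralizer ({g * x * g⁻¹} : Set G) =
      (Subgroup.centralizer ({x} : Set G)).map (MulAut.conj g).toMonoidHom := by
  ext y
  rw [mem_map_conj_iff, Subgroup.mem_centralizer_singleton_iff, Subgroup.mem_centralizer_singleton_iff]
  constructor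
  · intro h
    calc g⁻¹ * y * g * x = g⁻¹ * (y * (g * x * g⁻¹)) * g := by group
      _ = g⁻¹ * ((g * x * g⁻¹) * y) * g := by rw [h]
      _ = _ := by group
  · intro h
    calc y * (g * x * g⁻¹) = g * ((g⁻¹ * y * g) * x) * g⁻¹ := by group
      _ = g * (x * (g⁻¹ * y * g)) * g⁻¹ := by rw [h]
      _ = _ := by group

lemma card_map_conj (K : Subgroup G) (g : G) : Nat.card (K.map (MulAut.conj g).toMonoidHom) = Nat.card K :=
  Subgroup.card_map_of_injective (MulAut.conj g).injective

lemma card_normalizer_conj (K : Subgroup G) (g : G) :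
    Nat.card (Subgroup.normalizer ((K.map (MulAut.conj g).toMonoidHom : Subgroup G) : Set G)) =
      Nat.card (Subgroup.normalizer (K : Set G)) := by
  rw [normalizer_map_conj, card_map_conj]

lemma IsTor.conj (h : IsTor K e) (g : G) : IsTor (K.map (MulAut.conj g).toMonoidHom) e where
  cent := by
    intro a ha ha1
    rw [mem_map_conj_iff] at ha
    have h1 : g⁻¹ * a * g ≠ 1 := by
      intro h2
      apply ha1
      have : a = g * (g⁻¹ * a * g) * g⁻¹ := by group
      rw [this, h2]
      group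
    have h2 := centralizer_conj g (g⁻¹ * a * g)
    have h3 : g * (g⁻¹ * a * g) * g⁻¹ = a := by group
    rw [h3] at h2
    rw [h2, h.cent _ ha h1]
  odd := by
    rw [card_map_conj]
    exact h.odd
  card := by
    rw [card_normalizer_conj, card_map_conj]
    exact h.card
  ne := by
    obtain ⟨a, ha, ha1⟩ := h.ne
    refine ⟨g * a * g⁻¹, ⟨a, ha, rfl⟩, ?_⟩
    intro h2
    apply ha1
    have : a = g⁻¹ * (g * a * g⁻¹) * g := by group
    rw [this, h2]
    group
  he := h.he

/-- The number of elements of order four in the normaliser. -/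
lemma IsTor.card_order_four (h : IsTor K e) :
    Nat.card {y : G // y ∈ Subgroup.normalizer (K : Set G) ∧ orderOf y = 4} = (e - 2) * Nat.card K := by
  classical
  haveI : Fintype G := Fintype.ofFinite G
  let N := Subgroup.normalizer (K : Set G)
  -- three disjoint parts of the normaliser
  let A : Finset G := Finset.univ.filter (· ∈ K)
  let I : Finset G := Finset.univ.filter (fun y => y ∈ N ∧ y * y = 1 ∧ y ≠ 1)
  let O : Finset G := Finset.univ.filter (fun y => y ∈ N ∧ orderOf y = 4)
  let NN : Finset G := Finset.univ.filter (· ∈ N)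
  have hA : A.card = Nat.card K := by
    rw [Nat.card_eq_fintype_card, Fintype.card_subtype]
  have hI : I.card = Nat.card K := by
    rw [← h.card_invol, Nat.card_eq_fintype_card, Fintype.card_subtype]
  have hO : O.card = Nat.card {y : G // y ∈ Subgroup.normalizer (K : Set G) ∧ orderOf y = 4} := by
    rw [Nat.card_eq_fintype_card, Fintype.card_subtype]
  have hNN : NN.card = e * Nat.card K := by
    rw [← h.card, Nat.card_eq_fintype_card, Fintype.card_subtype]
  have hU : NN = A ∪ (I ∪ O) := by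
    ext y
    simp only [NN, A, I, O, Finset.mem_filter, Finset.mem_univ, true_and, Finset.mem_union]
    constructor
    · intro hy
      by_cases hyK : y ∈ K
      · exact Or.inl hyK
      · right
        have h1 := h.pow_eq_one hy hyK
        have hy1 : y ≠ 1 := fun h2 => hyK (h2 ▸ K.one_mem)
        by_cases hy2 : y * y = 1
        · exact Or.inl ⟨hy, hy2, hy1⟩
        · right
          refine ⟨hy, ?_⟩
          have h4 : y ^ 4 = 1 := by
            rcases h.he with rfl | rfl
            · rw [show 4 = 2 * 2 by rfl, pow_mul, h1, one_pow]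
            · exact h1
          have h5 : orderOf y ∣ 2 ^ 2 := orderOf_dvd_of_pow_eq_one h4
          obtain ⟨k, hk, hk2⟩ := (Nat.dvd_prime_pow Nat.prime_two).1 h5
          interval_cases k
          · simp only [pow_zero, orderOf_eq_one_iff] at hk2
            exact absurd hk2 hy1
          · exfalso
            apply hy2
            have := pow_orderOf_eq_one y
            rw [hk2, pow_one, sq] at this
            exact this
          · rw [hk2]
            rfl
    · rintro (hy | ⟨hy, -⟩ | ⟨hy, -⟩)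
      · exact Subgroup.le_normalizer hy
      · exact hy
      · exact hy
  have hd1 : Disjoint A (I ∪ O) := by
    rw [Finset.disjoint_left]
    intro y hy hy2
    have hyK : y ∈ K := (Finset.mem_filter.1 hy).2
    rw [Finset.mem_union] at hy2
    rcases hy2 with hy2 | hy2
    · obtain ⟨-, h1, h2⟩ := (Finset.mem_filter.1 hy2).2
      exact h.not_mem_of_sq h1 h2 hyK
    · obtain ⟨-, h2⟩ := (Finset.mem_filter.1 hy2).2
      apply h.odd
      have h3 : orderOf y ∣ Nat.card K := by
        rw [← Subgroup.orderOf_mk y hyK]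
        exact orderOf_dvd_natCard _
      rw [h2] at h3
      exact dvd_trans (by norm_num) h3
  have hd2 : Disjoint I O := by
    rw [Finset.disjoint_left]
    intro y hy hy2
    obtain ⟨-, h1, -⟩ := (Finset.mem_filter.1 hy).2
    obtain ⟨-, h2⟩ := (Finset.mem_filter.1 hy2).2
    have h3 : orderOf y ∣ 2 := orderOf_dvd_of_pow_eq_one (by rw [sq, h1])
    rw [h2] at h3
    omega
  have hcard := congrArg Finset.card hU
  rw [Finset.card_union_of_disjoint hd1, Finset.card_union_of_disjoint hd2, hNN, hA, hI, hO] at hcard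
  have he2 : 2 ≤ e := by
    rcases h.he with rfl | rfl <;> omega
  obtain ⟨f, rfl⟩ : ∃ f, e = f + 2 := ⟨e - 2, by omega⟩
  rw [Nat.add_sub_cancel]
  nlinarith

end generic

section count

variable {G X : Type*} [Group G] [MulAction G X]

/-- Double counting of conjugation-invariant incidences. -/
lemma double_count (𝓞 : Finset X) (x₀ : X) (h𝓞 : ∀ x, x ∈ 𝓞 ↔ ∃ g : G, x = g • x₀) (C : Finset G)
    (hC : ∀ g : G, ∀ y ∈ C, g * y * g⁻¹ ∈ C) (R : G → X → Prop) [∀ y x, Decidable (R y x)]
    (hR : ∀ (g y : G) (x : X), R y x → R (g * y * g⁻¹) (g • x)) (a : ℕ)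
    (ha : ∀ y ∈ C, (𝓞.filter (fun x => R y x)).card = a) :
    C.card * a = 𝓞.card * (C.filter (fun y => R y x₀)).card := by
  classical
  have h1 : ∑ y ∈ C, (𝓞.filter (fun x => R y x)).card = ∑ x ∈ 𝓞, (C.filter (fun y => R y x)).card :=
    Finset.sum_card_bipartiteAbove_eq_sum_card_bipartiteBelow R
  rw [Finset.sum_congr rfl ha, Finset.sum_const, smul_eq_mul] at h1
  rw [h1]
  have h2 : ∀ x ∈ 𝓞, (C.filter (fun y => R y x)).card = (C.filter (fun y => R y x₀)).card := by
    intro x hx
    obtain ⟨g, rfl⟩ := (h𝓞 x).1 hx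
    symm
    apply Finset.card_bij (fun y _ => g * y * g⁻¹)
    · intro y hy
      obtain ⟨h3, h4⟩ := Finset.mem_filter.1 hy
      exact Finset.mem_filter.2 ⟨hC g y h3, hR g y x₀ h4⟩
    · intro a _ b _ hab
      exact mul_left_cancel (mul_right_cancel hab)
    · intro y hy
      obtain ⟨h3, h4⟩ := Finset.mem_filter.1 hy
      refine ⟨g⁻¹ * y * g, Finset.mem_filter.2 ⟨?_, ?_⟩, by group⟩
      · have := hC g⁻¹ y h3
        simpa using this
      · have := hR g⁻¹ y (g • x₀) h4
        have e1 : g⁻¹ * y * g⁻¹⁻¹ = g⁻¹ * y * g := by group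
        rw [e1, inv_smul_smul] at this
        exact this
  rw [Finset.sum_congr rfl h2, Finset.sum_const, smul_eq_mul]

end count

section orbit

variable {G : Type*} [Group G] [Finite G]

/-- Conjugation action on subgroups. -/
@[reducible] def conjActSub (G : Type*) [Group G] [Finite G] : MulAction G (Subgroup G) where
  smul g K := K.map (MulAut.conj g).toMonoidHom
  one_smul K := by
    ext y
    show y ∈ K.map (MulAut.conj (1 : G)).toMonoidHom ↔ _
    rw [mem_map_conj_iff]
    simp
  mul_smul g h K := by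
    ext y
    show y ∈ K.map (MulAut.conj (g * h)).toMonoidHom ↔ y ∈ (K.map (MulAut.conj h).toMonoidHom).map (MulAut.conj g).toMonoidHom
    rw [mem_map_conj_iff, mem_map_conj_iff, mem_map_conj_iff]
    simp only [_root_.mul_inv_rev, mul_assoc]

lemma exists_conj_orbit (K₀ : Subgroup G) :
    ∃ 𝓞 : Finset (Subgroup G), ∀ K, K ∈ 𝓞 ↔ ∃ g : G, K = K₀.map (MulAut.conj g).toMonoidHom := by
  refine ⟨(Set.finite_range (fun g : G => K₀.map (MulAut.conj g).toMonoidHom)).toFinset, fun K => ?_⟩
  rw [Set.Finite.mem_toFinset]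
  constructor
  · rintro ⟨g, rfl⟩
    exact ⟨g, rfl⟩
  · rintro ⟨g, rfl⟩
    exact ⟨g, rfl⟩

lemma mem_normalizer_of_map_eq {K : Subgroup G} {g : G} (h : K.map (MulAut.conj g).toMonoidHom = K) :
    g ∈ Subgroup.normalizer (K : Set G) := by
  rw [Subgroup.mem_normalizer_iff]
  intro y
  constructor
  · intro hy
    rw [← h]
    exact ⟨y, hy, rfl⟩
  · intro hy
    rw [← h, mem_map_conj_iff] at hy
    simpa [mul_assoc] using hy

lemma map_eq_of_mem_normalizer {K : Subgroup G} {g : G} (h : g ∈ Subgroup.normalizer (K : Set G)) :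
    K.map (MulAut.conj g).toMonoidHom = K := by
  ext y
  rw [mem_map_conj_iff]
  have h1 := (Subgroup.mem_normalizer_iff.1 h (g⁻¹ * y * g))
  have e : g * (g⁻¹ * y * g) * g⁻¹ = y := by group
  rw [e] at h1
  exact h1

/-- The orbit-stabiliser count. -/
lemma card_conj_orbit (K₀ : Subgroup G) (𝓞 : Finset (Subgroup G))
    (h𝓞 : ∀ K, K ∈ 𝓞 ↔ ∃ g : G, K = K₀.map (MulAut.conj g).toMonoidHom) :
    𝓞.card * Nat.card (Subgroup.normalizer (K₀ : Set G)) = Nat.card G := by
  classical
  letI := conjActSub G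
  have h := Nat.card_congr (MulAction.orbitProdStabilizerEquivGroup G K₀)
  rw [Nat.card_prod] at h
  have e : MulAction.stabilizer G K₀ = Subgroup.normalizer (K₀ : Set G) := by
    ext g
    constructor
    · intro hg
      exact mem_normalizer_of_map_eq hg
    · intro hg
      exact map_eq_of_mem_normalizer hg
  have e2 : Nat.card (MulAction.orbit G K₀) = 𝓞.card := by
    rw [Nat.card_coe_set_eq, ← Set.ncard_coe_finset]
    congr 1
    ext K
    rw [Finset.mem_coe, h𝓞]
    constructor
    · rintro ⟨g, rfl⟩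
      exact ⟨g, rfl⟩
    · rintro ⟨g, rfl⟩
      exact ⟨g, rfl⟩
  rwa [e, e2] at h

/-- Double counting for the conjugates of a subgroup. -/
lemma double_count_sub (K₀ : Subgroup G) (𝓞 : Finset (Subgroup G))
    (h𝓞 : ∀ K, K ∈ 𝓞 ↔ ∃ g : G, K = K₀.map (MulAut.conj g).toMonoidHom) (C : Finset G)
    (hC : ∀ g : G, ∀ y ∈ C, g * y * g⁻¹ ∈ C) [∀ (y : G) (K : Subgroup G), Decidable (y ∈ Subgroup.normalizer (K : Set G))] (a : ℕ)
    (ha : ∀ y ∈ C, (𝓞.filter (fun K : Subgroup G => y ∈ Subgroup.normalizer (K : Set G))).card = a) :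
    C.card * a = 𝓞.card * (C.filter (fun y => y ∈ Subgroup.normalizer (K₀ : Set G))).card := by
  classical
  letI := conjActSub G
  refine double_count 𝓞 K₀ (fun K => ?_) C hC (fun (y : G) (K : Subgroup G) => y ∈ Subgroup.normalizer (K : Set G)) ?_ a ha
  · rw [h𝓞]
    constructor
    · rintro ⟨g, rfl⟩
      exact ⟨g, rfl⟩
    · rintro ⟨g, rfl⟩
      exact ⟨g, rfl⟩
  · intro g y K hy
    show g * y * g⁻¹ ∈ Subgroup.normalizer ((K.map (MulAut.conj g).toMonoidHom : Subgroup G) : Set G)
    rw [normalizer_map_conj]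
    exact ⟨y, hy, rfl⟩

/-- The number of conjugates containing a conjugate element in their normaliser is the same. -/
lemma card_filter_conj (K₀ : Subgroup G) (𝓞 : Finset (Subgroup G))
    (h𝓞 : ∀ K, K ∈ 𝓞 ↔ ∃ g : G, K = K₀.map (MulAut.conj g).toMonoidHom)
    [∀ (y : G) (K : Subgroup G), Decidable (y ∈ Subgroup.normalizer (K : Set G))] (g x : G) :
    (𝓞.filter (fun K : Subgroup G => g * x * g⁻¹ ∈ Subgroup.normalizer (K : Set G))).card =
      (𝓞.filter (fun K : Subgroup G => x ∈ Subgroup.normalizer (K : Set G))).card := by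
  classical
  symm
  apply Finset.card_bij (fun K _ => K.map (MulAut.conj g).toMonoidHom)
  · intro K hK
    obtain ⟨h1, h2⟩ := Finset.mem_filter.1 hK
    refine Finset.mem_filter.2 ⟨?_, ?_⟩
    · obtain ⟨g', rfl⟩ := (h𝓞 K).1 h1
      refine (h𝓞 _).2 ⟨g * g', ?_⟩
      rw [Subgroup.map_map]
      congr 1
      ext y
      simp [MulAut.conj_apply, mul_assoc]
    · rw [normalizer_map_conj]
      exact ⟨x, h2, rfl⟩
  · intro K _ K' _ h
    exact Subgroup.map_injective (MulAut.conj g).injective h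
  · intro K hK
    obtain ⟨h1, h2⟩ := Finset.mem_filter.1 hK
    refine ⟨K.map (MulAut.conj g⁻¹).toMonoidHom, Finset.mem_filter.2 ⟨?_, ?_⟩, ?_⟩
    · obtain ⟨g', rfl⟩ := (h𝓞 K).1 h1
      refine (h𝓞 _).2 ⟨g⁻¹ * g', ?_⟩
      rw [Subgroup.map_map]
      congr 1
      ext y
      simp [MulAut.conj_apply, mul_assoc]
    · rw [normalizer_map_conj]
      refine ⟨g * x * g⁻¹, h2, ?_⟩
      show g⁻¹ * (g * x * g⁻¹) * g⁻¹⁻¹ = x
      group
    · rw [Subgroup.map_map]
      ext y
      simp [Subgroup.mem_map, MulAut.conj_apply, mul_assoc]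

end orbit

end Cfsg.Agent.H10
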