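import Cfsg.Agent.Lib.H10.ReeQ5
import Cfsg.Agent.Lib.H10.ReeS1
import Cfsg.Agent.Lib.H10.TorCount
import Cfsg.Agent.Lib.Lead.CardSL

/-!
# The small Ree group: arithmetic of the order, conjugacy of involutions
-/

set_option autoImplicit false
set_option linter.style.longLine false
set_option linter.unusedSimpArgs false
set_option linter.unusedSectionVars false
set_option maxRecDepth 100000

open Cfsg Cfsg.Lie Cfsg.Agent.H04.Chev
open scoped MatrixGroups commutatorElement Pointwise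

namespace Cfsg.Agent.H10

section numbers

/-- the number `h = (q - 1) / 2` -/
def reeH (m : ℕ) : ℕ := (3 ^ (2 * m + 1) - 1) / 2

/-- the number `D = q² - q + 1` -/
def reeDD (m : ℕ) : ℕ := (3 ^ (2 * m + 1)) ^ 2 - 3 ^ (2 * m + 1) + 1

lemma reeH_spec (m : ℕ) : 2 * reeH m + 1 = 3 ^ (2 * m + 1) := by
  have := ree_num_mod8 m
  unfold reeH
  generalize 3 ^ (2 * m + 1) = q at *
  omega

lemma reeH_odd (m : ℕ) : Odd (reeH m) := by
  have h1 := ree_num_mod8 m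
  have h2 := reeH_spec m
  rw [Nat.odd_iff]
  generalize 3 ^ (2 * m + 1) = q at *
  omega

lemma reeD_spec (m : ℕ) : reeDD m + 3 ^ (2 * m + 1) = (3 ^ (2 * m + 1)) ^ 2 + 1 := by
  unfold reeDD
  have h : 3 ^ (2 * m + 1) ≤ (3 ^ (2 * m + 1)) ^ 2 := Nat.le_self_pow (by norm_num) _
  generalize 3 ^ (2 * m + 1) = q at *
  omega

lemma ree_three_dvd (m : ℕ) : 3 ∣ 3 ^ (2 * m + 1) := dvd_pow_self _ (by omega)

lemma ree_q_ge {m : ℕ} (hm : 1 ≤ m) : 27 ≤ 3 ^ (2 * m + 1) := by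
  calc 27 = 3 ^ 3 := by norm_num
    _ ≤ _ := Nat.pow_le_pow_right (by norm_num) (by omega)

/-- in terms of integers -/
lemma reeD_int (m : ℕ) : (reeDD m : ℤ) = ((3 : ℤ) ^ (2 * m + 1)) ^ 2 - 3 ^ (2 * m + 1) + 1 := by
  have := reeD_spec m
  have h : ((reeDD m + 3 ^ (2 * m + 1) : ℕ) : ℤ) = (((3 ^ (2 * m + 1)) ^ 2 + 1 : ℕ) : ℤ) := by rw [this]
  push_cast at h
  linarith

lemma reeH_int (m : ℕ) : (2 * (reeH m : ℤ)) = (3 : ℤ) ^ (2 * m + 1) - 1 := by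
  have := reeH_spec m
  have h : ((2 * reeH m + 1 : ℕ) : ℤ) = ((3 ^ (2 * m + 1) : ℕ) : ℤ) := by rw [this]
  push_cast at h
  linarith

lemma reeN_int (m : ℕ) : (4 * (reeN m : ℤ)) = (3 : ℤ) ^ (2 * m + 1) + 1 := by
  have := reeN_spec m
  have h : ((4 * reeN m : ℕ) : ℤ) = ((3 ^ (2 * m + 1) + 1 : ℕ) : ℤ) := by rw [this]
  push_cast at h
  linarith

lemma reeD_cop_q (m : ℕ) : Nat.Coprime (reeDD m) (3 ^ (2 * m + 1)) := by
  rw [← Nat.isCoprime_iff_coprime]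
  refine ⟨1, -((3 : ℤ) ^ (2 * m + 1) - 1), ?_⟩
  push_cast
  rw [reeD_int]
  ring

lemma reeD_cop_2h (m : ℕ) : Nat.Coprime (reeDD m) (2 * reeH m) := by
  rw [← Nat.isCoprime_iff_coprime]
  refine ⟨1, -((3 : ℤ) ^ (2 * m + 1)), ?_⟩
  push_cast
  rw [reeD_int, reeH_int]
  ring

lemma reeD_cop_4n (m : ℕ) : Nat.Coprime (reeDD m) (4 * reeN m) := by
  rw [← Nat.isCoprime_iff_coprime]
  obtain ⟨k, hk⟩ := ree_three_dvd m
  have hk' : ((3 : ℤ) ^ (2 * m + 1)) = 3 * k := by exact_mod_cast hk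
  refine ⟨-(k : ℤ), 1 + k * ((3 : ℤ) ^ (2 * m + 1) - 2), ?_⟩
  push_cast
  rw [reeD_int, reeN_int]
  rw [hk']
  ring

lemma reeN_cop_q (m : ℕ) : Nat.Coprime (reeN m) (3 ^ (2 * m + 1)) := by
  rw [← Nat.isCoprime_iff_coprime]
  refine ⟨4, -1, ?_⟩
  push_cast
  rw [mul_comm 4, mul_comm (_ : ℤ) 4, reeN_int]
  ring

lemma reeN_cop_2h (m : ℕ) : Nat.Coprime (reeN m) (2 * reeH m) := by
  obtain ⟨c, hc⟩ := reeN_odd m
  rw [← Nat.isCoprime_iff_coprime]
  -- `2 n - h = 1`, `q + 1 = 4 n`, `q - 1 = 2 h`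
  have e : (2 * (reeN m : ℤ)) - reeH m = 1 := by
    have h1 := reeN_int m
    have h2 := reeH_int m
    linarith
  have hc' : (reeN m : ℤ) = 2 * c + 1 := by exact_mod_cast hc
  refine ⟨1 - 4 * c, c, ?_⟩
  push_cast
  have e2 : (reeH m : ℤ) = 2 * (reeN m : ℤ) - 1 := by linarith
  rw [e2, hc']
  ring

lemma reeH_cop_q (m : ℕ) : Nat.Coprime (2 * reeH m) (3 ^ (2 * m + 1)) := by
  rw [← Nat.isCoprime_iff_coprime]
  refine ⟨-1, 1, ?_⟩
  push_cast
  rw [reeH_int]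
  ring

lemma reeN_cop_four (m : ℕ) : Nat.Coprime (reeN m) 4 := by
  have h := reeN_odd m
  have : Nat.Coprime (reeN m) (2 ^ 2) := Nat.Coprime.pow_right 2 (Nat.coprime_two_right.mpr h)
  simpa using this

lemma reeN_pos (m : ℕ) : 0 < reeN m := (reeN_odd m).pos
lemma reeH_pos (m : ℕ) : 0 < reeH m := (reeH_odd m).pos
lemma reeD_pos (m : ℕ) : 0 < reeDD m := by unfold reeDD; omega

/-- `q³ + 1 = (q + 1) D` -/
lemma ree_N_eq (m : ℕ) : (3 ^ (2 * m + 1)) ^ 3 + 1 = 4 * reeN m * reeDD m := by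
  have h1 := reeN_int m
  have h2 := reeD_int m
  have : (((3 ^ (2 * m + 1)) ^ 3 + 1 : ℕ) : ℤ) = ((4 * reeN m * reeDD m : ℕ) : ℤ) := by
    push_cast
    rw [h1, h2]
    ring
  exact_mod_cast this

lemma reeD_not_two (m : ℕ) : ¬ 2 ∣ reeDD m := by
  intro h
  have h0 : Nat.Coprime (reeDD m) 2 := Nat.Coprime.coprime_dvd_right ⟨2 * reeN m, by ring⟩ (reeD_cop_4n m)
  have := h0.symm.eq_one_of_dvd h
  omega

lemma reeD_not_three (m : ℕ) : ¬ 3 ∣ reeDD m := by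
  intro h
  have h0 : Nat.Coprime (reeDD m) 3 := Nat.Coprime.coprime_dvd_right (ree_three_dvd m) (reeD_cop_q m)
  have := h0.symm.eq_one_of_dvd h
  omega

/-- the prime factors of the order -/
lemma ree_prime_cases {m p : ℕ} (hp : p.Prime) (h : p ∣ (3 ^ (2 * m + 1)) ^ 3 * (2 * reeH m) * (4 * reeN m) * reeDD m) :
    p = 3 ∨ p = 2 ∨ p ∣ reeH m ∨ p ∣ reeN m ∨ p ∣ reeDD m := by
  rw [hp.dvd_mul, hp.dvd_mul, hp.dvd_mul, hp.dvd_mul, hp.dvd_mul] at h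
  rcases h with ((h | h | h) | h | h) | h
  · left
    have := hp.dvd_of_dvd_pow (hp.dvd_of_dvd_pow h)
    exact (Nat.prime_dvd_prime_iff_eq hp Nat.prime_three).1 this
  · right; left
    exact (Nat.prime_dvd_prime_iff_eq hp Nat.prime_two).1 h
  · right; right; left; exact h
  · right; left
    exact (Nat.prime_dvd_prime_iff_eq hp Nat.prime_two).1 (hp.dvd_of_dvd_pow (show p ∣ 2 ^ 2 by simpa using h))
  · right; right; right; left; exact h
  · right; right; right; right; exact h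

end numbers

variable {K : Type*} [Field K] [CharP K 3] {m : ℕ} [Fintype K] (hK : Fintype.card K = 3 ^ (2 * m + 1))

include hK

lemma card_T' : Nat.card (RT K m) = (3 ^ (2 * m + 1)) ^ 3 * (2 * reeH m) * (4 * reeN m) * reeDD m := by
  rw [card_T hK, hK, mul_assoc _ (4 * reeN m), ← ree_N_eq]
  congr 2
  have := reeH_spec m
  omega

/-- every element of `2`-power order is an involution -/
lemma sq_of_two_elt {x : RT K m} {k : ℕ} (hx : x ^ 2 ^ k = 1) : x * x = 1 := by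
  haveI := t_finite hK
  haveI : Fact (Nat.Prime 2) := ⟨Nat.prime_two⟩
  have hp : IsPGroup 2 (Subgroup.zpowers x) := by
    rw [IsPGroup.iff_card]
    obtain ⟨j, -, hj⟩ := (Nat.dvd_prime_pow Nat.prime_two).1 (orderOf_dvd_of_pow_eq_one hx)
    exact ⟨j, by rw [Nat.card_zpowers, hj]⟩
  obtain ⟨S, hS⟩ := hp.exists_le_sylow
  exact (sylow2_facts hK S).2 x (hS (Subgroup.mem_zpowers x))

omit hK in
lemma chain_generic {G : Type*} [Group G] {g a w J : G} (h1 : g * a * g⁻¹ = w) (h2 : g * w * g⁻¹ = w * J) (h3 : g * J * g⁻¹ = a * J)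
    (hwa : w * a = a * w) (hJa : J * a = a * J) (hww : w * w = 1) (hJJ : J * J = 1) :
    (∃ c, c * w * c⁻¹ = a) ∧ (∃ c, c * J * c⁻¹ = a) ∧
    (∃ c, c * (a * w) * c⁻¹ = a) ∧ (∃ c, c * (a * J) * c⁻¹ = a) ∧
    (∃ c, c * (w * J) * c⁻¹ = a) ∧ (∃ c, c * (a * w * J) * c⁻¹ = a) := by
  have hmul : ∀ x y, g * (x * y) * g⁻¹ = (g * x * g⁻¹) * (g * y * g⁻¹) := fun x y => by group
  -- the chain `a → w → w J → a w → J → a J → a w J → a`
  have c1 : g * (w * J) * g⁻¹ = a * w := by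
    rw [hmul, h2, h3]
    have e1 : w * J * (a * J) = w * (J * a) * J := by group
    have e2 : w * (a * J) * J = (w * a) * (J * J) := by group
    rw [e1, hJa, e2, hwa, hJJ, mul_one]
  have c2 : g * (a * w) * g⁻¹ = J := by
    rw [hmul, h1, h2]
    rw [← mul_assoc, hww, one_mul]
  have c3 : g * (a * J) * g⁻¹ = a * w * J := by
    rw [hmul, h1, h3]
    rw [← mul_assoc, hwa]
  have c4 : g * (a * w * J) * g⁻¹ = a := by
    rw [hmul, c2, h3]
    rw [← mul_assoc, hJa, mul_assoc, hJJ, mul_one]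
  have hstep : ∀ {x y : G}, g * x * g⁻¹ = y → (∃ c, c * y * c⁻¹ = a) → ∃ c, c * x * c⁻¹ = a := by
    rintro x y rfl ⟨c, hc⟩
    exact ⟨c * g, by rw [← hc]; group⟩
  have s7 : ∃ c, c * (a * w * J) * c⁻¹ = a := ⟨g, c4⟩
  have s6 : ∃ c, c * (a * J) * c⁻¹ = a := hstep c3 s7
  have s5 : ∃ c, c * J * c⁻¹ = a := hstep h3 s6
  have s4 : ∃ c, c * (a * w) * c⁻¹ = a := hstep c2 s5
  have s3 : ∃ c, c * (w * J) * c⁻¹ = a := hstep c1 s4
  have s2 : ∃ c, c * w * c⁻¹ = a := hstep h2 s3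
  exact ⟨s2, s5, s4, s6, s3, s7⟩

/-- conjugate to `a` -/
lemma conj_a_of_chain : (∃ c, c * tW K m * c⁻¹ = tA hK) ∧ (∃ c, c * tJ hK * c⁻¹ = tA hK) ∧
    (∃ c, c * (tA hK * tW K m) * c⁻¹ = tA hK) ∧ (∃ c, c * (tA hK * tJ hK) * c⁻¹ = tA hK) ∧
    (∃ c, c * (tW K m * tJ hK) * c⁻¹ = tA hK) ∧ (∃ c, c * (tA hK * tW K m * tJ hK) * c⁻¹ = tA hK) := by
  apply chain_generic (g := tG7 K m)
  · rw [tG7_A hK]; group
  · rw [tG7_W hK]; group
  · rw [tG7_J hK]; group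
  · have := a_comm_tSL hK sW
    rw [tSL_sW hK] at this
    exact this.symm
  · exact (a_comm_tSL hK sJ).symm
  · exact tW_sq
  · exact tJ_sq hK

/-- all involutions are conjugate -/
theorem invol_conj_a {x : RT K m} (hx : x * x = 1) (h1 : x ≠ 1) : ∃ c, c * x * c⁻¹ = tA hK := by
  haveI := t_finite hK
  haveI : Fact (Nat.Prime 2) := ⟨Nat.prime_two⟩
  obtain ⟨S, h8, helem, ha, hw, hJ, hform⟩ := exists_S0 hK
  obtain ⟨k, hk, hc⟩ := card_T_two hK
  have hi : ¬ 2 ∣ S.index := by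
    have h1 := Subgroup.card_mul_index S
    rw [h8, hc] at h1
    have h2 : S.index = k := by omega
    rw [h2]
    exact hk.not_two_dvd_nat
  obtain ⟨c, hcS⟩ := conj_into_of_index S hi (x := x) (k := 1) (by rw [pow_one, sq, hx])
  obtain ⟨i, j, l, e⟩ := hform _ hcS
  have hne : c * x * c⁻¹ ≠ 1 := by
    intro h
    apply h1
    have : x = c⁻¹ * (c * x * c⁻¹) * c := by group
    rw [this, h]
    group
  obtain ⟨⟨c1, h1⟩, ⟨c2, h2⟩, ⟨c3, h3⟩, ⟨c4, h4⟩, ⟨c5, h5⟩, ⟨c6, h6⟩⟩ := conj_a_of_chain hK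
  have hfin : ∀ {y : RT K m}, c * x * c⁻¹ = y → (∃ d, d * y * d⁻¹ = tA hK) → ∃ d, d * x * d⁻¹ = tA hK := by
    rintro y rfl ⟨d, hd⟩
    exact ⟨d * c, by rw [← hd]; group⟩
  cases i <;> cases j <;> cases l <;> simp only [bpow, Bool.false_eq_true, if_false, if_true, one_mul, mul_one] at e
  · exact absurd e hne
  · exact hfin e ⟨_, h2⟩
  · exact hfin e ⟨_, h1⟩
  · exact hfin e ⟨_, h5⟩
  · exact hfin e ⟨1, by simp⟩
  · exact hfin e ⟨_, h4⟩
  · exact hfin e ⟨_, h3⟩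
  · exact hfin e ⟨_, h6⟩

/-- the order of the centraliser of an involution -/
theorem card_centralizer_a : Nat.card (Subgroup.centralizer ({tA hK} : Set (RT K m))) =
    3 ^ (2 * m + 1) * (2 * reeH m) * (4 * reeN m) := by
  obtain ⟨e⟩ := centralizer_a_equiv hK
  rw [Nat.card_congr e.toEquiv, Nat.card_prod]
  have h2 : Nat.card (Multiplicative (ZMod 2)) = 2 := by simp
  rw [h2]
  have h3 := Cfsg.Agent.Lead.card_SL_eq_mul_card_PSL (F := K) (ι := Fin 2)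
  rw [card_SL_two] at h3
  have h4 : Nat.gcd (Fintype.card (Fin 2)) (Fintype.card K - 1) = 2 := by
    have e : 3 ^ (2 * m + 1) - 1 = 2 * reeH m := by
      rw [← reeH_spec m]
      simp
    rw [hK, Fintype.card_fin, e]
    simp
  rw [h4, hK] at h3
  have h5 := reeH_spec m
  have h6 := reeN_spec m
  have h7 : (3 ^ (2 * m + 1)) ^ 2 - 1 = (2 * reeH m) * (4 * reeN m) := by
    rw [h6, ← h5]
    have : (2 * reeH m + 1) ^ 2 - 1 = 2 * reeH m * (2 * reeH m + 1 + 1) := by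
      rw [show (2 * reeH m + 1) ^ 2 = 2 * reeH m * (2 * reeH m + 1 + 1) + 1 by ring]
      simp
    exact this
  rw [h7] at h3
  rw [mul_comm] at h3
  rw [mul_comm 2, ← h3]
  ring

end Cfsg.Agent.H10
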