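import Cfsg.Agent.Lib.H10.ReeQ6

/-!
# The small Ree group: fixed points and centralisers
-/

set_option autoImplicit false
set_option linter.style.longLine false
set_option linter.unusedSimpArgs false
set_option linter.unusedSectionVars false
set_option linter.style.haveILetI false
set_option maxRecDepth 100000

open Cfsg Cfsg.Lie Cfsg.Agent.H04.Chev
open scoped MatrixGroups commutatorElement Pointwise

namespace Cfsg.Agent.H10

variable {K : Type*} [Field K] [CharP K 3] {m : ℕ} [Fintype K] (hK : Fintype.card K = 3 ^ (2 * m + 1))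

include hK

/-- powers in the Borel subgroup -/
lemma tB_pow (t u v : K) (β : Kˣ) (k : ℕ) : ∃ t' u' v', (tU m t u v * tH hK β) ^ k = tU m t' u' v' * tH hK (β ^ k) := by
  induction k with
  | zero =>
    refine ⟨0, 0, 0, ?_⟩
    simp [tU_zero, tH_one hK]
  | succ k ih =>
    obtain ⟨t', u', v', e⟩ := ih
    have e1 := tH_conj hK (β ^ k) t u v
    rw [mul_inv_eq_iff_eq_mul] at e1
    rw [pow_succ, e]
    have : tU m t' u' v' * tH hK (β ^ k) * (tU m t u v * tH hK β) = tU m t' u' v' * (tH hK (β ^ k) * tU m t u v) * tH hK β := by group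
    rw [this, e1, ← mul_assoc (tU m t' u' v'), tU_mul hK, mul_assoc, ← tH_mul hK, ← pow_succ]
    exact ⟨_, _, _, rfl⟩

lemma tH_pow_card (β : Kˣ) : tH hK β ^ (2 * reeH m) = 1 := by
  rw [← tH_pow hK]
  have h1 : β ^ (Fintype.card K - 1) = 1 := by
    have := FiniteField.pow_card_sub_one_eq_one (β : K) β.ne_zero
    exact Units.ext (by simpa using this)
  have e : Fintype.card K - 1 = 2 * reeH m := by
    rw [hK, ← reeH_spec m]
    simp
  rw [e] at h1
  rw [h1, tH_one hK]

/-- the exponent of the Borel subgroup -/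
lemma tB_pow_eq_one {y : RT K m} (hy : y ∈ tB K m) : y ^ (9 * (2 * reeH m)) = 1 := by
  obtain ⟨t, u, v, β, rfl⟩ := (mem_tB_iff hK _).mp hy
  obtain ⟨t', u', v', e⟩ := tB_pow hK t u v β (2 * reeH m)
  rw [mul_comm 9, pow_mul, e]
  have h1 : β ^ (2 * reeH m) = 1 := by
    have := FiniteField.pow_card_sub_one_eq_one (β : K) β.ne_zero
    have e : Fintype.card K - 1 = 2 * reeH m := by
      rw [hK, ← reeH_spec m]
      simp
    rw [e] at this
    exact Units.ext (by simpa using this)
  rw [h1, tH_one hK, mul_one, tU_pow_nine hK]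

lemma tH_inj_one {β : Kˣ} (h : tH hK β = 1) : β = 1 := by
  apply tH_inj hK
  rw [h, tH_one hK]

/-- non-trivial elements of `U` have a unique fixed point -/
lemma tU_fix_unique {a b c : K} (h : tU m a b c ≠ 1) {x : ROm K m} (hx : tU m a b c • x = x) : x = pt0 K m := by
  rcases pt_cases hK x with rfl | ⟨t, u, v, rfl⟩
  · rfl
  · exfalso
    apply h
    change tU m a b c • Pt m t u v = Pt m t u v at hx
    rw [tU_smul_Pt hK] at hx
    obtain ⟨h1, h2, h3⟩ := Pt_inj hK hx
    have ha : a = 0 := by linear_combination h1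
    subst ha
    have hb : b = 0 := by linear_combination h2
    subst hb
    have hc : c = 0 := by linear_combination h3
    subst hc
    exact tU_zero

/-- the centraliser of a non-trivial element of `U` lies in the Borel subgroup -/
lemma comm_tU_mem_tB {a b c : K} (h : tU m a b c ≠ 1) {y : RT K m} (hy : y * tU m a b c = tU m a b c * y) : y ∈ tB K m := by
  have h1 : tU m a b c • (y • pt0 K m) = y • pt0 K m := by
    rw [← mul_smul, ← hy, mul_smul, mem_tB_smul_pt0 hK (tU_mem_tB hK _ _ _)]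
  have h2 := tU_fix_unique hK h h1
  rw [← stabilizer_pt0]
  exact h2

/-- the centraliser of a generic element of `H` is `H` -/
lemma comm_tH_mem {β : Kˣ} (hβ : (β : K) ^ 2 ≠ 1) {y : RT K m} (hy : y * tH hK β = tH hK β * y) : ∃ γ, y = tH hK γ := by
  have h1 : tH hK β • (y • pt0 K m) = y • pt0 K m := by
    rw [← mul_smul, ← hy, mul_smul, mem_tB_smul_pt0 hK (tH_mem_tB hK _)]
  have h2 : tH hK β • (y • (tW K m • pt0 K m)) = y • (tW K m • pt0 K m) := by
    rw [← mul_smul, ← hy, mul_smul, tH_smul_w hK]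
  have hne : y • pt0 K m ≠ y • (tW K m • pt0 K m) := by
    intro h
    exact pt0_ne_w hK (MulAction.injective y h)
  rcases fix_tH_generic hK hβ _ h1 with e1 | e1 <;> rcases fix_tH_generic hK hβ _ h2 with e2 | e2
  · exact absurd (e1.trans e2.symm) hne
  · exact stab_two hK e1 e2
  · exfalso
    -- `w y` fixes both points
    have h3 : (tW K m * y) • pt0 K m = pt0 K m := by
      rw [mul_smul, e1, tW_smul_w hK]
    have h4 : (tW K m * y) • (tW K m • pt0 K m) = tW K m • pt0 K m := by
      rw [mul_smul, e2]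
    obtain ⟨γ, hγ⟩ := stab_two hK h3 h4
    have hy2 : y = tW K m * tH hK γ := by
      rw [← hγ, ← mul_assoc, tW_sq, one_mul]
    rw [hy2] at hy
    -- `w γ β = β w γ`
    have h5 : tW K m * tH hK β = tH hK β * tW K m := by
      have e3 : tW K m * tH hK γ * tH hK β = tW K m * tH hK β * tH hK γ := by
        rw [mul_assoc, mul_assoc, ← tH_mul hK, ← tH_mul hK, mul_comm]
      have e4 := hy
      rw [e3, ← mul_assoc] at e4
      exact mul_right_cancel e4
    rw [tW_tH hK] at h5
    have h6 := mul_right_cancel h5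
    have h7 := tH_inj hK h6
    apply hβ
    have h8 : β * β = 1 := by
      nth_rewrite 1 [← h7]
      simp
    have := congrArg Units.val h8
    simpa [sq] using this
  · exact absurd (e1.trans e2.symm) hne

/-- membership in `K₀` is the centraliser of non-trivial elements of `D₀` -/
lemma tD0_centralizer {y : RT K m} (hy : y ∈ tD0 hK) (h1 : y ≠ 1) (x : RT K m) : x * y = y * x ↔ x ∈ tK0 hK := by
  obtain ⟨g, hg, rfl⟩ := (mem_tTT hK).mp (tD0_le hK hy)
  exact centralizer_of_tTT hK hg (tD0_odd hK hy) h1 x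

/-- elements of `K₀` have exponent `4 n` -/
lemma tK0_pow {y : RT K m} (hy : y ∈ tK0 hK) : y ^ (4 * reeN m) = 1 := by
  have h := pow_card_eq_one' (x := (⟨y, hy⟩ : tK0 hK))
  rw [card_tK0 hK, ← reeN_spec m] at h
  exact congrArg Subtype.val h

/-- The index of `H`. -/
lemma index_tHH : (tHH K m).index = (3 ^ (2 * m + 1)) ^ 3 * (4 * reeN m * reeDD m) := by
  have h1 := Subgroup.index_mul_card (tHH K m)
  rw [card_tHH hK, card_T hK, hK, ree_N_eq] at h1
  have e : 3 ^ (2 * m + 1) - 1 = 2 * reeH m := by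
    rw [← reeH_spec m]
    simp
  rw [e] at h1
  have hpos : 0 < 2 * reeH m := by
    have := reeH_pos m
    omega
  apply Nat.eq_of_mul_eq_mul_right hpos
  rw [h1]
  ring

lemma index_tUU : (tUU K m).index = 2 * reeH m * (4 * reeN m * reeDD m) := by
  have h1 := Subgroup.index_mul_card (tUU K m)
  rw [card_tUU hK, card_T hK, hK, ree_N_eq] at h1
  have e : 3 ^ (2 * m + 1) - 1 = 2 * reeH m := by
    rw [← reeH_spec m]
    simp
  rw [e] at h1
  have hpos : 0 < (3 ^ (2 * m + 1)) ^ 3 := by positivity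
  apply Nat.eq_of_mul_eq_mul_right hpos
  rw [h1]
  ring

lemma index_tD0 : (tD0 hK).index * reeN m = (3 ^ (2 * m + 1)) ^ 3 * (2 * reeH m) * (4 * reeN m) * reeDD m := by
  have h1 := Subgroup.index_mul_card (tD0 hK)
  rw [card_tD0 hK, card_T' hK] at h1
  exact h1

/-- Reduction of an element of prime order. -/
lemma prime_conj_three {z : RT K m} (hz : orderOf z = 3) : ∃ c a b d, c * z * c⁻¹ = tU m a b d ∧ tU m a b d ≠ 1 := by
  haveI := t_finite hK
  haveI : Fact (Nat.Prime 3) := ⟨Nat.prime_three⟩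
  have hi : ¬ 3 ∣ (tUU K m).index := by
    rw [index_tUU hK]
    intro h
    have c1 : Nat.Coprime (2 * reeH m) 3 := Nat.Coprime.coprime_dvd_right (ree_three_dvd m) (reeH_cop_q m)
    have c2 : Nat.Coprime (4 * reeN m) 3 := by
      refine ((Nat.Prime.coprime_iff_not_dvd Nat.prime_three).2 ?_).symm
      intro h
      have h1 := reeN_spec m
      have h2 := ree_three_dvd m
      rw [h1] at h
      have h4 := (Nat.dvd_add_right h2).1 h
      omega
    have c3 : Nat.Coprime (reeDD m) 3 := ((Nat.Prime.coprime_iff_not_dvd Nat.prime_three).2 (reeD_not_three m)).symm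
    have c4 := (Nat.Coprime.mul_left c1 (Nat.Coprime.mul_left c2 c3)).symm
    have := c4.eq_one_of_dvd h
    omega
  have hz3 : z ^ 3 = 1 := by
    have := pow_orderOf_eq_one z
    rwa [hz] at this
  obtain ⟨c, hc⟩ := conj_into_of_index (tUU K m) hi (x := z) (k := 1) (by
    rw [pow_one]
    exact hz3)
  obtain ⟨a, b, d, e⟩ := (mem_tUU_iff hK _).mp hc
  refine ⟨c, a, b, d, e, ?_⟩
  rw [← e]
  intro h
  have : z = 1 := by
    have e2 : z = c⁻¹ * (c * z * c⁻¹) * c := by group
    rw [e2, h]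
    group
  rw [this, orderOf_one] at hz
  omega

lemma prime_conj_h {p : ℕ} (hp : p.Prime) (hph : p ∣ reeH m) {z : RT K m} (hz : orderOf z = p) :
    ∃ c, ∃ β : Kˣ, c * z * c⁻¹ = tH hK β ∧ (β : K) ^ 2 ≠ 1 := by
  haveI := t_finite hK
  haveI : Fact p.Prime := ⟨hp⟩
  have hp2 : p ≠ 2 := by
    rintro rfl
    exact (reeH_odd m).not_two_dvd_nat hph
  have hi : ¬ p ∣ (tHH K m).index := by
    intro h
    have h1 : p ∣ (3 ^ (2 * m + 1)) ^ 3 * (4 * reeN m * reeDD m) := by
      rw [← index_tHH hK]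
      exact h
    have hq : Nat.Coprime p (3 ^ (2 * m + 1)) := Nat.Coprime.coprime_dvd_left (Dvd.dvd.mul_left hph 2) (reeH_cop_q m)
    have hn : Nat.Coprime p (reeN m) := Nat.Coprime.coprime_dvd_left (Dvd.dvd.mul_left hph 2) (reeN_cop_2h m).symm
    have hD : Nat.Coprime p (reeDD m) := Nat.Coprime.coprime_dvd_left (Dvd.dvd.mul_left hph 2) (reeD_cop_2h m).symm
    have h4 : Nat.Coprime p 4 := by
      have := (Nat.coprime_primes hp Nat.prime_two).2 hp2
      have h5 : Nat.Coprime p (2 ^ 2) := Nat.Coprime.pow_right 2 this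
      simpa using h5
    have h5 : Nat.Coprime p ((3 ^ (2 * m + 1)) ^ 3 * (4 * reeN m * reeDD m)) :=
      Nat.Coprime.mul_right (Nat.Coprime.pow_right 3 hq) (Nat.Coprime.mul_right (Nat.Coprime.mul_right h4 hn) hD)
    have := h5.eq_one_of_dvd h1
    exact hp.one_lt.ne' this
  obtain ⟨c, hc⟩ := conj_into_of_index (tHH K m) hi (x := z) (k := 1) (by
    rw [pow_one, ← hz]
    exact pow_orderOf_eq_one z)
  obtain ⟨β, e⟩ := (mem_tHH_iff hK _).mp hc
  refine ⟨c, β, e, ?_⟩
  intro h
  have hs : β * β = 1 := Units.ext (by simpa [sq] using h)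
  have h1 : (c * z * c⁻¹) * (c * z * c⁻¹) = 1 := by
    rw [e, ← tH_mul hK, hs, tH_one hK]
  have h2 : z * z = 1 := by
    have e2 : (c * z * c⁻¹) * (c * z * c⁻¹) = c * (z * z) * c⁻¹ := by group
    rw [e2] at h1
    have : z * z = c⁻¹ * (c * (z * z) * c⁻¹) * c := by group
    rw [this, h1]
    group
  have h3 : orderOf z ∣ 2 := orderOf_dvd_of_pow_eq_one (by rw [sq, h2])
  rw [hz] at h3
  exact hp2 ((Nat.prime_dvd_prime_iff_eq hp Nat.prime_two).1 h3)

lemma prime_conj_n {p : ℕ} (hp : p.Prime) (hpn : p ∣ reeN m) {z : RT K m} (hz : orderOf z = p) :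
    ∃ c, c * z * c⁻¹ ∈ tD0 hK ∧ c * z * c⁻¹ ≠ 1 := by
  haveI := t_finite hK
  haveI : Fact p.Prime := ⟨hp⟩
  have hp2 : p ≠ 2 := by
    rintro rfl
    exact (reeN_odd m).not_two_dvd_nat hpn
  have hi : ¬ p ∣ (tD0 hK).index := by
    intro h
    -- `index = 4 q³ (2 h) D`
    have hidx : (tD0 hK).index = (3 ^ (2 * m + 1)) ^ 3 * (2 * reeH m) * 4 * reeDD m := by
      apply Nat.eq_of_mul_eq_mul_right (reeN_pos m)
      rw [index_tD0 hK]
      ring
    rw [hidx] at h
    have hq : Nat.Coprime p (3 ^ (2 * m + 1)) := Nat.Coprime.coprime_dvd_left hpn (reeN_cop_q m)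
    have hn : Nat.Coprime p (2 * reeH m) := Nat.Coprime.coprime_dvd_left hpn (reeN_cop_2h m)
    have hD : Nat.Coprime p (reeDD m) := Nat.Coprime.coprime_dvd_left (Dvd.dvd.mul_left hpn 4) (reeD_cop_4n m).symm
    have h4 : Nat.Coprime p 4 := Nat.Coprime.coprime_dvd_left hpn (reeN_cop_four m)
    have h5 : Nat.Coprime p ((3 ^ (2 * m + 1)) ^ 3 * (2 * reeH m) * 4 * reeDD m) :=
      Nat.Coprime.mul_right (Nat.Coprime.mul_right (Nat.Coprime.mul_right (Nat.Coprime.pow_right 3 hq) hn) h4) hD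
    have := h5.eq_one_of_dvd h
    exact hp.one_lt.ne' this
  obtain ⟨c, hc⟩ := conj_into_of_index (tD0 hK) hi (x := z) (k := 1) (by
    rw [pow_one, ← hz]
    exact pow_orderOf_eq_one z)
  refine ⟨c, hc, ?_⟩
  intro h
  have : z = 1 := by
    have e2 : z = c⁻¹ * (c * z * c⁻¹) * c := by group
    rw [e2, h]
    group
  rw [this, orderOf_one] at hz
  exact hp.one_lt.ne hz

/-- Order of an element of prime order dividing the order of the group. -/
lemma ree_element_prime_cases {p : ℕ} (hp : p.Prime) {x : RT K m} (hx : orderOf x = p) :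
    p = 3 ∨ p = 2 ∨ p ∣ reeH m ∨ p ∣ reeN m ∨ p ∣ reeDD m := by
  apply ree_prime_cases hp
  rw [← card_T' hK, ← hx]
  exact orderOf_dvd_natCard x

/-- The main lemma on the element orders commuting with a prime of `D`. -/
theorem prime_dvd_D_of_comm {s p : ℕ} (hs : s.Prime) (hsD : s ∣ reeDD m) (hp : p.Prime) {z u : RT K m} (hz : orderOf z = s) (hu : orderOf u = p)
    (hc : u * z = z * u) : p ∣ reeDD m := by
  haveI := t_finite hK
  -- general contradiction
  have hcon : ∀ {k : ℕ}, Nat.Coprime (reeDD m) k → ∀ c : RT K m, (c * z * c⁻¹) ^ k = 1 → False := by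
    intro k hk c h
    rw [conj_pow] at h
    have h1 : z ^ k = 1 := by
      have e2 : z ^ k = c⁻¹ * (c * z ^ k * c⁻¹) * c := by group
      rw [e2, h]
      group
    have h2 : s ∣ k := by
      rw [← hz]
      exact orderOf_dvd_of_pow_eq_one h1
    have h3 : Nat.Coprime s k := Nat.Coprime.coprime_dvd_left hsD hk
    have := h3.eq_one_of_dvd h2
    exact hs.one_lt.ne' this
  have hconj : ∀ c : RT K m, (c * z * c⁻¹) * (c * u * c⁻¹) = (c * u * c⁻¹) * (c * z * c⁻¹) := by
    intro c
    have e1 : (c * z * c⁻¹) * (c * u * c⁻¹) = c * (z * u) * c⁻¹ := by group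
    have e2 : (c * u * c⁻¹) * (c * z * c⁻¹) = c * (u * z) * c⁻¹ := by group
    rw [e1, e2, hc]
  rcases ree_element_prime_cases hK hp hu with rfl | rfl | h | h | h
  · exfalso
    obtain ⟨c, a, b, d, e, hne⟩ := prime_conj_three hK hu
    have h1 := hconj c
    rw [e] at h1
    have h2 := comm_tU_mem_tB hK hne h1
    refine hcon ?_ c (tB_pow_eq_one hK h2)
    apply Nat.Coprime.mul_right
    · have h9 : Nat.Coprime (reeDD m) (3 ^ 2) := Nat.Coprime.pow_right 2 ((Nat.Prime.coprime_iff_not_dvd Nat.prime_three).2 (reeD_not_three m)).symm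
      simpa using h9
    · exact reeD_cop_2h m
  · exfalso
    have hu2 : u * u = 1 := by
      have := pow_orderOf_eq_one u
      rwa [hu, sq] at this
    have hu1 : u ≠ 1 := by
      rintro rfl
      rw [orderOf_one] at hu
      omega
    obtain ⟨c, e⟩ := invol_conj_a hK hu2 hu1
    have h1 := hconj c
    rw [e] at h1
    have h2 : (c * z * c⁻¹) ∈ Subgroup.centralizer ({tA hK} : Set (RT K m)) := by
      rw [Subgroup.mem_centralizer_singleton_iff]
      exact h1
    have h3 := pow_card_eq_one' (x := (⟨_, h2⟩ : Subgroup.centralizer ({tA hK} : Set (RT K m))))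
    rw [card_centralizer_a hK] at h3
    have h4 := congrArg Subtype.val h3
    refine hcon ?_ c h4
    apply Nat.Coprime.mul_right (Nat.Coprime.mul_right (reeD_cop_q m) (reeD_cop_2h m)) (reeD_cop_4n m)
  · exfalso
    obtain ⟨c, β, e, hβ⟩ := prime_conj_h hK hp h hu
    have h1 := hconj c
    rw [e] at h1
    obtain ⟨γ, hγ⟩ := comm_tH_mem hK hβ h1
    refine hcon (reeD_cop_2h m) c ?_
    rw [hγ]
    exact tH_pow_card hK γ
  · exfalso
    obtain ⟨c, e, hne⟩ := prime_conj_n hK hp h hu
    have h1 := hconj c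
    have h2 := (tD0_centralizer hK e hne _).mp h1
    exact hcon (reeD_cop_4n m) c (tK0_pow hK h2)
  · exact h

/-- `y` of order prime to `D` can't commute. -/
theorem orderOf_dvd_D_of_comm {s : ℕ} (hs : s.Prime) (hsD : s ∣ reeDD m) {z y : RT K m} (hz : orderOf z = s)
    (hc : y * z = z * y) : orderOf y ∣ reeDD m := by
  haveI := t_finite hK
  have h1 : orderOf y ∣ (3 ^ (2 * m + 1)) ^ 3 * (2 * reeH m) * (4 * reeN m) * reeDD m := by
    rw [← card_T' hK]
    exact orderOf_dvd_natCard y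
  have hcop : Nat.Coprime (orderOf y) ((3 ^ (2 * m + 1)) ^ 3 * (2 * reeH m) * (4 * reeN m)) := by
    by_contra hcon
    obtain ⟨p, hp, hp1, hp2⟩ := Nat.Prime.not_coprime_iff_dvd.mp hcon
    have hpos : orderOf y ≠ 0 := (orderOf_pos y).ne'
    have h3 := orderOf_pow_orderOf_div hpos hp1
    have h4 : y ^ (orderOf y / p) * z = z * y ^ (orderOf y / p) := by
      have : Commute y z := hc
      exact (this.pow_left _)
    have h5 := prime_dvd_D_of_comm hK hs hsD hp hz h3 h4
    have h6 : Nat.Coprime (reeDD m) ((3 ^ (2 * m + 1)) ^ 3 * (2 * reeH m) * (4 * reeN m)) :=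
      Nat.Coprime.mul_right (Nat.Coprime.mul_right (Nat.Coprime.pow_right 3 (reeD_cop_q m)) (reeD_cop_2h m)) (reeD_cop_4n m)
    have h7 : Nat.Coprime p ((3 ^ (2 * m + 1)) ^ 3 * (2 * reeH m) * (4 * reeN m)) := Nat.Coprime.coprime_dvd_left h5 h6
    have := h7.eq_one_of_dvd hp2
    exact hp.one_lt.ne' this
  exact hcop.dvd_of_dvd_mul_left h1

end Cfsg.Agent.H10
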