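import Cfsg.Agent.Lib.H10.ReeBlock
import Cfsg.Agent.Lib.H04.Chev.Tab.G2_all3
import Cfsg.Agent.Lib.H04.Chev.Tab.G2_all2
import Cfsg.Agent.Lib.H04.Chev.Tab.G2_perf
import Cfsg.Agent.Lib.H04.Chev.Simple
import Cfsg.Agent.Lib.H04.Chev.Bruhat

/-!
# The two seven-dimensional representations of `G₂` in characteristic three and the graph endomorphisms
-/

set_option autoImplicit false
set_option linter.style.longLine false
set_option linter.unusedSimpArgs false
set_option maxRecDepth 100000

open Cfsg Cfsg.Lie Cfsg.Agent.H04.Chev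
open scoped MatrixGroups

namespace Cfsg.Agent.H10
variable {K : Type*} [Field K]

/-- the seven-dimensional matrix of a root element -/
def reeM (r : ℕ) (t : K) : Matrix (Fin 7) (Fin 7) K :=
  match r with
  | 0 => m7maaabb t | 1 => m7maaab t | 2 => m7maab t | 3 => m7mab t | 4 => m7ma t | 5 => m7mb t
  | 6 => m7b t | 7 => m7a t | 8 => m7ab t | 9 => m7aab t | 10 => m7aaab t | 11 => m7aaabb t | _ => 1

/-- the graph symmetry of the roots -/
def reeBar (r : ℕ) : ℕ :=
  match r with
  | 0 => 2 | 1 => 3 | 2 => 0 | 3 => 1 | 4 => 5 | 5 => 4 | 6 => 7 | 7 => 6 | 8 => 10 | 9 => 11 | 10 => 8 | 11 => 9 | n => n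

/-- the exponent of the graph morphism at a root -/
def reeLam (r : ℕ) : ℕ :=
  match r with
  | 2 | 3 | 4 | 7 | 8 | 9 => 3
  | _ => 1

lemma reeBar_lt {r : ℕ} (hr : r < 12) : reeBar r < 12 := by interval_cases r <;> decide
lemma reeBar_bar {r : ℕ} (hr : r < 12) : reeBar (reeBar r) = r := by interval_cases r <;> rfl
lemma reeLam_odd (r : ℕ) : Odd (reeLam r) := by
  unfold reeLam
  split <;> decide

section Blocks
variable [CharP K 3]

lemma ree_x_II {r : ℕ} (hr : r < 12) (t : K) (i j : Fin 7) : chevG2.x K r t (reeI i) (reeI j) = reeM r t i j := by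
  interval_cases r
  · exact ree_x0_II t i j
  · exact ree_x1_II t i j
  · exact ree_x2_II t i j
  · exact ree_x3_II t i j
  · exact ree_x4_II t i j
  · exact ree_x5_II t i j
  · exact ree_x6_II t i j
  · exact ree_x7_II t i j
  · exact ree_x8_II t i j
  · exact ree_x9_II t i j
  · exact ree_x10_II t i j
  · exact ree_x11_II t i j

lemma ree_x_LL {r : ℕ} (hr : r < 12) (t : K) (i j : Fin 7) :
    chevG2.x K r t (reeL i) (reeL j) = reeM (reeBar r) (t ^ reeLam r) i j := by
  interval_cases r
  · exact ree_x0_LL t i j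
  · exact ree_x1_LL t i j
  · exact ree_x2_LL t i j
  · exact ree_x3_LL t i j
  · exact ree_x4_LL t i j
  · exact ree_x5_LL t i j
  · exact ree_x6_LL t i j
  · exact ree_x7_LL t i j
  · exact ree_x8_LL t i j
  · exact ree_x9_LL t i j
  · exact ree_x10_LL t i j
  · exact ree_x11_LL t i j

lemma ree_x_LI {r : ℕ} (hr : r < 12) (t : K) (i j : Fin 7) : chevG2.x K r t (reeL i) (reeI j) = 0 := by
  interval_cases r
  · exact ree_x0_LI t i j
  · exact ree_x1_LI t i j
  · exact ree_x2_LI t i j
  · exact ree_x3_LI t i j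
  · exact ree_x4_LI t i j
  · exact ree_x5_LI t i j
  · exact ree_x6_LI t i j
  · exact ree_x7_LI t i j
  · exact ree_x8_LI t i j
  · exact ree_x9_LI t i j
  · exact ree_x10_LI t i j
  · exact ree_x11_LI t i j

end Blocks

/-- the splitting of the coordinates -/
lemma reeSplit_bij : Function.Bijective (Sum.elim reeI reeL) := by
  rw [Fintype.bijective_iff_injective_and_card]
  constructor
  · decide
  · decide

/-- the splitting of the coordinates -/
noncomputable def reeSplit : Fin 7 ⊕ Fin 7 ≃ chevG2.Idx := Equiv.ofBijective _ reeSplit_bij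

lemma ree_sum (f : chevG2.Idx → K) : ∑ k, f k = ∑ i, f (reeI i) + ∑ i, f (reeL i) := by
  rw [← Equiv.sum_comp reeSplit f, Fintype.sum_sum_type]
  rfl

lemma reeI_inj : Function.Injective reeI := by decide
lemma reeL_inj : Function.Injective reeL := by decide
lemma reeL_ne_reeI (i j : Fin 7) : reeL i ≠ reeI j := by
  revert i j; decide

/-- the lower left block vanishes -/
def reeZ (M : Matrix chevG2.Idx chevG2.Idx K) : Prop := ∀ i j, M (reeL i) (reeI j) = 0

/-- the block on the ideal -/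
def reeA (M : Matrix chevG2.Idx chevG2.Idx K) : Matrix (Fin 7) (Fin 7) K := fun i j => M (reeI i) (reeI j)

/-- the block on the quotient -/
def reeD (M : Matrix chevG2.Idx chevG2.Idx K) : Matrix (Fin 7) (Fin 7) K := fun i j => M (reeL i) (reeL j)

lemma reeZ_mul {M N : Matrix chevG2.Idx chevG2.Idx K} (hM : reeZ M) (hN : reeZ N) : reeZ (M * N) := by
  intro i j
  rw [Matrix.mul_apply, ree_sum]
  simp [hM i, hN _ j]

lemma reeA_mul (M : Matrix chevG2.Idx chevG2.Idx K) {N : Matrix chevG2.Idx chevG2.Idx K} (hN : reeZ N) :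
    reeA (M * N) = reeA M * reeA N := by
  ext i j
  simp only [reeA, Matrix.mul_apply]
  rw [ree_sum]
  simp [hN _ j]

lemma reeD_mul {M : Matrix chevG2.Idx chevG2.Idx K} (N : Matrix chevG2.Idx chevG2.Idx K) (hM : reeZ M) :
    reeD (M * N) = reeD M * reeD N := by
  ext i j
  simp only [reeD, Matrix.mul_apply]
  rw [ree_sum]
  simp [hM i]

lemma reeZ_one : reeZ (1 : Matrix chevG2.Idx chevG2.Idx K) := by
  intro i j
  rw [Matrix.one_apply_ne (reeL_ne_reeI i j)]

lemma reeA_one : reeA (1 : Matrix chevG2.Idx chevG2.Idx K) = 1 := by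
  ext i j
  simp only [reeA, Matrix.one_apply, reeI_inj.eq_iff]

lemma reeD_one : reeD (1 : Matrix chevG2.Idx chevG2.Idx K) = 1 := by
  ext i j
  simp only [reeD, Matrix.one_apply, reeL_inj.eq_iff]

/-- the stabiliser of the ideal -/
def reeP (K : Type*) [Field K] : Subgroup (GL chevG2.Idx K) where
  carrier := {g | reeZ (g : Matrix chevG2.Idx chevG2.Idx K) ∧ reeZ ((g⁻¹ : GL chevG2.Idx K) : Matrix chevG2.Idx chevG2.Idx K)}
  mul_mem' := by
    rintro a b ⟨h1, h2⟩ ⟨h3, h4⟩
    refine ⟨?_, ?_⟩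
    · rw [Units.val_mul]; exact reeZ_mul h1 h3
    · rw [mul_inv_rev, Units.val_mul]; exact reeZ_mul h4 h2
  one_mem' := by
    refine ⟨?_, ?_⟩
    · simpa using reeZ_one
    · simpa using reeZ_one
  inv_mem' := by
    rintro a ⟨h1, h2⟩
    refine ⟨h2, ?_⟩
    simpa using h1

/-- the action on the ideal -/
noncomputable def reeRhoA : ↥(reeP K) →* GL (Fin 7) K :=
  MonoidHom.toHomUnits
    { toFun := fun g => reeA ((g : GL chevG2.Idx K) : Matrix chevG2.Idx chevG2.Idx K)
      map_one' := by simpa using reeA_one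
      map_mul' := by
        rintro ⟨a, ha⟩ ⟨b, hb⟩
        exact reeA_mul _ hb.1 }

/-- the action on the quotient -/
noncomputable def reeRhoD : ↥(reeP K) →* GL (Fin 7) K :=
  MonoidHom.toHomUnits
    { toFun := fun g => reeD ((g : GL chevG2.Idx K) : Matrix chevG2.Idx chevG2.Idx K)
      map_one' := by simpa using reeD_one
      map_mul' := by
        rintro ⟨a, ha⟩ ⟨b, hb⟩
        exact reeD_mul _ ha.1 }

lemma reeRhoA_val (g : ↥(reeP K)) : ((reeRhoA g : GL (Fin 7) K) : Matrix (Fin 7) (Fin 7) K) = reeA ((g : GL chevG2.Idx K) : Matrix chevG2.Idx chevG2.Idx K) := rfl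
lemma reeRhoD_val (g : ↥(reeP K)) : ((reeRhoD g : GL (Fin 7) K) : Matrix (Fin 7) (Fin 7) K) = reeD ((g : GL chevG2.Idx K) : Matrix chevG2.Idx chevG2.Idx K) := rfl

section Main
variable [CharP K 3]

/-- the root element of `G₂` -/
noncomputable abbrev rX (r : ℕ) (t : K) : GL chevG2.Idx K := xG TG2.checks r t

lemma rX_mem_P {r : ℕ} (hr : r < 12) (t : K) : rX r t ∈ reeP K := by
  refine ⟨?_, ?_⟩
  · exact ree_x_LI hr t
  · rw [xG_inv]
    exact ree_x_LI hr (-t)

lemma group_le_reeP : chevG2.group K ≤ reeP K := by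
  rw [group_eq TG2.checks, Subgroup.closure_le]
  rintro g ⟨r, t, hr, rfl⟩
  exact rX_mem_P hr t

/-- the group `G₂` -/
abbrev G2 (K : Type*) [Field K] : Subgroup (GL chevG2.Idx K) := chevG2.group K

/-- the root element in the group `G₂` -/
noncomputable def rG {r : ℕ} (hr : r < 12) (t : K) : ↥(G2 K) := ⟨rX r t, xG_mem_group TG2.checks hr t⟩

lemma rG_val {r : ℕ} (hr : r < 12) (t : K) : ((rG hr t : ↥(G2 K)) : GL chevG2.Idx K) = rX r t := rfl

/-- the representation on the ideal -/
noncomputable def ree1 : ↥(G2 K) →* GL (Fin 7) K := reeRhoA.comp (Subgroup.inclusion group_le_reeP)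

/-- the representation on the quotient by the ideal -/
noncomputable def ree2 : ↥(G2 K) →* GL (Fin 7) K := reeRhoD.comp (Subgroup.inclusion group_le_reeP)

lemma ree1_val (g : ↥(G2 K)) : ((ree1 g : GL (Fin 7) K) : Matrix (Fin 7) (Fin 7) K) = reeA ((g : GL chevG2.Idx K) : Matrix chevG2.Idx chevG2.Idx K) := rfl
lemma ree2_val (g : ↥(G2 K)) : ((ree2 g : GL (Fin 7) K) : Matrix (Fin 7) (Fin 7) K) = reeD ((g : GL chevG2.Idx K) : Matrix chevG2.Idx chevG2.Idx K) := rfl

lemma ree1_x {r : ℕ} (hr : r < 12) (t : K) : ((ree1 (rG hr t) : GL (Fin 7) K) : Matrix (Fin 7) (Fin 7) K) = reeM r t := by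
  rw [ree1_val]
  ext i j
  exact ree_x_II hr t i j

lemma ree2_x {r : ℕ} (hr : r < 12) (t : K) : ((ree2 (rG hr t) : GL (Fin 7) K) : Matrix (Fin 7) (Fin 7) K) = reeM (reeBar r) (t ^ reeLam r) := by
  rw [ree2_val]
  ext i j
  exact ree_x_LL hr t i j

lemma ree_neg_one_ne_one : (-1 : K) ≠ 1 := by
  intro h
  have h3 : (3 : K) = 0 := ree_three
  have h2 : (2 : K) = 0 := by linear_combination -h
  have : (1 : K) = 0 := by linear_combination h3 - h2
  exact one_ne_zero this

/-- `G₂` is simple in characteristic three -/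
theorem G2_simple : IsSimpleGroup ↥(G2 K) :=
  (simple_of TG2.checks TG2.checks2 TG2.checks3 TG2.checks4 (fun _ => ⟨-1, neg_ne_zero.mpr one_ne_zero, ree_neg_one_ne_one⟩)).1

/-- the representation on the ideal is faithful -/
theorem ree1_inj : Function.Injective (ree1 : ↥(G2 K) →* GL (Fin 7) K) := by
  haveI := G2_simple (K := K)
  rw [injective_iff_map_eq_one]
  have hk : (ree1 (K := K)).ker = ⊥ := by
    rcases (ree1 (K := K)).normal_ker.eq_bot_or_eq_top with h | h
    · exact h
    · exfalso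
      have h1 : rG (r := 6) (by decide) (1 : K) ∈ (ree1 (K := K)).ker := by rw [h]; trivial
      rw [MonoidHom.mem_ker] at h1
      have h2 := ree1_x (r := 6) (by decide) (1 : K)
      rw [h1] at h2
      have h3 := congrFun (congrFun h2 1) 0
      simp [reeM, m7b] at h3
  intro g hg
  have : g ∈ (ree1 (K := K)).ker := hg
  rwa [hk, Subgroup.mem_bot] at this

lemma m7maaabb_map (f : K →+* K) (t : K) : (m7maaabb t).map f = m7maaabb (f t) := by
  ext i j
  fin_cases i <;> fin_cases j <;> simp [m7maaabb]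

lemma m7maaab_map (f : K →+* K) (t : K) : (m7maaab t).map f = m7maaab (f t) := by
  ext i j
  fin_cases i <;> fin_cases j <;> simp [m7maaab]

lemma m7maab_map (f : K →+* K) (t : K) : (m7maab t).map f = m7maab (f t) := by
  ext i j
  fin_cases i <;> fin_cases j <;> simp [m7maab]

lemma m7mab_map (f : K →+* K) (t : K) : (m7mab t).map f = m7mab (f t) := by
  ext i j
  fin_cases i <;> fin_cases j <;> simp [m7mab]

lemma m7ma_map (f : K →+* K) (t : K) : (m7ma t).map f = m7ma (f t) := by
  ext i j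
  fin_cases i <;> fin_cases j <;> simp [m7ma]

lemma m7mb_map (f : K →+* K) (t : K) : (m7mb t).map f = m7mb (f t) := by
  ext i j
  fin_cases i <;> fin_cases j <;> simp [m7mb]

lemma m7b_map (f : K →+* K) (t : K) : (m7b t).map f = m7b (f t) := by
  ext i j
  fin_cases i <;> fin_cases j <;> simp [m7b]

lemma m7a_map (f : K →+* K) (t : K) : (m7a t).map f = m7a (f t) := by
  ext i j
  fin_cases i <;> fin_cases j <;> simp [m7a]

lemma m7ab_map (f : K →+* K) (t : K) : (m7ab t).map f = m7ab (f t) := by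
  ext i j
  fin_cases i <;> fin_cases j <;> simp [m7ab]

lemma m7aab_map (f : K →+* K) (t : K) : (m7aab t).map f = m7aab (f t) := by
  ext i j
  fin_cases i <;> fin_cases j <;> simp [m7aab]

lemma m7aaab_map (f : K →+* K) (t : K) : (m7aaab t).map f = m7aaab (f t) := by
  ext i j
  fin_cases i <;> fin_cases j <;> simp [m7aaab]

lemma m7aaabb_map (f : K →+* K) (t : K) : (m7aaabb t).map f = m7aaabb (f t) := by
  ext i j
  fin_cases i <;> fin_cases j <;> simp [m7aaabb]

lemma reeM_map (f : K →+* K) {r : ℕ} (hr : r < 12) (t : K) : (reeM r t).map f = reeM r (f t) := by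
  interval_cases r
  · exact m7maaabb_map f t
  · exact m7maaab_map f t
  · exact m7maab_map f t
  · exact m7mab_map f t
  · exact m7ma_map f t
  · exact m7mb_map f t
  · exact m7b_map f t
  · exact m7a_map f t
  · exact m7ab_map f t
  · exact m7aab_map f t
  · exact m7aaab_map f t
  · exact m7aaabb_map f t

variable (f : K →+* K)

/-- the twisted representation on the quotient -/
noncomputable def reeTw : ↥(G2 K) →* GL (Fin 7) K := (Matrix.GeneralLinearGroup.map f).comp ree2

lemma reeTw_x {r : ℕ} (hr : r < 12) (t : K) :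
    ((reeTw f (rG hr t) : GL (Fin 7) K) : Matrix (Fin 7) (Fin 7) K) = reeM (reeBar r) (f (t ^ reeLam r)) := by
  have : ((reeTw f (rG hr t) : GL (Fin 7) K) : Matrix (Fin 7) (Fin 7) K) = ((ree2 (rG hr t) : GL (Fin 7) K) : Matrix (Fin 7) (Fin 7) K).map f := rfl
  rw [this, ree2_x, reeM_map f (reeBar_lt hr)]

lemma reeTw_x' {r : ℕ} (hr : r < 12) (t : K) : reeTw f (rG hr t) = ree1 (rG (reeBar_lt hr) (f (t ^ reeLam r))) := by
  apply Units.ext
  rw [reeTw_x, ree1_x]

lemma reeG_closure : (⊤ : Subgroup ↥(G2 K)) = Subgroup.closure {g | ∃ (r : ℕ) (hr : r < 12) (t : K), g = rG hr t} := by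
  symm
  rw [eq_top_iff]
  rintro ⟨g, hg⟩ -
  have hg' := hg
  rw [show G2 K = chevG2.group K from rfl, group_eq TG2.checks] at hg'
  induction hg' using Subgroup.closure_induction with
  | mem x hx =>
    obtain ⟨r, t, hr, rfl⟩ := hx
    exact Subgroup.subset_closure ⟨r, hr, t, rfl⟩
  | one => exact one_mem _
  | mul x y hx hy ihx ihy =>
    have hx' : x ∈ G2 K := by
      rw [show G2 K = chevG2.group K from rfl, group_eq TG2.checks]; exact hx
    have hy' : y ∈ G2 K := by
      rw [show G2 K = chevG2.group K from rfl, group_eq TG2.checks]; exact hy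
    exact mul_mem (ihx hx') (ihy hy')
  | inv x hx ih =>
    have hx' : x ∈ G2 K := by
      rw [show G2 K = chevG2.group K from rfl, group_eq TG2.checks]; exact hx
    exact inv_mem (ih hx')

lemma reeTw_mem (g : ↥(G2 K)) : reeTw f g ∈ (ree1 (K := K)).range := by
  have hg : g ∈ (⊤ : Subgroup ↥(G2 K)) := trivial
  rw [reeG_closure] at hg
  induction hg using Subgroup.closure_induction with
  | mem x hx =>
    obtain ⟨r, hr, t, rfl⟩ := hx
    exact ⟨_, (reeTw_x' f hr t).symm⟩
  | one => rw [map_one]; exact one_mem _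
  | mul x y _ _ ihx ihy => rw [map_mul]; exact mul_mem ihx ihy
  | inv x _ ih => rw [map_inv]; exact inv_mem ih

/-- the graph-field endomorphism of `G₂` attached to `f` -/
noncomputable def reeSig : ↥(G2 K) →* ↥(G2 K) :=
  ((MonoidHom.ofInjective (ree1_inj (K := K))).symm.toMonoidHom).comp ((reeTw f).codRestrict _ (reeTw_mem f))

lemma ree1_sig (g : ↥(G2 K)) : ree1 (reeSig f g) = reeTw f g := by
  have h := (MonoidHom.ofInjective (ree1_inj (K := K))).apply_symm_apply ((reeTw f).codRestrict _ (reeTw_mem f) g)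
  have h2 := congrArg Subtype.val h
  simpa [reeSig] using h2

lemma reeSig_rG {r : ℕ} (hr : r < 12) (t : K) : reeSig f (rG hr t) = rG (reeBar_lt hr) (f (t ^ reeLam r)) := by
  apply ree1_inj
  rw [ree1_sig, reeTw_x']

end Main

end Cfsg.Agent.H10
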