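import Cfsg.Agent.Lib.H10.ReeFix
import Cfsg.Agent.Lib.H04.Chev.Weyl
import Cfsg.Agent.Lib.H04.Chev.Struct4

/-!
# The graph-field endomorphism of `G₂`: stable subgroups, the torus and the Weyl element
-/

set_option autoImplicit false
set_option linter.style.longLine false
set_option linter.unusedSimpArgs false
set_option maxRecDepth 100000

open Cfsg Cfsg.Lie Cfsg.Agent.H04.Chev
open scoped MatrixGroups

namespace Cfsg.Agent.H10
variable {K : Type*} [Field K] [CharP K 3] (f : K →+* K)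

lemma reeSig_closure {X : Set (GL chevG2.Idx K)} {T : Subgroup (GL chevG2.Idx K)}
    (hX : ∀ x ∈ X, ∃ hx : x ∈ G2 K, ((reeSig f ⟨x, hx⟩ : ↥(G2 K)) : GL chevG2.Idx K) ∈ T)
    {g : GL chevG2.Idx K} (hg : g ∈ Subgroup.closure X) (hG : g ∈ G2 K) :
    ((reeSig f ⟨g, hG⟩ : ↥(G2 K)) : GL chevG2.Idx K) ∈ T := by
  have hle : Subgroup.closure X ≤ G2 K := (Subgroup.closure_le _).mpr fun x hx => (hX x hx).1
  induction hg using Subgroup.closure_induction with
  | mem x hx => obtain ⟨h1, h2⟩ := hX x hx; exact h2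
  | one =>
    have : (⟨1, hG⟩ : ↥(G2 K)) = 1 := rfl
    rw [this, map_one]
    exact one_mem _
  | mul x y hx hy ihx ihy =>
    have : (⟨x * y, hG⟩ : ↥(G2 K)) = ⟨x, hle hx⟩ * ⟨y, hle hy⟩ := rfl
    rw [this, map_mul]
    exact mul_mem (ihx _) (ihy _)
  | inv x hx ih =>
    have : (⟨x⁻¹, hG⟩ : ↥(G2 K)) = (⟨x, hle hx⟩ : ↥(G2 K))⁻¹ := rfl
    rw [this, map_inv]
    exact inv_mem (ih _)

lemma wordG_mem_G2 {w : List (ℕ × K)} (hw : ∀ p ∈ w, p.1 < 12) : wordG TG2.checks w ∈ G2 K :=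
  wordG_mem_group TG2.checks hw

lemma reeSig_word (w : List (ℕ × K)) (hw : ∀ p ∈ w, p.1 < 12) :
    ((reeSig f ⟨wordG TG2.checks w, wordG_mem_G2 hw⟩ : ↥(G2 K)) : GL chevG2.Idx K) =
      wordG TG2.checks (w.map fun p => (reeBar p.1, f (p.2 ^ reeLam p.1))) := by
  induction w with
  | nil =>
    have : (⟨wordG TG2.checks ([] : List (ℕ × K)), wordG_mem_G2 hw⟩ : ↥(G2 K)) = 1 := rfl
    rw [this, map_one]
    rfl
  | cons p w ih =>
    have hw' : ∀ q ∈ w, q.1 < 12 := fun q hq => hw q (List.mem_cons_of_mem _ hq)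
    have hp : p.1 < 12 := hw p List.mem_cons_self
    have e : (⟨wordG TG2.checks (p :: w), wordG_mem_G2 hw⟩ : ↥(G2 K)) = rG hp p.2 * ⟨wordG TG2.checks w, wordG_mem_G2 hw'⟩ := by
      apply Subtype.ext
      simp [rG]
    rw [e, map_mul, Subgroup.coe_mul, ih hw', reeSig_rG, rG_val]
    simp [rX]

lemma neg_chev {r : ℕ} (hr : r < 12) : chevG2.neg r = 11 - r := by interval_cases r <;> rfl

lemma reeBar_neg {r : ℕ} (hr : r < 12) : reeBar (chevG2.neg r) = chevG2.neg (reeBar r) := by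
  interval_cases r <;> rfl

lemma reeLam_neg {r : ℕ} (hr : r < 12) : reeLam (chevG2.neg r) = reeLam r := by
  interval_cases r <;> rfl

lemma neg_lt12 {r : ℕ} (hr : r < 12) : chevG2.neg r < 12 := by
  rw [neg_chev hr]; omega

lemma ree_map_neg_inv (t : K) (n : ℕ) (hn : Odd n) : f ((-t⁻¹) ^ n) = - (f (t ^ n))⁻¹ := by
  rw [hn.neg_pow, map_neg, inv_pow, map_inv₀]

lemma nG_mem_G2 {r : ℕ} (hr : r < 12) (t : K) : nG TG2.checks r t ∈ G2 K := nG_mem_group TG2.checks hr t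
lemma hG_mem_G2 {r : ℕ} (hr : r < 12) (t : K) : hG TG2.checks r t ∈ G2 K := hG_mem_group TG2.checks hr t

lemma reeSig_nG {r : ℕ} (hr : r < 12) (t : K) :
    ((reeSig f ⟨nG TG2.checks r t, nG_mem_G2 hr t⟩ : ↥(G2 K)) : GL chevG2.Idx K) = nG TG2.checks (reeBar r) (f (t ^ reeLam r)) := by
  have hw : ∀ p ∈ chevG2.nWord r t, p.1 < 12 := by
    intro p hp
    simp only [Cfsg.Lie.ChevalleyDatum.nWord, List.mem_cons, List.not_mem_nil, or_false] at hp
    rcases hp with rfl | rfl | rfl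
    · exact hr
    · exact neg_lt12 hr
    · exact hr
  have := reeSig_word f _ hw
  refine this.trans ?_
  show wordG TG2.checks _ = wordG TG2.checks _
  congr 1
  simp only [Cfsg.Lie.ChevalleyDatum.nWord, List.map_cons, List.map_nil, reeBar_neg hr, reeLam_neg hr]
  rw [ree_map_neg_inv f t _ (reeLam_odd r)]

lemma reeSig_hG {r : ℕ} (hr : r < 12) (t : K) :
    ((reeSig f ⟨hG TG2.checks r t, hG_mem_G2 hr t⟩ : ↥(G2 K)) : GL chevG2.Idx K) = hG TG2.checks (reeBar r) (f (t ^ reeLam r)) := by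
  have e : (⟨hG TG2.checks r t, hG_mem_G2 hr t⟩ : ↥(G2 K)) = ⟨nG TG2.checks r t, nG_mem_G2 hr t⟩ * ⟨nG TG2.checks r (-1), nG_mem_G2 hr (-1)⟩ := by
    apply Subtype.ext
    exact hG_eq TG2.checks r t
  rw [e, map_mul, Subgroup.coe_mul, reeSig_nG f hr, reeSig_nG f hr, hG_eq]
  congr 2
  rw [(reeLam_odd r).neg_pow, one_pow, map_neg, map_one]

lemma isPos_iff {r : ℕ} : chevG2.IsPosRoot r ↔ 6 ≤ r ∧ r < 12 := TG2.checks2.pos_iff r

lemma reeBar_pos {r : ℕ} (h1 : 6 ≤ r) (h2 : r < 12) : 6 ≤ reeBar r := by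
  interval_cases r <;> decide

/-- `σ` preserves `U`. -/
lemma sig_U {g : GL chevG2.Idx K} (hg : g ∈ chevG2.posUnipotent K) (hG : g ∈ G2 K) :
    ((reeSig f ⟨g, hG⟩ : ↥(G2 K)) : GL chevG2.Idx K) ∈ chevG2.posUnipotent K := by
  refine reeSig_closure f ?_ hg hG
  rintro x ⟨r, t, hr, hx⟩
  have hr' := isPos_iff.mp hr
  have e : x = rX r t := eq_xG TG2.checks hx
  subst e
  refine ⟨(rG hr'.2 t).2, ?_⟩
  have : (⟨rX r t, (rG hr'.2 t).2⟩ : ↥(G2 K)) = rG hr'.2 t := rfl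
  rw [this, reeSig_rG, rG_val]
  exact xG_mem_pos TG2.checks (isPos_iff.mpr ⟨reeBar_pos hr'.1 hr'.2, reeBar_lt hr'.2⟩) _

/-- `σ` preserves `H`. -/
lemma sig_H {g : GL chevG2.Idx K} (hg : g ∈ chevG2.diagonalSubgroup K) (hg2 : g ∈ G2 K) :
    ((reeSig f ⟨g, hg2⟩ : ↥(G2 K)) : GL chevG2.Idx K) ∈ chevG2.diagonalSubgroup K := by
  refine reeSig_closure f ?_ hg hg2
  rintro x ⟨r, t, hr, ht, hx⟩
  have hr' : r < 12 := hr
  have e : x = hG TG2.checks r t := Units.ext (by rw [hx, hG_val])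
  subst e
  refine ⟨hG_mem_G2 hr' t, ?_⟩
  rw [reeSig_hG f hr']
  exact hG_mem_diagonal TG2.checks (reeBar_lt hr') ((map_ne_zero f).mpr (pow_ne_zero _ ht))

/-- `σ` preserves `N`. -/
lemma sig_N {g : GL chevG2.Idx K} (hg : g ∈ chevG2.monomialSubgroup K) (hG : g ∈ G2 K) :
    ((reeSig f ⟨g, hG⟩ : ↥(G2 K)) : GL chevG2.Idx K) ∈ chevG2.monomialSubgroup K := by
  have hg' : g ∈ Subgroup.closure ((chevG2.diagonalSubgroup K : Set (GL chevG2.Idx K)) ∪ {g | ∃ r : ℕ, r < chevG2.nroots ∧ (g : Matrix chevG2.Idx chevG2.Idx K) = chevG2.nMat K r 1}) := by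
    rw [Subgroup.closure_union, Subgroup.closure_eq]
    exact hg
  refine reeSig_closure f ?_ hg' hG
  rintro x (hx | ⟨r, hr, hx⟩)
  · refine ⟨H_le_group TG2.checks hx, ?_⟩
    exact H_le_monomial (sig_H f hx _)
  · have hr' : r < 12 := hr
    have e : x = nG TG2.checks r 1 := Units.ext (by rw [hx, nG_val])
    subst e
    refine ⟨nG_mem_G2 hr' 1, ?_⟩
    rw [reeSig_nG f hr', one_pow, map_one]
    exact nG_mem_monomial TG2.checks (reeBar_lt hr')

/-- `σ` preserves `B`. -/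
lemma sig_B {g : GL chevG2.Idx K} (hg : g ∈ chevG2.borelSubgroup K) (hG : g ∈ G2 K) :
    ((reeSig f ⟨g, hG⟩ : ↥(G2 K)) : GL chevG2.Idx K) ∈ chevG2.borelSubgroup K := by
  obtain ⟨u, hu, h, hh, rfl⟩ := (mem_borel_iff TG2.checks TG2.checks2 TG2.checks3).mp hg
  have hu' := U_le_group TG2.checks hu
  have hh' := H_le_group TG2.checks hh
  have e : (⟨u * h, hG⟩ : ↥(G2 K)) = ⟨u, hu'⟩ * ⟨h, hh'⟩ := rfl
  rw [e, map_mul, Subgroup.coe_mul]
  exact mul_mem (U_le_B (sig_U f hu hu')) (H_le_B (sig_H f hh hh'))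

/-! ### The Weyl element -/

/-- the Weyl element fixed by `σ` -/
noncomputable def rW : ↥(G2 K) := x8 1 * x3 (-1) * x8 1 * x10 1 * x1 (-1) * x10 1

lemma ree1_rW : ((ree1 (rW (K := K)) : GL (Fin 7) K) : Matrix (Fin 7) (Fin 7) K) = m7W := by
  simp only [rW, map_mul, Units.val_mul, ree1_x, reeM_8, reeM_3, reeM_10, reeM_1]
  exact ree_W_word

lemma rW_sq : (rW (K := K)) * rW = 1 := by
  apply ree_ext
  simp only [map_mul, Units.val_mul, ree1_rW, map_one, Units.val_one]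
  exact ree_W_sq

lemma rW_inv : (rW (K := K))⁻¹ = rW := by
  rw [inv_eq_iff_mul_eq_one, rW_sq]

lemma reeSig_rW : reeSig f (rW (K := K)) = rW := by
  apply ree_ext
  simp only [rW, map_mul, reeSig_rG, Units.val_mul, ree1_x]
  have e1 : (1 : K) ^ reeLam 8 = 1 := one_pow _
  have e3 : f ((-1 : K) ^ reeLam 3) = -1 := by
    rw [(reeLam_odd 3).neg_pow, one_pow, map_neg, map_one]
  have e4 : f ((-1 : K) ^ reeLam 1) = -1 := by
    rw [(reeLam_odd 1).neg_pow, one_pow, map_neg, map_one]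
  have e5 : f ((1 : K) ^ reeLam 8) = 1 := by rw [one_pow, map_one]
  have e6 : f ((1 : K) ^ reeLam 10) = 1 := by rw [one_pow, map_one]
  rw [e3, e4, e5, e6]
  have h1 := ree_W_word2 (K := K)
  have h2 := ree_W_word (K := K)
  show m7aaab 1 * m7maaab (-1) * m7aaab 1 * m7ab 1 * m7mab (-1) * m7ab 1 = m7ab 1 * m7mab (-1) * m7ab 1 * m7aaab 1 * m7maaab (-1) * m7aaab 1
  rw [h1, h2]

lemma rW_val : ((rW (K := K) : ↥(G2 K)) : GL chevG2.Idx K) = nG TG2.checks 8 1 * nG TG2.checks 10 1 := by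
  have e1 : chevG2.neg 8 = 3 := rfl
  have e2 : chevG2.neg 10 = 1 := rfl
  simp only [nG, Cfsg.Lie.ChevalleyDatum.nWord, e1, e2, wordG_cons, wordG_nil, mul_one, inv_one, rW, Subgroup.coe_mul, rG_val]
  simp only [mul_assoc]

lemma rW_mem_N : ((rW (K := K) : ↥(G2 K)) : GL chevG2.Idx K) ∈ chevG2.monomialSubgroup K := by
  rw [rW_val]
  exact mul_mem (nG_mem_monomial TG2.checks (by decide)) (nG_mem_monomial TG2.checks (by decide))

/-- conjugation by the Weyl element -/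
theorem rW_conj {r : ℕ} (hr : r < 12) (t : K) : rW * rG hr t * rW⁻¹ = rG (r := 11 - r) (by omega) (-t) := by
  rw [mul_inv_eq_iff_eq_mul]
  apply ree_ext
  simp only [map_mul, Units.val_mul, ree1_rW, ree1_x]
  interval_cases r
  · exact ree_W_conj0 t
  · exact ree_W_conj1 t
  · exact ree_W_conj2 t
  · exact ree_W_conj3 t
  · exact ree_W_conj4 t
  · exact ree_W_conj5 t
  · exact ree_W_conj6 t
  · exact ree_W_conj7 t
  · exact ree_W_conj8 t
  · exact ree_W_conj9 t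
  · exact ree_W_conj10 t
  · exact ree_W_conj11 t

/-! ### Root elements determine their roots -/

lemma x_entry_h {r : ℕ} (hr : r < chevG2.nroots) (t : K) (u : Fin chevG2.nroots) (i : Fin chevG2.rank) :
    chevG2.x K r t (Sum.inr u) (Sum.inl i) = if u = ⟨r, hr⟩ then - (((chevG2.cartanSR.getD i.val #[]).getD r 0 : ℤ) : K) * t else 0 := by
  rw [x_eq_xMat chevG2 r hr t]
  rfl

lemma ree_two_ne : (2 : K) ≠ 0 := by
  intro h
  have h3 : (3 : K) = 0 := ree_three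
  have : (1 : K) = 0 := by linear_combination h3 - h
  exact one_ne_zero this

/-- a root element with non-trivial parameter determines its root -/
theorem rX_root_inj {r r' : ℕ} (hr : r < 12) (hr' : r' < 12) {t t' : K} (ht : t ≠ 0) (h : rX r t = rX r' t') : r = r' := by
  by_contra hne
  have hr0 : r < chevG2.nroots := hr
  have hr1 : r' < chevG2.nroots := hr'
  have e : chevG2.x K r t = chevG2.x K r' t' := congrArg Units.val h
  have e2 : ∀ i : Fin chevG2.rank, chevG2.x K r t (Sum.inr ⟨r, hr0⟩) (Sum.inl i) = 0 := by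
    intro i
    rw [e, x_entry_h hr1, if_neg]
    intro h'
    exact hne (congrArg Fin.val h')
  have e3 := e2 ⟨if r = 2 ∨ r = 9 then 0 else 1, by split <;> decide⟩
  rw [x_entry_h hr0, if_pos rfl] at e3
  have h2 : (2 : K) ≠ 0 := ree_two_ne
  have h3 : (3 : K) = 0 := ree_three
  interval_cases r <;> simp [chevG2, chevG2CartanSR, ht, h2] at e3

/-! ### The perm table -/

/-- the elements of the Weyl group as permutations of the roots -/
def reeWL : List (List ℕ) :=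
  [[0, 1, 2, 3, 4, 5, 6, 7, 8, 9, 10, 11], [0, 5, 3, 2, 7, 1, 10, 4, 9, 8, 6, 11], [1, 0, 2, 4, 3, 6, 5, 8, 7, 9, 11, 10], [5, 0, 3, 7, 2, 10, 1, 9, 4, 8, 11, 6], [6, 1, 4, 8, 2, 11, 0, 9, 3, 7, 10, 5], [10, 5, 7, 9, 3, 11, 0, 8, 2, 4, 6, 1], [11, 6, 8, 9, 4, 10, 1, 7, 2, 3, 5, 0], [11, 10, 9, 8, 7, 6, 5, 4, 3, 2, 1, 0], [10, 11, 9, 7, 8, 5, 6, 3, 4, 2, 0, 1], [6, 11, 8, 4, 9, 1, 10, 2, 7, 3, 0, 5], [5, 10, 7, 3, 9, 0, 11, 2, 8, 4, 1, 6], [1, 6, 4, 2, 8, 0, 11, 3, 9, 7, 5, 10]]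

/-- an element of the table -/
def reeWtab (k : Fin 12) (s : ℕ) : ℕ := (reeWL.getD k.val []).getD s 0

lemma reeW_step : ∀ (k : Fin 12) (i : Fin 2), ∃ k' : Fin 12, ∀ s : Fin 12, TG2.T.w (chevG2.simple i.val) (reeWtab k s.val) = reeWtab k' s.val := by
  decide +kernel

lemma reeW_comm : ∀ k : Fin 12, (∀ s : Fin 12, reeWtab k (reeBar s.val) = reeBar (reeWtab k s.val)) → k = 0 ∨ k = 7 := by
  decide +kernel

lemma reeW_zero : ∀ s : Fin 12, reeWtab 0 s.val = s.val := by decide +kernel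
lemma reeW_seven : ∀ s : Fin 12, reeWtab 7 s.val = 11 - s.val := by decide +kernel

lemma applyW_table (l : List ℕ) (hl : ∀ i ∈ l, i < 2) : ∃ k : Fin 12, ∀ s : Fin 12, applyW chevG2 TG2.T l s.val = reeWtab k s.val := by
  induction l with
  | nil => exact ⟨0, fun s => (reeW_zero s).symm⟩
  | cons i l ih =>
    obtain ⟨k, hk⟩ := ih (fun j hj => hl j (List.mem_cons_of_mem _ hj))
    obtain ⟨k', hk'⟩ := reeW_step k ⟨i, hl i List.mem_cons_self⟩
    refine ⟨k', fun s => ?_⟩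
    rw [applyW_cons, hk s]
    exact hk' s

/-- the permutation of an element of `N` lies in the table -/
lemma ree_perm_table {n : GL chevG2.Idx K} (hn : n ∈ chevG2.monomialSubgroup K) {π π' : ℕ → ℕ} {d : ℕ → Kˣ}
    (h : NAct TG2.checks n π π' d) : ∃ k : Fin 12, ∀ s : Fin 12, π s.val = reeWtab k s.val := by
  obtain ⟨k, hk, l, hl, rfl⟩ := monomial_form TG2.checks TG2.checks2 TG2.checks3 hn
  obtain ⟨π₂, d₂, a₂⟩ := NAct_word (F := K) TG2.checks hl
  have hk' : k ∈ HT TG2.U chevG2 K := by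
    rw [← diagonal_eq TG2.checks TG2.checks3]
    exact hk
  obtain ⟨c', hc'⟩ := mem_HT.mp hk'
  have a₃ := (NAct_torus (F := K) TG2.checks TG2.checks3 (capply chevG2 c')).mul a₂
  have a₄ : NAct (F := K) TG2.checks (hProd TG2.U chevG2 c' * nWordG TG2.checks K l) _ _ _ := a₃
  rw [← hc'] at a₄
  obtain ⟨k₂, hk₂⟩ := applyW_table l hl
  refine ⟨k₂, fun s => ?_⟩
  have := NAct.perm_unique h a₄ s.2
  rw [this]
  simpa using hk₂ s

end Cfsg.Agent.H10
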