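import Cfsg.Agent.Lib.H10.ReeBN

/-!
# The small Ree group: perfectness and simplicity
-/

set_option autoImplicit false
set_option linter.style.longLine false
set_option linter.unusedSimpArgs false
set_option linter.unusedSectionVars false
set_option maxRecDepth 100000

open Cfsg Cfsg.Lie Cfsg.Agent.H04.Chev
open scoped MatrixGroups commutatorElement

namespace Cfsg.Agent.H10

variable {K : Type*} [Field K] [CharP K 3] {m : ℕ}

/-- A subgroup containing `U¹` and `V¹` is everything -/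
lemma T_eq_top {S : Subgroup (RT K m)} (h1 : ∀ t u v : K, tU m t u v ∈ S) (h2 : ∀ t u v : K, tV m t u v ∈ S) : S = ⊤ := by
  rw [eq_top_iff]
  rintro ⟨g, hg⟩ _
  have h3 : twistedG2 K (3 ^ m) ≤ S.map (twistedG2 K (3 ^ m)).subtype := by
    unfold twistedG2 Cfsg.Lie.ChevalleyDatum.genSubgroup
    rw [Subgroup.closure_le]
    rintro x ⟨w, ⟨t, u, v, rfl | rfl⟩, hx⟩
    · have e0 : x = wordG TG2.checks (reeWordU (3 ^ m) t u v) := eq_wordG TG2.checks hx
      rw [rU_word (reeF_pow m)] at e0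
      subst e0
      exact ⟨_, h1 t u v, rfl⟩
    · have e0 : x = wordG TG2.checks (reeWordV (3 ^ m) t u v) := eq_wordG TG2.checks hx
      rw [rV_word (reeF_pow m)] at e0
      subst e0
      exact ⟨_, h2 t u v, rfl⟩
  obtain ⟨g', hg', e⟩ := h3 hg
  have : g' = ⟨g, hg⟩ := Subtype.ext e
  rwa [← this]

variable [Fintype K] (hK : Fintype.card K = 3 ^ (2 * m + 1))
include hK

/-- a normal subgroup containing `U¹` is everything -/
lemma T_eq_top_of_normal {S : Subgroup (RT K m)} [S.Normal] (h1 : ∀ t u v : K, tU m t u v ∈ S) : S = ⊤ := by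
  refine T_eq_top h1 (fun t u v => ?_)
  rw [tV_eq]
  have := ‹S.Normal›.conj_mem _ (h1 t u v) (tW K m)
  rwa [tW_inv] at this

lemma tU_comm_step (β : Kˣ) (t u v : K) :
    ⁅tH hK β, tU m t u v⁆ = tU m (β * t) (reeF K m β ^ 3 * β * u) (reeF K m β ^ 3 * β ^ 2 * v) * (tU m t u v)⁻¹ := by
  rw [commutatorElement_def, tH_conj]

lemma tU_0uv (u v u₂ v₂ : K) : tU m (0 : K) u v * tU m 0 u₂ v₂ = tU m 0 (u + u₂) (v + v₂) := by
  rw [tU_mul hK]
  simp

lemma tU_t0 (t x y u₂ v₂ : K) : tU m t x y * tU m 0 u₂ v₂ = tU m t (x + u₂) (y + v₂) := by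
  rw [tU_mul hK]
  simp

lemma tU_0uv_inv (u v : K) : (tU m (0 : K) u v)⁻¹ = tU m 0 (-u) (-v) := by
  rw [inv_eq_iff_mul_eq_one, tU_0uv hK]
  simp [tU_zero]

/-- the group is perfect for `m ≥ 1` -/
theorem t_perfect (hm : 1 ≤ m) : commutator (RT K m) = ⊤ := by
  -- a torus element with `β² ≠ 1`
  have hcard : 3 < Fintype.card K := by
    rw [hK]
    calc 3 < 3 ^ 3 := by norm_num
      _ ≤ 3 ^ (2 * m + 1) := Nat.pow_le_pow_right (by norm_num) (by omega)
  have hex : ∃ b : K, b ≠ 0 ∧ b ^ 2 ≠ 1 := by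
    classical
    by_contra hno
    push Not at hno
    have h1 : ∀ x : K, x ∈ ({0, 1, -1} : Finset K) := by
      intro x
      by_cases hx : x = 0
      · simp [hx]
      · have := hno x hx
        have h2 : (x - 1) * (x + 1) = 0 := by linear_combination this
        rcases mul_eq_zero.mp h2 with h3 | h3
        · have : x = 1 := sub_eq_zero.mp h3
          simp [this]
        · have : x = -1 := eq_neg_of_add_eq_zero_left h3
          simp [this]
    have h2 : Fintype.card K ≤ ({0, 1, -1} : Finset K).card := by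
      rw [← Finset.card_univ]
      exact Finset.card_le_card (fun x _ => h1 x)
    have h3 : ({0, 1, -1} : Finset K).card ≤ 3 := Finset.card_le_three
    omega
  obtain ⟨b, hb0, hb⟩ := hex
  set β : Kˣ := Units.mk0 b hb0 with hβ
  have hβv : (β : K) = b := rfl
  have hc1 : reeF K m β ^ 3 * β ≠ 1 := fun h => hb (by rw [← hβv]; exact ree_c1_one hK h)
  have hc2 : reeF K m β ^ 3 * β ^ 2 ≠ 1 := fun h => hb (by rw [← hβv, ree_c2_one hK h]; norm_num)
  set C := commutator (RT K m) with hC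
  have hcomm : ∀ g h : RT K m, ⁅g, h⁆ ∈ C := fun g h => Subgroup.commutator_mem_commutator (Subgroup.mem_top _) (Subgroup.mem_top _)
  -- the `v` layer
  have hv : ∀ v : K, tU m (0 : K) 0 v ∈ C := by
    intro v
    set c := reeF K m β ^ 3 * β ^ 2 with hc
    have hc' : c - 1 ≠ 0 := sub_ne_zero.mpr hc2
    have := hcomm (tH hK β) (tU m 0 0 (v / (c - 1)))
    rw [tU_comm_step hK, tU_0uv_inv hK, mul_zero, mul_zero, tU_0uv hK] at this
    convert this using 2
    · simp
    · rw [← hc]; field_simp; ring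
  have hu : ∀ u : K, tU m (0 : K) u 0 ∈ C := by
    intro u
    set c := reeF K m β ^ 3 * β with hc
    have hc' : c - 1 ≠ 0 := sub_ne_zero.mpr hc1
    have := hcomm (tH hK β) (tU m 0 (u / (c - 1)) 0)
    rw [tU_comm_step hK, tU_0uv_inv hK, mul_zero, mul_zero, tU_0uv hK] at this
    convert this using 2
    · rw [← hc]; field_simp; ring
    · simp
  have huv : ∀ u v : K, tU m (0 : K) u v ∈ C := by
    intro u v
    have := mul_mem (hu u) (hv v)
    rw [tU_0uv hK] at this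
    simpa using this
  have ht : ∀ t u v : K, tU m t u v ∈ C := by
    intro t u v
    have h3 : (3 : K) = 0 := ree_three
    have h1 := hcomm (tH hK (-1)) (tU m t 0 0)
    rw [tU_comm_step hK, tU_inv hK, tU_mul hK] at h1
    obtain ⟨X, Y, hXY⟩ : ∃ X Y, tU m (((-1 : Kˣ) : K) * t + -t) X Y ∈ C := ⟨_, _, h1⟩
    have e : ((-1 : Kˣ) : K) * t + -t = t := by
      simp only [Units.val_neg, Units.val_one]
      linear_combination (-t) * h3
    rw [e] at hXY
    have h2 := mul_mem hXY (huv (u - X) (v - Y))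
    rw [tU_t0 hK] at h2
    simpa using h2
  exact T_eq_top_of_normal hK ht

lemma tUpar_mul (p q : K × K × K) : tUpar hK p * tUpar hK q = tUpar hK (p.1 + q.1, p.2.1 + q.2.1 - p.1 * reeF K m q.1 ^ 3, p.2.2 + q.2.2 - q.1 * p.2.1 + p.1 * q.1 * reeF K m q.1 ^ 3 - p.1 ^ 2 * reeF K m q.1 ^ 3) := by
  apply Subtype.ext
  show ((tU m p.1 p.2.1 p.2.2 : RT K m) : GL chevG2.Idx K) * ((tU m q.1 q.2.1 q.2.2 : RT K m) : GL chevG2.Idx K) = ((tU m _ _ _ : RT K m) : GL chevG2.Idx K)
  rw [← Subgroup.coe_mul, tU_mul hK]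

/-- `U¹` is solvable -/
lemma t_U_solvable : Group.IsSolvable ↥(chevG2.posUnipotent K ⊓ twistedG2 K (3 ^ m)) := by
  let U1 := ↥(chevG2.posUnipotent K ⊓ twistedG2 K (3 ^ m))
  let g : U1 →* Multiplicative K :=
    MonoidHom.mk' (fun x => Multiplicative.ofAdd ((tUpar hK).symm x).1) (by
      intro x y
      obtain ⟨p, rfl⟩ := (tUpar hK).surjective x
      obtain ⟨q, rfl⟩ := (tUpar hK).surjective y
      rw [tUpar_mul hK]
      simp only [Equiv.symm_apply_apply]
      rfl)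
  have hker : ∀ x : U1, g x = 1 → ∃ u v, x = tUpar hK (0, u, v) := by
    intro x hx
    obtain ⟨p, rfl⟩ := (tUpar hK).surjective x
    have h0 : p.1 = 0 := by
      have : Multiplicative.ofAdd ((tUpar hK).symm (tUpar hK p)).1 = 1 := hx
      simpa using this
    obtain ⟨a, b, c⟩ := p
    simp only at h0
    subst h0
    exact ⟨b, c, rfl⟩
  haveI : Group.IsSolvable g.ker := Group.isSolvable_of_comm (by
    rintro ⟨x, hx⟩ ⟨y, hy⟩
    obtain ⟨u, v, rfl⟩ := hker x hx
    obtain ⟨u', v', rfl⟩ := hker y hy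
    apply Subtype.ext
    show tUpar hK (0, u, v) * tUpar hK (0, u', v') = tUpar hK (0, u', v') * tUpar hK (0, u, v)
    rw [tUpar_mul hK, tUpar_mul hK]
    congr 1
    simp [add_comm])
  exact Group.isSolvable_of_ker_le_range g.ker.subtype g (by
    intro x hx
    exact ⟨⟨x, hx⟩, rfl⟩)

/-- the Borel subgroup is solvable -/
lemma t_borel_solvable : Group.IsSolvable ↥((chevG2.borelSubgroup K ⊓ twistedG2 K (3 ^ m)).subgroupOf (twistedG2 K (3 ^ m))) := by
  classical
  let B1 := ↥((chevG2.borelSubgroup K ⊓ twistedG2 K (3 ^ m)).subgroupOf (twistedG2 K (3 ^ m)))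
  have hex : ∀ x : B1, ∃ β : Kˣ, ∃ t u v : K, x.1 = tU m t u v * tH hK β := by
    intro x
    obtain ⟨t, u, v, β, e⟩ := (mem_tB_iff hK x.1).mp x.2
    exact ⟨β, t, u, v, e⟩
  choose bc hbc using hex
  have huniq : ∀ (x : B1) (β : Kˣ) (t u v : K), x.1 = tU m t u v * tH hK β → bc x = β := by
    intro x β t u v e
    obtain ⟨t', u', v', e'⟩ := hbc x
    rw [e] at e'
    exact ((tB_inj hK e').2).symm
  have hmul : ∀ (t u v : K) (β : Kˣ) (t' u' v' : K) (β' : Kˣ), ∃ a b c : K, (tU m t u v * tH hK β) * (tU m t' u' v' * tH hK β') = tU m a b c * tH hK (β * β') := by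
    intro t u v β t' u' v' β'
    have e1 := tH_conj hK β t' u' v'
    rw [mul_inv_eq_iff_eq_mul] at e1
    have e2 : (tU m t u v * tH hK β) * (tU m t' u' v' * tH hK β') = (tU m t u v * tU m (β * t') (reeF K m β ^ 3 * β * u') (reeF K m β ^ 3 * β ^ 2 * v')) * tH hK (β * β') := by
      rw [tH_mul, mul_assoc, ← mul_assoc (tH hK β), e1]; group
    rw [e2, tU_mul hK]
    exact ⟨_, _, _, rfl⟩
  let g : B1 →* Kˣ := MonoidHom.mk' bc (by
    intro x y
    obtain ⟨t, u, v, e⟩ := hbc x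
    obtain ⟨t', u', v', e'⟩ := hbc y
    obtain ⟨a, b, c, h⟩ := hmul t u v (bc x) t' u' v' (bc y)
    apply huniq (x * y) _ a b c
    rw [← h, ← e, ← e']
    rfl)
  haveI : Group.IsSolvable Kˣ := Group.isSolvable_of_comm mul_comm
  haveI := t_U_solvable hK
  refine Group.isSolvable_of_ker_le_range (G' := ↥(chevG2.posUnipotent K ⊓ twistedG2 K (3 ^ m)))
    (MonoidHom.mk' (fun x : ↥(chevG2.posUnipotent K ⊓ twistedG2 K (3 ^ m)) =>
      (⟨⟨x.1, (Subgroup.mem_inf.mp x.2).2⟩, Subgroup.mem_subgroupOf.mpr (Subgroup.mem_inf.mpr ⟨U_le_B (Subgroup.mem_inf.mp x.2).1, (Subgroup.mem_inf.mp x.2).2⟩)⟩ : B1)) (fun _ _ => rfl)) g ?_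
  intro x hx
  obtain ⟨t, u, v, e⟩ := hbc x
  have h1 : bc x = 1 := hx
  rw [h1, tH_one, mul_one] at e
  refine ⟨⟨((tU m t u v : RT K m) : GL chevG2.Idx K), (mem_U1_iff hK _).mpr ⟨_, _, _, rfl⟩⟩, ?_⟩
  apply Subtype.ext
  apply Subtype.ext
  exact (congrArg Subtype.val e).symm

/-- the group is simple for `m ≥ 1` -/
theorem t_simple (hm : 1 ≤ m) : IsSimpleGroup (RT K m) := by
  haveI : Nontrivial (RT K m) := ⟨⟨tU m (1 : K) 0 0, 1, fun h => by
    rw [← tU_zero (K := K) (m := m)] at h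
    exact one_ne_zero (tU_inj h).1⟩⟩
  refine Cfsg.Agent.H02.BN.simple_criterion (P := tBN hK) ?_ (t_borel_solvable hK) (t_perfect hK hm) (tcore hK)
  rintro J hJ ⟨s, hs⟩ ⟨s', hs'⟩
  have h1 : s = tW K m := hJ hs
  have h2 : s' = tW K m := hs'.1
  exact absurd (by rw [h2, ← h1]; exact hs) hs'.2

end Cfsg.Agent.H10
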