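import Cfsg.Agent.Lib.H10.ReeH
import Cfsg.Prelude.Def_LieTwisted

/-!
# The structure of the fixed points of the graph-field endomorphism of `G₂`
-/

set_option autoImplicit false
set_option linter.style.longLine false
set_option linter.unusedSimpArgs false
set_option maxRecDepth 100000

open Cfsg Cfsg.Lie Cfsg.Agent.H04.Chev
open scoped MatrixGroups

namespace Cfsg.Agent.H10
variable {K : Type*} [Field K] [CharP K 3] (f : K →+* K)

/-- The fixed points of `σ` -/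
noncomputable def reeFix : Subgroup ↥(G2 K) := MonoidHom.eqLocus (reeSig f) (MonoidHom.id _)

lemma mem_reeFix {g : ↥(G2 K)} : g ∈ reeFix f ↔ reeSig f g = g := Iff.rfl

lemma rG_zero {r : ℕ} (hr : r < 12) : rG hr (0 : K) = 1 := by
  apply Subtype.ext
  exact xG_zero TG2.checks r

lemma rU_mem_U (t u v : K) : ((rU f t u v : ↥(G2 K)) : GL chevG2.Idx K) ∈ chevG2.posUnipotent K := by
  have h : ∀ (r : ℕ) (hr : r < 12), 6 ≤ r → ∀ s : K, ((rG hr s : ↥(G2 K)) : GL chevG2.Idx K) ∈ chevG2.posUnipotent K := by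
    intro r hr h6 s
    exact xG_mem_pos TG2.checks (isPos_iff.mpr ⟨h6, hr⟩) s
  simp only [rU, Subgroup.coe_mul]
  refine mul_mem (mul_mem (mul_mem (mul_mem (mul_mem ?_ ?_) ?_) ?_) ?_) ?_ <;> exact h _ _ (by decide) _

variable {f}

lemma rU_fix (hf : ReeTits f) (t u v : K) : rU f t u v ∈ reeFix f := reeSig_rU hf t u v
lemma rH_fix (hf : ReeTits f) (β : Kˣ) : rH f β ∈ reeFix f := reeSig_rH hf β
lemma rW_fix : rW ∈ reeFix f := reeSig_rW f

/-- fixed elements of the Borel subgroup -/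
theorem ree_B_fix (hf : ReeTits f) {g : ↥(G2 K)} (hB : (g : GL chevG2.Idx K) ∈ chevG2.borelSubgroup K) (hg : reeSig f g = g) :
    ∃ t u v β, g = rU f t u v * rH f β := by
  obtain ⟨u, hu, h, hh, e⟩ := (mem_borel_iff TG2.checks TG2.checks2 TG2.checks3).mp hB
  have huG := U_le_group TG2.checks hu
  have hhG := H_le_group TG2.checks hh
  have e1 : g = ⟨u, huG⟩ * ⟨h, hhG⟩ := Subtype.ext e
  have e2 : reeSig f ⟨u, huG⟩ * reeSig f ⟨h, hhG⟩ = ⟨u, huG⟩ * ⟨h, hhG⟩ := by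
    rw [← map_mul, ← e1, hg]
  have hu2 := sig_U f hu huG
  have hh2 := sig_H f hh hhG
  have e3 : (⟨u, huG⟩ : ↥(G2 K))⁻¹ * reeSig f ⟨u, huG⟩ = ⟨h, hhG⟩ * (reeSig f ⟨h, hhG⟩)⁻¹ := by
    rw [eq_mul_inv_iff_mul_eq, mul_assoc, e2]
    group
  have e4 : u⁻¹ * ((reeSig f ⟨u, huG⟩ : ↥(G2 K)) : GL chevG2.Idx K) ∈ chevG2.posUnipotent K ⊓ chevG2.diagonalSubgroup K := by
    refine Subgroup.mem_inf.mpr ⟨mul_mem (inv_mem hu) hu2, ?_⟩
    have e5 := congrArg Subtype.val e3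
    have e6 : u⁻¹ * ((reeSig f ⟨u, huG⟩ : ↥(G2 K)) : GL chevG2.Idx K) = h * ((reeSig f ⟨h, hhG⟩ : ↥(G2 K)) : GL chevG2.Idx K)⁻¹ := e5
    rw [e6]
    exact mul_mem hh (inv_mem hh2)
  rw [pos_inf_H TG2.checks TG2.checks2 TG2.checks3, Subgroup.mem_bot] at e4
  have e7 : reeSig f ⟨u, huG⟩ = ⟨u, huG⟩ := Subtype.ext (inv_mul_eq_one.mp e4).symm
  have e8 : reeSig f ⟨h, hhG⟩ = ⟨h, hhG⟩ := by
    rw [e7] at e2
    exact mul_left_cancel e2
  obtain ⟨t₁, u₁, v₁, h1⟩ := exists_rU_of_fix hf hu e7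
  obtain ⟨β, h2⟩ := exists_rH_of_fix hh e8
  exact ⟨t₁, u₁, v₁, β, by rw [e1, h1, h2]⟩

/-- the decomposition of the fixed points -/
theorem ree_fix_cases (hf : ReeTits f) {g : ↥(G2 K)} (hg : reeSig f g = g) :
    (∃ t u v β, g = rU f t u v * rH f β) ∨
      ∃ t u v β t' u' v', g = rU f t u v * rH f β * rW * rU f t' u' v' := by
  rcases ree_bruhat f hg with h | ⟨b, u, hb, hu, hb2, hu2, e⟩
  · exact Or.inl (ree_B_fix hf h hg)
  · right
    obtain ⟨t, u₁, v, β, rfl⟩ := ree_B_fix hf hb hb2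
    obtain ⟨t', u', v', rfl⟩ := exists_rU_of_fix hf hu hu2
    exact ⟨t, u₁, v, β, t', u', v', e⟩

/-- uniqueness in the Borel subgroup -/
theorem ree_B_inj {t u v t' u' v' : K} {β β' : Kˣ} (h : rU f t u v * rH f β = rU f t' u' v' * rH f β') :
    rU f t u v = rU f t' u' v' ∧ β = β' := by
  have e1 : (rU f t' u' v')⁻¹ * rU f t u v = rH f β' * (rH f β)⁻¹ := by
    rw [eq_mul_inv_iff_mul_eq, mul_assoc, h]
    group
  have e2 : (((rU f t' u' v')⁻¹ * rU f t u v : ↥(G2 K)) : GL chevG2.Idx K) ∈ chevG2.posUnipotent K ⊓ chevG2.diagonalSubgroup K := by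
    refine Subgroup.mem_inf.mpr ⟨?_, ?_⟩
    · exact mul_mem (inv_mem (rU_mem_U f _ _ _)) (rU_mem_U f _ _ _)
    · rw [e1]
      exact mul_mem (rH_mem f _) (inv_mem (rH_mem f _))
  rw [pos_inf_H TG2.checks TG2.checks2 TG2.checks3, Subgroup.mem_bot] at e2
  have e3 : (rU f t' u' v')⁻¹ * rU f t u v = 1 := Subtype.ext e2
  have e4 : rU f t u v = rU f t' u' v' := by
    rw [inv_mul_eq_one] at e3
    exact e3.symm
  refine ⟨e4, ?_⟩
  rw [e4] at h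
  exact rH_inj (mul_left_cancel h)

lemma rW_not_mem_B : ((rW (K := K) : ↥(G2 K)) : GL chevG2.Idx K) ∉ chevG2.borelSubgroup K := by
  intro h
  have h2 : ((rW (K := K) : ↥(G2 K)) : GL chevG2.Idx K) ∈ chevG2.borelSubgroup K ⊓ chevG2.monomialSubgroup K := ⟨h, rW_mem_N⟩
  rw [borel_inf_monomial TG2.checks TG2.checks2 TG2.checks3, diagonal_eq TG2.checks TG2.checks3] at h2
  obtain ⟨c, hc⟩ := mem_HT.mp h2
  obtain ⟨πw, dw, hW⟩ := rW_nact (K := K)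
  have h3 := NAct_torus (F := K) TG2.checks TG2.checks3 (capply chevG2 c)
  have h4 : NAct TG2.checks (hProd TG2.U chevG2 c) id id _ := h3
  rw [← hc] at h4
  have := NAct.perm_unique hW h4 (s := 6) (by decide)
  simp at this

/-- the big cell is disjoint from the Borel subgroup -/
theorem ree_cells_disjoint {t u v t₁ u₁ v₁ t' u' v' : K} {β β₁ : Kˣ} :
    rU f t u v * rH f β ≠ rU f t₁ u₁ v₁ * rH f β₁ * rW * rU f t' u' v' := by
  intro h
  apply rW_not_mem_B (K := K)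
  have e : rW = (rU f t₁ u₁ v₁ * rH f β₁)⁻¹ * (rU f t u v * rH f β) * (rU f t' u' v')⁻¹ := by
    rw [h]; group
  rw [e]
  have hb : ∀ t u v (β : Kˣ), ((rU f t u v * rH f β : ↥(G2 K)) : GL chevG2.Idx K) ∈ chevG2.borelSubgroup K := fun t u v β =>
    mul_mem (U_le_B (rU_mem_U f _ _ _)) (H_le_B (rH_mem f _))
  exact mul_mem (mul_mem (inv_mem (hb _ _ _ _)) (hb _ _ _ _)) (inv_mem (U_le_B (rU_mem_U f _ _ _)))

/-- uniqueness in the big cell -/
theorem ree_big_inj {t u v t₁ u₁ v₁ t' u' v' t₂ u₂ v₂ : K} {β β₁ : Kˣ}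
    (h : rU f t u v * rH f β * rW * rU f t' u' v' = rU f t₁ u₁ v₁ * rH f β₁ * rW * rU f t₂ u₂ v₂) :
    rU f t u v = rU f t₁ u₁ v₁ ∧ β = β₁ ∧ rU f t' u' v' = rU f t₂ u₂ v₂ := by
  obtain ⟨πw, dw, hW⟩ := rW_nact (K := K)
  have hb : ∀ t u v (β : Kˣ), ((rU f t u v * rH f β : ↥(G2 K)) : GL chevG2.Idx K) ∈ chevG2.borelSubgroup K := fun t u v β =>
    mul_mem (U_le_B (rU_mem_U f _ _ _)) (H_le_B (rH_mem f _))
  have hu : ∀ t u v, ((rU f t u v : ↥(G2 K)) : GL chevG2.Idx K) ∈ RS TG2.checks (Rminus chevG2 (fun s => 11 - s)) K := fun t u v =>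
    U_le_RS_Rminus (fun s h1 h2 => by omega) (rU_mem_U f _ _ _)
  obtain ⟨h1, h2⟩ := bruhat_unique_fixed TG2.checks TG2.checks2 TG2.checks3 hW (hb t u v β) (hb t₁ u₁ v₁ β₁) (hu t' u' v') (hu t₂ u₂ v₂) (congrArg Subtype.val h)
  obtain ⟨h3, h4⟩ := ree_B_inj (Subtype.ext h1)
  exact ⟨h3, h4, Subtype.ext h2⟩

section Card
variable (f)

/-- the parametrisation of the fixed points -/
noncomputable def reeParam (hf : ReeTits f) : ((K × K × K) × Kˣ) ⊕ (((K × K × K) × Kˣ) × (K × K × K)) → ↥(reeFix f)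
  | Sum.inl ((t, u, v), β) => ⟨rU f t u v * rH f β, mul_mem (rU_fix hf _ _ _) (rH_fix hf _)⟩
  | Sum.inr (((t, u, v), β), (t', u', v')) =>
    ⟨rU f t u v * rH f β * rW * rU f t' u' v', mul_mem (mul_mem (mul_mem (rU_fix hf _ _ _) (rH_fix hf _)) rW_fix) (rU_fix hf _ _ _)⟩

lemma reeParam_bij (hf : ReeTits f) : Function.Bijective (reeParam f hf) := by
  constructor
  · rintro (⟨⟨t, u, v⟩, β⟩ | ⟨⟨⟨t, u, v⟩, β⟩, ⟨t', u', v'⟩⟩) (⟨⟨t₁, u₁, v₁⟩, β₁⟩ | ⟨⟨⟨t₁, u₁, v₁⟩, β₁⟩, ⟨t₂, u₂, v₂⟩⟩) h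
    · have h' : rU f t u v * rH f β = rU f t₁ u₁ v₁ * rH f β₁ := congrArg Subtype.val h
      obtain ⟨h1, h2⟩ := ree_B_inj h'
      obtain ⟨h3, h4, h5⟩ := rU_inj _ _ _ _ _ _ h1
      subst h2 h3 h4 h5
      rfl
    · have h' : rU f t u v * rH f β = rU f t₁ u₁ v₁ * rH f β₁ * rW * rU f t₂ u₂ v₂ := congrArg Subtype.val h
      exact absurd h' ree_cells_disjoint
    · have h' : rU f t u v * rH f β * rW * rU f t' u' v' = rU f t₁ u₁ v₁ * rH f β₁ := congrArg Subtype.val h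
      exact absurd h'.symm ree_cells_disjoint
    · have h' : rU f t u v * rH f β * rW * rU f t' u' v' = rU f t₁ u₁ v₁ * rH f β₁ * rW * rU f t₂ u₂ v₂ := congrArg Subtype.val h
      obtain ⟨h1, h2, h6⟩ := ree_big_inj h'
      obtain ⟨h3, h4, h5⟩ := rU_inj _ _ _ _ _ _ h1
      obtain ⟨h7, h8, h9⟩ := rU_inj _ _ _ _ _ _ h6
      subst h2 h3 h4 h5 h7 h8 h9
      rfl
  · rintro ⟨g, hg⟩
    rcases ree_fix_cases hf hg with ⟨t, u, v, β, e⟩ | ⟨t, u, v, β, t', u', v', e⟩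
    · exact ⟨Sum.inl ((t, u, v), β), Subtype.ext e.symm⟩
    · exact ⟨Sum.inr (((t, u, v), β), (t', u', v')), Subtype.ext e.symm⟩

/-- the order of the fixed points -/
theorem card_reeFix [Fintype K] (hf : ReeTits f) :
    Nat.card ↥(reeFix f) = Fintype.card K ^ 3 * (Fintype.card K - 1) * (Fintype.card K ^ 3 + 1) := by
  classical
  rw [← Nat.card_congr (Equiv.ofBijective _ (reeParam_bij f hf))]
  rw [Nat.card_sum]
  simp only [Nat.card_eq_fintype_card, Fintype.card_prod, Fintype.card_units]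
  ring

end Card

end Cfsg.Agent.H10
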