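import Cfsg.Agent.Lib.H10.ReeOm

/-!
# The small Ree group: three-point stabilizers and the Sylow `3`-subgroups
-/

set_option autoImplicit false
set_option linter.style.longLine false
set_option linter.unusedSimpArgs false
set_option linter.unusedSectionVars false
set_option maxRecDepth 100000

open Cfsg Cfsg.Lie Cfsg.Agent.H04.Chev
open scoped MatrixGroups commutatorElement Pointwise

namespace Cfsg.Agent.H10

lemma card_stab3_smul {G Ω : Type*} [Group G] [MulAction G Ω] (g : G) (x y z : Ω) :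
    Nat.card ↥(MulAction.stabilizer G (g • x) ⊓ MulAction.stabilizer G (g • y) ⊓ MulAction.stabilizer G (g • z)) =
      Nat.card ↥(MulAction.stabilizer G x ⊓ MulAction.stabilizer G y ⊓ MulAction.stabilizer G z) := by
  have hinj : Function.Injective (MulAut.conj g).toMonoidHom := (MulAut.conj g).injective
  rw [MulAction.stabilizer_smul_eq_stabilizer_map_conj, MulAction.stabilizer_smul_eq_stabilizer_map_conj, MulAction.stabilizer_smul_eq_stabilizer_map_conj,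
    ← Subgroup.map_inf _ _ _ hinj, ← Subgroup.map_inf _ _ _ hinj]
  exact (Nat.card_congr (Subgroup.equivMapOfInjective _ _ hinj).toEquiv).symm

variable {K : Type*} [Field K] [CharP K 3] {m : ℕ} [Fintype K] (hK : Fintype.card K = 3 ^ (2 * m + 1))
include hK

/-- three-point stabilizers have at most two elements -/
theorem card_three_le (x y z : ROm K m) (hxy : x ≠ y) (hxz : x ≠ z) (hyz : y ≠ z) :
    Nat.card ↥(MulAction.stabilizer (RT K m) x ⊓ MulAction.stabilizer (RT K m) y ⊓ MulAction.stabilizer (RT K m) z) ≤ 2 := by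
  obtain ⟨g, h1, h2⟩ := two_trans hK hxy
  rw [← card_stab3_smul g, h1, h2]
  rcases pt_cases hK (g • z) with e | ⟨t, u, v, e⟩
  · exact absurd (MulAction.injective g (h1.trans e.symm)) hxz
  · change g • z = Pt m t u v at e
    rw [e]
    apply card_stab_three_le hK
    rintro ⟨rfl, rfl, rfl⟩
    rw [Pt_zero hK, ← h2] at e
    exact hyz (MulAction.injective g e.symm)

theorem exists_three : ∃ x y z : ROm K m, x ≠ y ∧ x ≠ z ∧ y ≠ z ∧
    Nat.card ↥(MulAction.stabilizer (RT K m) x ⊓ MulAction.stabilizer (RT K m) y ⊓ MulAction.stabilizer (RT K m) z) = 2 := by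
  refine ⟨pt0 K m, tW K m • pt0 K m, Pt m (0 : K) 1 0, pt0_ne_w hK, (Pt_ne_pt0 hK _ _ _).symm, ?_, card_stab_three_eq hK⟩
  rw [← Pt_zero hK]
  intro h
  obtain ⟨-, h2, -⟩ := Pt_inj hK h
  exact zero_ne_one h2

/-- `U¹` is a Sylow `3`-subgroup -/
lemma tUU_pgroup : IsPGroup 3 (tUU K m) := by
  apply IsPGroup.of_card (n := (2 * m + 1) * 3)
  rw [card_tUU hK, hK, pow_mul]

lemma not_three_dvd_index : ¬ 3 ∣ (tUU K m).index := by
  have h1 := Subgroup.card_mul_index (tUU K m)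
  rw [card_tUU hK, card_T hK] at h1
  have hpos : 0 < Fintype.card K ^ 3 := by
    rw [hK]; positivity
  have h2 : (tUU K m).index = (Fintype.card K - 1) * (Fintype.card K ^ 3 + 1) := by
    apply Nat.eq_of_mul_eq_mul_left hpos
    rw [h1]; ring
  rw [h2, hK]
  intro h
  have h3 : 3 ∣ 3 ^ (2 * m + 1) := dvd_pow_self 3 (by omega)
  have h4 : 3 ≤ 3 ^ (2 * m + 1) := Nat.le_of_dvd (by positivity) h3
  rcases (Nat.prime_three.dvd_mul).mp h with h5 | h5
  · omega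
  · have h6 : 3 ∣ (3 ^ (2 * m + 1)) ^ 3 := dvd_pow h3 (by norm_num)
    omega

/-- the standard Sylow `3`-subgroup -/
noncomputable def tUSyl : Sylow 3 (RT K m) := (tUU_pgroup hK).toSylow (not_three_dvd_index hK)

lemma tUSyl_coe : (tUSyl hK : Subgroup (RT K m)) = tUU K m := rfl

/-- intersection of `U¹` and a conjugate by the Weyl element -/
lemma tUU_inf_w {t u v t' u' v' : K} (h : tU m t u v = tW K m * tU m t' u' v' * (tW K m)⁻¹) : t' = 0 ∧ u' = 0 ∧ v' = 0 := by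
  apply tW_U_mem_B hK
  rw [tW_inv] at h
  rw [← h]
  exact U_le_B (tU_mem_U _ _ _)

/-- Every Sylow `3`-subgroup is a conjugate of `U¹`. -/
lemma exists_conj_sylow3 (P : Sylow 3 (RT K m)) :
    ∃ k : RT K m, ∀ x, x ∈ (P : Subgroup (RT K m)) ↔ k⁻¹ * x * k ∈ tUU K m := by
  haveI := t_finite hK
  obtain ⟨k, hk⟩ := MulAction.exists_smul_eq (RT K m) (tUSyl hK) P
  refine ⟨k, fun x => ?_⟩
  rw [← hk, Sylow.coe_subgroup_smul, Subgroup.mem_pointwise_smul_iff_inv_smul_mem, tUSyl_coe]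
  simp [MulAut.smul_def, MulAut.conj_apply]

/-- two Sylow `3`-subgroups are equal or have trivial intersection -/
theorem sylow3_TI (P Q : Sylow 3 (RT K m)) (hPQ : P ≠ Q) :
    (P : Subgroup (RT K m)) ⊓ (Q : Subgroup (RT K m)) = ⊥ := by
  rw [eq_bot_iff]
  intro x hx
  rw [Subgroup.mem_bot]
  have hx1 := Subgroup.mem_inf.mp hx
  obtain ⟨k₁, h₁⟩ := exists_conj_sylow3 hK P
  obtain ⟨k₂, h₂⟩ := exists_conj_sylow3 hK Q
  have hy := (h₁ x).mp hx1.1
  have hz := (h₂ x).mp hx1.2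
  rcases tcases hK (k₁⁻¹ * k₂) with ⟨t, u, v, β, e⟩ | ⟨t, u, v, β, t', u', v', e⟩
  · exfalso
    apply hPQ
    apply Sylow.ext
    ext s
    rw [h₁ s, h₂ s]
    have hB : k₁⁻¹ * k₂ ∈ tB K m := (mem_tB_iff hK _).mpr ⟨t, u, v, β, e⟩
    have e1 : k₂⁻¹ * s * k₂ = (k₁⁻¹ * k₂)⁻¹ * (k₁⁻¹ * s * k₁) * ((k₁⁻¹ * k₂)⁻¹)⁻¹ := by group
    have e2 : k₁⁻¹ * s * k₁ = (k₁⁻¹ * k₂) * (k₂⁻¹ * s * k₂) * (k₁⁻¹ * k₂)⁻¹ := by group
    constructor
    · intro h
      rw [e1]
      exact tUU_conj_B hK (inv_mem hB) h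
    · intro h
      rw [e2]
      exact tUU_conj_B hK hB h
  · set b := tU m t u v * tH hK β with hb
    have hbB : b ∈ tB K m := (mem_tB_iff hK _).mpr ⟨t, u, v, β, rfl⟩
    set z' := tU m t' u' v' * (k₂⁻¹ * x * k₂) * (tU m t' u' v')⁻¹ with hz'
    have hz'U : z' ∈ tUU K m := tUU_conj_B hK (tU_mem_tB hK _ _ _) hz
    have e1 : b⁻¹ * (k₁⁻¹ * x * k₁) * (b⁻¹)⁻¹ = tW K m * z' * (tW K m)⁻¹ := by
      have e2 : k₁ = k₂ * (tU m t' u' v')⁻¹ * (tW K m)⁻¹ * b⁻¹ := by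
        have : k₂ = k₁ * (b * tW K m * tU m t' u' v') := by
          rw [← e]; group
        rw [this]; group
      rw [hz', e2]
      group
    have h3 : b⁻¹ * (k₁⁻¹ * x * k₁) * (b⁻¹)⁻¹ ∈ tUU K m := tUU_conj_B hK (inv_mem hbB) hy
    obtain ⟨a₁, a₂, a₃, e3⟩ := (mem_tUU_iff hK _).mp h3
    obtain ⟨a₄, a₅, a₆, e4⟩ := (mem_tUU_iff hK _).mp hz'U
    rw [e1, e4] at e3
    obtain ⟨rfl, rfl, rfl⟩ := tUU_inf_w hK e3.symm
    rw [tU_zero] at e4
    rw [hz'] at e4
    have e5 : k₂⁻¹ * x * k₂ = 1 := by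
      have := congrArg (fun s => (tU m t' u' v')⁻¹ * s * tU m t' u' v') e4
      simpa [mul_assoc] using this
    have e6 : x = k₂ * (k₂⁻¹ * x * k₂) * k₂⁻¹ := by group
    rw [e6, e5]
    group

end Cfsg.Agent.H10
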