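import Cfsg.Agent.Lib.H10.ReeTw

/-!
# The small Ree group: structure inside the twisted group
-/

set_option autoImplicit false
set_option linter.style.longLine false
set_option linter.unusedSimpArgs false
set_option linter.unusedSectionVars false
set_option maxRecDepth 100000

open Cfsg Cfsg.Lie Cfsg.Agent.H04.Chev
open scoped MatrixGroups

namespace Cfsg.Agent.H10

/-- the small Ree group as a type -/
abbrev RT (K : Type*) [Field K] (m : ℕ) := ↥(twistedG2 K (3 ^ m))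

variable {K : Type*} [Field K] [CharP K 3] {m : ℕ}

/-- the elements of the Sylow `3`-subgroup -/
noncomputable def tU (m : ℕ) (t u v : K) : RT K m :=
  ⟨((rU (reeF K m) t u v : ↥(G2 K)) : GL chevG2.Idx K), rU_mem_T (reeF_pow m) t u v⟩

/-- the element of `V¹` -/
noncomputable def tV (m : ℕ) (t u v : K) : RT K m :=
  ⟨((rV (reeF K m) t u v : ↥(G2 K)) : GL chevG2.Idx K), rV_mem_T (reeF_pow m) t u v⟩

/-- the Weyl element -/
noncomputable def tW (K : Type*) [Field K] [CharP K 3] (m : ℕ) : RT K m :=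
  ⟨((rW (K := K) : ↥(G2 K)) : GL chevG2.Idx K), rW_mem_T (f := reeF K m) (reeF_pow m)⟩

lemma tU_val (t u v : K) : ((tU m t u v : RT K m) : GL chevG2.Idx K) = ((rU (reeF K m) t u v : ↥(G2 K)) : GL chevG2.Idx K) := rfl
lemma tV_val (t u v : K) : ((tV m t u v : RT K m) : GL chevG2.Idx K) = ((rV (reeF K m) t u v : ↥(G2 K)) : GL chevG2.Idx K) := rfl
lemma tW_val : ((tW K m : RT K m) : GL chevG2.Idx K) = ((rW (K := K) : ↥(G2 K)) : GL chevG2.Idx K) := rfl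

lemma tW_sq : tW K m * tW K m = 1 := by
  apply Subtype.ext
  show ((rW (K := K) : ↥(G2 K)) : GL chevG2.Idx K) * ((rW (K := K) : ↥(G2 K)) : GL chevG2.Idx K) = 1
  rw [← Subgroup.coe_mul, rW_sq]; rfl

lemma tW_inv : (tW K m)⁻¹ = tW K m := inv_eq_of_mul_eq_one_left tW_sq

lemma tV_eq (t u v : K) : tV m t u v = tW K m * tU m t u v * tW K m := by
  apply Subtype.ext
  show ((rV (reeF K m) t u v : ↥(G2 K)) : GL chevG2.Idx K) = ((rW (K := K) : ↥(G2 K)) : GL chevG2.Idx K) * ((rU (reeF K m) t u v : ↥(G2 K)) : GL chevG2.Idx K) * ((rW (K := K) : ↥(G2 K)) : GL chevG2.Idx K)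
  rw [rV_eq]; rfl

variable [Fintype K]

/-- the torus elements -/
noncomputable def tH (hK : Fintype.card K = 3 ^ (2 * m + 1)) (β : Kˣ) : RT K m :=
  ⟨((rH (reeF K m) β : ↥(G2 K)) : GL chevG2.Idx K),
    rH_mem_T (reeF_pow m) (reeF_tits hK) (by rw [hK]; exact ree_card_mod) β⟩

variable (hK : Fintype.card K = 3 ^ (2 * m + 1))
include hK

lemma tH_val (β : Kˣ) : ((tH hK β : RT K m) : GL chevG2.Idx K) = ((rH (reeF K m) β : ↥(G2 K)) : GL chevG2.Idx K) := rfl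

lemma tU_mul (t u v t₂ u₂ v₂ : K) : tU m t u v * tU m t₂ u₂ v₂ = tU m (t + t₂) (u + u₂ - t * reeF K m t₂ ^ 3) (v + v₂ - t₂ * u + t * t₂ * reeF K m t₂ ^ 3 - t ^ 2 * reeF K m t₂ ^ 3) := by
  apply Subtype.ext
  show ((rU (reeF K m) t u v : ↥(G2 K)) : GL chevG2.Idx K) * ((rU (reeF K m) t₂ u₂ v₂ : ↥(G2 K)) : GL chevG2.Idx K) = _
  rw [← Subgroup.coe_mul, rU_mul (reeF_tits hK)]; rfl

omit hK [Fintype K] in
lemma tU_zero : tU m (0 : K) 0 0 = 1 := by
  apply Subtype.ext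
  show ((rU (reeF K m) 0 0 0 : ↥(G2 K)) : GL chevG2.Idx K) = 1
  rw [rU_zero]; rfl

omit hK [Fintype K] in
lemma tU_inj {t u v t' u' v' : K} (h : tU m t u v = tU m t' u' v') : t = t' ∧ u = u' ∧ v = v' := by
  have := congrArg Subtype.val h
  exact rU_inj _ _ _ _ _ _ (Subtype.ext this)

lemma tU_inv (t u v : K) : (tU m t u v)⁻¹ = tU m (-t) (-u - t * reeF K m t ^ 3) (-v - t * u + t ^ 2 * reeF K m t ^ 3) := by
  apply Subtype.ext
  show (((rU (reeF K m) t u v : ↥(G2 K)) : GL chevG2.Idx K))⁻¹ = _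
  rw [← Subgroup.coe_inv, rU_inv (reeF_tits hK)]; rfl

lemma tH_mul (β γ : Kˣ) : tH hK (β * γ) = tH hK β * tH hK γ := by
  apply Subtype.ext
  show ((rH (reeF K m) (β * γ) : ↥(G2 K)) : GL chevG2.Idx K) = ((rH (reeF K m) β : ↥(G2 K)) : GL chevG2.Idx K) * ((rH (reeF K m) γ : ↥(G2 K)) : GL chevG2.Idx K)
  rw [← Subgroup.coe_mul, rH_mul]

lemma tH_one : tH hK (1 : Kˣ) = 1 := by
  apply Subtype.ext
  show ((rH (reeF K m) 1 : ↥(G2 K)) : GL chevG2.Idx K) = 1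
  rw [rH_one]; rfl

lemma tH_inv (β : Kˣ) : (tH hK β)⁻¹ = tH hK β⁻¹ := by
  rw [inv_eq_iff_mul_eq_one, ← tH_mul, mul_inv_cancel, tH_one]

lemma tH_inj {β γ : Kˣ} (h : tH hK β = tH hK γ) : β = γ := by
  have := congrArg Subtype.val h
  exact rH_inj (f := reeF K m) (Subtype.ext this)

/-- the torus as a homomorphism -/
noncomputable def tHom : Kˣ →* RT K m where
  toFun := tH hK
  map_one' := tH_one hK
  map_mul' := tH_mul hK

lemma tHom_apply (β : Kˣ) : tHom hK β = tH hK β := rfl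

lemma tH_conj (β : Kˣ) (t u v : K) :
    tH hK β * tU m t u v * (tH hK β)⁻¹ = tU m (β * t) (reeF K m β ^ 3 * β * u) (reeF K m β ^ 3 * β ^ 2 * v) := by
  apply Subtype.ext
  show ((rH (reeF K m) β : ↥(G2 K)) : GL chevG2.Idx K) * ((rU (reeF K m) t u v : ↥(G2 K)) : GL chevG2.Idx K) * (((rH (reeF K m) β : ↥(G2 K)) : GL chevG2.Idx K))⁻¹ = _
  rw [← Subgroup.coe_inv, ← Subgroup.coe_mul, ← Subgroup.coe_mul, rH_conj_rU (reeF_tits hK)]; rfl

lemma tW_conj_tH (β : Kˣ) : tW K m * tH hK β * (tW K m)⁻¹ = tH hK β⁻¹ := by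
  apply Subtype.ext
  show ((rW (K := K) : ↥(G2 K)) : GL chevG2.Idx K) * ((rH (reeF K m) β : ↥(G2 K)) : GL chevG2.Idx K) * (((rW (K := K) : ↥(G2 K)) : GL chevG2.Idx K))⁻¹ = _
  rw [← Subgroup.coe_inv, ← Subgroup.coe_mul, ← Subgroup.coe_mul, rW_conj_rH]; rfl

lemma tW_tH (β : Kˣ) : tW K m * tH hK β = tH hK β⁻¹ * tW K m := by
  have := tW_conj_tH hK β
  rw [← this, inv_mul_cancel_right]

/-- every element of the twisted group is a fixed point of `σ` -/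
lemma T_fix (g : RT K m) : ∃ g' : ↥(G2 K), (g' : GL chevG2.Idx K) = g ∧ reeSig (reeF K m) g' = g' := by
  have h : (g : GL chevG2.Idx K) ∈ (reeFix (reeF K m)).map (G2 K).subtype := by
    rw [← twisted_eq (reeF_pow m) (reeF_tits hK) (by rw [hK]; exact ree_card_mod)]
    exact g.2
  obtain ⟨g', hg', e⟩ := h
  exact ⟨g', e, hg'⟩

/-- the two Bruhat cells -/
theorem tcases (g : RT K m) :
    (∃ t u v β, g = tU m t u v * tH hK β) ∨
      ∃ t u v β t' u' v', g = tU m t u v * tH hK β * tW K m * tU m t' u' v' := by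
  obtain ⟨g', e, hg⟩ := T_fix hK g
  rcases ree_fix_cases (reeF_tits hK) hg with ⟨t, u, v, β, rfl⟩ | ⟨t, u, v, β, t', u', v', rfl⟩
  · exact Or.inl ⟨t, u, v, β, Subtype.ext e.symm⟩
  · exact Or.inr ⟨t, u, v, β, t', u', v', Subtype.ext e.symm⟩

/-- uniqueness in the Borel subgroup -/
lemma tB_inj {t u v t' u' v' : K} {β β' : Kˣ} (h : tU m t u v * tH hK β = tU m t' u' v' * tH hK β') :
    (t = t' ∧ u = u' ∧ v = v') ∧ β = β' := by
  have h1 : rU (reeF K m) t u v * rH (reeF K m) β = rU (reeF K m) t' u' v' * rH (reeF K m) β' := by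
    have e := congrArg Subtype.val h
    exact Subtype.ext e
  obtain ⟨e1, e2⟩ := ree_B_inj h1
  exact ⟨rU_inj _ _ _ _ _ _ e1, e2⟩

lemma t_cells_disjoint {t u v t₁ u₁ v₁ t' u' v' : K} {β β₁ : Kˣ} :
    tU m t u v * tH hK β ≠ tU m t₁ u₁ v₁ * tH hK β₁ * tW K m * tU m t' u' v' := by
  intro h
  have h1 : rU (reeF K m) t u v * rH (reeF K m) β = rU (reeF K m) t₁ u₁ v₁ * rH (reeF K m) β₁ * rW * rU (reeF K m) t' u' v' := by
    have e := congrArg Subtype.val h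
    exact Subtype.ext e
  exact ree_cells_disjoint h1

lemma t_big_inj {t u v t₁ u₁ v₁ t' u' v' t₂ u₂ v₂ : K} {β β₁ : Kˣ}
    (h : tU m t u v * tH hK β * tW K m * tU m t' u' v' = tU m t₁ u₁ v₁ * tH hK β₁ * tW K m * tU m t₂ u₂ v₂) :
    (t = t₁ ∧ u = u₁ ∧ v = v₁) ∧ β = β₁ ∧ (t' = t₂ ∧ u' = u₂ ∧ v' = v₂) := by
  have h1 : rU (reeF K m) t u v * rH (reeF K m) β * rW * rU (reeF K m) t' u' v' = rU (reeF K m) t₁ u₁ v₁ * rH (reeF K m) β₁ * rW * rU (reeF K m) t₂ u₂ v₂ := by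
    have e := congrArg Subtype.val h
    exact Subtype.ext e
  obtain ⟨e1, e2, e3⟩ := ree_big_inj h1
  exact ⟨rU_inj _ _ _ _ _ _ e1, e2, rU_inj _ _ _ _ _ _ e3⟩

omit hK [Fintype K] in
lemma tU_mem_U (t u v : K) : ((tU m t u v : RT K m) : GL chevG2.Idx K) ∈ chevG2.posUnipotent K := rU_mem_U _ _ _ _

lemma tH_mem_H (β : Kˣ) : ((tH hK β : RT K m) : GL chevG2.Idx K) ∈ chevG2.diagonalSubgroup K := rH_mem _ _

omit hK [Fintype K] in
lemma U_le_B : chevG2.posUnipotent K ≤ chevG2.borelSubgroup K := le_sup_left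
omit hK [Fintype K] in
lemma H_le_B : chevG2.diagonalSubgroup K ≤ chevG2.borelSubgroup K := le_sup_right
omit hK [Fintype K] in
lemma H_le_N : chevG2.diagonalSubgroup K ≤ chevG2.monomialSubgroup K := le_sup_left

lemma mem_U_iff (g : RT K m) : (g : GL chevG2.Idx K) ∈ chevG2.posUnipotent K ↔ ∃ t u v, g = tU m t u v := by
  constructor
  · intro h
    obtain ⟨g', e, hg⟩ := T_fix hK g
    rw [← e] at h
    obtain ⟨t, u, v, rfl⟩ := exists_rU_of_fix (reeF_tits hK) h hg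
    exact ⟨t, u, v, Subtype.ext e.symm⟩
  · rintro ⟨t, u, v, rfl⟩
    exact tU_mem_U _ _ _

lemma mem_H_iff (g : RT K m) : (g : GL chevG2.Idx K) ∈ chevG2.diagonalSubgroup K ↔ ∃ β, g = tH hK β := by
  constructor
  · intro h
    obtain ⟨g', e, hg⟩ := T_fix hK g
    rw [← e] at h
    obtain ⟨β, rfl⟩ := exists_rH_of_fix h hg
    exact ⟨β, Subtype.ext e.symm⟩
  · rintro ⟨β, rfl⟩
    exact tH_mem_H hK _

lemma mem_B_iff (g : RT K m) : (g : GL chevG2.Idx K) ∈ chevG2.borelSubgroup K ↔ ∃ t u v β, g = tU m t u v * tH hK β := by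
  constructor
  · intro h
    obtain ⟨g', e, hg⟩ := T_fix hK g
    rw [← e] at h
    obtain ⟨t, u, v, β, rfl⟩ := ree_B_fix (reeF_tits hK) h hg
    exact ⟨t, u, v, β, Subtype.ext e.symm⟩
  · rintro ⟨t, u, v, β, rfl⟩
    exact mul_mem (U_le_B (tU_mem_U _ _ _)) (H_le_B (tH_mem_H hK _))

lemma tW_mem_N : ((tW K m : RT K m) : GL chevG2.Idx K) ∈ chevG2.monomialSubgroup K := rW_mem_N

lemma mem_N_iff (g : RT K m) : (g : GL chevG2.Idx K) ∈ chevG2.monomialSubgroup K ↔ (∃ β, g = tH hK β) ∨ ∃ β, g = tH hK β * tW K m := by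
  constructor
  · intro h
    rcases tcases hK g with ⟨t, u, v, β, rfl⟩ | ⟨t, u, v, β, t', u', v', rfl⟩
    · left
      have h1 : ((tU m t u v * tH hK β : RT K m) : GL chevG2.Idx K) ∈ chevG2.borelSubgroup K ⊓ chevG2.monomialSubgroup K :=
        Subgroup.mem_inf.mpr ⟨(mem_B_iff hK _).mpr ⟨t, u, v, β, rfl⟩, h⟩
      rw [borel_inf_monomial TG2.checks TG2.checks2 TG2.checks3] at h1
      exact (mem_H_iff hK _).mp h1
    · right
      set g := tU m t u v * tH hK β * tW K m * tU m t' u' v' with hg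
      have e1 : (((tU m t u v * tH hK β : RT K m) : GL chevG2.Idx K)) * ((tW K m : RT K m) : GL chevG2.Idx K) * ((tU m t' u' v' : RT K m) : GL chevG2.Idx K) = 1 * (g : GL chevG2.Idx K) * 1 := by
        rw [one_mul, mul_one, hg]; rfl
      have e2 := dc_unique TG2.checks TG2.checks2 TG2.checks3 ((mem_B_iff hK _).mpr ⟨t, u, v, β, rfl⟩) (one_mem _) (tW_mem_N hK) h (U_le_B (tU_mem_U _ _ _)) (one_mem _) e1
      have e3 : (((tW K m)⁻¹ * g : RT K m) : GL chevG2.Idx K) ∈ chevG2.diagonalSubgroup K := e2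
      obtain ⟨β₁, e4⟩ := (mem_H_iff hK _).mp e3
      refine ⟨β₁⁻¹, ?_⟩
      rw [inv_mul_eq_iff_eq_mul] at e4
      rw [e4, tW_tH hK]
  · rintro (⟨β, rfl⟩ | ⟨β, rfl⟩)
    · exact H_le_N (tH_mem_H hK _)
    · exact mul_mem (H_le_N (tH_mem_H hK _)) (tW_mem_N hK)

lemma tW_ne_H (β : Kˣ) : tW K m ≠ tH hK β := by
  intro h
  apply rW_not_mem_B (K := K)
  have := H_le_B (tH_mem_H hK β)
  rw [← h] at this
  exact this

end Cfsg.Agent.H10
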