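import Cfsg.Agent.Lib.H10.ReeT

/-!
# The small Ree group: the subgroups `U¹` and `H¹`
-/

set_option autoImplicit false
set_option linter.style.longLine false
set_option linter.unusedSimpArgs false
set_option linter.unusedSectionVars false
set_option maxRecDepth 100000

open Cfsg Cfsg.Lie Cfsg.Agent.H04.Chev
open scoped MatrixGroups

namespace Cfsg.Agent.H10

variable {K : Type*} [Field K] [CharP K 3] {m : ℕ}

lemma reeWordU_mat (t u v : K) :
    chevG2.wordMat K (reeWordU (3 ^ m) t u v) = (((tU m t u v : RT K m) : GL chevG2.Idx K) : Matrix chevG2.Idx chevG2.Idx K) := by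
  have := rU_word (reeF_pow m) t u v
  rw [tU_val, ← this, wordG_val]

variable [Fintype K] (hK : Fintype.card K = 3 ^ (2 * m + 1))
include hK

lemma mem_U1_iff (g : GL chevG2.Idx K) : g ∈ chevG2.posUnipotent K ⊓ twistedG2 K (3 ^ m) ↔ ∃ t u v : K, g = ((tU m t u v : RT K m) : GL chevG2.Idx K) := by
  constructor
  · intro h
    have h1 := Subgroup.mem_inf.mp h
    obtain ⟨t, u, v, e⟩ := (mem_U_iff hK ⟨g, h1.2⟩).mp h1.1
    exact ⟨t, u, v, congrArg Subtype.val e⟩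
  · rintro ⟨t, u, v, rfl⟩
    exact Subgroup.mem_inf.mpr ⟨tU_mem_U _ _ _, (tU m t u v : RT K m).2⟩

lemma mem_H1_iff (g : GL chevG2.Idx K) : g ∈ chevG2.diagonalSubgroup K ⊓ twistedG2 K (3 ^ m) ↔ ∃ β, g = ((tH hK β : RT K m) : GL chevG2.Idx K) := by
  constructor
  · intro h
    have h1 := Subgroup.mem_inf.mp h
    obtain ⟨β, e⟩ := (mem_H_iff hK ⟨g, h1.2⟩).mp h1.1
    exact ⟨β, congrArg Subtype.val e⟩
  · rintro ⟨β, rfl⟩
    exact Subgroup.mem_inf.mpr ⟨tH_mem_H hK _, (tH hK β : RT K m).2⟩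

/-- the parametrisation of `U¹` -/
noncomputable def tUpar : K × K × K ≃ ↥(chevG2.posUnipotent K ⊓ twistedG2 K (3 ^ m)) :=
  Equiv.ofBijective (fun p => ⟨((tU m p.1 p.2.1 p.2.2 : RT K m) : GL chevG2.Idx K), (mem_U1_iff hK _).mpr ⟨_, _, _, rfl⟩⟩) (by
    constructor
    · rintro ⟨t, u, v⟩ ⟨t', u', v'⟩ h
      have h1 := congrArg Subtype.val h
      obtain ⟨rfl, rfl, rfl⟩ := tU_inj (Subtype.ext h1)
      rfl
    · rintro ⟨g, hg⟩
      obtain ⟨t, u, v, rfl⟩ := (mem_U1_iff hK g).mp hg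
      exact ⟨(t, u, v), rfl⟩)

lemma card_U1 : Nat.card ↥(chevG2.posUnipotent K ⊓ twistedG2 K (3 ^ m)) = Fintype.card K ^ 3 := by
  rw [← Nat.card_congr (tUpar hK)]
  simp only [Nat.card_eq_fintype_card, Fintype.card_prod]
  ring

/-- the isomorphism of `Kˣ` and `H¹` -/
noncomputable def tHequiv : Kˣ ≃* ↥(chevG2.diagonalSubgroup K ⊓ twistedG2 K (3 ^ m)) :=
  MulEquiv.ofBijective
    ({ toFun := fun β => ⟨((tH hK β : RT K m) : GL chevG2.Idx K), (mem_H1_iff hK _).mpr ⟨_, rfl⟩⟩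
       map_one' := by
        apply Subtype.ext
        show ((tH hK (1 : Kˣ) : RT K m) : GL chevG2.Idx K) = 1
        rw [tH_one]; rfl
       map_mul' := fun β γ => by
        apply Subtype.ext
        show ((tH hK (β * γ) : RT K m) : GL chevG2.Idx K) = _
        rw [tH_mul]; rfl } : Kˣ →* ↥(chevG2.diagonalSubgroup K ⊓ twistedG2 K (3 ^ m))) (by
    constructor
    · intro β γ h
      have h1 := congrArg Subtype.val h
      exact tH_inj hK (Subtype.ext h1)
    · rintro ⟨g, hg⟩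
      obtain ⟨β, rfl⟩ := (mem_H1_iff hK g).mp hg
      exact ⟨β, rfl⟩)

lemma tHequiv_val (β : Kˣ) : ((tHequiv hK β : ↥(chevG2.diagonalSubgroup K ⊓ twistedG2 K (3 ^ m))) : GL chevG2.Idx K) = ((tH hK β : RT K m) : GL chevG2.Idx K) := rfl

lemma card_H1 : Nat.card ↥(chevG2.diagonalSubgroup K ⊓ twistedG2 K (3 ^ m)) = Fintype.card K - 1 := by
  rw [← Nat.card_congr (tHequiv hK).toEquiv, Nat.card_units, Nat.card_eq_fintype_card]

lemma isCyclic_H1 : IsCyclic ↥(chevG2.diagonalSubgroup K ⊓ twistedG2 K (3 ^ m)) :=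
  isCyclic_of_surjective (tHequiv hK).toMonoidHom (tHequiv hK).surjective

/-- elements of the torus centralizing an element of `U¹` -/
lemma tH_comm_iff (β : Kˣ) (t u v : K) :
    tH hK β * tU m t u v = tU m t u v * tH hK β ↔ (β : K) * t = t ∧ reeF K m β ^ 3 * β * u = u ∧ reeF K m β ^ 3 * β ^ 2 * v = v := by
  rw [← mul_inv_eq_iff_eq_mul, tH_conj hK]
  constructor
  · exact fun h => tU_inj h
  · rintro ⟨h1, h2, h3⟩
    rw [h1, h2, h3]

/-- `(fβ)³ β = 1` forces `β² = 1` -/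
lemma ree_c1_one {β : Kˣ} (h : reeF K m β ^ 3 * β = 1) : (β : K) ^ 2 = 1 := by
  have hf := reeF_tits hK
  have h1 : reeF K m (reeF K m β ^ 3 * β) = 1 := by rw [h, map_one]
  rw [map_mul, hf.pow3] at h1
  have h2 : (β : K) ≠ 0 := β.ne_zero
  have h3 : reeF K m (β : K) = (β : K)⁻¹ := eq_inv_of_mul_eq_one_right h1
  rw [h3] at h
  field_simp at h
  exact h.symm

/-- `(fβ)³ β² = 1` forces `β = 1` -/
lemma ree_c2_one {β : Kˣ} (h : reeF K m β ^ 3 * β ^ 2 = 1) : (β : K) = 1 := by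
  have hf := reeF_tits hK
  have h1 : reeF K m (reeF K m β ^ 3 * β ^ 2) = 1 := by rw [h, map_one]
  rw [map_mul, hf.pow3, map_pow] at h1
  have h4 : reeF K m (β : K) = 1 := by
    calc reeF K m (β : K) = reeF K m (β : K) * (reeF K m β ^ 3 * β ^ 2) := by rw [h, mul_one]
      _ = (β * reeF K m (β : K) ^ 2) ^ 2 := by ring
      _ = 1 := by rw [h1]; norm_num
  rw [h4] at h1
  simpa using h1

end Cfsg.Agent.H10
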