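import Cfsg.Agent.Lib.H10.ReeSimple

/-!
# The small Ree group: orders in `U¹` and `H¹`
-/

set_option autoImplicit false
set_option linter.style.longLine false
set_option linter.unusedSimpArgs false
set_option linter.unusedSectionVars false
set_option maxRecDepth 100000

open Cfsg Cfsg.Lie Cfsg.Agent.H04.Chev
open scoped MatrixGroups commutatorElement

namespace Cfsg.Agent.H10

/-- in a cyclic group of order `2n`, `n` odd, there are `n` elements of odd order -/
lemma card_odd_order_cyclic {C : Type*} [CommGroup C] [IsCyclic C] [Finite C] {n : ℕ} (hn : Odd n) (hC : Nat.card C = 2 * n) :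
    Nat.card {x : C // Odd (orderOf x)} = n := by
  have h1 : ∀ x : C, Odd (orderOf x) ↔ x ∈ (powMonoidHom n : C →* C).ker := by
    intro x
    rw [MonoidHom.mem_ker, powMonoidHom_apply, ← orderOf_dvd_iff_pow_eq_one]
    constructor
    · intro h
      have h2 : orderOf x ∣ 2 * n := hC ▸ orderOf_dvd_natCard x
      have h3 : Nat.Coprime (orderOf x) 2 := (Nat.coprime_two_right).mpr h
      exact h3.dvd_of_dvd_mul_left h2
    · exact fun h => Odd.of_dvd_nat hn h
  have h2 : {x : C // Odd (orderOf x)} ≃ (powMonoidHom n : C →* C).ker := Equiv.subtypeEquivRight h1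
  rw [Nat.card_congr h2, IsCyclic.card_powMonoidHom_ker, hC]
  exact Nat.gcd_eq_right (Nat.dvd_mul_left n 2)

variable {K : Type*} [Field K] [CharP K 3] {m : ℕ} [Fintype K] (hK : Fintype.card K = 3 ^ (2 * m + 1))
include hK

lemma card_odd_H1 : 2 * Nat.card {h : ↥(chevG2.diagonalSubgroup K ⊓ twistedG2 K (3 ^ m)) // Odd (orderOf h)} = 3 ^ (2 * m + 1) - 1 := by
  have h1 : Nat.card Kˣ = 3 ^ (2 * m + 1) - 1 := by
    rw [Nat.card_units, Nat.card_eq_fintype_card, hK]
  have h2 : 3 ^ (2 * m + 1) % 4 = 3 := ree_card_mod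
  have h3 : Odd ((3 ^ (2 * m + 1) - 1) / 2) := by
    rw [Nat.odd_iff]
    omega
  have h4 : Nat.card Kˣ = 2 * ((3 ^ (2 * m + 1) - 1) / 2) := by
    rw [h1]; omega
  have e : {β : Kˣ // Odd (orderOf β)} ≃ {h : ↥(chevG2.diagonalSubgroup K ⊓ twistedG2 K (3 ^ m)) // Odd (orderOf h)} :=
    Equiv.subtypeEquiv (tHequiv hK).toEquiv (fun β => by
      show _ ↔ Odd (orderOf (tHequiv hK β))
      rw [MulEquiv.orderOf_eq])
  rw [← Nat.card_congr e, card_odd_order_cyclic h3 h4]
  omega

/-- an odd-order element of `H¹` acts fixed point freely on `U¹` -/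
lemma odd_H_fpf {β : Kˣ} (h1 : β ≠ 1) (h2 : Odd (orderOf β)) {t u v : K}
    (e : tH hK β * tU m t u v = tU m t u v * tH hK β) : t = 0 ∧ u = 0 ∧ v = 0 := by
  obtain ⟨e1, e2, e3⟩ := (tH_comm_iff hK β t u v).mp e
  have hβ : (β : K) ≠ 1 := fun h => h1 (Units.ext h)
  have ht : t = 0 := by
    have : ((β : K) - 1) * t = 0 := by linear_combination e1
    exact (mul_eq_zero.mp this).resolve_left (sub_ne_zero.mpr hβ)
  refine ⟨ht, ?_, ?_⟩
  · by_contra hu
    have hc : reeF K m β ^ 3 * β = 1 := by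
      have : (reeF K m β ^ 3 * β - 1) * u = 0 := by linear_combination e2
      exact sub_eq_zero.mp ((mul_eq_zero.mp this).resolve_right hu)
    have hs := ree_c1_one hK hc
    have hs2 : β ^ 2 = 1 := Units.ext (by simpa using hs)
    have h3 : orderOf β ∣ 2 := orderOf_dvd_of_pow_eq_one hs2
    have h4 : Nat.Coprime (orderOf β) 2 := (Nat.coprime_two_right).mpr h2
    have h5 : orderOf β = 1 := Nat.Coprime.eq_one_of_dvd h4 h3
    exact h1 (orderOf_eq_one_iff.mp h5)
  · by_contra hv
    have hc : reeF K m β ^ 3 * β ^ 2 = 1 := by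
      have : (reeF K m β ^ 3 * β ^ 2 - 1) * v = 0 := by linear_combination e3
      exact sub_eq_zero.mp ((mul_eq_zero.mp this).resolve_right hv)
    exact hβ (ree_c2_one hK hc)

theorem H1_fpf (h : GL chevG2.Idx K) (hh : h ∈ chevG2.diagonalSubgroup K ⊓ twistedG2 K (3 ^ m)) (h1 : h ≠ 1) (h2 : Odd (orderOf h)) :
    (chevG2.posUnipotent K ⊓ twistedG2 K (3 ^ m)) ⊓ Subgroup.centralizer {h} = ⊥ := by
  obtain ⟨β, rfl⟩ := (mem_H1_iff hK h).mp hh
  have hord : orderOf ((tH hK β : RT K m) : GL chevG2.Idx K) = orderOf β := by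
    have e : ((tH hK β : RT K m) : GL chevG2.Idx K) = (twistedG2 K (3 ^ m)).subtype (tHom hK β) := rfl
    rw [e, orderOf_injective _ (twistedG2 K (3 ^ m)).subtype_injective, orderOf_injective]
    intro a b hab
    exact tH_inj hK hab
  rw [hord] at h2
  have hne : β ≠ 1 := by
    rintro rfl
    apply h1
    rw [tH_one]
    rfl
  rw [eq_bot_iff]
  intro g hg
  have hg1 := Subgroup.mem_inf.mp hg
  obtain ⟨t, u, v, rfl⟩ := (mem_U1_iff hK g).mp hg1.1
  have hc := Subgroup.mem_centralizer_iff.mp hg1.2 _ rfl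
  have hc' : tH hK β * tU m t u v = tU m t u v * tH hK β := Subtype.ext hc
  obtain ⟨rfl, rfl, rfl⟩ := odd_H_fpf hK hne h2 hc'
  rw [tU_zero]
  exact one_mem _

/-- membership in `H¹` of an element of `N¹` -/
lemma N_mul_H {a b : RT K m} (ha : (a : GL chevG2.Idx K) ∈ chevG2.monomialSubgroup K) (hb : (b : GL chevG2.Idx K) ∈ chevG2.monomialSubgroup K)
    (ha' : (a : GL chevG2.Idx K) ∉ chevG2.diagonalSubgroup K) (hb' : (b : GL chevG2.Idx K) ∉ chevG2.diagonalSubgroup K) :
    ((a * b : RT K m) : GL chevG2.Idx K) ∈ chevG2.diagonalSubgroup K := by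
  rcases (mem_N_iff hK a).mp ha with ⟨β, rfl⟩ | ⟨β, rfl⟩
  · exact absurd (tH_mem_H hK β) ha'
  rcases (mem_N_iff hK b).mp hb with ⟨γ, rfl⟩ | ⟨γ, rfl⟩
  · exact absurd (tH_mem_H hK γ) hb'
  refine (mem_H_iff hK _).mpr ⟨β * γ⁻¹, ?_⟩
  rw [tH_mul]
  calc tH hK β * tW K m * (tH hK γ * tW K m) = tH hK β * (tW K m * tH hK γ) * tW K m := by group
    _ = tH hK β * (tH hK γ⁻¹ * tW K m) * tW K m := by rw [tW_tH]
    _ = tH hK β * tH hK γ⁻¹ * (tW K m * tW K m) := by group
    _ = _ := by rw [tW_sq, mul_one]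

/-- the sign on the monomial subgroup -/
theorem exists_N_sign :
    ∃ φ : ↥(chevG2.monomialSubgroup K ⊓ twistedG2 K (3 ^ m)) →* Multiplicative (ZMod 2), Function.Surjective φ ∧
      φ.ker = (chevG2.diagonalSubgroup K ⊓ twistedG2 K (3 ^ m)).subgroupOf (chevG2.monomialSubgroup K ⊓ twistedG2 K (3 ^ m)) := by
  classical
  let P : ↥(chevG2.monomialSubgroup K ⊓ twistedG2 K (3 ^ m)) → Prop := fun n => (n : GL chevG2.Idx K) ∈ chevG2.diagonalSubgroup K
  have hT : ∀ n : ↥(chevG2.monomialSubgroup K ⊓ twistedG2 K (3 ^ m)), (n : GL chevG2.Idx K) ∈ twistedG2 K (3 ^ m) := fun n => (Subgroup.mem_inf.mp n.2).2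
  have hN : ∀ n : ↥(chevG2.monomialSubgroup K ⊓ twistedG2 K (3 ^ m)), (n : GL chevG2.Idx K) ∈ chevG2.monomialSubgroup K := fun n => (Subgroup.mem_inf.mp n.2).1
  let φ : ↥(chevG2.monomialSubgroup K ⊓ twistedG2 K (3 ^ m)) →* Multiplicative (ZMod 2) :=
    MonoidHom.mk' (fun n => if P n then 1 else Multiplicative.ofAdd 1) (by
      intro a b
      by_cases ha : P a <;> by_cases hb : P b
      · have : P (a * b) := mul_mem ha hb
        simp only [this, ha, hb, if_true, mul_one]
      · have : ¬ P (a * b) := fun h => hb (by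
          have h2 : (b : GL chevG2.Idx K) = (a : GL chevG2.Idx K)⁻¹ * ((a * b : ↥(chevG2.monomialSubgroup K ⊓ twistedG2 K (3 ^ m))) : GL chevG2.Idx K) := by
            simp
          show (b : GL chevG2.Idx K) ∈ _
          rw [h2]
          exact mul_mem (inv_mem ha) h)
        simp only [this, ha, hb, if_true, if_false, one_mul]
      · have : ¬ P (a * b) := fun h => ha (by
          have h2 : (a : GL chevG2.Idx K) = ((a * b : ↥(chevG2.monomialSubgroup K ⊓ twistedG2 K (3 ^ m))) : GL chevG2.Idx K) * (b : GL chevG2.Idx K)⁻¹ := by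
            simp
          show (a : GL chevG2.Idx K) ∈ _
          rw [h2]
          exact mul_mem h (inv_mem hb))
        simp only [this, ha, hb, if_true, if_false, mul_one]
      · have : P (a * b) := by
          have := N_mul_H hK (a := ⟨a, hT a⟩) (b := ⟨b, hT b⟩) (hN a) (hN b) ha hb
          exact this
        simp only [this, ha, hb, if_true, if_false]
        rfl)
  refine ⟨φ, ?_, ?_⟩
  · intro y
    have hW : ((tW K m : RT K m) : GL chevG2.Idx K) ∈ chevG2.monomialSubgroup K ⊓ twistedG2 K (3 ^ m) := Subgroup.mem_inf.mpr ⟨tW_mem_N hK, (tW K m).2⟩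
    have hWP : ¬ P ⟨_, hW⟩ := by
      intro h
      obtain ⟨β, e⟩ := (mem_H_iff hK (tW K m)).mp h
      exact tW_ne_H hK β e
    have hall : ∀ y : Multiplicative (ZMod 2), y = 1 ∨ y = Multiplicative.ofAdd 1 := by decide
    rcases hall y with rfl | rfl
    · exact ⟨1, map_one φ⟩
    · refine ⟨⟨_, hW⟩, ?_⟩
      show (if P ⟨_, hW⟩ then 1 else Multiplicative.ofAdd 1) = _
      rw [if_neg hWP]
  · ext n
    rw [MonoidHom.mem_ker, Subgroup.mem_subgroupOf, Subgroup.mem_inf]
    have hne : (Multiplicative.ofAdd (1 : ZMod 2)) ≠ 1 := by decide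
    show (if P n then 1 else Multiplicative.ofAdd 1) = 1 ↔ _
    constructor
    · intro h
      by_cases hn : P n
      · exact ⟨hn, hT n⟩
      · rw [if_neg hn] at h
        exact absurd h hne
    · intro h
      rw [if_pos h.1]

/-- the cube of an element of `U¹` -/
lemma tU_cube (t u v : K) : tU m t u v ^ 3 = tU m 0 0 (-(t ^ 2 * reeF K m t ^ 3)) := by
  have h3 : (3 : K) = 0 := ree_three
  rw [pow_succ, pow_two, tU_mul hK, tU_mul hK]
  congr 1
  · linear_combination t * h3
  · linear_combination (u - t * reeF K m t ^ 3) * h3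
  · linear_combination (v - t * u + t ^ 2 * reeF K m t ^ 3) * h3 - t ^ 2 * reeF K m t ^ 3 * h3 

lemma tU_cube0 (u v : K) : tU m (0 : K) u v ^ 3 = 1 := by
  rw [tU_cube hK]
  simp [tU_zero]

lemma orderOf_tU_eq_three_iff (t u v : K) : orderOf (tU m t u v) = 3 ↔ t = 0 ∧ (u ≠ 0 ∨ v ≠ 0) := by
  constructor
  · intro h
    have h1 : tU m t u v ^ 3 = 1 := by
      have := pow_orderOf_eq_one (tU m t u v)
      rwa [h] at this
    rw [tU_cube hK, ← tU_zero (K := K) (m := m)] at h1
    obtain ⟨-, -, h2⟩ := tU_inj h1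
    have ht : t = 0 := by
      have h4 : t ^ 2 * reeF K m t ^ 3 = 0 := by simpa using h2
      rcases mul_eq_zero.mp h4 with h5 | h5
      · exact pow_eq_zero_iff (two_ne_zero) |>.mp h5
      · have := pow_eq_zero_iff (three_ne_zero) |>.mp h5
        exact (map_eq_zero _).mp this
    refine ⟨ht, ?_⟩
    by_contra hno
    push Not at hno
    obtain ⟨rfl, rfl⟩ := hno
    subst ht
    rw [tU_zero] at h
    simp at h
  · rintro ⟨rfl, hne⟩
    haveI : Fact (Nat.Prime 3) := ⟨Nat.prime_three⟩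
    apply orderOf_eq_prime (tU_cube0 hK u v)
    intro h
    rw [← tU_zero (K := K) (m := m)] at h
    obtain ⟨-, h2, h3⟩ := tU_inj h
    rcases hne with h4 | h4
    · exact h4 h2
    · exact h4 h3

/-- the count of the elements of order three in `U¹` -/
theorem card_order3_U1 : Nat.card {u : ↥(chevG2.posUnipotent K ⊓ twistedG2 K (3 ^ m)) // orderOf u = 3} = Fintype.card K ^ 2 - 1 := by
  classical
  have h0 : ∀ p : K × K × K, orderOf (tUpar hK p) = orderOf (tU m p.1 p.2.1 p.2.2 : RT K m) := by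
    intro p
    have e : (tUpar hK p : GL chevG2.Idx K) = ((tU m p.1 p.2.1 p.2.2 : RT K m) : GL chevG2.Idx K) := rfl
    rw [← orderOf_injective (chevG2.posUnipotent K ⊓ twistedG2 K (3 ^ m)).subtype (Subgroup.subtype_injective _) (tUpar hK p),
      ← orderOf_injective (twistedG2 K (3 ^ m)).subtype (Subgroup.subtype_injective _) (tU m p.1 p.2.1 p.2.2 : RT K m)]
    rfl
  let e : {q : K × K // q ≠ (0, 0)} ≃ {u : ↥(chevG2.posUnipotent K ⊓ twistedG2 K (3 ^ m)) // orderOf u = 3} :=
    { toFun := fun q => ⟨tUpar hK (0, q.1.1, q.1.2), by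
        rw [h0, orderOf_tU_eq_three_iff hK]
        refine ⟨rfl, ?_⟩
        by_contra hno
        push Not at hno
        exact q.2 (Prod.ext hno.1 hno.2)⟩
      invFun := fun x => ⟨(((tUpar hK).symm x.1).2.1, ((tUpar hK).symm x.1).2.2), by
        intro h
        have h1 := x.2
        obtain ⟨p, hp⟩ := (tUpar hK).surjective x.1
        rw [← hp, h0, orderOf_tU_eq_three_iff hK] at h1
        rw [← hp, Equiv.symm_apply_apply] at h
        have h2 := congrArg Prod.fst h
        have h3 := congrArg Prod.snd h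
        simp only at h2 h3
        rcases h1.2 with h4 | h4
        · exact h4 h2
        · exact h4 h3⟩
      left_inv := fun q => by
        apply Subtype.ext
        simp
      right_inv := fun x => by
        apply Subtype.ext
        obtain ⟨p, hp⟩ := (tUpar hK).surjective x.1
        have h1 := x.2
        rw [← hp, h0, orderOf_tU_eq_three_iff hK] at h1
        simp only [← hp, Equiv.symm_apply_apply]
        congr 1
        exact Prod.ext h1.1.symm rfl }
  rw [← Nat.card_congr e]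
  rw [Nat.card_eq_fintype_card]
  have h5 := Set.card_ne_eq ((0, 0) : K × K)
  rw [Fintype.card_prod, ← sq] at h5
  rw [← h5]
  exact Fintype.card_congr (Equiv.refl _)

end Cfsg.Agent.H10
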