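import Cfsg.Agent.Lib.H10.ReeK3
import Cfsg.Agent.Lib.H10.ReeNum

/-!
# The small Ree group: the exceptional tori
-/

set_option autoImplicit false
set_option linter.style.longLine false
set_option linter.unusedSimpArgs false
set_option linter.unusedSectionVars false
set_option linter.style.haveILetI false
set_option maxRecDepth 100000

open Cfsg Cfsg.Lie Cfsg.Agent.H04.Chev Matrix
open scoped MatrixGroups commutatorElement Pointwise

namespace Cfsg.Agent.H10

variable {K : Type*} [Field K] [CharP K 3] {m : ℕ} [Fintype K] {hK : Fintype.card K = 3 ^ (2 * m + 1)}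

lemma IsRA.conj {A : Subgroup (RT K m)} (hA : IsRA hK A) (g : RT K m) : IsRA hK (A.map (MulAut.conj g).toMonoidHom) := by
  haveI := t_finite hK
  obtain ⟨s, z, hs, hsD, hz, rfl⟩ := hA
  refine ⟨s, g * z * g⁻¹, hs, hsD, by rw [orderOf_conj_eq, hz], ?_⟩
  rw [centralizer_conj]

/-- The set of all centralisers. -/
abbrev RAs (hK : Fintype.card K = 3 ^ (2 * m + 1)) := {A : Subgroup (RT K m) // IsRA hK A}

/-- Conjugation. -/
instance instActRAs (hK : Fintype.card K = 3 ^ (2 * m + 1)) : MulAction (RT K m) (RAs hK) where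
  smul g A := ⟨A.1.map (MulAut.conj g).toMonoidHom, A.2.conj g⟩
  one_smul A := by
    haveI := t_finite hK
    apply Subtype.ext
    ext y
    show y ∈ A.1.map (MulAut.conj (1 : RT K m)).toMonoidHom ↔ _
    rw [mem_map_conj_iff]
    simp
  mul_smul g h A := by
    haveI := t_finite hK
    apply Subtype.ext
    ext y
    show y ∈ A.1.map (MulAut.conj (g * h)).toMonoidHom ↔
      y ∈ (A.1.map (MulAut.conj h).toMonoidHom).map (MulAut.conj g).toMonoidHom
    rw [mem_map_conj_iff, mem_map_conj_iff, mem_map_conj_iff]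
    have e : (g * h)⁻¹ * y * (g * h) = h⁻¹ * (g⁻¹ * y * g) * h := by group
    rw [e]

lemma rsmul_val (g : RT K m) (A : RAs hK) : (g • A).1 = A.1.map (MulAut.conj g).toMonoidHom := rfl

lemma card_rsmul_val (g : RT K m) (A : RAs hK) : Nat.card (g • A).1 = Nat.card A.1 := by
  rw [rsmul_val]
  exact Subgroup.card_map_of_injective (MulAut.conj g).injective

lemma mem_rstabilizer_iff (g : RT K m) (A : RAs hK) :
    g ∈ MulAction.stabilizer (RT K m) A ↔ g ∈ Subgroup.normalizer (A.1 : Set (RT K m)) := by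
  haveI := t_finite hK
  rw [MulAction.mem_stabilizer_iff]
  constructor
  · intro h
    have h1 : (g • A).1 = A.1 := congrArg Subtype.val h
    rw [rsmul_val] at h1
    exact mem_normalizer_of_map_eq h1
  · intro h
    apply Subtype.ext
    rw [rsmul_val]
    exact map_eq_of_mem_normalizer h

/-- The orbit-stabiliser count. -/
lemma rcard_orbit_mul (A : RAs hK) :
    Nat.card (MulAction.orbit (RT K m) A) * Nat.card (Subgroup.normalizer (A.1 : Set (RT K m))) =
      Nat.card (RT K m) := by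
  have h := Nat.card_congr (MulAction.orbitProdStabilizerEquivGroup (RT K m) A)
  rw [Nat.card_prod] at h
  have e : MulAction.stabilizer (RT K m) A = Subgroup.normalizer (A.1 : Set (RT K m)) := by
    ext g
    exact mem_rstabilizer_iff g A
  rwa [e] at h

/-- Sum over orbits. -/
lemma rsum_over_orbits {G X : Type*} [Group G] [MulAction G X] [Fintype X]
    [Fintype (MulAction.orbitRel.Quotient G X)] (f : X → ℕ) (hf : ∀ (g : G) x, f (g • x) = f x) :
    ∑ x, f x = ∑ ω : MulAction.orbitRel.Quotient G X, Nat.card (MulAction.orbit G ω.out) * f ω.out := by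
  classical
  rw [← Equiv.sum_comp (MulAction.selfEquivSigmaOrbits G X).symm f, Fintype.sum_sigma]
  apply Finset.sum_congr rfl
  intro ω _
  have h : ∀ y : ↥(MulAction.orbit G ω.out), f ((MulAction.selfEquivSigmaOrbits G X).symm ⟨ω, y⟩) = f ω.out := by
    rintro ⟨y, g, rfl⟩
    exact hf g _
  simp only [h]
  rw [Finset.sum_const, Finset.card_univ, smul_eq_mul, Nat.card_eq_fintype_card]

noncomputable instance instFintypeRAs (hK : Fintype.card K = 3 ^ (2 * m + 1)) : Fintype (RAs hK) :=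
  haveI := t_finite hK
  Fintype.ofFinite _

/-- The elements of order dividing `D` are partitioned by the subgroups. -/
theorem card_DT_eq (hK : Fintype.card K = 3 ^ (2 * m + 1)) :
    Nat.card {x : RT K m // DT x} = ∑ A : RAs hK, (Nat.card A.1 - 1) := by
  classical
  haveI := t_finite hK
  haveI : Fintype (RT K m) := Fintype.ofFinite _
  let e : {x : RT K m // DT x} ≃ Σ A : RAs hK, {y : ↥A.1 // y ≠ 1} :=
    { toFun := fun x => ⟨⟨_, isRA_centralizer hK x.2.2 x.2.1⟩, ⟨⟨x.1, Subgroup.mem_centralizer_singleton_iff.2 rfl⟩, fun h =>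
          x.2.1 (congrArg Subtype.val h)⟩⟩
      invFun := fun t => ⟨t.2.1.1, fun h => t.2.2 (Subtype.ext h), t.1.2.ord t.2.1.2⟩
      left_inv := fun x => rfl
      right_inv := by
        rintro ⟨⟨B, hB⟩, ⟨y, hy⟩, hy1⟩
        have h1 : y ≠ 1 := fun h => hy1 (Subtype.ext h)
        have e1 := hB.centralizer_eq hy h1
        subst e1
        rfl }
  rw [Nat.card_congr e, Nat.card_sigma]
  apply Finset.sum_congr rfl
  intro A _
  rw [Nat.card_eq_fintype_card, Nat.card_eq_fintype_card, Fintype.card_subtype_compl, Fintype.card_subtype_eq]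

/-- Different conjugacy classes have coprime orders. -/
theorem rcoprime_of_not_conj (hK : Fintype.card K = 3 ^ (2 * m + 1)) (A A' : RAs hK)
    (hne : ∀ g : RT K m, g • A ≠ A') : Nat.Coprime (Nat.card A.1) (Nat.card A'.1) := by
  haveI := t_finite hK
  rw [Nat.coprime_iff_gcd_eq_one]
  by_contra hcon
  obtain ⟨p, hpp, hp⟩ := Nat.exists_prime_and_dvd hcon
  haveI : Fact p.Prime := ⟨hpp⟩
  have hp1 : p ∣ Nat.card A.1 := dvd_trans hp (Nat.gcd_dvd_left _ _)
  have hp2 : p ∣ Nat.card A'.1 := dvd_trans hp (Nat.gcd_dvd_right _ _)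
  have hpD := dvd_trans hp1 A.2.card_dvd
  obtain ⟨y, hy⟩ := exists_prime_orderOf_dvd_card' p hp1
  obtain ⟨y', hy'⟩ := exists_prime_orderOf_dvd_card' p hp2
  have hyo : orderOf (y : RT K m) = p := by rw [← hy]; exact Subgroup.orderOf_coe y
  have hyo' : orderOf (y' : RT K m) = p := by rw [← hy']; exact Subgroup.orderOf_coe y'
  obtain ⟨g, hg⟩ := exists_conj_zpowers_of_cyclic (isCyclic_sylow_D hK hpD) hyo hyo'
  apply hne g
  apply Subtype.ext
  have h1 : g * y.1 * g⁻¹ ∈ A'.1 := (Subgroup.zpowers_le.2 y'.2) hg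
  have hy1 : y.1 ≠ 1 := by
    intro h
    rw [h, orderOf_one] at hyo
    exact hpp.one_lt.ne hyo
  have h2 : g * y.1 * g⁻¹ ≠ 1 := by
    intro h
    apply hy1
    have : y.1 = g⁻¹ * (g * y.1 * g⁻¹) * g := by group
    rw [this, h, mul_one, inv_mul_cancel]
  have e1 := A'.2.centralizer_eq h1 h2
  have e2 := A.2.centralizer_eq y.2 hy1
  rw [rsmul_val, ← e1, centralizer_conj]
  exact congrArg (fun B : Subgroup (RT K m) => B.map (MulAut.conj g).toMonoidHom) e2.symm

lemma ree_r_sq (m : ℕ) : (3 ^ (m + 1)) ^ 2 = 3 * 3 ^ (2 * m + 1) := by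
  ring

/-- The main theorem on the tori. -/
theorem exists_ree_tori (hK : Fintype.card K = 3 ^ (2 * m + 1)) (hm : 1 ≤ m) :
    ∃ A₁ A₂ : RAs hK, Nat.card A₁.1 = 3 ^ (2 * m + 1) + 3 ^ (m + 1) + 1 ∧
      Nat.card A₂.1 + 3 ^ (m + 1) = 3 ^ (2 * m + 1) + 1 ∧
      Nat.card (Subgroup.normalizer (A₁.1 : Set (RT K m))) = 6 * Nat.card A₁.1 ∧
      Nat.card (Subgroup.normalizer (A₂.1 : Set (RT K m))) = 6 * Nat.card A₂.1 ∧
      ∀ A : RAs hK, (∃ g : RT K m, g • A₁ = A) ∨ (∃ g : RT K m, g • A₂ = A) := by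
  classical
  haveI := t_finite hK
  set q := 3 ^ (2 * m + 1) with hq
  set r := 3 ^ (m + 1) with hr
  have hqr : r ^ 2 = 3 * q := ree_r_sq m
  have hq27 : 27 ≤ q := ree_q_ge hm
  let I := MulAction.orbitRel.Quotient (RT K m) (RAs hK)
  letI : Fintype I := Fintype.ofFinite _
  let rep : I → RAs hK := fun ω => Quotient.out ω
  let d : I → ℕ := fun ω => Nat.card (rep ω).1
  have hidx := fun ω => (rep ω).2.exists_index
  choose e he heN using hidx
  -- the sum
  have hcount := count_DT hK hm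
  rw [card_DT_eq hK] at hcount
  rw [rsum_over_orbits (G := RT K m) (X := RAs hK) (fun A => Nat.card A.1 - 1)
    (fun g A => by simp only [card_rsmul_val])] at hcount
  have hGpos : (0 : ℚ) < (Nat.card (RT K m) : ℚ) := by exact_mod_cast Nat.card_pos
  have hsum : ∑ i, ((d i : ℚ) - 1) / ((e i : ℚ) * d i) = (q : ℚ) * (q - 2) / (3 * reeDD m) := by
    have h1 : ∀ ω : I, (Nat.card (MulAction.orbit (RT K m) (rep ω)) : ℚ) * ((e ω : ℚ) * d ω) = Nat.card (RT K m) := by
      intro ω
      have := rcard_orbit_mul (rep ω)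
      rw [heN] at this
      exact_mod_cast this
    have h2 : ∀ ω : I, ((d ω : ℚ) - 1) / ((e ω : ℚ) * d ω) =
        (Nat.card (MulAction.orbit (RT K m) (rep ω)) : ℚ) * ((d ω : ℚ) - 1) / Nat.card (RT K m) := by
      intro ω
      have hed : (e ω : ℚ) * d ω ≠ 0 := by
        intro h0
        rw [← h1 ω, h0, mul_zero] at hGpos
        exact lt_irrefl _ hGpos
      rw [← h1 ω]
      have horb : (Nat.card (MulAction.orbit (RT K m) (rep ω)) : ℚ) ≠ 0 := by
        intro h0
        rw [← h1 ω, h0, zero_mul] at hGpos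
        exact lt_irrefl _ hGpos
      field_simp
    simp only [h2]
    rw [← Finset.sum_div]
    have hS : ∑ i, (Nat.card (MulAction.orbit (RT K m) (rep i)) : ℚ) * ((d i : ℚ) - 1) =
        ((∑ ω : I, Nat.card (MulAction.orbit (RT K m) (Quotient.out ω)) * (Nat.card ↥(Quotient.out ω).1 - 1) : ℕ) : ℚ) := by
      push_cast
      apply Finset.sum_congr rfl
      intro ω _
      have h5 : 1 ≤ Nat.card ↥(Quotient.out ω).1 := Nat.card_pos
      rw [Nat.cast_sub h5]
      rfl
    rw [hS]
    set S := ∑ ω : I, Nat.card (MulAction.orbit (RT K m) (Quotient.out ω)) * (Nat.card ↥(Quotient.out ω).1 - 1) with hSdef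
    have hG := card_T' (m := m) hK
    have hcount' : 3 * S = q ^ 4 * (q - 1) * (q + 1) * (q - 2) := hcount
    have h2h := reeH_spec m
    have h4n := reeN_spec m
    obtain ⟨t, ht⟩ : ∃ t, q = t + 2 := ⟨q - 2, by omega⟩
    have hq2 : (q : ℚ) = t + 2 := by exact_mod_cast ht
    have hS2 : 3 * (S : ℚ) = (q : ℚ) ^ 4 * ((q : ℚ) - 1) * (q + 1) * (q - 2) := by
      rw [ht] at hcount'
      simp only [show t + 2 - 1 = t + 1 by omega, show t + 2 - 2 = t by omega] at hcount'
      have : ((3 * S : ℕ) : ℚ) = (((t + 2) ^ 4 * (t + 1) * (t + 2 + 1) * t : ℕ) : ℚ) := by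
        rw [hcount']
      push_cast at this
      rw [hq2]
      linarith
    have hG2 : (Nat.card (RT K m) : ℚ) = (q : ℚ) ^ 3 * ((q : ℚ) - 1) * (q + 1) * reeDD m := by
      rw [hG]
      have e1 : ((2 * reeH m : ℕ) : ℚ) = (q : ℚ) - 1 := by
        have : ((2 * reeH m + 1 : ℕ) : ℚ) = ((q : ℕ) : ℚ) := by rw [h2h]
        push_cast at this ⊢
        linarith
      have e2 : ((4 * reeN m : ℕ) : ℚ) = (q : ℚ) + 1 := by
        have : ((4 * reeN m : ℕ) : ℚ) = ((q + 1 : ℕ) : ℚ) := by rw [h4n]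
        push_cast at this ⊢
        linarith
      have hqc : (3 : ℚ) ^ (2 * m + 1) = q := by
        rw [hq]
        push_cast
        rfl
      push_cast at e1 e2 ⊢
      rw [e1, e2, hqc]
    have hq0 : (q : ℚ) ≠ 0 := by
      have : (27 : ℚ) ≤ q := by exact_mod_cast hq27
      linarith
    have hq10 : (q : ℚ) - 1 ≠ 0 := by
      have : (27 : ℚ) ≤ q := by exact_mod_cast hq27
      intro h
      linarith
    have hq20 : (q : ℚ) + 1 ≠ 0 := by positivity
    have hD0 : (reeDD m : ℚ) ≠ 0 := by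
      have := reeD_pos m
      positivity
    rw [hG2, div_eq_div_iff (mul_ne_zero (mul_ne_zero (mul_ne_zero (pow_ne_zero _ hq0) hq10) hq20) hD0) (mul_ne_zero three_ne_zero hD0)]
    linear_combination (reeDD m : ℚ) * hS2
  have hrepne : ∀ i j : I, i ≠ j → ∀ g : RT K m, g • rep i ≠ rep j := by
    intro i j hij g h
    apply hij
    have h1 : (MulAction.orbitRel (RT K m) (RAs hK)) (rep j) (rep i) := by
      rw [MulAction.orbitRel_apply]
      exact ⟨g, h⟩
    have h2 : (Quotient.mk _ (rep j) : I) = Quotient.mk _ (rep i) := Quotient.sound h1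
    have h3 : ∀ ω : I, (Quotient.mk _ (rep ω) : I) = ω := fun ω => Quotient.out_eq ω
    rw [h3, h3] at h2
    exact h2.symm
  obtain ⟨i, j, hij, hall, hei, hej, hdi, hdj⟩ := ree_numeric q r (reeDD m) hqr hq27 (reeD_spec m) d e
    (fun ω => (rep ω).2.seven_le) (fun ω => (rep ω).2.card_dvd) he
    (fun i j hij => rcoprime_of_not_conj hK _ _ (hrepne i j hij)) hsum
  refine ⟨rep i, rep j, hdi, hdj, ?_, ?_, ?_⟩
  · rw [heN, hei]
  · rw [heN, hej]
  · intro A
    have h1 : ∃ g : RT K m, g • A = rep (Quotient.mk _ A) := by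
      have h2 : (MulAction.orbitRel (RT K m) (RAs hK)) (rep (Quotient.mk _ A)) A := Quotient.mk_out A
      rw [MulAction.orbitRel_apply] at h2
      obtain ⟨g, hg⟩ := h2
      exact ⟨g, hg⟩
    obtain ⟨g, hg⟩ := h1
    have h3 : g⁻¹ • rep (Quotient.mk _ A) = A := by
      rw [← hg, inv_smul_smul]
    rcases hall (Quotient.mk _ A) with h4 | h4
    · left
      rw [h4] at h3
      exact ⟨_, h3⟩
    · right
      rw [h4] at h3
      exact ⟨_, h3⟩

end Cfsg.Agent.H10
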