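import Cfsg.Agent.Lib.H10.ReeStr

/-!
# The small Ree group as the fixed points of the graph-field endomorphism
-/

set_option autoImplicit false
set_option linter.style.longLine false
set_option linter.unusedSimpArgs false
set_option maxRecDepth 100000

open Cfsg Cfsg.Lie Cfsg.Agent.H04.Chev
open scoped MatrixGroups

namespace Cfsg.Agent.H10
variable {K : Type*} [Field K]

/-- a field with `3 ^ n` elements (`n ≠ 0`) has characteristic three -/
lemma ree_charP [Fintype K] {m : ℕ} (hK : Fintype.card K = 3 ^ (2 * m + 1)) : CharP K 3 := by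
  obtain ⟨p, hp⟩ := CharP.exists K
  haveI := hp
  have hp1 : p.Prime := by
    rcases CharP.char_is_prime_or_zero K p with h | h
    · exact h
    · subst h
      exact absurd (CharP.charP_to_charZero K) (fun h0 => by
        haveI := h0
        exact not_finite K)
  haveI : Fact p.Prime := ⟨hp1⟩
  obtain ⟨n, hn⟩ := FiniteField.card K p
  have h3 : p ∣ 3 ^ (2 * m + 1) := by
    rw [← hK, hn.2]
    exact dvd_pow_self p (PNat.ne_zero n)
  have h4 := (Nat.prime_dvd_prime_iff_eq hp1 Nat.prime_three).mp (hp1.dvd_of_dvd_pow h3)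
  rwa [h4] at hp

variable [CharP K 3]

/-- the Tits endomorphism over the field with `3 ^ (2m+1)` elements -/
noncomputable def reeF (K : Type*) [Field K] [CharP K 3] (m : ℕ) : K →+* K :=
  haveI : Fact (Nat.Prime 3) := ⟨Nat.prime_three⟩
  iterateFrobenius K 3 m

lemma reeF_apply (m : ℕ) (t : K) : reeF K m t = t ^ 3 ^ m := by
  haveI : Fact (Nat.Prime 3) := ⟨Nat.prime_three⟩
  exact iterateFrobenius_def 3 m t

lemma reeF_tits [Fintype K] {m : ℕ} (hK : Fintype.card K = 3 ^ (2 * m + 1)) : ReeTits (reeF K m) := by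
  intro t
  simp only [reeF_apply]
  rw [← pow_mul, ← pow_mul]
  have : 3 * (3 ^ m * 3 ^ m) = Fintype.card K := by
    rw [hK]; ring
  rw [this, FiniteField.pow_card]

variable {f : K →+* K}

lemma rU_word {e : ℕ} (hfe : ∀ t, f t = t ^ e) (t u v : K) :
    wordG TG2.checks (reeWordU e t u v) = ((rU f t u v : ↥(G2 K)) : GL chevG2.Idx K) := by
  have e1 : t ^ (e + 1) = f t * t := by rw [hfe, pow_succ]
  have e2 : t ^ (2 * e + 1) = f t ^ 2 * t := by
    rw [hfe, pow_succ, ← pow_mul, mul_comm e 2]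
  simp only [reeWordU, wordG_cons, wordG_nil, mul_one, e1, e2, rU, Subgroup.coe_mul, rG_val, mul_assoc, hfe]
  rfl

lemma rG_conj_mul (a b : ↥(G2 K)) : rW * (a * b) * rW⁻¹ = (rW * a * rW⁻¹) * (rW * b * rW⁻¹) := by group

/-- the elements of `V¹` -/
noncomputable def rV (f : K →+* K) (t u v : K) : ↥(G2 K) := rW * rU f t u v * rW⁻¹

lemma rV_word {e : ℕ} (hfe : ∀ t, f t = t ^ e) (t u v : K) :
    wordG TG2.checks (reeWordV e t u v) = ((rV f t u v : ↥(G2 K)) : GL chevG2.Idx K) := by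
  have e1 : t ^ (e + 1) = f t * t := by rw [hfe, pow_succ]
  have e2 : t ^ (2 * e + 1) = f t ^ 2 * t := by
    rw [hfe, pow_succ, ← pow_mul, mul_comm e 2]
  have h : rV f t u v = rG (r := 4) (by decide) (-(f t)) * rG (r := 5) (by decide) (-t) * rG (r := 3) (by decide) (-(f t * t + f u)) * rG (r := 2) (by decide) (-(f t ^ 2 * t + f v)) * rG (r := 1) (by decide) (-u) * rG (r := 0) (by decide) (-v) := by
    simp only [rV, rU, rG_conj_mul, rW_conj]
  rw [h]
  simp only [reeWordV, reeWordU, Cfsg.Lie.ChevalleyDatum.negWord, List.map_cons, List.map_nil, wordG_cons, wordG_nil, mul_one, e1, e2, Subgroup.coe_mul, rG_val, mul_assoc, hfe]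
  rfl

lemma rV_fix (hf : ReeTits f) (t u v : K) : rV f t u v ∈ reeFix f :=
  mul_mem (mul_mem rW_fix (rU_fix hf t u v)) (inv_mem rW_fix)

/-- generators are fixed -/
theorem twisted_le {e : ℕ} (hfe : ∀ t, f t = t ^ e) (hf : ReeTits f) :
    twistedG2 K e ≤ (reeFix f).map (G2 K).subtype := by
  unfold twistedG2 Cfsg.Lie.ChevalleyDatum.genSubgroup
  rw [Subgroup.closure_le]
  rintro g ⟨w, ⟨t, u, v, rfl | rfl⟩, hg⟩
  · have e0 : g = wordG TG2.checks (reeWordU e t u v) := eq_wordG TG2.checks hg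
    rw [rU_word hfe] at e0
    subst e0
    exact ⟨_, rU_fix hf t u v, rfl⟩
  · have e0 : g = wordG TG2.checks (reeWordV e t u v) := eq_wordG TG2.checks hg
    rw [rV_word hfe] at e0
    subst e0
    exact ⟨_, rV_fix hf t u v, rfl⟩

lemma rU_mem_T {e : ℕ} (hfe : ∀ t, f t = t ^ e) (t u v : K) : ((rU f t u v : ↥(G2 K)) : GL chevG2.Idx K) ∈ twistedG2 K e := by
  refine Subgroup.subset_closure ⟨reeWordU e t u v, ⟨t, u, v, Or.inl rfl⟩, ?_⟩
  rw [← rU_word hfe, wordG_val]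

lemma rV_mem_T {e : ℕ} (hfe : ∀ t, f t = t ^ e) (t u v : K) : ((rV f t u v : ↥(G2 K)) : GL chevG2.Idx K) ∈ twistedG2 K e := by
  refine Subgroup.subset_closure ⟨reeWordV e t u v, ⟨t, u, v, Or.inr rfl⟩, ?_⟩
  rw [← rV_word hfe, wordG_val]

lemma rU_0u0 (u : K) : rU f 0 u 0 = x8 (f u) * x10 u := by
  simp [rU, rG_zero]

lemma rU_0uv (u v : K) : rU f 0 u v = x8 (f u) * x9 (f v) * x10 u * x11 v := by
  simp [rU, rG_zero]

lemma rV_eq (t u v : K) : rV f t u v = rW * rU f t u v * rW := by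
  rw [rV, rW_inv]

/-- the Weyl element lies in the group -/
lemma rW_word : rU f 0 1 0 * rV f 0 1 0 * rU f 0 1 0 = rW := by
  rw [rV_eq, rU_0u0, map_one]
  apply ree_ext
  simp only [map_mul, Units.val_mul, ree1_rW, ree1_x, reeM_8, reeM_10]
  have := ree_W_U (K := K)
  simp only [← mul_assoc] at this ⊢
  exact this

lemma rW_mem_T {e : ℕ} (hfe : ∀ t, f t = t ^ e) : ((rW (K := K) : ↥(G2 K)) : GL chevG2.Idx K) ∈ twistedG2 K e := by
  rw [← rW_word (f := f)]
  exact mul_mem (mul_mem (rU_mem_T hfe _ _ _) (rV_mem_T hfe _ _ _)) (rU_mem_T hfe _ _ _)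

/-- the torus elements in the group -/
lemma rH_word (hf : ReeTits f) (u : Kˣ) :
    rU f 0 u 0 * rV f 0 (u : K)⁻¹ 0 * rU f 0 u 0 * rW = rH f (Units.map (f : K →* K) u ^ 3 * u⁻¹) := by
  have h3 := hf.pow3 (u : K)
  have h4 : f (f (u : K)) ^ 3 = u := by rw [← map_pow]; exact h3
  have e1 : ((Units.map (f : K →* K) u ^ 3 * u⁻¹ : Kˣ) : K) = f u ^ 3 * (u : K)⁻¹ := by simp
  have e2 : f (f u ^ 3 * (u : K)⁻¹) = u * (f u)⁻¹ := by
    rw [map_mul, map_pow, map_inv₀, h4]
  generalize hβ : Units.map (f : K →* K) u ^ 3 * u⁻¹ = β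
  have e1' : (β : K) = f u ^ 3 * (u : K)⁻¹ := by rw [← hβ]; exact e1
  rw [rV_eq, rU_0u0, rU_0u0]
  apply ree_ext
  simp only [map_mul, Units.val_mul, ree1_rW, ree1_x, reeM_8, reeM_10, ree1_rH]
  have hu : (u : K) * (u : K)⁻¹ = 1 := mul_inv_cancel₀ u.ne_zero
  have hB : f (u : K) * (f (u : K))⁻¹ = 1 := mul_inv_cancel₀ ((map_ne_zero f).mpr u.ne_zero)
  have := ree_n_word (K := K) (u : K) (f u) (u : K)⁻¹ (f u)⁻¹ hu hB
  simp only [map_inv₀]
  simp only [← mul_assoc] at this ⊢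
  rw [this, e1', e2]
  congr 1
  · rw [mul_inv, inv_inv, mul_comm]
  · rw [mul_inv, inv_inv, inv_pow]

lemma rH_sq_mem_T {e : ℕ} (hfe : ∀ t, f t = t ^ e) (hf : ReeTits f) (s : Kˣ) : ((rH f (s ^ 2) : ↥(G2 K)) : GL chevG2.Idx K) ∈ twistedG2 K e := by
  set u : Kˣ := s * Units.map (f : K →* K) s ^ 3 with hu
  have e1 : Units.map (f : K →* K) u ^ 3 * u⁻¹ = s ^ 2 := by
    apply Units.ext
    have h1 : f (f (s : K)) ^ 3 = s := by rw [← map_pow]; exact hf.pow3 _
    have h2 := s.ne_zero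
    have h3 : f (s : K) ≠ 0 := (map_ne_zero f).mpr s.ne_zero
    simp only [hu, Units.val_mul, Units.val_pow_eq_pow_val, Units.coe_map, Units.val_inv_eq_inv_val, MonoidHom.coe_coe, map_mul, map_pow, mul_inv, mul_pow, ← pow_mul]
    rw [show f (f (s : K)) ^ (3 * 3) = (f (f (s : K)) ^ 3) ^ 3 by rw [pow_mul], h1]
    field_simp
  rw [← e1, ← rH_word hf]
  exact mul_mem (mul_mem (mul_mem (rU_mem_T hfe _ _ _) (rV_mem_T hfe _ _ _)) (rU_mem_T hfe _ _ _)) (rW_mem_T hfe)

lemma rH_neg_one_word : rU f 0 1 1 * rW * rU f (-1) 1 1 * rW * rU f 0 (-1) 1 * rW = rH f (-1) := by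
  have e1 : rU f (-1) 1 1 = x7 (-1) * x6 (-1) * x8 2 * x10 1 * x11 1 := by
    have h1 : (-1 : K) * -1 + 1 = 2 := by norm_num
    have h2 : (-1 : K) ^ 2 * -1 + 1 = 0 := by ring
    simp [rU, rG_zero, h1, h2, one_add_one_eq_two]
  rw [e1, rU_0uv, rU_0uv]
  apply ree_ext
  simp only [map_mul, Units.val_mul, ree1_rW, ree1_x, reeM_6, reeM_7, reeM_8, reeM_9, reeM_10, reeM_11, ree1_rH, map_one, map_neg]
  have := ree_Hm_word (K := K)
  simp only [← mul_assoc] at this ⊢
  rw [this]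
  ext i j
  fin_cases i <;> fin_cases j <;> simp [m7Hm, m7T]

lemma rH_neg_one_mem_T {e : ℕ} (hfe : ∀ t, f t = t ^ e) : ((rH f (-1) : ↥(G2 K)) : GL chevG2.Idx K) ∈ twistedG2 K e := by
  rw [← rH_neg_one_word]
  have h1 := rU_mem_T hfe (f := f)
  have h2 := rW_mem_T (K := K) hfe
  exact mul_mem (mul_mem (mul_mem (mul_mem (mul_mem (h1 _ _ _) h2) (h1 _ _ _)) h2) (h1 _ _ _)) h2

/-- in a finite field of order `3 mod 4`, exactly one of `±β` is a square -/
lemma ree_sq_or_neg [Fintype K] (hq : Fintype.card K % 4 = 3) (β : Kˣ) : (∃ s : Kˣ, β = s ^ 2) ∨ ∃ s : Kˣ, β = -1 * s ^ 2 := by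
  classical
  have hodd : ringChar K ≠ 2 := by
    intro h
    have h2 := FiniteField.even_card_of_char_two h
    omega
  by_cases h : IsSquare (β : K)
  · left
    obtain ⟨s, hs⟩ := h
    have hs0 : s ≠ 0 := by
      rintro rfl
      exact β.ne_zero (by simpa using hs)
    exact ⟨Units.mk0 s hs0, Units.ext (by simp [hs, sq])⟩
  · right
    have h1 : quadraticChar K (β : K) = -1 := quadraticChar_neg_one_iff_not_isSquare.mpr h
    have h2 : ¬ IsSquare (-1 : K) := by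
      rw [FiniteField.isSquare_neg_one_iff]
      simpa using hq
    have h3 : quadraticChar K (-1 : K) = -1 := quadraticChar_neg_one_iff_not_isSquare.mpr h2
    have h4 : quadraticChar K (-(β : K)) = 1 := by
      have : -(β : K) = (-1) * β := by ring
      rw [this, map_mul, h3, h1]; norm_num
    have hne : -(β : K) ≠ 0 := neg_ne_zero.mpr β.ne_zero
    obtain ⟨s, hs⟩ := ((quadraticChar_one_iff_isSquare hne).mp h4)
    have hs0 : s ≠ 0 := by
      rintro rfl
      exact hne (by simpa using hs)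
    refine ⟨Units.mk0 s hs0, Units.ext ?_⟩
    simp only [Units.val_mul, Units.val_neg, Units.val_one, Units.val_pow_eq_pow_val, Units.val_mk0]
    linear_combination -hs

lemma rH_mem_T [Fintype K] {e : ℕ} (hfe : ∀ t, f t = t ^ e) (hf : ReeTits f) (hq : Fintype.card K % 4 = 3) (β : Kˣ) :
    ((rH f β : ↥(G2 K)) : GL chevG2.Idx K) ∈ twistedG2 K e := by
  rcases ree_sq_or_neg hq β with ⟨s, rfl⟩ | ⟨s, rfl⟩
  · exact rH_sq_mem_T hfe hf s
  · rw [rH_mul]
    exact mul_mem (rH_neg_one_mem_T hfe) (rH_sq_mem_T hfe hf s)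

/-- the twisted group is the group of fixed points -/
theorem twisted_eq [Fintype K] {e : ℕ} (hfe : ∀ t, f t = t ^ e) (hf : ReeTits f) (hq : Fintype.card K % 4 = 3) :
    twistedG2 K e = (reeFix f).map (G2 K).subtype := by
  refine le_antisymm (twisted_le hfe hf) ?_
  rintro _ ⟨g, hg, rfl⟩
  rw [SetLike.mem_coe] at hg
  rcases ree_fix_cases hf hg with ⟨t, u, v, β, rfl⟩ | ⟨t, u, v, β, t', u', v', rfl⟩
  · exact mul_mem (rU_mem_T hfe _ _ _) (rH_mem_T hfe hf hq _)
  · exact mul_mem (mul_mem (mul_mem (rU_mem_T hfe _ _ _) (rH_mem_T hfe hf hq _)) (rW_mem_T hfe)) (rU_mem_T hfe _ _ _)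

lemma ree_card_mod {m : ℕ} : 3 ^ (2 * m + 1) % 4 = 3 := by
  induction m with
  | zero => rfl
  | succ n ih =>
    have : 3 ^ (2 * (n + 1) + 1) = 3 ^ (2 * n + 1) * 9 := by ring
    omega

lemma reeF_pow (m : ℕ) : ∀ t : K, reeF K m t = t ^ 3 ^ m := reeF_apply m

/-- the isomorphism of the twisted group and the fixed points -/
noncomputable def reeIso [Fintype K] {m : ℕ} (hK : Fintype.card K = 3 ^ (2 * m + 1)) :
    ↥(twistedG2 K (3 ^ m)) ≃* ↥(reeFix (reeF K m)) :=
  (MulEquiv.subgroupCongr (twisted_eq (reeF_pow m) (reeF_tits hK) (by rw [hK]; exact ree_card_mod))).trans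
    ((reeFix (reeF K m)).equivMapOfInjective (G2 K).subtype (G2 K).subtype_injective).symm

end Cfsg.Agent.H10
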