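import Mathlib

/-! Semisimple endomorphisms over a field: the characteristic polynomial determines the conjugacy class. -/

set_option autoImplicit false
set_option linter.unusedSectionVars false
set_option linter.unusedVariables false

namespace Cfsg.Agent.H10

open Polynomial Module

universe u v

section decomp

variable {F : Type u} [Field F] {V : Type v} [AddCommGroup V] [Module F V]

lemma pow_restrict_coe (L : Module.End F V) {W : Submodule F V} (hW : ∀ x ∈ W, L x ∈ W) (n : ℕ) (x : W) :
    (((L.restrict hW : Module.End F W) ^ n) x : V) = (L ^ n) (x : V) := by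
  induction n with
  | zero => simp
  | succ n ih =>
    rw [pow_succ', pow_succ', Module.End.mul_apply, Module.End.mul_apply, LinearMap.coe_restrict_apply, ih]

lemma aeval_restrict_coe (L : Module.End F V) {W : Submodule F V} (hW : ∀ x ∈ W, L x ∈ W) (f : F[X]) (x : W) :
    ((aeval (L.restrict hW : Module.End F W) f x : W) : V) = aeval L f (x : V) := by
  induction f using Polynomial.induction_on' with
  | add p q hp hq =>
    simp only [map_add, LinearMap.add_apply, Submodule.coe_add, hp, hq]
  | monomial n a =>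
    simp only [aeval_monomial, Module.End.mul_apply, Module.algebraMap_end_apply, Submodule.coe_smul,
      pow_restrict_coe]

lemma ker_aeval_inv (L : Module.End F V) (p : F[X]) :
    ∀ x ∈ LinearMap.ker (aeval L p), L x ∈ LinearMap.ker (aeval L p) := by
  intro x hx
  rw [LinearMap.mem_ker]
  have h1 : (aeval L p) (L x) = L ((aeval L p) x) := by
    have : aeval L p * L = L * aeval L p := by
      have h3 : aeval L (p * X) = aeval L (X * p) := by rw [mul_comm]
      simpa using h3
    exact congrFun (congrArg DFunLike.coe this) x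
  rw [h1, LinearMap.mem_ker.1 hx, map_zero]

/-- The action of the residue field of `p` on the kernel of `p(L)`. -/
noncomputable def kerAct (L : Module.End F V) (p : F[X]) :
    AdjoinRoot p →ₐ[F] Module.End F (LinearMap.ker (aeval L p)) :=
  Ideal.Quotient.liftₐ (Ideal.span {p}) (aeval (L.restrict (ker_aeval_inv L p) : Module.End F _)) (by
    intro a ha
    obtain ⟨c, rfl⟩ := Ideal.mem_span_singleton'.1 ha
    rw [map_mul]
    have h1 : aeval (L.restrict (ker_aeval_inv L p) : Module.End F _) p = 0 := by
      ext x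
      have h2 := aeval_restrict_coe L (ker_aeval_inv L p) p x
      rw [LinearMap.zero_apply]
      exact h2.trans x.2
    rw [h1, mul_zero])

lemma kerAct_root (L : Module.End F V) (p : F[X]) :
    kerAct L p (AdjoinRoot.root p) = L.restrict (ker_aeval_inv L p) := by
  change Ideal.Quotient.liftₐ (Ideal.span {p}) (aeval (L.restrict (ker_aeval_inv L p) : Module.End F _)) _ (AdjoinRoot.mk p X) = _
  change aeval (L.restrict (ker_aeval_inv L p) : Module.End F _) X = _
  simp

/-- Splitting off a simple summand. -/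
theorem exists_decomp (L : Module.End F V) (hL : L.IsSemisimple) {p : F[X]} (hp : Irreducible p)
    {v : V} (hv : v ≠ 0) (hpv : aeval L p v = 0) :
    ∃ (W : Submodule F V) (hW : ∀ x ∈ W, L x ∈ W) (e : (AdjoinRoot p × W) ≃ₗ[F] V),
      ∀ (a : AdjoinRoot p) (w : W), L (e (a, w)) = e (AdjoinRoot.root p * a, L.restrict hW w) := by
  classical
  haveI : Fact (Irreducible p) := ⟨hp⟩
  let ρ := kerAct L p
  let v' : LinearMap.ker (aeval L p) := ⟨v, hpv⟩
  have hv' : v' ≠ 0 := fun h => hv (congrArg Subtype.val h)
  let τ : AdjoinRoot p →ₗ[F] V :=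
    (Submodule.subtype _).comp ((LinearMap.applyₗ v').comp ρ.toLinearMap)
  have hτ : ∀ a, τ a = ((ρ a v' : LinearMap.ker (aeval L p)) : V) := fun _ => rfl
  have hτinj : Function.Injective τ := by
    rw [injective_iff_map_eq_zero]
    intro a ha
    by_contra hne
    have h1 : ρ a v' = 0 := Subtype.ext ((hτ a).symm.trans ha)
    have h2 : ρ (a⁻¹ * a) v' = 0 := by
      rw [map_mul, Module.End.mul_apply, h1, map_zero]
    rw [inv_mul_cancel₀ hne, map_one] at h2
    exact hv' h2
  have hτL : ∀ a, L (τ a) = τ (AdjoinRoot.root p * a) := by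
    intro a
    rw [hτ, hτ, map_mul, Module.End.mul_apply]
    change _ = ((kerAct L p (AdjoinRoot.root p) (ρ a v') : LinearMap.ker (aeval L p)) : V)
    rw [kerAct_root]
    rfl
  let Z : Submodule F V := LinearMap.range τ
  have hZ : Z ∈ L.invtSubmodule := by
    rw [Module.End.mem_invtSubmodule]
    rintro _ ⟨a, rfl⟩
    exact ⟨_, (hτL a).symm⟩
  obtain ⟨W, hW, hc⟩ := Module.End.isSemisimple_iff.1 hL Z hZ
  let τ' : AdjoinRoot p ≃ₗ[F] Z := LinearEquiv.ofInjective τ hτinj
  have hτ' : ∀ a, ((τ' a : Z) : V) = τ a := fun _ => rfl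
  let e : (AdjoinRoot p × W) ≃ₗ[F] V :=
    (τ'.prodCongr (LinearEquiv.refl F W)).trans (Submodule.prodEquivOfIsCompl Z W hc)
  have he : ∀ a w, e (a, w) = τ a + (w : V) := fun _ _ => rfl
  have hW' : ∀ x ∈ W, L x ∈ W := (Module.End.mem_invtSubmodule L).1 hW
  refine ⟨W, hW', e, ?_⟩
  intro a w
  rw [he, he, map_add, hτL]
  rfl

end decomp

section charpoly

variable {F : Type u} [Field F]

/-- The characteristic polynomial of multiplication by the root. -/
lemma charpoly_mul_root {p : F[X]} (hm : p.Monic) :
    haveI : Module.Finite F (AdjoinRoot p) := (AdjoinRoot.powerBasis' hm).finite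
    (LinearMap.mulLeft F (AdjoinRoot.root p)).charpoly = p := by
  have hp0 : p ≠ 0 := hm.ne_zero
  haveI : Module.Finite F (AdjoinRoot p) := (AdjoinRoot.powerBasis' hm).finite
  let b := AdjoinRoot.powerBasis hp0
  have h1 := charpoly_leftMulMatrix b
  rw [AdjoinRoot.minpoly_powerBasis_gen_of_monic hm] at h1
  rw [← LinearMap.charpoly_toMatrix _ b.basis]
  exact h1

variable {V : Type v} [AddCommGroup V] [Module F V] [FiniteDimensional F V]

/-- The characteristic polynomial after splitting off a simple summand. -/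
theorem charpoly_of_decomp {L : Module.End F V} {p : F[X]} (hm : p.Monic) {W : Submodule F V}
    (hW : ∀ x ∈ W, L x ∈ W) (e : (AdjoinRoot p × W) ≃ₗ[F] V)
    (he : ∀ (a : AdjoinRoot p) (w : W), L (e (a, w)) = e (AdjoinRoot.root p * a, L.restrict hW w)) :
    L.charpoly = p * (L.restrict hW : Module.End F W).charpoly := by
  classical
  haveI : Module.Finite F (AdjoinRoot p) := (AdjoinRoot.powerBasis' hm).finite
  have h1 : L = e.conj (LinearMap.prodMap (LinearMap.mulLeft F (AdjoinRoot.root p)) (L.restrict hW : Module.End F W)) := by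
    ext x
    obtain ⟨⟨a, w⟩, rfl⟩ := e.surjective x
    rw [he]
    simp [LinearEquiv.conj_apply]
  conv_lhs => rw [h1]
  rw [LinearEquiv.charpoly_conj, LinearMap.charpoly_prodMap, charpoly_mul_root hm]

lemma finrank_of_decomp {p : F[X]} (hm : p.Monic) {W : Submodule F V} (e : (AdjoinRoot p × W) ≃ₗ[F] V) :
    finrank F V = p.natDegree + finrank F W := by
  haveI : Module.Finite F (AdjoinRoot p) := (AdjoinRoot.powerBasis' hm).finite
  rw [← e.finrank_eq, Module.finrank_prod, (AdjoinRoot.powerBasis hm.ne_zero).finrank]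
  simp

lemma restrict_semisimple {L : Module.End F V} (hL : L.IsSemisimple) {W : Submodule F V} (hW : ∀ x ∈ W, L x ∈ W) :
    Module.End.IsSemisimple (L.restrict hW : Module.End F W) :=
  Module.End.IsSemisimple.restrict ((Module.End.mem_invtSubmodule L).2 hW) hL

/-- A monic irreducible factor. -/
lemma exists_monic_irreducible_dvd {f : F[X]} (hf : f ≠ 0) (hf1 : f.natDegree ≠ 0) :
    ∃ p : F[X], p.Monic ∧ Irreducible p ∧ p ∣ f := by
  obtain ⟨p₁, hp₁, hd₁⟩ := WfDvdMonoid.exists_irreducible_factor
      (fun h => hf1 (natDegree_eq_zero_of_isUnit h)) hf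
  have hp₁0 : p₁ ≠ 0 := hp₁.ne_zero
  have hlc : p₁.leadingCoeff ≠ 0 := leadingCoeff_ne_zero.2 hp₁0
  have hu : IsUnit (C p₁.leadingCoeff⁻¹) := isUnit_C.2 (isUnit_iff_ne_zero.2 (inv_ne_zero hlc))
  refine ⟨p₁ * C p₁.leadingCoeff⁻¹, monic_mul_leadingCoeff_inv hp₁0, (irreducible_mul_isUnit hu).2 hp₁, ?_⟩
  exact dvd_trans (associated_mul_unit_left _ _ hu).dvd hd₁

/-- Irreducible factors of the characteristic polynomial have nonzero kernel. -/
theorem exists_ker_of_dvd_charpoly : ∀ (n : ℕ) (V : Type v) [AddCommGroup V] [Module F V]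
    [FiniteDimensional F V] (L : Module.End F V), finrank F V = n → L.IsSemisimple → ∀ (p : F[X]),
    Irreducible p → p ∣ L.charpoly → ∃ v : V, v ≠ 0 ∧ aeval L p v = 0 := by
  intro n
  induction n using Nat.strong_induction_on with
  | _ n ih =>
    intro V _ _ _ L hn hL p hp hdvd
    classical
    -- `V` is nonzero
    have hV : Nontrivial V := by
      by_contra hnt
      rw [not_nontrivial_iff_subsingleton] at hnt
      have h1 : finrank F V = 0 := finrank_zero_of_subsingleton
      have h2 : L.charpoly.natDegree = 0 := by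
        rw [LinearMap.charpoly_natDegree, h1]
      have h3 : L.charpoly = 1 := (L.charpoly_monic).natDegree_eq_zero.1 h2
      rw [h3] at hdvd
      exact hp.not_isUnit (isUnit_of_dvd_one hdvd)
    -- an irreducible factor of the minimal polynomial
    have hint : IsIntegral F L := Algebra.IsIntegral.isIntegral L
    have hmin : (minpoly F L).natDegree ≠ 0 := by
      intro h
      exact minpoly.ne_one F L ((minpoly.monic hint).natDegree_eq_zero.1 h)
    obtain ⟨p₂, hp₂m, hp₂i, g, hg⟩ := exists_monic_irreducible_dvd (minpoly.ne_zero hint) hmin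
    have hg0 : aeval L g ≠ 0 := by
      intro h
      have hg1 : g ≠ 0 := by
        rintro rfl
        rw [mul_zero] at hg
        exact minpoly.ne_zero hint hg
      have h1 := minpoly.degree_le_of_ne_zero F L hg1 h
      rw [hg, degree_mul] at h1
      have h2 : 0 < p₂.degree := degree_pos_of_irreducible hp₂i
      have h3 : g.degree ≠ ⊥ := by
        rwa [Ne, degree_eq_bot]
      obtain ⟨a, ha⟩ := WithBot.ne_bot_iff_exists.1 h3
      obtain ⟨b, hb⟩ : ∃ b : ℕ, p₂.degree = b := ⟨p₂.natDegree, degree_eq_natDegree hp₂m.ne_zero⟩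
      rw [← ha, hb] at h1
      rw [hb] at h2
      have h4 : ((b + a : ℕ) : WithBot ℕ) ≤ a := by
        push_cast
        exact h1
      have h5 : b + a ≤ a := by exact_mod_cast h4
      have h6 : 0 < b := by exact_mod_cast h2
      omega
    obtain ⟨x, hx⟩ : ∃ x, aeval L g x ≠ 0 := by
      by_contra hcon
      push Not at hcon
      exact hg0 (LinearMap.ext hcon)
    have hv : aeval L p₂ (aeval L g x) = 0 := by
      have h1 : aeval L (minpoly F L) x = 0 := by
        rw [minpoly.aeval]
        rfl
      rw [hg, map_mul] at h1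
      exact h1
    obtain ⟨W, hW, e, he⟩ := exists_decomp L hL hp₂i hx hv
    have hchar := charpoly_of_decomp hp₂m hW e he
    rw [hchar] at hdvd
    rcases hp.prime.dvd_or_dvd hdvd with h1 | h1
    · -- associated factors
      obtain ⟨c, hc⟩ := (hp.associated_of_dvd hp₂i h1).symm.dvd
      refine ⟨_, hx, ?_⟩
      rw [hc, mul_comm, map_mul, Module.End.mul_apply, hv, map_zero]
    · have hfr := finrank_of_decomp hp₂m e
      have hpos : 0 < p₂.natDegree := hp₂i.natDegree_pos
      obtain ⟨w, hw, hw2⟩ := ih (finrank F W) (by omega) W (L.restrict hW) rfl (restrict_semisimple hL hW) p hp h1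
      refine ⟨(w : V), fun h => hw (Subtype.ext h), ?_⟩
      rw [← aeval_restrict_coe L hW, hw2]
      rfl

/-- Semisimple endomorphisms with equal characteristic polynomials are conjugate. -/
theorem exists_conj_of_charpoly_eq : ∀ (n : ℕ) (V V' : Type v) [AddCommGroup V] [Module F V]
    [FiniteDimensional F V] [AddCommGroup V'] [Module F V'] [FiniteDimensional F V']
    (L : Module.End F V) (L' : Module.End F V'), finrank F V = n → L.IsSemisimple → L'.IsSemisimple →
    L.charpoly = L'.charpoly → ∃ φ : V ≃ₗ[F] V', ∀ x, φ (L x) = L' (φ x) := by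
  intro n
  induction n using Nat.strong_induction_on with
  | _ n ih =>
    intro V V' _ _ _ _ _ _ L L' hn hL hL' hchar
    classical
    have hfr' : finrank F V' = n := by
      rw [← hn, ← L.charpoly_natDegree, ← L'.charpoly_natDegree, hchar]
    by_cases hn0 : n = 0
    · have h1 : finrank F V = finrank F V' := by rw [hn, hfr']
      have hs : Subsingleton V' := (Module.finrank_zero_iff (R := F)).1 (by rw [hfr', hn0])
      have hs2 : Subsingleton V := (Module.finrank_zero_iff (R := F)).1 (by rw [hn, hn0])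
      refine ⟨LinearEquiv.ofFinrankEq V V' h1, fun x => Subsingleton.elim _ _⟩
    · have hdeg : L.charpoly.natDegree ≠ 0 := by
        rw [L.charpoly_natDegree, hn]
        exact hn0
      obtain ⟨p, hpm, hpi, hpd⟩ := exists_monic_irreducible_dvd L.charpoly_monic.ne_zero hdeg
      obtain ⟨v, hv, hpv⟩ := exists_ker_of_dvd_charpoly n V L hn hL p hpi hpd
      obtain ⟨v', hv', hpv'⟩ := exists_ker_of_dvd_charpoly n V' L' hfr' hL' p hpi (hchar ▸ hpd)
      obtain ⟨W, hW, e, he⟩ := exists_decomp L hL hpi hv hpv
      obtain ⟨W', hW', e', he'⟩ := exists_decomp L' hL' hpi hv' hpv'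
      have h1 := charpoly_of_decomp hpm hW e he
      have h2 := charpoly_of_decomp hpm hW' e' he'
      rw [h1, h2] at hchar
      have hc := mul_left_cancel₀ hpm.ne_zero hchar
      have hfr := finrank_of_decomp hpm e
      have hpos : 0 < p.natDegree := hpi.natDegree_pos
      obtain ⟨ψ, hψ⟩ := ih (finrank F W) (by omega) W W' (L.restrict hW) (L'.restrict hW') rfl
        (restrict_semisimple hL hW) (restrict_semisimple hL' hW') hc
      refine ⟨e.symm.trans (((LinearEquiv.refl F _).prodCongr ψ).trans e'), ?_⟩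
      intro x
      obtain ⟨⟨a, w⟩, rfl⟩ := e.surjective x
      rw [he]
      simp only [LinearEquiv.trans_apply, LinearEquiv.symm_apply_apply, LinearEquiv.prodCongr_apply,
        LinearEquiv.refl_apply]
      rw [he', hψ]

/-- The centralizer of a nonzero semisimple endomorphism has every determinant. -/
theorem exists_comm_det [Finite F] (L : Module.End F V) (hL : L.IsSemisimple) (hV : finrank F V ≠ 0) (δ : F)
    (hδ : δ ≠ 0) : ∃ z : V ≃ₗ[F] V, (∀ x, z (L x) = L (z x)) ∧ LinearMap.det (z : V →ₗ[F] V) = δ := by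
  classical
  have hdeg : L.charpoly.natDegree ≠ 0 := by
    rwa [L.charpoly_natDegree]
  obtain ⟨p, hpm, hpi, hpd⟩ := exists_monic_irreducible_dvd L.charpoly_monic.ne_zero hdeg
  obtain ⟨v, hv, hpv⟩ := exists_ker_of_dvd_charpoly _ V L rfl hL p hpi hpd
  obtain ⟨W, hW, e, he⟩ := exists_decomp L hL hpi hv hpv
  haveI : Fact (Irreducible p) := ⟨hpi⟩
  haveI : Module.Finite F (AdjoinRoot p) := (AdjoinRoot.powerBasis' hpm).finite
  haveI : Finite (AdjoinRoot p) := Module.finite_of_finite F
  obtain ⟨t, ht⟩ := FiniteField.norm_surjective F (AdjoinRoot p) δ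
  have ht0 : t ≠ 0 := by
    rintro rfl
    rw [Algebra.norm_zero] at ht
    exact hδ ht.symm
  let mt : AdjoinRoot p ≃ₗ[F] AdjoinRoot p :=
    { LinearMap.mulLeft F t with
      invFun := fun a => t⁻¹ * a
      left_inv := fun a => by
        change t⁻¹ * (t * a) = a
        rw [← mul_assoc, inv_mul_cancel₀ ht0, one_mul]
      right_inv := fun a => by
        change t * (t⁻¹ * a) = a
        rw [← mul_assoc, mul_inv_cancel₀ ht0, one_mul] }
  have hmt : ∀ a, mt a = t * a := fun _ => rfl
  refine ⟨e.symm.trans ((mt.prodCongr (LinearEquiv.refl F W)).trans e), ?_, ?_⟩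
  · intro x
    obtain ⟨⟨a, w⟩, rfl⟩ := e.surjective x
    rw [he]
    simp only [LinearEquiv.trans_apply, LinearEquiv.symm_apply_apply, LinearEquiv.prodCongr_apply,
      LinearEquiv.refl_apply]
    rw [he, hmt, hmt, mul_left_comm]
  · have h1 : ((e.symm.trans ((mt.prodCongr (LinearEquiv.refl F W)).trans e) : V ≃ₗ[F] V) : V →ₗ[F] V) =
        (e : _ →ₗ[F] V).comp ((LinearMap.prodMap (LinearMap.mulLeft F t) (LinearMap.id : W →ₗ[F] W)).comp
          (e.symm : V →ₗ[F] _)) := by
      ext x
      obtain ⟨⟨a, w⟩, rfl⟩ := e.surjective x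
      simp [hmt]
    rw [h1, LinearMap.det_conj, LinearMap.det_prodMap, LinearMap.det_id, mul_one, ← ht, Algebra.norm_apply]
    rfl

end charpoly

end Cfsg.Agent.H10
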