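import Mathlib
import Cfsg.Agent.Lib.H10.SS

/-! Semisimple classes of `GL_n` and `SL_n`. -/

set_option autoImplicit false
set_option linter.unusedSectionVars false
set_option linter.unusedVariables false

namespace Cfsg.Agent.H10

open Polynomial Module Matrix

universe u

variable {F : Type u} [Field F] [Fintype F] (p : ℕ) [Fact p.Prime] [CharP F p]

lemma charpoly_toLin'_eq {n : ℕ} (M : Matrix (Fin n) (Fin n) F) :
    (Matrix.toLin' M).charpoly = M.charpoly := by
  rw [← LinearMap.charpoly_toMatrix _ (Pi.basisFun F (Fin n)), LinearMap.toMatrix_eq_toMatrix', LinearMap.toMatrix'_toLin']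

/-- An element of order prime to the characteristic is semisimple. -/
lemma isSemisimple_of_coprime {n : ℕ} (g : GL (Fin n) F) (hg : (orderOf g).Coprime p) :
    Module.End.IsSemisimple (Matrix.toLin' (g : Matrix (Fin n) (Fin n) F)) := by
  have hp : p.Prime := Fact.out
  have hpos : orderOf g ≠ 0 := (orderOf_pos g).ne'
  have hcast : ((orderOf g : ℕ) : F) ≠ 0 := by
    rw [Ne, CharP.cast_eq_zero_iff F p]
    intro h
    have := Nat.Coprime.eq_one_of_dvd hg.symm h
    exact hp.one_lt.ne' this
  have hsep : (X ^ orderOf g - C 1 : F[X]).Separable :=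
    separable_X_pow_sub_C 1 hcast one_ne_zero
  apply Module.End.isSemisimple_of_squarefree_aeval_eq_zero hsep.squarefree
  have h1 : (g : Matrix (Fin n) (Fin n) F) ^ orderOf g = 1 := by
    rw [← Units.val_pow_eq_pow_val, pow_orderOf_eq_one, Units.val_one]
  have h2 : (Matrix.toLin' (g : Matrix (Fin n) (Fin n) F)) ^ orderOf g = 1 := by
    have := (Matrix.toLinAlgEquiv' (R := F) (n := Fin n)).map_pow (g : Matrix (Fin n) (Fin n) F) (orderOf g)
    rw [h1, map_one] at this
    exact this.symm
  simp only [map_sub, map_pow, aeval_X, map_one, h2, sub_self]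

/-- Passing from a linear intertwiner to matrices. -/
lemma exists_matrix_of_linear {n : ℕ} (A B : Matrix (Fin n) (Fin n) F)
    (φ : (Fin n → F) ≃ₗ[F] (Fin n → F)) (hφ : ∀ x, φ (Matrix.toLin' A x) = Matrix.toLin' B (φ x)) :
    ∃ P : GL (Fin n) F, (P : Matrix (Fin n) (Fin n) F) * A = B * P ∧
      (P : Matrix (Fin n) (Fin n) F) = LinearMap.toMatrix' (φ : (Fin n → F) →ₗ[F] (Fin n → F)) := by
  refine ⟨⟨LinearMap.toMatrix' (φ : (Fin n → F) →ₗ[F] (Fin n → F)),
    LinearMap.toMatrix' (φ.symm : (Fin n → F) →ₗ[F] (Fin n → F)), ?_, ?_⟩, ?_, rfl⟩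
  · rw [← LinearMap.toMatrix'_comp, ← LinearMap.toMatrix'_id]
    congr 1
    ext x
    simp
  · rw [← LinearMap.toMatrix'_comp, ← LinearMap.toMatrix'_id]
    congr 1
    ext x
    simp
  · change LinearMap.toMatrix' (φ : (Fin n → F) →ₗ[F] (Fin n → F)) * A = B * LinearMap.toMatrix' (φ : (Fin n → F) →ₗ[F] (Fin n → F))
    have h1 : ((φ : (Fin n → F) →ₗ[F] (Fin n → F)).comp (Matrix.toLin' A)) = (Matrix.toLin' B).comp (φ : (Fin n → F) →ₗ[F] (Fin n → F)) := by
      apply LinearMap.ext
      intro x
      exact hφ x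
    have h2 := congrArg LinearMap.toMatrix' h1
    rwa [LinearMap.toMatrix'_comp, LinearMap.toMatrix'_comp, LinearMap.toMatrix'_toLin', LinearMap.toMatrix'_toLin'] at h2

/-- Conjugacy in `GL_n` of semisimple elements with the same characteristic polynomial. -/
theorem isConj_of_charpoly_eq {n : ℕ} (g h : GL (Fin n) F) (hg : (orderOf g).Coprime p) (hh : (orderOf h).Coprime p)
    (hc : (g : Matrix (Fin n) (Fin n) F).charpoly = (h : Matrix (Fin n) (Fin n) F).charpoly) : IsConj g h := by
  obtain ⟨φ, hφ⟩ := exists_conj_of_charpoly_eq n (Fin n → F) (Fin n → F)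
    (Matrix.toLin' (g : Matrix (Fin n) (Fin n) F)) (Matrix.toLin' (h : Matrix (Fin n) (Fin n) F))
    (by simp) (isSemisimple_of_coprime p g hg) (isSemisimple_of_coprime p h hh)
    (by rw [charpoly_toLin'_eq, charpoly_toLin'_eq, hc])
  obtain ⟨P, hP, -⟩ := exists_matrix_of_linear _ _ φ hφ
  rw [isConj_iff]
  refine ⟨P, ?_⟩
  rw [mul_inv_eq_iff_eq_mul]
  exact Units.ext hP

/-- Conjugacy in `SL_n`. -/
theorem isConj_SL_of_charpoly_eq (n : ℕ) (g h : SpecialLinearGroup (Fin n) F) (hg : (orderOf g).Coprime p)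
    (hh : (orderOf h).Coprime p)
    (hc : (g : Matrix (Fin n) (Fin n) F).charpoly = (h : Matrix (Fin n) (Fin n) F).charpoly) : IsConj g h := by
  classical
  rcases Nat.eq_zero_or_pos n with rfl | hn
  · have : Subsingleton (SpecialLinearGroup (Fin 0) F) := by
      constructor
      intro x y
      apply Subtype.ext
      ext i
      exact i.elim0
    rw [Subsingleton.elim g h]
  let toG := SpecialLinearGroup.toGL (n := Fin n) (R := F)
  have hinj : Function.Injective toG := by
    intro x y e
    apply Subtype.ext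
    exact congrArg Units.val e
  have hog : (orderOf (toG g)).Coprime p := by rwa [orderOf_injective toG hinj]
  have hoh : (orderOf (toG h)).Coprime p := by rwa [orderOf_injective toG hinj]
  have hLg := isSemisimple_of_coprime p (toG g) hog
  have hLh := isSemisimple_of_coprime p (toG h) hoh
  obtain ⟨φ, hφ⟩ := exists_conj_of_charpoly_eq n (Fin n → F) (Fin n → F)
    (Matrix.toLin' ((toG g) : Matrix (Fin n) (Fin n) F)) (Matrix.toLin' ((toG h) : Matrix (Fin n) (Fin n) F))
    (by simp) hLg hLh
    (by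
      rw [charpoly_toLin'_eq, charpoly_toLin'_eq]
      exact hc)
  obtain ⟨P, hP, hP2⟩ := exists_matrix_of_linear _ _ φ hφ
  have hdetP : (P : Matrix (Fin n) (Fin n) F).det ≠ 0 := by
    have := (Matrix.isUnit_iff_isUnit_det _).1 P.isUnit
    exact this.ne_zero
  obtain ⟨z, hz, hzdet⟩ := exists_comm_det (F := F) (Matrix.toLin' ((toG g) : Matrix (Fin n) (Fin n) F)) hLg
    (by simp; omega) ((P : Matrix (Fin n) (Fin n) F).det)⁻¹ (inv_ne_zero hdetP)
  obtain ⟨Q, hQ, hQ2⟩ := exists_matrix_of_linear _ _ z hz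
  have hdetQ : (Q : Matrix (Fin n) (Fin n) F).det = ((P : Matrix (Fin n) (Fin n) F).det)⁻¹ := by
    rw [hQ2, LinearMap.det_toMatrix', hzdet]
  let c : SpecialLinearGroup (Fin n) F := ⟨(P : Matrix (Fin n) (Fin n) F) * Q, by
    rw [Matrix.det_mul, hdetQ]
    exact mul_inv_cancel₀ hdetP⟩
  rw [isConj_iff]
  refine ⟨c, ?_⟩
  rw [mul_inv_eq_iff_eq_mul]
  apply Subtype.ext
  change (P : Matrix (Fin n) (Fin n) F) * Q * (g : Matrix (Fin n) (Fin n) F) =
    (h : Matrix (Fin n) (Fin n) F) * ((P : Matrix (Fin n) (Fin n) F) * Q)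
  have hQ' : (Q : Matrix (Fin n) (Fin n) F) * (g : Matrix (Fin n) (Fin n) F) = (g : Matrix (Fin n) (Fin n) F) * Q := hQ
  have hP' : (P : Matrix (Fin n) (Fin n) F) * (g : Matrix (Fin n) (Fin n) F) = (h : Matrix (Fin n) (Fin n) F) * P := hP
  rw [Matrix.mul_assoc, hQ', ← Matrix.mul_assoc, hP', Matrix.mul_assoc]

/-- Existence of semisimple endomorphisms with a given characteristic polynomial. -/
theorem exists_end_of_poly : ∀ (n : ℕ) (f : F[X]), f.Monic → f.natDegree = n → f.coeff 0 ≠ 0 →
    ∃ (V : Type u) (_ : AddCommGroup V) (_ : Module F V) (_ : FiniteDimensional F V) (L : Module.End F V),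
      finrank F V = n ∧ L.charpoly = f ∧ ∃ m : ℕ, m ≠ 0 ∧ m.Coprime p ∧ L ^ m = 1 := by
  intro n
  induction n using Nat.strong_induction_on with
  | _ n ih =>
    intro f hf hfn hf0
    classical
    have hp : p.Prime := Fact.out
    by_cases hn0 : n = 0
    · subst hn0
      refine ⟨Fin 0 → F, inferInstance, inferInstance, inferInstance, 0, by simp, ?_, 1, one_ne_zero, Nat.coprime_one_left _, ?_⟩
      · rw [hf.natDegree_eq_zero.1 hfn]
        have : LinearMap.charpoly (0 : Module.End F (Fin 0 → F)) = X ^ finrank F (Fin 0 → F) := LinearMap.charpoly_zero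
        rw [this]
        simp
      · ext x i
        exact i.elim0
    · obtain ⟨q, hqm, hqi, f', hf'⟩ := exists_monic_irreducible_dvd hf.ne_zero (by rw [hfn]; exact hn0)
      have hf'm : f'.Monic := by
        rw [hf'] at hf
        exact hqm.of_mul_monic_left hf
      have hdeg : q.natDegree + f'.natDegree = n := by
        rw [← hfn, hf', hqm.natDegree_mul hf'm]
      have hq0 : 0 < q.natDegree := hqi.natDegree_pos
      have hcoef : q.coeff 0 * f'.coeff 0 ≠ 0 := by
        rw [← mul_coeff_zero, ← hf']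
        exact hf0
      obtain ⟨V', i1, i2, i3, L', h1, h2, m', hm'0, hm'c, hm'⟩ :=
        ih f'.natDegree (by omega) f' hf'm rfl (right_ne_zero_of_mul hcoef)
      haveI : Fact (Irreducible q) := ⟨hqi⟩
      haveI hA : Module.Finite F (AdjoinRoot q) := (AdjoinRoot.powerBasis' hqm).finite
      haveI : Finite (AdjoinRoot q) := Module.finite_of_finite F
      haveI : Fintype (AdjoinRoot q) := Fintype.ofFinite _
      let α := AdjoinRoot.root q
      have hα : α ≠ 0 := by
        intro h
        have h3 : q ∣ X := by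
          rw [← AdjoinRoot.mk_eq_zero]
          exact h
        have h4 : q.natDegree ≤ 1 := by
          have := natDegree_le_of_dvd h3 X_ne_zero
          simpa using this
        have h5 : q.natDegree = 1 := by omega
        have h6 : Associated q X := hqi.associated_of_dvd irreducible_X h3
        have h7 : q = X := eq_of_monic_of_associated hqm monic_X h6
        apply left_ne_zero_of_mul hcoef
        rw [h7]
        simp
      have hcardA : Fintype.card (AdjoinRoot q) = Fintype.card F ^ q.natDegree := by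
        rw [Module.card_eq_pow_finrank (K := F) (V := AdjoinRoot q), (AdjoinRoot.powerBasis hqm.ne_zero).finrank]
        simp
      have hα' : α ^ (Fintype.card (AdjoinRoot q) - 1) = 1 := FiniteField.pow_card_sub_one_eq_one α hα
      refine ⟨AdjoinRoot q × V', inferInstance, inferInstance, inferInstance,
        LinearMap.prodMap (LinearMap.mulLeft F α) L', ?_, ?_, (Fintype.card (AdjoinRoot q) - 1) * m', ?_, ?_, ?_⟩
      · rw [Module.finrank_prod, (AdjoinRoot.powerBasis hqm.ne_zero).finrank, h1]
        simp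
        exact hdeg
      · rw [LinearMap.charpoly_prodMap, h2, hf']
        congr 1
        exact charpoly_mul_root hqm
      · have : 1 < Fintype.card (AdjoinRoot q) := Fintype.one_lt_card
        exact mul_ne_zero (by omega) hm'0
      · apply Nat.Coprime.mul_left _ hm'c
        -- `p` divides the order of the field
        have hpc : p ∣ Fintype.card (AdjoinRoot q) := by
          rw [hcardA]
          apply dvd_pow _ hq0.ne'
          rw [← CharP.cast_eq_zero_iff F p]
          simp
        have hone : 1 < Fintype.card (AdjoinRoot q) := Fintype.one_lt_card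
        apply Nat.Coprime.symm
        rw [Nat.Prime.coprime_iff_not_dvd hp]
        intro h
        have := (Nat.dvd_sub hpc h)
        rw [Nat.sub_sub_self (by omega)] at this
        exact hp.one_lt.ne' (Nat.dvd_one.1 this)
      · have hpow : ∀ k : ℕ, (LinearMap.prodMap (LinearMap.mulLeft F α) L' : Module.End F (AdjoinRoot q × V')) ^ k =
            LinearMap.prodMap (LinearMap.mulLeft F (α ^ k)) (L' ^ k) := by
          intro k
          induction k with
          | zero =>
            ext x <;> simp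
          | succ k ihk =>
            rw [pow_succ, ihk, pow_succ, pow_succ]
            ext x <;> simp [mul_left_comm]
        rw [hpow, pow_mul, hα', one_pow, mul_comm, pow_mul, hm', one_pow]
        ext x <;> simp

/-- Existence of semisimple elements of `GL_n` with a given characteristic polynomial. -/
theorem exists_GL_of_poly (n : ℕ) (f : F[X]) (hf : f.Monic) (hn : f.natDegree = n) (h0 : f.coeff 0 ≠ 0) :
    ∃ g : GL (Fin n) F, (orderOf g).Coprime p ∧ (g : Matrix (Fin n) (Fin n) F).charpoly = f := by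
  classical
  obtain ⟨V, i1, i2, i3, L, h1, h2, m, hm0, hmc, hm⟩ := exists_end_of_poly p n f hf hn h0
  let b : Basis (Fin n) F V := Module.finBasisOfFinrankEq F V h1
  let M : Matrix (Fin n) (Fin n) F := LinearMap.toMatrix b b L
  have hM : M ^ m = 1 := by
    have := (LinearMap.toMatrixAlgEquiv b).map_pow L m
    rw [hm, map_one] at this
    exact this.symm
  let g : GL (Fin n) F := Units.ofPowEqOne M m hM hm0
  have hgv : (g : Matrix (Fin n) (Fin n) F) = M := rfl
  refine ⟨g, ?_, ?_⟩
  · have h3 : g ^ m = 1 := Units.ext (by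
      rw [Units.val_pow_eq_pow_val, hgv, hM, Units.val_one])
    exact Nat.Coprime.coprime_dvd_left (orderOf_dvd_of_pow_eq_one h3) hmc
  · rw [hgv, LinearMap.charpoly_toMatrix, h2]

section count

variable (F)

/-- The polynomial with given lower coefficients. -/
noncomputable def polyOf {k : ℕ} (a : Fin k → F) : F[X] := X ^ k + ∑ i : Fin k, C (a i) * X ^ (i : ℕ)

variable {F}

lemma polyOf_monic {k : ℕ} (a : Fin k → F) : (polyOf F a).Monic :=
  monic_X_pow_add (degree_sum_fin_lt a)

lemma polyOf_natDegree {k : ℕ} (a : Fin k → F) : (polyOf F a).natDegree = k :=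
  natDegree_eq_of_degree_eq_some (by
    unfold polyOf
    rw [degree_add_eq_left_of_degree_lt (by rw [degree_X_pow]; exact degree_sum_fin_lt a), degree_X_pow])

lemma polyOf_coeff {k : ℕ} (a : Fin k → F) (i : Fin k) : (polyOf F a).coeff i = a i := by
  simp only [polyOf, coeff_add, coeff_X_pow, finsetSum_coeff, coeff_C_mul_X_pow]
  rw [if_neg (Nat.ne_of_lt i.2), zero_add, Finset.sum_eq_single i]
  · simp
  · intro j _ hj
    rw [if_neg]
    exact fun h => hj (Fin.ext h.symm)
  · simp

lemma polyOf_eq {f : F[X]} (hf : f.Monic) {k : ℕ} (hk : f.natDegree = k) :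
    polyOf F (fun i : Fin k => f.coeff i) = f := by
  subst hk
  conv_rhs => rw [hf.as_sum]
  rw [polyOf, Fin.sum_univ_eq_sum_range (fun i => C (f.coeff i) * X ^ i)]

/-- Counting monic polynomials by the constant coefficient. -/
theorem card_polys (k : ℕ) (S : F → Prop) :
    Nat.card {f : F[X] // f.Monic ∧ f.natDegree = k + 1 ∧ S (f.coeff 0)} =
      Nat.card {c : F // S c} * Fintype.card F ^ k := by
  classical
  let E : {f : F[X] // f.Monic ∧ f.natDegree = k + 1 ∧ S (f.coeff 0)} ≃ {c : F // S c} × (Fin k → F) :=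
    { toFun := fun f => (⟨f.1.coeff 0, f.2.2.2⟩, fun i => f.1.coeff (i.succ : Fin (k + 1)))
      invFun := fun x => ⟨polyOf F (Fin.cons x.1.1 x.2 : Fin (k + 1) → F), polyOf_monic _, polyOf_natDegree _, by
        have := polyOf_coeff (Fin.cons x.1.1 x.2 : Fin (k + 1) → F) 0
        simp only [Fin.val_zero, Fin.cons_zero] at this
        rw [this]
        exact x.1.2⟩
      left_inv := fun f => by
        apply Subtype.ext
        have e : (Fin.cons (f.1.coeff 0) (fun i : Fin k => f.1.coeff (i.succ : Fin (k + 1))) : Fin (k + 1) → F) =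
            fun i : Fin (k + 1) => f.1.coeff i := by
          funext i
          refine Fin.cases ?_ (fun i => ?_) i
          · simp
          · simp
        change polyOf F (Fin.cons (f.1.coeff 0) (fun i : Fin k => f.1.coeff (i.succ : Fin (k + 1)))) = f.1
        rw [e]
        exact polyOf_eq f.2.1 f.2.2.1
      right_inv := fun x => by
        obtain ⟨⟨c, hc⟩, a⟩ := x
        ext i
        · have := polyOf_coeff (Fin.cons c a : Fin (k + 1) → F) 0
          simpa using this
        · have := polyOf_coeff (Fin.cons c a : Fin (k + 1) → F) i.succ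
          simpa using this }
  rw [Nat.card_congr E, Nat.card_prod, Nat.card_fun, Nat.card_eq_fintype_card (α := F)]
  simp

end count

/-- Counting the semisimple classes of `GL_n`. -/
theorem card_ss_GL {q : ℕ} (hq : Fintype.card F = q) (n : ℕ) (hn : 1 ≤ n) :
    Nat.card {c : ConjClasses (GL (Fin n) F) // ∃ g : GL (Fin n) F, ConjClasses.mk g = c ∧ (orderOf g).Coprime p} =
      (q - 1) * q ^ (n - 1) := by
  classical
  obtain ⟨k, rfl⟩ : ∃ k, n = k + 1 := ⟨n - 1, by omega⟩
  have hcard := card_polys (F := F) k (fun c => c ≠ 0)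
  have hunits : Nat.card {c : F // c ≠ 0} = q - 1 := by
    have h0 : Nat.card {c : F // c ≠ 0} = Nat.card Fˣ := Nat.card_congr (Equiv.symm unitsEquivNeZero)
    rw [h0, Nat.card_eq_fintype_card, Fintype.card_units, hq]
  rw [hunits, hq] at hcard
  rw [Nat.add_sub_cancel, ← hcard]
  symm
  have hex : ∀ f : {f : F[X] // f.Monic ∧ f.natDegree = k + 1 ∧ f.coeff 0 ≠ 0},
      ∃ g : GL (Fin (k + 1)) F, (orderOf g).Coprime p ∧ (g : Matrix (Fin (k + 1)) (Fin (k + 1)) F).charpoly = f.1 :=
    fun f => exists_GL_of_poly p (k + 1) f.1 f.2.1 f.2.2.1 f.2.2.2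
  choose G hG1 hG2 using hex
  apply Nat.card_congr
  refine Equiv.ofBijective (fun f => ⟨ConjClasses.mk (G f), G f, rfl, hG1 f⟩) ⟨?_, ?_⟩
  · intro f f' h
    have h1 : ConjClasses.mk (G f) = ConjClasses.mk (G f') := congrArg Subtype.val h
    rw [ConjClasses.mk_eq_mk_iff_isConj, isConj_iff] at h1
    obtain ⟨c, hc⟩ := h1
    apply Subtype.ext
    rw [← hG2 f, ← hG2 f', ← hc]
    have := Matrix.charpoly_units_conj c (G f : Matrix (Fin (k + 1)) (Fin (k + 1)) F)
    rw [Units.val_mul, Units.val_mul, Matrix.coe_units_inv]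
    exact this.symm
  · rintro ⟨c, g, rfl, hg⟩
    have hmon : (g : Matrix (Fin (k + 1)) (Fin (k + 1)) F).charpoly.Monic := Matrix.charpoly_monic _
    have hdeg : (g : Matrix (Fin (k + 1)) (Fin (k + 1)) F).charpoly.natDegree = k + 1 := by
      rw [Matrix.charpoly_natDegree_eq_dim, Fintype.card_fin]
    have h0 : (g : Matrix (Fin (k + 1)) (Fin (k + 1)) F).charpoly.coeff 0 ≠ 0 := by
      intro h
      have h1 := Matrix.det_eq_sign_charpoly_coeff (g : Matrix (Fin (k + 1)) (Fin (k + 1)) F)
      rw [h, mul_zero] at h1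
      exact ((Matrix.isUnit_iff_isUnit_det _).1 g.isUnit).ne_zero h1
    let f : {f : F[X] // f.Monic ∧ f.natDegree = k + 1 ∧ f.coeff 0 ≠ 0} := ⟨_, hmon, hdeg, h0⟩
    refine ⟨f, ?_⟩
    apply Subtype.ext
    change ConjClasses.mk (G f) = ConjClasses.mk g
    rw [ConjClasses.mk_eq_mk_iff_isConj]
    exact isConj_of_charpoly_eq p _ _ (hG1 f) hg (hG2 f)

/-- Counting the semisimple classes of `SL_n`. -/
theorem card_ss_SL {q : ℕ} (hq : Fintype.card F = q) (n : ℕ) (hn : 1 ≤ n) :
    Nat.card {c : ConjClasses (SpecialLinearGroup (Fin n) F) //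
      ∃ g : SpecialLinearGroup (Fin n) F, ConjClasses.mk g = c ∧ (orderOf g).Coprime p} = q ^ (n - 1) := by
  classical
  obtain ⟨k, rfl⟩ : ∃ k, n = k + 1 := ⟨n - 1, by omega⟩
  let s : F := (-1) ^ (k + 1)
  have hs0 : s ≠ 0 := pow_ne_zero _ (by simp)
  have hss : s * s = 1 := by
    rw [← mul_pow]
    simp
  have hcard := card_polys (F := F) k (fun c => c = s)
  have hone : Nat.card {c : F // c = s} = 1 := Nat.card_unique
  rw [hone, one_mul, hq] at hcard
  rw [Nat.add_sub_cancel, ← hcard]
  symm
  let toG := SpecialLinearGroup.toGL (n := Fin (k + 1)) (R := F)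
  have hinj : Function.Injective toG := by
    intro x y e
    apply Subtype.ext
    exact congrArg Units.val e
  have hex : ∀ f : {f : F[X] // f.Monic ∧ f.natDegree = k + 1 ∧ f.coeff 0 = s},
      ∃ g : SpecialLinearGroup (Fin (k + 1)) F, (orderOf g).Coprime p ∧
        (g : Matrix (Fin (k + 1)) (Fin (k + 1)) F).charpoly = f.1 := by
    intro f
    obtain ⟨g, hg1, hg2⟩ := exists_GL_of_poly p (k + 1) f.1 f.2.1 f.2.2.1 (by rw [f.2.2.2]; exact hs0)
    have hdet : (g : Matrix (Fin (k + 1)) (Fin (k + 1)) F).det = 1 := by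
      rw [Matrix.det_eq_sign_charpoly_coeff, hg2, f.2.2.2, Fintype.card_fin]
      exact hss
    let g' : SpecialLinearGroup (Fin (k + 1)) F := ⟨g, hdet⟩
    have hgg' : toG g' = g := Units.ext rfl
    refine ⟨g', ?_, hg2⟩
    rwa [← orderOf_injective toG hinj, hgg']
  choose G hG1 hG2 using hex
  apply Nat.card_congr
  refine Equiv.ofBijective (fun f => ⟨ConjClasses.mk (G f), G f, rfl, hG1 f⟩) ⟨?_, ?_⟩
  · intro f f' h
    have h1 : ConjClasses.mk (G f) = ConjClasses.mk (G f') := congrArg Subtype.val h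
    rw [ConjClasses.mk_eq_mk_iff_isConj, isConj_iff] at h1
    obtain ⟨c, hc⟩ := h1
    apply Subtype.ext
    rw [← hG2 f, ← hG2 f', ← hc]
    have := Matrix.charpoly_units_conj (toG c) (G f : Matrix (Fin (k + 1)) (Fin (k + 1)) F)
    have e : ((c * G f * c⁻¹ : SpecialLinearGroup (Fin (k + 1)) F) : Matrix (Fin (k + 1)) (Fin (k + 1)) F) =
        ((toG c * toG (G f) * (toG c)⁻¹ : GL (Fin (k + 1)) F) : Matrix (Fin (k + 1)) (Fin (k + 1)) F) := by
      rw [← map_inv, ← map_mul, ← map_mul]
      rfl
    rw [e, Units.val_mul, Units.val_mul, Matrix.coe_units_inv]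
    exact this.symm
  · rintro ⟨c, g, rfl, hg⟩
    have hmon : (g : Matrix (Fin (k + 1)) (Fin (k + 1)) F).charpoly.Monic := Matrix.charpoly_monic _
    have hdeg : (g : Matrix (Fin (k + 1)) (Fin (k + 1)) F).charpoly.natDegree = k + 1 := by
      rw [Matrix.charpoly_natDegree_eq_dim, Fintype.card_fin]
    have h0 : (g : Matrix (Fin (k + 1)) (Fin (k + 1)) F).charpoly.coeff 0 = s := by
      have h1 := Matrix.det_eq_sign_charpoly_coeff (g : Matrix (Fin (k + 1)) (Fin (k + 1)) F)
      rw [g.2, Fintype.card_fin] at h1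
      have h1' : (1 : F) = s * (g : Matrix (Fin (k + 1)) (Fin (k + 1)) F).charpoly.coeff 0 := h1
      calc (g : Matrix (Fin (k + 1)) (Fin (k + 1)) F).charpoly.coeff 0
          = (s * s) * (g : Matrix (Fin (k + 1)) (Fin (k + 1)) F).charpoly.coeff 0 := by rw [hss, one_mul]
        _ = s * (s * (g : Matrix (Fin (k + 1)) (Fin (k + 1)) F).charpoly.coeff 0) := mul_assoc _ _ _
        _ = s * 1 := by rw [← h1']
        _ = s := mul_one _
    let f : {f : F[X] // f.Monic ∧ f.natDegree = k + 1 ∧ f.coeff 0 = s} := ⟨_, hmon, hdeg, h0⟩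
    refine ⟨f, ?_⟩
    apply Subtype.ext
    change ConjClasses.mk (G f) = ConjClasses.mk g
    rw [ConjClasses.mk_eq_mk_iff_isConj]
    exact isConj_SL_of_charpoly_eq p _ _ _ (hG1 f) hg (hG2 f)

end Cfsg.Agent.H10
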