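import Cfsg.Agent.Lib.H10.StInst

/-!
# The Steinberg character on the Borel subgroup
-/

set_option autoImplicit false
set_option linter.style.haveILetI false
set_option linter.unusedSimpArgs false
set_option linter.unusedSectionVars false
set_option linter.unusedVariables false

open Cfsg.Lie Cfsg.Agent.H04.Chev MulAction

namespace Cfsg.Agent.H10

variable {D : ChevalleyDatum} {T : Tabs} {U : Tabs3}

section
variable (C : Checks D T) (C2 : Checks2 D T) (C3 : Checks3 D T U)
variable (F : Type*) [Field F]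

lemma coe_range_rank : (↑(Finset.range D.rank) : Set ℕ) = Rk D := by
  ext i
  simp [Rk]

lemma WW_eq : WJ C (↑(Finset.range D.rank) : Set ℕ) = WW C := by
  rw [coe_range_rank]
  rfl

lemma hR₀ : ∀ s ∈ Finset.range D.rank, s < D.rank := fun s hs => Finset.mem_range.mp hs

include C C2 C3 in
lemma para_le_group (J : Set ℕ) : D.parabolicSubgroup F J ≤ D.group F := by
  unfold Cfsg.Lie.ChevalleyDatum.parabolicSubgroup
  refine sup_le (B_le_group C) ?_
  rw [Subgroup.closure_le]
  rintro g ⟨j, _, hj, h⟩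
  have : g = nG C (D.simple j) 1 := Units.ext (by rw [h, nG_val])
  rw [this]
  exact nG_mem_group C (C.simple_lt j hj) 1

include C C2 C3 in
lemma para_all : D.group F = D.parabolicSubgroup F (↑(Finset.range D.rank) : Set ℕ) := by
  apply le_antisymm
  · intro g hg
    obtain ⟨b, hb, n, hn, π, π', d, h, u, hu, rfl⟩ := bruhat_exists C C2 C3 hg
    obtain ⟨w, hw, hr⟩ := RepN.of_N C C3 hn
    have hR' : ∀ s ∈ (↑(Finset.range D.rank) : Set ℕ), s < D.rank := hR₀
    have hwR : w ∈ WJ C (↑(Finset.range D.rank) : Set ℕ) := by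
      rw [WW_eq]
      exact hw
    exact (para_iff C C2 C3 hR').mpr ⟨w, hwR, n, hr, b, hb, u, U_le_B (RS_le_U C C2 (fun r _ hr => hr.1) hu), rfl⟩
  · exact para_le_group C C2 C3 F _

include C2 C3 in
lemma exists_w0 : ∃ z ∈ WJ C (↑(Finset.range D.rank) : Set ℕ), NoAsc C (↑(Finset.range D.rank) : Set ℕ) z :=
  exists_noAsc C C2 C3 (fun s hs => hR₀ s hs)

include C2 C3 in
/-- the stabilizer of the point of the longest element is `H` -/
lemma Bw_w0 {z : Equiv.Perm (Fin D.nroots)} (hz : z ∈ WJ C (↑(Finset.range D.rank) : Set ℕ))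
    (hzn : NoAsc C (↑(Finset.range D.rank) : Set ℕ) z) :
    Bw (borelIn (D := D) (D.group F)) (repA C C2 C3 (Finset.range D.rank) hR₀ (D.group F) (para_all C C2 C3 F) ⟨z, hz⟩) =
      ((D.diagonalSubgroup F).subgroupOf (D.group F)).subgroupOf ((D.borelSubgroup F).subgroupOf (D.group F)) := by
  have hR' : ∀ s ∈ (↑(Finset.range D.rank) : Set ℕ), s < D.rank := hR₀
  have hzW : z ∈ WW C := by rwa [← WW_eq]
  have hsp := repN_spec C C3 F hzW
  have hinv : NoAsc C (Rk D) z⁻¹ := by
    have := noAsc_inv C C2 C3 hR' hz hzn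
    rwa [coe_range_rank] at this
  ext ⟨⟨x, hxG⟩, hxB⟩
  rw [mem_Bw]
  show (repN C F z)⁻¹ * x * repN C F z ∈ D.borelSubgroup F ↔ x ∈ D.diagonalSubgroup F
  have hxB' : x ∈ D.borelSubgroup F := hxB
  constructor
  · intro h
    exact stab_w0 C2 C3 hzW hinv hsp hxB' h
  · intro h
    have := N_conj_H C C3 (inv_mem hsp.1) h
    simp only [inv_inv] at this
    exact H_le_B this

include C C2 C3 in
/-- **S2313** -/
theorem steinberg_on_borel (b : ↥((D.borelSubgroup F).subgroupOf (D.group F))) [Finite F] :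
    D.steinbergCharacter F (((D.borelSubgroup F).subgroupOf (D.group F)).subtype b) =
      Cfsg.fixedPointCharacter (((D.diagonalSubgroup F).subgroupOf (D.group F)).subgroupOf ((D.borelSubgroup F).subgroupOf (D.group F))) b := by
  obtain ⟨z, hz, hzn⟩ := exists_w0 C C2 C3
  have h1 := alt_sum_fix C C2 C3 (Finset.range D.rank) hR₀ (D.group F) (para_all C C2 C3 F) z hz hzn b
  rw [Bw_w0 C C2 C3 F hz hzn] at h1
  exact h1

lemma card_fixedBy_one {G X : Type*} [Group G] [MulAction G X] : Nat.card (fixedBy X (1 : G)) = Nat.card X :=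
  Nat.card_congr (Equiv.subtypeUnivEquiv fun x => by simp)

lemma fpc_one {G : Type*} [Group G] (S : Subgroup G) : Cfsg.fixedPointCharacter S 1 = (Nat.card (G ⧸ S) : ℂ) := by
  unfold Cfsg.fixedPointCharacter
  rw [card_fixedBy_one]

include C C2 C3 in
/-- the index of `H` in `B` -/
theorem card_borel_quot [Fintype F] :
    Nat.card (↥((D.borelSubgroup F).subgroupOf (D.group F)) ⧸ ((D.diagonalSubgroup F).subgroupOf (D.group F)).subgroupOf ((D.borelSubgroup F).subgroupOf (D.group F))) =
      Fintype.card F ^ (D.nroots / 2) := by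
  have hBG := B_le_group (F := F) C
  have hHB : D.diagonalSubgroup F ≤ D.borelSubgroup F := H_le_B
  have h1 := Subgroup.card_eq_card_quotient_mul_card_subgroup (((D.diagonalSubgroup F).subgroupOf (D.group F)).subgroupOf ((D.borelSubgroup F).subgroupOf (D.group F)))
  have h2 : Nat.card ↥((D.borelSubgroup F).subgroupOf (D.group F)) = Nat.card (D.borelSubgroup F) :=
    Nat.card_congr (Subgroup.subgroupOfEquivOfLe hBG).toEquiv
  have hle : (D.diagonalSubgroup F).subgroupOf (D.group F) ≤ (D.borelSubgroup F).subgroupOf (D.group F) :=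
    fun x hx => hHB hx
  have h3 : Nat.card ↥(((D.diagonalSubgroup F).subgroupOf (D.group F)).subgroupOf ((D.borelSubgroup F).subgroupOf (D.group F))) = Nat.card (D.diagonalSubgroup F) := by
    rw [Nat.card_congr (Subgroup.subgroupOfEquivOfLe hle).toEquiv]
    exact Nat.card_congr (Subgroup.subgroupOfEquivOfLe (hHB.trans hBG)).toEquiv
  rw [h2, h3, card_borel C C2 C3] at h1
  have hpos : 0 < Nat.card (D.diagonalSubgroup F) := Nat.card_pos
  exact (Nat.eq_of_mul_eq_mul_right hpos h1).symm

include C C2 C3 in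
/-- **S2327** -/
theorem steinberg_degree [Fintype F] : D.steinbergCharacter F 1 = (Fintype.card F : ℂ) ^ (D.nroots / 2) := by
  have h1 := steinberg_on_borel C C2 C3 F (1 : ↥((D.borelSubgroup F).subgroupOf (D.group F)))
  rw [map_one] at h1
  rw [h1]
  rw [fpc_one, card_borel_quot C C2 C3 F]
  push_cast
  rfl

end

end Cfsg.Agent.H10
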