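import Mathlib

/-!
# Counting `p`-elements: abstract lemmas
-/

set_option autoImplicit false

namespace Cfsg.Agent.H10

open MulAction

/-- elements of `p`-power order -/
def IsPE (p : ℕ) {G : Type*} [Monoid G] (g : G) : Prop := ∃ k : ℕ, orderOf g = p ^ k

lemma IsPE.conj {p : ℕ} {G : Type*} [Group G] {u : G} (h : IsPE p u) (x : G) : IsPE p (x * u * x⁻¹) := by
  obtain ⟨k, hk⟩ := h
  refine ⟨k, ?_⟩
  have := (MulAut.conj x).orderOf_eq u
  rw [MulAut.conj_apply] at this
  rw [this, hk]

lemma isPE_subgroup {p : ℕ} {G : Type*} [Group G] {S : Subgroup G} {u : ↥S} : IsPE p u ↔ IsPE p (u : G) := by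
  unfold IsPE
  rw [Subgroup.orderOf_coe]

/-- Double counting of pairs (`p`-element, fixed coset) -/
theorem sum_fix_pe {G : Type*} [Group G] [Finite G] (P : Subgroup G) (p : ℕ)
    [Fintype {u : G // IsPE p u}] :
    ∑ u : {u : G // IsPE p u}, Nat.card (fixedBy (G ⧸ P) u.1) =
      Nat.card (G ⧸ P) * Nat.card {g : G // g ∈ P ∧ IsPE p g} := by
  classical
  haveI : Fintype (G ⧸ P) := Fintype.ofFinite _
  have h1 : Nat.card (Σ u : {u : G // IsPE p u}, fixedBy (G ⧸ P) u.1) =
      ∑ u : {u : G // IsPE p u}, Nat.card (fixedBy (G ⧸ P) u.1) := Nat.card_sigma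
  rw [← h1]
  let e : (Σ u : {u : G // IsPE p u}, fixedBy (G ⧸ P) u.1) ≃ Σ q : G ⧸ P, {u : G // IsPE p u ∧ u • q = q} :=
    { toFun := fun s => ⟨s.2.1, s.1.1, s.1.2, s.2.2⟩
      invFun := fun s => ⟨⟨s.2.1, s.2.2.1⟩, s.1, s.2.2.2⟩
      left_inv := fun s => rfl
      right_inv := fun s => rfl }
  rw [Nat.card_congr e, Nat.card_sigma]
  have h2 : ∀ q : G ⧸ P, Nat.card {u : G // IsPE p u ∧ u • q = q} = Nat.card {g : G // g ∈ P ∧ IsPE p g} := by
    intro q
    have hq : ((q.out : G) : G ⧸ P) = q := QuotientGroup.out_eq' q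
    have hm : ∀ u : G, u • q = q ↔ (q.out)⁻¹ * u * q.out ∈ P := by
      intro u
      conv_lhs => rw [← hq]
      rw [MulAction.Quotient.smul_coe]
      simp only [smul_eq_mul]
      constructor
      · intro h
        have h3 := QuotientGroup.eq.mp h
        have h4 := inv_mem h3
        have e2 : (u * q.out)⁻¹ * q.out = (q.out⁻¹ * u * q.out)⁻¹ := by group
        rw [e2, inv_inv] at h4
        exact h4
      · intro h
        apply QuotientGroup.eq.mpr
        have e2 : (u * q.out)⁻¹ * q.out = (q.out⁻¹ * u * q.out)⁻¹ := by group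
        rw [e2]
        exact inv_mem h
    apply Nat.card_congr
    exact {
      toFun := fun s => ⟨(q.out)⁻¹ * s.1 * q.out, (hm _).mp s.2.2, by
        have := s.2.1.conj (q.out)⁻¹
        rwa [inv_inv] at this⟩
      invFun := fun s => ⟨q.out * s.1 * (q.out)⁻¹, s.2.2.conj _, by
        rw [hm]
        have : (q.out)⁻¹ * (q.out * s.1 * (q.out)⁻¹) * q.out = s.1 := by group
        rw [this]
        exact s.2.1⟩
      left_inv := fun s => by
        apply Subtype.ext
        simp only
        group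
      right_inv := fun s => by
        apply Subtype.ext
        simp only
        group }
  simp only [h2, Finset.sum_const, Finset.card_univ, smul_eq_mul]
  rw [Nat.card_eq_fintype_card (α := G ⧸ P)]

/-- An element of `p`-power order is conjugate into a subgroup of `p`-power order and index prime to `p` -/
theorem exists_conj_pe {G : Type*} [Group G] [Finite G] (p : ℕ) [hp : Fact p.Prime] (Q : Subgroup G)
    (hQ : IsPGroup p Q) (hidx : ¬ p ∣ Q.index) {u : G} (hu : IsPE p u) : ∃ γ : G, γ⁻¹ * u * γ ∈ Q := by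
  let S : Sylow p G := hQ.toSylow hidx
  have hz : IsPGroup p (Subgroup.zpowers u) := by
    obtain ⟨k, hk⟩ := hu
    apply IsPGroup.of_card (n := k)
    rw [Nat.card_zpowers, hk]
  obtain ⟨S', hS'⟩ := hz.exists_le_sylow
  obtain ⟨γ, hγ⟩ := MulAction.exists_smul_eq G S' S
  refine ⟨γ⁻¹, ?_⟩
  have h1 : u ∈ (S' : Subgroup G) := hS' (Subgroup.mem_zpowers u)
  have h3 := Subgroup.smul_mem_pointwise_smul u (MulAut.conj γ) (S' : Subgroup G) h1
  rw [← Sylow.coe_subgroup_smul, hγ] at h3
  have h4 : γ * u * γ⁻¹ ∈ Q := h3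
  rw [inv_inv]
  exact h4

/-- the points of `B / S` fixed by `u` -/
lemma card_fix_of_all {G : Type*} [Group G] [Finite G] (S : Subgroup G) (u : G) (h : ∀ x : G, x⁻¹ * u * x ∈ S) :
    Nat.card (fixedBy (G ⧸ S) u) = Nat.card (G ⧸ S) := by
  apply Nat.card_congr
  apply Equiv.subtypeUnivEquiv
  intro q
  rw [mem_fixedBy]
  induction q using QuotientGroup.induction_on with
  | H x =>
  rw [MulAction.Quotient.smul_coe]
  apply QuotientGroup.eq.mpr
  simp only [smul_eq_mul]
  have e2 : (u * x)⁻¹ * x = (x⁻¹ * u * x)⁻¹ := by group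
  rw [e2]
  exact inv_mem (h x)

lemma card_fix_of_none {G : Type*} [Group G] [Finite G] (S : Subgroup G) (u : G) (h : ∀ x : G, x⁻¹ * u * x ∉ S) :
    Nat.card (fixedBy (G ⧸ S) u) = 0 := by
  haveI : IsEmpty (fixedBy (G ⧸ S) u) := by
    constructor
    rintro ⟨q, hq⟩
    rw [mem_fixedBy] at hq
    induction q using QuotientGroup.induction_on with
    | H x =>
    rw [MulAction.Quotient.smul_coe] at hq
    have h1 := QuotientGroup.eq.mp hq
    simp only [smul_eq_mul] at h1
    apply h x
    have e2 : (u * x)⁻¹ * x = (x⁻¹ * u * x)⁻¹ := by group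
    rw [e2] at h1
    have := inv_mem h1
    rwa [inv_inv] at this
  exact Nat.card_of_isEmpty

end Cfsg.Agent.H10
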