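import Cfsg.Agent.Lib.H10.StT2
import Cfsg.Agent.Lib.H10.StCount

/-!
# The count of `p`-elements: the alternating sum over `p`-elements
-/

set_option autoImplicit false
set_option linter.style.haveILetI false
set_option linter.unusedSimpArgs false
set_option linter.unusedSectionVars false
set_option linter.unusedVariables false

open Cfsg.Lie Cfsg.Agent.H04.Chev MulAction Cfsg

namespace Cfsg.Agent.H10

variable {D : ChevalleyDatum} {T : Tabs} {U : Tabs3}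

lemma RS_mono (C : Checks D T) (F : Type*) [Field F] {R R' : ℕ → Prop} (h : ∀ r, r < D.nroots → R r → R' r) : RS C R F ≤ RS C R' F := by
  unfold RS
  apply Subgroup.closure_mono
  rintro _ ⟨r, t, h1, h2, rfl⟩
  exact ⟨r, t, h1, h r h1 h2, rfl⟩

section
variable {C : Checks D T} (C2 : Checks2 D T) (C3 : Checks3 D T U)
variable {F : Type*} [Field F]

include C2 C3 in
lemma U_normal_B (C : Checks D T) : D.borelSubgroup F ≤ Subgroup.normalizer (D.posUnipotent F : Set (GL D.Idx F)) := by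
  unfold Cfsg.Lie.ChevalleyDatum.borelSubgroup
  exact sup_le Subgroup.le_normalizer (H_le_normalizer_pos C C2 C3)

include C2 C3 in
/-- the stabilizer in `U` of the point of the longest element of `W_R` -/
lemma stabU {R : Set ℕ} (hR : ∀ s ∈ R, s < D.rank) {z : Equiv.Perm (Fin D.nroots)} (hz : z ∈ WJ C R) (hzn : NoAsc C R z)
    {n : GL D.Idx F} (hn : RepN C F z n) {u : GL D.Idx F} (hu : u ∈ D.posUnipotent F) :
    n⁻¹ * u * n ∈ D.borelSubgroup F ↔ u ∈ RS C (RJ D R) F := by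
  have hzW := WW_of_WJ C hR hz
  have hzinv := noAsc_inv C C2 C3 hR hz hzn
  have key : ∀ a ∈ RS C (RJ D R) F, n⁻¹ * a * n ∈ D.borelSubgroup F := by
    intro a ha
    obtain ⟨_, π', d, c⟩ := hn.inv
    have h1 : n⁻¹ * a * (n⁻¹)⁻¹ ∈ RS C (fun r => D.nroots / 2 ≤ r) F := by
      refine c.conj_RS ?_ ha
      intro s hs hr
      obtain ⟨h2, h3⟩ := hr
      rw [show piOf z⁻¹ s = (z⁻¹ ⟨s, hs⟩).1 from piOf_apply z⁻¹ ⟨s, hs⟩]
      refine notsup_pos C C2 C3 hR (inv_mem hz) ((C2.pos_iff _).mp h2).1 ?_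
      intro h4
      exact h3 ((inRootSub_iff C3).mpr ⟨hs, h4⟩)
    rw [inv_inv] at h1
    exact U_le_B (RS_le_U C C2 (fun r _ hr => hr) h1)
  constructor
  · intro h
    obtain ⟨a, ha, a', ha', rfl⟩ := U_factor C C2 (R := RJ D R) (R' := fun r => D.nroots / 2 ≤ r ∧ SupK U D R r)
      (fun r _ hr => hr.1)
      (fun r h0 h1 => by
        by_cases h2 : SupK U D R r
        · exact Or.inr ⟨h0, h2⟩
        · refine Or.inl ⟨(C2.pos_iff _).mpr ⟨h0, h1⟩, ?_⟩
          intro h3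
          exact h2 ((inRootSub_iff C3).mp h3).2) hu
    have h1 := key a ha
    have h2 : n⁻¹ * a' * n ∈ D.borelSubgroup F := by
      have e : n⁻¹ * a' * n = (n⁻¹ * a * n)⁻¹ * (n⁻¹ * (a * a') * n) := by group
      rw [e]
      exact mul_mem (inv_mem h1) h
    have h3 : a' ∈ RS C (Rminus D (piOf z⁻¹)) F := by
      refine RS_mono C F ?_ ha'
      intro r hr hr2
      refine ⟨hr2.1, ?_⟩
      show piOf z⁻¹ r < _
      rw [show piOf z⁻¹ r = (z⁻¹ ⟨r, hr⟩).1 from piOf_apply z⁻¹ ⟨r, hr⟩]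
      exact noAsc_neg C C2 C3 hR (inv_mem hzW) hzinv (t := ⟨r, hr⟩) hr2.1 hr2.2
    have h4 := stab_inj C2 C3 hn h3 h2
    rw [h4, mul_one]
    exact ha
  · exact key u

end

section
variable (C : Checks D T) (C2 : Checks2 D T) (C3 : Checks3 D T U)
variable (F : Type*) [Field F]

variable (R : Finset ℕ) (hR : ∀ s ∈ R, s < D.rank) (A : Subgroup (GL D.Idx F))
  (hA : A = D.parabolicSubgroup F (↑R : Set ℕ))

include C C2 C3 hA in
lemma UJ_le_normalizer {g : GL D.Idx F} (hg : g ∈ A) {u : GL D.Idx F} :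
    u ∈ RS C (RJ D (↑R : Set ℕ)) F ↔ g * u * g⁻¹ ∈ RS C (RJ D (↑R : Set ℕ)) F := by
  have h1 := para_le_normalizer C C2 C3 (F := F) (↑R : Set ℕ) (hA ▸ hg)
  rw [UJ_eq C] at h1
  exact Subgroup.mem_normalizer_iff.mp h1 u

/-- the alternating sum -/
noncomputable def altA (u : ↥A) : ℂ :=
  ∑ K ∈ R.powerset, (-1 : ℂ) ^ K.card * (Nat.card (fixedBy (↥A ⧸ (D.parabolicSubgroup F (↑K : Set ℕ)).subgroupOf A) u) : ℂ)

lemma altA_conj [Finite F] (g h : ↥A) : altA F R A (h * g * h⁻¹) = altA F R A g := by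
  classical
  haveI : Fintype ↥A := Fintype.ofFinite _
  haveI : Fintype (IrrCharacter ↥A) := Fintype.ofFinite _
  unfold altA
  refine Finset.sum_congr rfl fun K _ => ?_
  have := Cfsg.Agent.H21.isClassFunction_of_isCharacter (isCharacter_fpc ((D.parabolicSubgroup F (↑K : Set ℕ)).subgroupOf A)) g h
  unfold fixedPointCharacter at this
  rw [this]

open Classical in
include C C2 C3 hR hA in
/-- the value of the alternating sum at a `p`-element -/
theorem altA_pe [Finite F] (p : ℕ) [Fact p.Prime]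
    (hQp : IsPGroup p ((D.posUnipotent F).subgroupOf A)) (hidx : ¬ p ∣ ((D.posUnipotent F).subgroupOf A).index)
    (z : Equiv.Perm (Fin D.nroots)) (hz : z ∈ WJ C (↑R : Set ℕ)) (hzn : NoAsc C (↑R : Set ℕ) z)
    (u : ↥A) (hu : IsPE p u) :
    altA F R A u = if u.1 ∈ RS C (RJ D (↑R : Set ℕ)) F then
      (Nat.card (↥(borelIn (D := D) A) ⧸ Bw (borelIn (D := D) A) (repA C C2 C3 R hR A hA ⟨z, hz⟩)) : ℂ) else 0 := by
  have hR' : ∀ s ∈ (↑R : Set ℕ), s < D.rank := hR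
  have hzW := WW_of_WJ C hR' hz
  have hsp := repN_spec C C3 F hzW
  obtain ⟨γ, hγ⟩ := exists_conj_pe p _ hQp hidx hu
  have hγ' : (γ⁻¹ * u * γ).1 ∈ D.posUnipotent F := hγ
  have e1 : altA F R A u = altA F R A (γ⁻¹ * u * γ) := by
    have := altA_conj F R A (γ⁻¹ * u * γ) γ
    rw [← this]
    congr 1
    group
  have hB : (γ⁻¹ * u * γ) ∈ borelIn (D := D) A := U_le_B hγ'
  have h2 := alt_sum_fix C C2 C3 R hR A hA z hz hzn (⟨γ⁻¹ * u * γ, hB⟩ : ↥(borelIn (D := D) A))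
  have e2 : altA F R A (γ⁻¹ * u * γ) = _ := h2
  rw [e1, e2]
  have hUJ : u.1 ∈ RS C (RJ D (↑R : Set ℕ)) F ↔ (γ⁻¹ * u * γ).1 ∈ RS C (RJ D (↑R : Set ℕ)) F := by
    have := UJ_le_normalizer C C2 C3 F R A hA (g := (γ⁻¹ : ↥A).1) (γ⁻¹ : ↥A).2 (u := u.1)
    simpa using this
  have hmem : ∀ x : ↥(borelIn (D := D) A), x⁻¹ * (⟨γ⁻¹ * u * γ, hB⟩ : ↥(borelIn (D := D) A)) * x ∈
        Bw (borelIn (D := D) A) (repA C C2 C3 R hR A hA ⟨z, hz⟩) ↔ u.1 ∈ RS C (RJ D (↑R : Set ℕ)) F := by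
    intro x
    rw [mem_Bw]
    show (repN C F z)⁻¹ * ((x : GL D.Idx F)⁻¹ * (γ⁻¹ * u * γ).1 * x) * repN C F z ∈ D.borelSubgroup F ↔ _
    have hxB : (x : GL D.Idx F) ∈ D.borelSubgroup F := x.2
    have h3 : (x : GL D.Idx F)⁻¹ * (γ⁻¹ * u * γ).1 * x ∈ D.posUnipotent F := by
      have := (Subgroup.mem_normalizer_iff.mp (U_normal_B C2 C3 C (inv_mem hxB)) _).mp hγ'
      simpa using this
    rw [stabU C2 C3 hR' hz hzn hsp h3, hUJ]
    have := UJ_le_normalizer C C2 C3 F R A hA (g := (x : GL D.Idx F)⁻¹) (inv_mem x.1.2) (u := (γ⁻¹ * u * γ).1)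
    rw [this]
    simp
  split_ifs with h
  · rw [card_fix_of_all _ _ (fun x => (hmem x).mpr h)]
  · rw [card_fix_of_none _ _ (fun x hx => h ((hmem x).mp hx))]
    simp

end

end Cfsg.Agent.H10
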