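import Cfsg.Agent.Lib.H10.StCount2
import Cfsg.Agent.Lib.H04.Chev.Simple

/-!
# Root combinatorics for the centralizer of the unipotent radical
-/

set_option autoImplicit false
set_option linter.style.haveILetI false
set_option linter.unusedSimpArgs false
set_option linter.unusedSectionVars false
set_option linter.unusedVariables false

open Cfsg.Lie Cfsg.Agent.H04.Chev

namespace Cfsg.Agent.H10

variable {D : ChevalleyDatum} {T : Tabs} {U : Tabs3}

section
variable (C : Checks D T) (C2 : Checks2 D T) (C3 : Checks3 D T U)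

include C C2 C3 in
/-- a root with the coefficients of a fundamental root is that root -/
lemma eq_simple_of_cof {s x : ℕ} (hs : s < D.nroots) (hx : x < D.rank)
    (h : ∀ j, j < D.rank → U.cofI s j = if j = x then 1 else 0) : s = D.simple x := by
  have h1 : 0 < U.cofI s x := by
    rw [h x hx, if_pos rfl]
    exact one_pos
  have h0 := pos_of_cof C2 C3 hs hx h1
  rcases C3.support2 s h0 hs x hx with h2 | ⟨j, hj, hjx, h3⟩
  · exact h2
  · rw [h j hj, if_neg hjx] at h3
    exact absurd h3 (lt_irrefl _)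

include C C2 C3 in
/-- a vanishing Cartan integer: the reflection fixes the fundamental root -/
lemma w_simple_of_cartan {x y : ℕ} (hx : x < D.rank) (hy : y < D.rank) (h : D.cartan y (D.simple x) = 0) :
    T.w (D.simple y) (D.simple x) = D.simple x := by
  have hsx := C.simple_lt x hx
  apply eq_simple_of_cof C C2 C3 (C.w_lt y hy _ hsx) hx
  intro j hj
  rw [C3.cof_w y hy _ hsx j hj, h, C3.cof_simple x hx j hj]
  simp

include C C3 in
lemma w_simple_self {x : ℕ} (hx : x < D.rank) : T.w (D.simple x) (D.simple x) = negF D (D.simple x) := by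
  have hsx := C.simple_lt x hx
  rw [C3.w_reflect x hx _ hsx]
  unfold Cfsg.Lie.ChevalleyDatum.reflectRoot
  simp only [if_true]
  exact neg_eq C.neg hsx

include C C2 C3 in
/-- non-commutation gives a nonzero Cartan integer -/
lemma cartan_ne_of_noncomm {x y : ℕ} (hx : x < D.rank) (hy : y < D.rank) (h : noncomm D T x y = true) :
    D.cartan y (D.simple x) ≠ 0 := by
  intro h0
  have hsx := C.simple_lt x hx
  have e1 := w_simple_of_cartan C C2 C3 hx hy h0
  have e2 := w_simple_self C C3 hx
  unfold noncomm at h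
  rw [e1, e2, C.w_neg y hy _ hsx, e1, C.w_neg x hx _ hsx, e2, negF_negF C2 hsx] at h
  have : Nat.beq (D.simple x) (D.simple x) = true := Nat.beq_refl _
  rw [this] at h
  exact Bool.noConfusion h

include C C2 C3 in
/-- fundamental roots outside `J` lie in the radical -/
lemma RJ_simple {J : Set ℕ} {k : ℕ} (hk : k < D.rank) (hkJ : k ∉ J) : RJ D J (D.simple k) := by
  refine ⟨(C2.pos_iff _).mpr ⟨C3.simple_pos k hk, C.simple_lt k hk⟩, ?_⟩
  intro h5
  have := (inRootSub_iff C3).mp h5 |>.2 k hk hkJ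
  rw [C3.cof_simple k hk k hk, if_pos rfl] at this
  exact one_ne_zero this

include C C2 C3 in
/-- roots with the same coefficients outside `J`, with a positive coefficient, lie in the radical -/
lemma RJ_of_cof {J : Set ℕ} {s s' : ℕ} (hs : RJ D J s) (hs' : s' < D.nroots)
    (h : ∀ j, j < D.rank → j ∉ J → U.cofI s' j = U.cofI s j) : RJ D J s' := by
  obtain ⟨i, hi, hiJ, h5⟩ := RJ_spec C C2 C3 hs
  have h6 : 0 < U.cofI s' i := by rw [h i hi hiJ]; exact h5
  refine ⟨(C2.pos_iff _).mpr ⟨pos_of_cof C2 C3 hs' hi h6, hs'⟩, ?_⟩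
  intro h7
  rw [(inRootSub_iff C3).mp h7 |>.2 i hi hiJ] at h6
  exact lt_irrefl _ h6

include C C2 C3 in
/-- the reflections of `J` preserve the radical roots -/
lemma RJ_w {J : Set ℕ} {u r : ℕ} (hu : u < D.rank) (huJ : u ∈ J) (hr : RJ D J r) : RJ D J (T.w (D.simple u) r) := by
  have hr' := RJ_lt hr
  apply RJ_of_cof C C2 C3 hr (C.w_lt u hu r hr')
  intro j hj hjJ
  rw [C3.cof_w u hu r hr' j hj, if_neg, sub_zero]
  rintro rfl
  exact hjJ huJ

include C3 in
/-- linearity of the Cartan integers under a reflection -/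
lemma cartan_w {u v r : ℕ} (hu : u < D.rank) (hv : v < D.rank) (hr : r < D.nroots) (hw : T.w (D.simple u) r < D.nroots) :
    D.cartan v (T.w (D.simple u) r) = D.cartan v r - D.cartan u r * D.cartan v (D.simple u) := by
  rw [C3.cartan_cof v hv _ hw, C3.cartan_cof v hv r hr]
  have e : ∀ j ∈ Finset.range D.rank, U.cofI (T.w (D.simple u) r) j * D.cartan v (D.simple j) =
      U.cofI r j * D.cartan v (D.simple j) - (if j = u then D.cartan u r * D.cartan v (D.simple u) else 0) := by
    intro j hj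
    rw [C3.cof_w u hu r hr j (Finset.mem_range.mp hj)]
    by_cases hju : j = u
    · subst hju
      simp only [if_true]
      ring
    · simp only [if_neg hju]
      ring
  rw [Finset.sum_congr rfl e, Finset.sum_sub_distrib, Finset.sum_ite_eq', if_pos (Finset.mem_range.mpr hu)]

include C C2 C3 in
/-- Every `i ∈ J` moves a root of the radical, `J` being proper. -/
theorem exists_moved {J : Set ℕ} (hJ' : ∃ j, j < D.rank ∧ j ∉ J) {i : ℕ} (hi : i < D.rank) (hiJ : i ∈ J) :
    ∃ r, RJ D J r ∧ D.cartan i r ≠ 0 := by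
  by_contra hcon
  obtain ⟨j, hj, hjJ⟩ := hJ'
  let P : ℕ → Prop := fun k => k ∈ J → ∃ r, RJ D J r ∧ D.cartan k r ≠ 0
  have step : ∀ a b, a < D.rank → b < D.rank → noncomm D T a b = true → P a → ¬ P b → False := by
    intro a b ha hb hab hPa hPb
    have hbJ : b ∈ J := by
      by_contra hbJ
      exact hPb (fun h => absurd h hbJ)
    have hb0 : ∀ r, RJ D J r → D.cartan b r = 0 := by
      intro r hr
      by_contra hne
      exact hPb (fun _ => ⟨r, hr, hne⟩)
    have hne := cartan_ne_of_noncomm C C2 C3 ha hb hab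
    by_cases haJ : a ∈ J
    · obtain ⟨r, hr, hrne⟩ := hPa haJ
      have h1 := hb0 r hr
      have h2 := hb0 _ (RJ_w C C2 C3 ha haJ hr)
      rw [cartan_w C3 ha hb (RJ_lt hr) (C.w_lt a ha r (RJ_lt hr)), h1, zero_sub, neg_eq_zero] at h2
      rcases mul_eq_zero.mp h2 with h3 | h3
      · exact hrne h3
      · exact hne h3
    · exact hne (hb0 _ (RJ_simple C C2 C3 ha haJ))
  obtain ⟨u, v, ⟨h1, h2⟩, hu, hv, h3⟩ := chain_split (P := P) U.walk C3.walk_chain
    ⟨j, C3.walk_mem j hj, fun h => absurd h hjJ⟩ ⟨i, C3.walk_mem i hi, fun h => hcon (h hiJ)⟩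
  have hu' := C3.walk_lt u hu
  have hv' := C3.walk_lt v hv
  rcases h3 with ⟨h4, h5⟩ | ⟨h4, h5⟩
  · exact step u v hu' hv' h1 h4 h5
  · exact step v u hv' hu' h2 h5 h4

include C C2 C3 in
/-- root strings: a root with a nonzero Cartan integer has a neighbour in the direction of the fundamental root. -/
theorem exists_string {i s : ℕ} (hi : i < D.rank) (hs : s < D.nroots) (h1 : s ≠ D.simple i) (h2 : s ≠ negF D (D.simple i))
    (hA : D.cartan i s ≠ 0) : ∃ s', s' < D.nroots ∧ ∃ ε : ℤ, (ε = 1 ∨ ε = -1) ∧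
      ∀ j, j < D.rank → U.cofI s' j = U.cofI s j + ε * (if j = i then 1 else 0) := by
  have hp := C.simple_lt i hi
  have hneg : D.neg (D.simple i) = negF D (D.simple i) := neg_eq C.neg hp
  have hne : T.w (D.simple i) s ≠ s := by
    intro e
    have h3 := C3.cof_w i hi s hs i hi
    rw [e, if_pos rfl] at h3
    exact hA (by omega)
  rw [C3.w_reflect i hi s hs] at hne
  unfold Cfsg.Lie.ChevalleyDatum.reflectRoot at hne
  simp only [if_neg h1, hneg, if_neg h2] at hne
  have first : ∀ (p k : ℕ), 1 ≤ k → (D.chainRoot p s k).getD s ≠ s → ∃ q, (q, D.chainM p s 1, 1, 1) ∈ D.commTerms p s := by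
    intro p k hk hn
    have h3 : (D.chainEntry p s)[k - 1]? ≠ none := by
      intro h4
      apply hn
      simp [Cfsg.Lie.ChevalleyDatum.chainRoot, h4]
    have h4 : k - 1 < (D.chainEntry p s).length := by
      by_contra h5
      exact h3 (List.getElem?_eq_none (by omega))
    have h5 : (D.chainEntry p s)[0]? ≠ none := by
      intro h6
      rw [List.getElem?_eq_none_iff] at h6
      omega
    obtain ⟨e, he⟩ := Option.ne_none_iff_exists'.mp h5
    refine ⟨e.1, ?_⟩
    unfold Cfsg.Lie.ChevalleyDatum.commTerms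
    simp only [Cfsg.Lie.ChevalleyDatum.chainRoot, List.filterMap_cons, Nat.sub_self, he, Option.map_some]
    simp
  have use : ∀ (p : ℕ) (ε : ℤ), p < D.nroots → (ε = 1 ∨ ε = -1) → (∀ j, j < D.rank → U.cofI p j = ε * (if j = i then 1 else 0)) →
      (∃ q, (q, D.chainM p s 1, 1, 1) ∈ D.commTerms p s) → ∃ s', s' < D.nroots ∧ ∃ ε : ℤ, (ε = 1 ∨ ε = -1) ∧
      ∀ j, j < D.rank → U.cofI s' j = U.cofI s j + ε * (if j = i then 1 else 0) := by
    rintro p ε hpl hε hc ⟨q, hq⟩
    have hlt := comm_lt C C3 hq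
    obtain ⟨h3, h4, h6⟩ := comm_cof C C3 hq
    refine ⟨q, hlt, ε, hε, fun j hj => ?_⟩
    have h7 := h6 j hj
    simp only at h7
    rw [h7, hc j hj]
    simp only [Nat.cast_one, one_mul]
    ring
  by_cases hpos : 0 < D.cartan i s
  · rw [if_pos hpos] at hne
    refine use _ (-1) (negF_lt hp) (Or.inr rfl) ?_ (first _ _ (by omega) hne)
    intro j hj
    rw [C3.cof_neg _ hp j hj, C3.cof_simple i hi j hj]
    ring
  · rw [if_neg hpos, if_pos (lt_of_le_of_ne (not_lt.mp hpos) hA)] at hne
    have hnp := lt_of_le_of_ne (not_lt.mp hpos) hA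
    refine use _ 1 hp (Or.inl rfl) ?_ (first _ _ (by omega) hne)
    intro j hj
    rw [C3.cof_simple i hi j hj]
    ring

end

end Cfsg.Agent.H10
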