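import Cfsg.Agent.Lib.H10.StFit1

/-!
# The centralizer of the unipotent radical in a proper parabolic subgroup
-/

set_option autoImplicit false
set_option linter.style.haveILetI false
set_option linter.unusedSimpArgs false
set_option linter.unusedSectionVars false
set_option linter.unusedVariables false

open Cfsg.Lie Cfsg.Agent.H04.Chev

namespace Cfsg.Agent.H10

variable {D : ChevalleyDatum} {T : Tabs} {U : Tabs3}

section
variable (C : Checks D T) (C2 : Checks2 D T) (C3 : Checks3 D T U)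

include C2 C3 in
/-- an element of `W_J` not decreasing the roots of the radical fixes them -/
lemma v_fix {J : Set ℕ} (hJ : ∀ s ∈ J, s < D.rank) {v : Equiv.Perm (Fin D.nroots)} (hv : v ∈ WJ C J)
    (h : ∀ t : Fin D.nroots, RJ D J t.1 → t.1 ≤ (v t).1) : ∀ t : Fin D.nroots, RJ D J t.1 → v t = t := by
  have h1 : ∀ t : Fin D.nroots, RJ D J t.1 → RJ D J (v t).1 := by
    intro t ht
    exact RJ_of_cof C C2 C3 ht (v t).2 (fun j hj hjJ => cof_WJ C C3 hJ hv hj hjJ t)
  have h2 : ∀ (k : ℕ) (t : Fin D.nroots), RJ D J t.1 → RJ D J ((v ^ k) t).1 ∧ t.1 ≤ ((v ^ k) t).1 := by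
    intro k
    induction k with
    | zero =>
      intro t ht
      simpa using ht
    | succ k ih =>
      intro t ht
      rw [pow_succ, Equiv.Perm.mul_apply]
      obtain ⟨h3, h4⟩ := ih (v t) (h1 t ht)
      exact ⟨h3, (h t ht).trans h4⟩
  intro t ht
  have hpos : 0 < orderOf v := orderOf_pos v
  have h3 := (h2 (orderOf v - 1) (v t) (h1 t ht)).2
  have h4 : (v ^ (orderOf v - 1)) (v t) = t := by
    rw [← Equiv.Perm.mul_apply, ← pow_succ, Nat.sub_add_cancel hpos, pow_orderOf_eq_one, Equiv.Perm.one_apply]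
  rw [h4] at h3
  exact Fin.ext (le_antisymm h3 (h t ht))

include C2 C3 in
/-- an element of `W` fixing the roots of the radical is trivial, `J` being proper -/
lemma fix_one {J : Set ℕ} (hJ' : ∃ j, j < D.rank ∧ j ∉ J) {w : Equiv.Perm (Fin D.nroots)} (hw : w ∈ WW C)
    (h : ∀ t : Fin D.nroots, RJ D J t.1 → w t = t) : w = 1 := by
  have hfix : ∀ r (hr : RJ D J r), piOf w r = r := by
    intro r hr
    have h1 := piOf_apply w (⟨r, RJ_lt hr⟩ : Fin D.nroots)
    rw [h _ hr] at h1
    exact h1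
  have hX : ∀ i, i < D.rank → ∀ j, j < D.rank → U.cofI (piOf w (D.simple i)) j = if j = i then 1 else 0 := by
    intro i hi j hj
    by_cases hiJ : i ∈ J
    · obtain ⟨r, hr, hne⟩ := exists_moved C C2 C3 hJ' hi hiJ
      have hr' := RJ_lt hr
      have hs := RJ_w C C2 C3 hi hiJ hr
      have hs' := RJ_lt hs
      have e1 := cof_perm_linear C C3 hw (⟨r, hr'⟩ : Fin D.nroots) hj
      have e2 := cof_perm_linear C C3 hw (⟨_, hs'⟩ : Fin D.nroots) hj
      simp only at e1 e2
      rw [← piOf_apply w (⟨r, hr'⟩ : Fin D.nroots)] at e1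
      rw [← piOf_apply w (⟨_, hs'⟩ : Fin D.nroots)] at e2
      simp only at e1 e2
      rw [hfix r hr] at e1
      rw [hfix _ hs] at e2
      have e3 : ∑ k ∈ Finset.range D.rank, U.cofI (T.w (D.simple i) r) k * U.cofI (piOf w (D.simple k)) j =
          ∑ k ∈ Finset.range D.rank, U.cofI r k * U.cofI (piOf w (D.simple k)) j - D.cartan i r * U.cofI (piOf w (D.simple i)) j := by
        have e4 : ∀ k ∈ Finset.range D.rank, U.cofI (T.w (D.simple i) r) k * U.cofI (piOf w (D.simple k)) j =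
            U.cofI r k * U.cofI (piOf w (D.simple k)) j - (if k = i then D.cartan i r * U.cofI (piOf w (D.simple i)) j else 0) := by
          intro k hk
          rw [C3.cof_w i hi r hr' k (Finset.mem_range.mp hk)]
          by_cases hki : k = i
          · subst hki
            simp only [if_true]
            ring
          · simp only [if_neg hki]
            ring
        rw [Finset.sum_congr rfl e4, Finset.sum_sub_distrib, Finset.sum_ite_eq', if_pos (Finset.mem_range.mpr hi)]
      rw [e3, ← e1, C3.cof_w i hi r hr' j hj] at e2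
      have e5 : D.cartan i r * U.cofI (piOf w (D.simple i)) j = D.cartan i r * (if j = i then 1 else 0) := by
        by_cases hji : j = i
        · simp only [if_pos hji] at e2 ⊢
          linarith
        · simp only [if_neg hji] at e2 ⊢
          linarith
      exact mul_left_cancel₀ hne e5
    · rw [hfix _ (RJ_simple C C2 C3 hi hiJ), C3.cof_simple i hi j hj]
  have hcof : ∀ (t : Fin D.nroots) (j : ℕ), j < D.rank → U.cofI (w t) j = U.cofI t j := by
    intro t j hj
    rw [cof_perm_linear C C3 hw t hj]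
    have e : ∀ k ∈ Finset.range D.rank, U.cofI t k * U.cofI (piOf w (D.simple k)) j = if k = j then U.cofI t j else 0 := by
      intro k hk
      rw [hX k (Finset.mem_range.mp hk) j hj]
      by_cases hkj : k = j
      · subst hkj
        simp
      · simp [hkj, Ne.symm hkj]
    rw [Finset.sum_congr rfl e, Finset.sum_ite_eq', if_pos (Finset.mem_range.mpr hj)]
  apply eq_one_of_pos C C2 C3 hw
  intro t ht
  obtain ⟨j, hj, _⟩ := hJ'
  rcases C3.support2 t ht t.2 j hj with h1 | ⟨j', hj', _, h2⟩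
  · have h2 : 0 < U.cofI (w t) j := by
      rw [hcof t j hj, h1, C3.cof_simple j hj j hj, if_pos rfl]
      exact one_pos
    exact pos_of_cof C2 C3 (w t).2 hj h2
  · have h3 : 0 < U.cofI (w t) j' := by
      rw [hcof t j' hj']
      exact h2
    exact pos_of_cof C2 C3 (w t).2 hj' h3

variable {F : Type*} [Field F]

include C2 C3 in
/-- the Borel subgroup acts on the filtration -/
lemma B_conj_Vfrom {b : GL D.Idx F} (hb : b ∈ D.borelSubgroup F) {r : ℕ} (hr0 : D.nroots / 2 ≤ r) (hr : r < D.nroots) (t : F) :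
    b * xG C r t * b⁻¹ ∈ Vfrom C r F := by
  obtain ⟨u, hu, h, hh, rfl⟩ := (mem_borel_iff C C2 C3).mp hb
  rw [diagonal_eq C C3] at hh
  obtain ⟨c, rfl⟩ := mem_HT.mp hh
  unfold hProd
  have e : (u * torusG U D (capply D c)) * xG C r t * (u * torusG U D (capply D c))⁻¹ =
      u * (torusG U D (capply D c) * xG C r t * (torusG U D (capply D c))⁻¹) * u⁻¹ := by group
  rw [e, torusG_conj C C3 hr]
  exact (U_conj_Vfrom C C2 hr0 ((mem_posUnipotent_iff_Vfrom C C2).mp hu) _ (xG_mem_Vfrom C le_rfl hr _)).2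

include C2 in
/-- a root element of an earlier root is not in the filtration -/
lemma xG_not_Vfrom {s r : ℕ} (hs0 : D.nroots / 2 ≤ s) (hs : s < D.nroots) (hsr : s < r) {a : F}
    (h : xG C s a ∈ Vfrom C r F) : a = 0 := by
  apply eq_zero_of_xG_mem C C2 hs0 hs
  have : Vfrom C r F ≤ Vfrom C (s + 1) F := by
    unfold Vfrom
    apply Subgroup.closure_mono
    rintro _ ⟨q, t, h1, h2, rfl⟩
    exact ⟨q, t, by omega, h2, rfl⟩
  exact this h

/-- the centralizing elements of the parabolic subgroup -/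
def CentJ (C : Checks D T) (F : Type*) [Field F] (J : Set ℕ) (c : GL D.Idx F) : Prop :=
  c ∈ D.parabolicSubgroup F J ∧ ∀ u ∈ RS C (RJ D J) F, c * u * c⁻¹ = u

include C2 C3 in
lemma CentJ.conj {J : Set ℕ} {c : GL D.Idx F} (h : CentJ C F J c) {g : GL D.Idx F} (hg : g ∈ D.parabolicSubgroup F J) :
    CentJ C F J (g * c * g⁻¹) := by
  refine ⟨mul_mem (mul_mem hg h.1) (inv_mem hg), ?_⟩
  intro u hu
  have h1 := para_le_normalizer C C2 C3 (F := F) J (inv_mem hg)
  rw [UJ_eq C J] at h1
  have h2 := (Subgroup.mem_normalizer_iff.mp h1 u).mp hu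
  rw [inv_inv] at h2
  have h3 := h.2 _ h2
  have e : g * c * g⁻¹ * u * (g * c * g⁻¹)⁻¹ = g * (c * (g⁻¹ * u * g) * c⁻¹) * g⁻¹ := by group
  rw [e, h3]
  group

include C2 C3 in
/-- The centralizing elements lie in the Borel subgroup. -/
theorem cent_borel {J : Set ℕ} (hJ : ∀ s ∈ J, s < D.rank) (hJ' : ∃ j, j < D.rank ∧ j ∉ J) {c : GL D.Idx F}
    (h : CentJ C F J c) : c ∈ D.borelSubgroup F := by
  obtain ⟨v, hv, n, hn, b1, hb1, b2, hb2, e⟩ := (para_iff C C2 C3 hJ).mp h.1
  have hvW := WW_of_WJ C hJ hv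
  have hb := mul_mem hb2 hb1
  -- the conjugate
  have h' : CentJ C F J (b1⁻¹ * c * (b1⁻¹)⁻¹) := CentJ.conj C C2 C3 h (inv_mem (B_le_para hb1))
  have e' : b1⁻¹ * c * (b1⁻¹)⁻¹ = n * (b2 * b1) := by
    rw [e]
    group
  rw [e'] at h'
  obtain ⟨_, π', d, a⟩ := hn.inv
  have key : ∀ t : Fin D.nroots, RJ D J t.1 → t.1 ≤ ((v⁻¹) t).1 := by
    intro t ht
    have ht0 := ((C2.pos_iff _).mp ht.1).1
    have h2 := h'.2 (xG C t.1 1) (xG_mem_RS C t.2 ht 1)
    have h3 : (b2 * b1) * xG C t.1 (1 : F) * (b2 * b1)⁻¹ = n⁻¹ * xG C t.1 1 * (n⁻¹)⁻¹ := by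
      rw [inv_inv]
      nth_rewrite 2 [← h2]
      group
    rw [a.conj t.1 t.2] at h3
    have h4 := B_conj_Vfrom C C2 C3 hb ht0 t.2 (1 : F)
    rw [h3, piOf_apply v⁻¹ t] at h4
    have hpos : D.nroots / 2 ≤ ((v⁻¹) t).1 := by
      refine notsup_pos C C2 C3 hJ (inv_mem hv) ht0 ?_
      intro h5
      exact ht.2 ((inRootSub_iff C3).mpr ⟨t.2, h5⟩)
    by_contra hlt
    have h6 := xG_not_Vfrom C C2 hpos ((v⁻¹) t).2 (not_le.mp hlt) h4
    have h7 : ((d t.1 : Fˣ) : F) * 1 ≠ 0 := by
      rw [mul_one]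
      exact (d t.1).ne_zero
    exact h7 h6
  have hfix := v_fix C C2 C3 hJ (inv_mem hv) key
  have hone := fix_one C C2 C3 hJ' (inv_mem hvW) hfix
  have hv1 : v = 1 := by
    rw [inv_eq_one] at hone
    exact hone
  subst hv1
  have hnH := RepN.unique C2 C3 (RepN.one C) hn
  rw [inv_one, one_mul] at hnH
  rw [e]
  exact mul_mem (mul_mem hb1 (H_le_B hnH)) hb2

/-- the multiplicativity of the values of a character along a string -/
lemma tv_string (ψ : ℕ → Fˣ) {s s' i : ℕ} {ε : ℤ} (hi : i < D.rank)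
    (h : ∀ j, j < D.rank → U.cofI s' j = U.cofI s j + ε * (if j = i then 1 else 0)) :
    tv U D ψ s' = tv U D ψ s * ψ i ^ ε := by
  unfold tv
  have e : ∀ j ∈ Finset.range D.rank, ψ j ^ U.cofI s' j = ψ j ^ U.cofI s j * (if j = i then ψ i ^ ε else 1) := by
    intro j hj
    rw [h j (Finset.mem_range.mp hj), zpow_add]
    by_cases hji : j = i
    · subst hji
      simp
    · simp [hji]
  rw [Finset.prod_congr rfl e, Finset.prod_mul_distrib, Finset.prod_ite_eq', if_pos (Finset.mem_range.mpr hi)]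

include C C2 C3 in
/-- a character trivial on the roots of the radical is trivial -/
lemma torus_trivial {J : Set ℕ} (hJ' : ∃ j, j < D.rank ∧ j ∉ J) {ψ : ℕ → Fˣ} (hψ : ∀ r, RJ D J r → tv U D ψ r = 1) :
    ∀ i, i < D.rank → ψ i = 1 := by
  intro i hi
  by_cases hiJ : i ∈ J
  · obtain ⟨r, hr, hne⟩ := exists_moved C C2 C3 hJ' hi hiJ
    have hr' := RJ_lt hr
    have h1 : r ≠ D.simple i := by
      rintro rfl
      exact hr.2 (simple_inRootSub C C3 hi hiJ)
    have h2 : r ≠ negF D (D.simple i) := by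
      rintro rfl
      exact hr.2 (neg_inRootSub C3 (simple_inRootSub C C3 hi hiJ))
    obtain ⟨s', hs', ε, hε, hc⟩ := exists_string C C2 C3 hi hr' h1 h2 hne
    have h3 : RJ D J s' := by
      apply RJ_of_cof C C2 C3 hr hs'
      intro j hj hjJ
      rw [hc j hj, if_neg, mul_zero, add_zero]
      rintro rfl
      exact hjJ hiJ
    have h4 := tv_string (U := U) (D := D) ψ hi hc
    rw [hψ _ h3, hψ _ hr, one_mul] at h4
    rcases hε with rfl | rfl
    · simpa using h4.symm
    · simpa using h4.symm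
  · have := hψ _ (RJ_simple C C2 C3 hi hiJ)
    rwa [tv_simple C3 hi ψ] at this

include C2 C3 in
/-- The centralizing elements of the Borel subgroup lie in `U`. -/
theorem cent_unip {J : Set ℕ} (hJ' : ∃ j, j < D.rank ∧ j ∉ J) {c : GL D.Idx F}
    (h : CentJ C F J c) (hB : c ∈ D.borelSubgroup F) : c ∈ D.posUnipotent F := by
  obtain ⟨u, hu, k, hk, rfl⟩ := (mem_borel_iff C C2 C3).mp hB
  rw [diagonal_eq C C3] at hk
  obtain ⟨e, rfl⟩ := mem_HT.mp hk
  unfold hProd at *
  set ψ := capply D e with hψ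
  have huV := (mem_posUnipotent_iff_Vfrom C C2).mp hu
  have htv : ∀ r, RJ D J r → tv U D ψ r = 1 := by
    intro r hr
    have hr' := RJ_lt hr
    have hr0 := ((C2.pos_iff _).mp hr.1).1
    have h2 := h.2 (xG C r 1) (xG_mem_RS C hr' hr 1)
    have e2 : u * torusG U D ψ * xG C r (1 : F) * (u * torusG U D ψ)⁻¹ =
        u * (torusG U D ψ * xG C r (1 : F) * (torusG U D ψ)⁻¹) * u⁻¹ := by group
    rw [e2, torusG_conj C C3 hr', mul_one] at h2
    have h3 := comm_x_Vfrom C C2 hr0 hr' (inv_mem huV) (((tv U D ψ r : Fˣ) : F))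
    rw [inv_inv, h2, xG_inv C, xG_add C] at h3
    have h4 := eq_zero_of_xG_mem C C2 hr0 hr' h3
    apply Units.ext
    rw [Units.val_one]
    linear_combination -h4
  have hone : torusG U D ψ = 1 := by
    have h1 := torus_trivial C C2 C3 hJ' htv
    apply Units.ext
    show torusM U D ψ = 1
    unfold torusM
    have h2 : ∀ c : ℕ, tv U D ψ c = 1 := by
      intro c
      unfold tv
      apply Finset.prod_eq_one
      intro j hj
      rw [h1 j (Finset.mem_range.mp hj), one_zpow]
    simp [h2, Matrix.diagonal_one]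
  rw [hone, mul_one]
  exact hu

include C2 C3 in
/-- **The centralizer of the unipotent radical**: in a proper parabolic subgroup the centralizer of the radical lies
in the radical. -/
theorem cent_radical {J : Set ℕ} (hJ : ∀ s ∈ J, s < D.rank) (hJ' : ∃ j, j < D.rank ∧ j ∉ J) {c : GL D.Idx F}
    (h : CentJ C F J c) : c ∈ RS C (RJ D J) F := by
  have hB := cent_borel C C2 C3 hJ hJ' h
  have hU := cent_unip C C2 C3 hJ' h hB
  obtain ⟨z, hz, hzn⟩ := exists_noAsc C C2 C3 hJ
  have hzW := WW_of_WJ C hJ hz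
  obtain ⟨n, hn⟩ := RepN.exists (F := F) C C3 hzW
  have hnP : n ∈ D.parabolicSubgroup F J :=
    (para_iff C C2 C3 hJ).mpr ⟨z, hz, n, hn, 1, one_mem _, 1, one_mem _, by group⟩
  have h2 : CentJ C F J (n⁻¹ * c * (n⁻¹)⁻¹) := CentJ.conj C C2 C3 h (inv_mem hnP)
  have h3 := cent_borel C C2 C3 hJ hJ' h2
  rw [inv_inv] at h3
  exact (stabU C2 C3 hJ hz hzn hn hU).mp h3

end

end Cfsg.Agent.H10
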