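import Cfsg.Agent.Lib.H10.StW

/-!
# Cosets of parabolic subgroups: group level
-/

set_option autoImplicit false
set_option linter.style.haveILetI false
set_option linter.unusedSimpArgs false
set_option linter.unusedSectionVars false
set_option linter.unusedVariables false

open Cfsg.Lie Cfsg.Agent.H04.Chev

namespace Cfsg.Agent.H10

variable {D : ChevalleyDatum} {T : Tabs} {U : Tabs3}

/-- `n` represents the Weyl group element `w` -/
def RepN (C : Checks D T) (F : Type*) [Field F] (w : Equiv.Perm (Fin D.nroots)) (n : GL D.Idx F) : Prop :=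
  n ∈ D.monomialSubgroup F ∧ ∃ π' d, NAct C n (piOf w) π' d

lemma piOf_mul (x y : Equiv.Perm (Fin D.nroots)) {s : ℕ} (hs : s < D.nroots) : piOf (x * y) s = piOf x (piOf y s) := by
  have h : piOf y s = (y ⟨s, hs⟩).1 := piOf_apply y ⟨s, hs⟩
  rw [h, piOf_apply x (y ⟨s, hs⟩)]
  exact piOf_apply (x * y) ⟨s, hs⟩

section
variable {C : Checks D T} (C2 : Checks2 D T) (C3 : Checks3 D T U)
variable {F : Type*} [Field F]
variable {x y w v : Equiv.Perm (Fin D.nroots)} {n m : GL D.Idx F}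

lemma RepN.mul (h : RepN C F x n) (h' : RepN C F y m) : RepN C F (x * y) (n * m) := by
  obtain ⟨hn, π', d, a⟩ := h
  obtain ⟨hm, ρ', e, b⟩ := h'
  exact ⟨mul_mem hn hm, _, _, (a.mul b).congr fun s hs => piOf_mul x y hs⟩

lemma RepN.inv (h : RepN C F x n) : RepN C F x⁻¹ n⁻¹ := by
  obtain ⟨hn, π', d, a⟩ := h
  refine ⟨inv_mem hn, _, _, a.inv.congr ?_⟩
  intro s hs
  have h1 := a.right s hs
  have h2 := a.lt' s hs
  have h3 : x ⟨π' s, h2⟩ = ⟨s, hs⟩ := Fin.ext (by rw [← piOf_apply]; exact h1)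
  have h4 : x⁻¹ ⟨s, hs⟩ = ⟨π' s, h2⟩ := by rw [← h3]; simp
  have h5 : piOf x⁻¹ s = (x⁻¹ ⟨s, hs⟩).1 := piOf_apply _ ⟨s, hs⟩
  rw [h5, h4]

variable (C)

include C3 in
lemma RepN.exists (hw : w ∈ WW C) : ∃ n : GL D.Idx F, RepN C F w n := by
  obtain ⟨n, hn, π, π', d, h, hπ⟩ := exists_rep (F := F) C C3 hw
  refine ⟨n, hn, π', d, h.congr ?_⟩
  intro s hs
  have := hπ ⟨s, hs⟩
  rw [← piOf_apply] at this
  exact this

include C3 in
lemma RepN.of_N (hn : n ∈ D.monomialSubgroup F) : ∃ w ∈ WW C, RepN C F w n := by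
  obtain ⟨w, hw, ρ, ρ', d', h', hρ⟩ := monomial_le_NW C C3 hn
  refine ⟨w, hw, hn, ρ', d', h'.congr ?_⟩
  intro s hs
  have := hρ ⟨s, hs⟩
  rw [← piOf_apply] at this
  exact this

variable {C}

lemma RepN.perm_eq (h : RepN C F w n) (h' : RepN C F v n) : w = v := by
  obtain ⟨_, π', d, a⟩ := h
  obtain ⟨_, ρ', e, b⟩ := h'
  ext s
  have := NAct.perm_unique a b s.2
  rwa [piOf_apply, piOf_apply] at this

include C2 C3 in
lemma RepN.unique (h : RepN C F w n) (h' : RepN C F w m) : n⁻¹ * m ∈ D.diagonalSubgroup F := by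
  have h2 := h.inv.mul h'
  rw [inv_mul_cancel] at h2
  obtain ⟨hN, π', d, a⟩ := h2
  refine mem_H_of_pos C C2 C3 hN a ?_
  intro r hr1 hr2
  have := piOf_apply (1 : Equiv.Perm (Fin D.nroots)) ⟨r, hr2⟩
  rw [show piOf (1 : Equiv.Perm (Fin D.nroots)) r = r from this]
  exact hr1

include C3 in
lemma RepN.ofH {h : GL D.Idx F} (hh : h ∈ D.diagonalSubgroup F) : RepN C F 1 h := by
  have h2 : h ∈ HT U D F := by
    rw [← diagonal_eq C C3]
    exact hh
  obtain ⟨c, hc⟩ := mem_HT.mp h2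
  have a : NAct (F := F) C (hProd U D c) _ _ _ := NAct_torus (F := F) C C3 (capply D c)
  rw [← hc] at a
  refine ⟨le_sup_left (a := D.diagonalSubgroup F) hh, _, _, a.congr ?_⟩
  intro s hs
  exact piOf_apply (1 : Equiv.Perm (Fin D.nroots)) ⟨s, hs⟩

include C3 in
lemma RepN.w_eq (h : RepN C F w n) (h' : RepN C F v m) (hH : n⁻¹ * m ∈ D.diagonalSubgroup F) : w = v := by
  have h2 := h.mul (RepN.ofH C3 hH)
  rw [mul_one, mul_inv_cancel_left] at h2
  exact h2.perm_eq h'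

variable (C)

lemma RepN.one : RepN C F 1 (1 : GL D.Idx F) := by
  refine ⟨one_mem _, id, _, (NAct_one (F := F) C).congr ?_⟩
  intro s hs
  exact piOf_apply (1 : Equiv.Perm (Fin D.nroots)) ⟨s, hs⟩

lemma RepN.simple {i : ℕ} (hi : i < D.rank) : RepN C F (wPn C i) (nG C (D.simple i) (1 : F)) := by
  refine ⟨nG_mem_monomial C (C.simple_lt i hi), _, _, (NAct_simple (F := F) C hi).congr ?_⟩
  intro s hs
  have h := piOf_apply (wPn C i) ⟨s, hs⟩
  rw [h]
  exact wPn_apply C hi ⟨s, hs⟩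

include C2 in
/-- positive root subgroups lie in the Borel subgroup -/
lemma RS_le_U {R : ℕ → Prop} (hR : ∀ r, r < D.nroots → R r → D.nroots / 2 ≤ r) : RS C R F ≤ D.posUnipotent F := by
  unfold RS
  rw [Subgroup.closure_le]
  rintro _ ⟨r, t, h1, h2, rfl⟩
  exact xG_mem_pos C ((C2.pos_iff _).mpr ⟨hR r h1 h2, h1⟩) _

include C2 C3 in
/-- additivity for `K`-minimal elements -/
lemma rep_add {K : Set ℕ} (hK : ∀ s ∈ K, s < D.rank) (hw : w ∈ WW C) (hkm : KMin C K w) (hv : v ∈ WJ C K)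
    (hn : RepN C F w n) (hm : RepN C F v m) {b : GL D.Idx F} (hb : b ∈ D.borelSubgroup F) :
    ∃ b1 ∈ D.borelSubgroup F, ∃ b2 ∈ D.borelSubgroup F, n * b * m = b1 * (n * m) * b2 := by
  obtain ⟨u, hu, h, hh, rfl⟩ := (mem_borel_iff C C2 C3).mp hb
  obtain ⟨hnN, π', d, a⟩ := hn
  obtain ⟨hmN, ρ', e, c⟩ := hm.inv
  obtain ⟨a1, ha1, a2, ha2, rfl⟩ := U_factor_n C C2 C3 a hu
  have hm2 : (m⁻¹)⁻¹ = m := inv_inv m
  have h1 : n * a1 * n⁻¹ ∈ D.posUnipotent F := conj_Rplus C C2 C3 a ha1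
  have h2 : m⁻¹ * a2 * (m⁻¹)⁻¹ ∈ RS C (fun r => D.nroots / 2 ≤ r) F := by
    refine c.conj_RS ?_ ha2
    intro s hs hR
    have hR1 : D.nroots / 2 ≤ (⟨s, hs⟩ : Fin D.nroots).1 := hR.1
    by_cases hsup : SupK U D K (⟨s, hs⟩ : Fin D.nroots).1
    · have := kmin_pos C C2 C3 hK hw hkm hR1 hsup
      have h3 : piOf w s < D.nroots / 2 := hR.2
      rw [show piOf w s = (w ⟨s, hs⟩).1 from piOf_apply w ⟨s, hs⟩] at h3
      omega
    · have := notsup_pos C C2 C3 hK (inv_mem hv) hR1 hsup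
      rw [show piOf v⁻¹ s = (v⁻¹ ⟨s, hs⟩).1 from piOf_apply v⁻¹ ⟨s, hs⟩]
      exact this
  rw [hm2] at h2
  have h3 : m⁻¹ * h * m ∈ D.diagonalSubgroup F := by
    have := N_conj_H C C3 hmN hh
    simpa only [inv_inv] using this
  refine ⟨n * a1 * n⁻¹, U_le_B h1, m⁻¹ * a2 * m * (m⁻¹ * h * m),
    mul_mem (U_le_B (RS_le_U C C2 (fun r _ hr => hr) h2)) (H_le_B h3), ?_⟩
  group

include C2 C3 in
/-- `P_K = B W_K B` -/
lemma para_iff {K : Set ℕ} (hK : ∀ s ∈ K, s < D.rank) {g : GL D.Idx F} :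
    g ∈ D.parabolicSubgroup F K ↔ ∃ v ∈ WJ C K, ∃ n, RepN C F v n ∧
      ∃ b ∈ D.borelSubgroup F, ∃ b' ∈ D.borelSubgroup F, g = b * n * b' := by
  constructor
  · intro hg
    let P := bnPair C C2 C3 F
    let J : Set ↥(D.group F) := {s | ∃ i, i ∈ K ∧ (s : GL D.Idx F) = nG C (D.simple i) (1 : F)}
    have hJ : J ⊆ P.S := by
      rintro s ⟨i, hi, e⟩
      exact (mem_SS C).mpr ⟨i, hK i hi, e⟩
    have hle : D.parabolicSubgroup F K ≤ (P.parabolic J).map (D.group F).subtype := by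
      unfold Cfsg.Lie.ChevalleyDatum.parabolicSubgroup
      refine sup_le ?_ ?_
      · intro b hb
        exact ⟨⟨b, B_le_group C hb⟩, Cfsg.Agent.H02.BN.B_le_parabolic J hb, rfl⟩
      · rw [Subgroup.closure_le]
        rintro g ⟨j, hjK, hj, h⟩
        have e : g = nG C (D.simple j) 1 := Units.ext (by rw [h, nG_val])
        refine ⟨⟨g, e ▸ nG_mem_group C (C.simple_lt j hj) 1⟩, ?_, rfl⟩
        exact Cfsg.Agent.H02.BN.closure_le_parabolic J (Subgroup.subset_closure ⟨j, hjK, e⟩)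
    obtain ⟨g', hg', rfl⟩ := hle hg
    obtain ⟨n, hn, b, hb, b', hb', rfl⟩ := (Cfsg.Agent.H02.BN.mem_parabolic_iff hJ).mp hg'
    have hrep : ∀ n' : ↥(D.group F), n' ∈ Subgroup.closure J → ∃ v ∈ WJ C K, RepN C F v (n' : GL D.Idx F) := by
      intro n' hn'
      induction hn' using Subgroup.closure_induction with
      | mem s hs =>
        obtain ⟨i, hi, e⟩ := hs
        rw [e]
        exact ⟨wPn C i, wPn_mem C hi, RepN.simple C (hK i hi)⟩
      | one => exact ⟨1, one_mem _, RepN.one C⟩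
      | mul a c _ _ ha hc =>
        obtain ⟨v, hv, h1⟩ := ha
        obtain ⟨v', hv', h2⟩ := hc
        exact ⟨v * v', mul_mem hv hv', h1.mul h2⟩
      | inv a _ ha =>
        obtain ⟨v, hv, h1⟩ := ha
        exact ⟨v⁻¹, inv_mem hv, h1.inv⟩
    obtain ⟨v, hv, h1⟩ := hrep n hn
    exact ⟨v, hv, _, h1, _, hb, _, hb', rfl⟩
  · rintro ⟨v, hv, n, hn, b, hb, b', hb', rfl⟩
    have hB : D.borelSubgroup F ≤ D.parabolicSubgroup F K := B_le_para
    obtain ⟨l, hl, rfl⟩ := exists_word C hv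
    have hw : ∀ l : List ℕ, (∀ i ∈ l, i ∈ K) → ∃ m ∈ D.parabolicSubgroup F K, RepN C F (wordP C l) m := by
      intro l
      induction l with
      | nil => intro _; exact ⟨1, one_mem _, RepN.one C⟩
      | cons i l ih =>
        intro hl
        obtain ⟨m, hm, h⟩ := ih (fun j hj => hl j (List.mem_cons_of_mem _ hj))
        rw [wordP_cons]
        have hi := hl i List.mem_cons_self
        exact ⟨_, mul_mem (nG_mem_para C (hK i hi) hi) hm, (RepN.simple C (hK i hi)).mul h⟩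
    obtain ⟨m, hm, h⟩ := hw l hl
    have h2 := RepN.unique C2 C3 h hn
    have e : n = m * (m⁻¹ * n) := by group
    rw [e]
    exact mul_mem (mul_mem (hB hb) (mul_mem hm (hB (H_le_B h2)))) (hB hb')

variable {C}

include C2 C3 in
/-- the `B`-orbits on `P_J / P_K` cover -/
lemma para_cover {J K : Set ℕ} (hJ : ∀ s ∈ J, s < D.rank) (hKJ : K ⊆ J) (rep : Equiv.Perm (Fin D.nroots) → GL D.Idx F)
    (hrep : ∀ x ∈ WW C, RepN C F x (rep x)) {g : GL D.Idx F} (hg : g ∈ D.parabolicSubgroup F J) :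
    ∃ x ∈ WJ C J, KMin C K x ∧ ∃ b ∈ D.borelSubgroup F, ∃ p ∈ D.parabolicSubgroup F K, g = b * rep x * p := by
  have hK : ∀ s ∈ K, s < D.rank := fun s hs => hJ s (hKJ hs)
  obtain ⟨v, hv, n, hn, b, hb, b', hb', rfl⟩ := (para_iff C C2 C3 hJ).mp hg
  obtain ⟨x, y, hx, hxm, hy, rfl⟩ := exists_kmin_dec C C2 C3 hK (WW_of_WJ C hJ hv)
  have hxJ : x ∈ WJ C J := by
    have h1 := mul_mem hv (inv_mem (WJ_mono C hKJ hy))
    rwa [mul_inv_cancel_right] at h1
  refine ⟨x, hxJ, hxm, b, hb, (rep x)⁻¹ * n * b', ?_, by group⟩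
  have h2 := (hrep x hx).inv.mul hn
  rw [inv_mul_cancel_left] at h2
  exact mul_mem ((para_iff C C2 C3 hK).mpr ⟨y, hy, _, h2, 1, one_mem _, 1, one_mem _, by group⟩) (B_le_para hb')

include C2 C3 in
/-- the `B`-orbits on `P_J / P_K` are disjoint -/
lemma para_disj {K : Set ℕ} (hK : ∀ s ∈ K, s < D.rank) {x x' : Equiv.Perm (Fin D.nroots)} (hx : x ∈ WW C) (hx' : x' ∈ WW C)
    (hm : KMin C K x) (hm' : KMin C K x') {n n' : GL D.Idx F} (hn : RepN C F x n) (hn' : RepN C F x' n')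
    {b p : GL D.Idx F} (hb : b ∈ D.borelSubgroup F) (hp : p ∈ D.parabolicSubgroup F K) (e : n' = b * n * p) : x = x' := by
  obtain ⟨y, hy, m, hrm, b1, hb1, b2, hb2, rfl⟩ := (para_iff C C2 C3 hK).mp hp
  obtain ⟨c1, hc1, c2, hc2, e2⟩ := rep_add C C2 C3 hK hx hm hy hn hrm hb1
  have e3 : 1 * n' * 1 = (b * c1) * (n * m) * (c2 * b2) := by
    rw [e]
    have : b * n * (b1 * m * b2) = b * (n * b1 * m) * b2 := by group
    rw [this, e2]
    group
  have h1 := dc_unique C C2 C3 (one_mem _) (mul_mem hb hc1) hn'.1 (hn.mul hrm).1 (one_mem _) (mul_mem hc2 hb2) e3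
  have h2 := RepN.w_eq C3 hn' (hn.mul hrm) h1
  subst h2
  exact kmin_uniq C C2 C3 hK hx hx' hm hm' (by simpa using hy)

include C2 C3 in
/-- the stabilizer in `B` -/
lemma para_stab {K : Set ℕ} (hK : ∀ s ∈ K, s < D.rank) {x : Equiv.Perm (Fin D.nroots)} (hx : x ∈ WW C)
    (hm : KMin C K x) {n : GL D.Idx F} (hn : RepN C F x n) {c : GL D.Idx F} (hc : c ∈ D.borelSubgroup F)
    (hp : n⁻¹ * c * n ∈ D.parabolicSubgroup F K) : n⁻¹ * c * n ∈ D.borelSubgroup F := by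
  obtain ⟨y, hy, m, hrm, b1, hb1, b2, hb2, e⟩ := (para_iff C C2 C3 hK).mp hp
  obtain ⟨c1, hc1, c2, hc2, e2⟩ := rep_add C C2 C3 hK hx hm hy hn hrm hb1
  have e3 : c * n * 1 = c1 * (n * m) * (c2 * b2) := by
    have h1 : c * n = n * (n⁻¹ * c * n) := by group
    rw [mul_one, h1, e]
    have : n * (b1 * m * b2) = (n * b1 * m) * b2 := by group
    rw [this, e2]
    group
  have h1 := dc_unique C C2 C3 hc hc1 hn.1 (hn.mul hrm).1 (one_mem _) (mul_mem hc2 hb2) e3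
  rw [inv_mul_cancel_left] at h1
  rw [e]
  exact mul_mem (mul_mem hb1 (H_le_B h1)) hb2

include C2 C3 in
/-- the stabilizer of a point: decomposition -/
lemma stab_dec {x : Equiv.Perm (Fin D.nroots)} {n : GL D.Idx F} (hn : RepN C F x n) {b : GL D.Idx F}
    (hb : b ∈ D.borelSubgroup F) :
    ∃ a ∈ RS C (Rminus D (piOf x⁻¹)) F, ∃ c ∈ D.borelSubgroup F, n⁻¹ * c * n ∈ D.borelSubgroup F ∧ b = a * c := by
  obtain ⟨u, hu, h, hh, rfl⟩ := (mem_borel_iff C C2 C3).mp hb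
  obtain ⟨_, π', d, a⟩ := hn.inv
  obtain ⟨a1, ha1, a2, ha2, rfl⟩ := U_factor C C2 (R := Rminus D (piOf x⁻¹)) (R' := Rplus D (piOf x⁻¹)) (fun r _ hr => hr.1)
    (fun r h0 _ => by
      by_cases h1 : D.nroots / 2 ≤ piOf x⁻¹ r
      · exact Or.inr ⟨h0, h1⟩
      · exact Or.inl ⟨h0, not_le.mp h1⟩) hu
  have h1 : n⁻¹ * a2 * (n⁻¹)⁻¹ ∈ D.posUnipotent F := conj_Rplus C C2 C3 a ha2
  rw [inv_inv] at h1
  have h2 : n⁻¹ * h * n ∈ D.diagonalSubgroup F := by
    have := N_conj_H C C3 (inv_mem hn.1) hh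
    simpa only [inv_inv] using this
  refine ⟨a1, ha1, a2 * h, mul_mem (U_le_B (RS_le_U C C2 (fun r _ hr => hr.1) ha2)) (H_le_B hh), ?_, by group⟩
  have e : n⁻¹ * (a2 * h) * n = (n⁻¹ * a2 * n) * (n⁻¹ * h * n) := by group
  rw [e]
  exact mul_mem (U_le_B h1) (H_le_B h2)

include C2 C3 in
/-- the minus part meets the stabilizer trivially -/
lemma stab_inj {x : Equiv.Perm (Fin D.nroots)} {n : GL D.Idx F} (hn : RepN C F x n) {a : GL D.Idx F}
    (ha : a ∈ RS C (Rminus D (piOf x⁻¹)) F) (h : n⁻¹ * a * n ∈ D.borelSubgroup F) : a = 1 := by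
  obtain ⟨_, π', d, c⟩ := hn.inv
  have h1 : n⁻¹ * a * (n⁻¹)⁻¹ ∈ D.negUnipotent F := conj_Rminus C C2 C3 c ha
  rw [inv_inv] at h1
  have h2 : n⁻¹ * a * n ∈ D.borelSubgroup F ⊓ D.negUnipotent F := Subgroup.mem_inf.mpr ⟨h, h1⟩
  rw [borel_inf_neg C C2 C3, Subgroup.mem_bot] at h2
  have e : a = n * (n⁻¹ * a * n) * n⁻¹ := by group
  rw [e, h2]
  group

include C2 C3 in
/-- the Borel subgroup meets its opposite in the diagonal subgroup -/
lemma stab_w0 {z : Equiv.Perm (Fin D.nroots)} (hz : z ∈ WW C) (hN : NoAsc C (Rk D) z⁻¹) {n : GL D.Idx F} (hn : RepN C F z n) {b : GL D.Idx F}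
    (hb : b ∈ D.borelSubgroup F) (h : n⁻¹ * b * n ∈ D.borelSubgroup F) : b ∈ D.diagonalSubgroup F := by
  obtain ⟨u, hu, k, hk, rfl⟩ := (mem_borel_iff C C2 C3).mp hb
  obtain ⟨_, π', d, a⟩ := hn.inv
  have hu' : u ∈ RS C (Rminus D (piOf z⁻¹)) F := by
    obtain ⟨a1, ha1, a2, ha2, rfl⟩ := U_factor_n C C2 C3 a hu
    have h1 : a1 = 1 := by
      have : RS C (Rplus D (piOf z⁻¹)) F ≤ ⊥ := by
        unfold RS
        rw [Subgroup.closure_le]
        rintro _ ⟨r, t, h1, h2, rfl⟩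
        exfalso
        have h3 := h2.2
        rw [show piOf z⁻¹ r = (z⁻¹ ⟨r, h1⟩).1 from piOf_apply z⁻¹ ⟨r, h1⟩] at h3
        have h4 := noAsc_neg C C2 C3 (K := Rk D) (fun s hs => hs) (inv_mem hz) hN (t := ⟨r, h1⟩) h2.1 (supK_all C3 r)
        omega
      exact Subgroup.mem_bot.mp (this ha1)
    rwa [h1, one_mul]
  have h2 : n⁻¹ * k * n ∈ D.diagonalSubgroup F := by
    have := N_conj_H C C3 (inv_mem hn.1) hk
    simpa only [inv_inv] using this
  have h3 : n⁻¹ * u * n ∈ D.borelSubgroup F := by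
    have e : n⁻¹ * u * n = (n⁻¹ * (u * k) * n) * (n⁻¹ * k * n)⁻¹ := by group
    rw [e]
    exact mul_mem h (inv_mem (H_le_B h2))
  have h4 := stab_inj C2 C3 hn hu' h3
  rw [h4, one_mul]
  exact hk

end

end Cfsg.Agent.H10
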