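import Cfsg.Agent.Lib.H21.CharInd
import Cfsg.Prelude.Def_ParabolicCharacters

/-!
# Inner products of permutation characters
-/

set_option autoImplicit false

namespace Cfsg.Agent.H10

open MulAction Cfsg

universe u

variable {G : Type u} [Group G]

/-- the number of points fixed times the order of the subgroup -/
lemma card_conj_mem [Fintype G] (H : Subgroup G) (g : G) :
    Nat.card {x : G // x⁻¹ * g * x ∈ H} = Nat.card (fixedBy (G ⧸ H) g) * Nat.card H := by
  classical
  have hout : ∀ q : G ⧸ H, ((q.out : G) : G ⧸ H) = q := fun q => QuotientGroup.out_eq' q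
  have hfix : ∀ q : fixedBy (G ⧸ H) g, (q.1.out)⁻¹ * g * q.1.out ∈ H := by
    rintro ⟨q, hq⟩
    rw [mem_fixedBy] at hq
    have h1 : g • ((q.out : G) : G ⧸ H) = ((q.out : G) : G ⧸ H) := by rw [hout]; exact hq
    rw [MulAction.Quotient.smul_coe] at h1
    have h2 := QuotientGroup.eq.mp h1
    simp only [smul_eq_mul] at h2
    have h3 : (q.out)⁻¹ * g * q.out = (q.out)⁻¹ * (g * q.out) := by group
    have h4 := inv_mem h2
    rw [h3]
    simpa [mul_assoc] using h4
  let Ψ : fixedBy (G ⧸ H) g × H → {x : G // x⁻¹ * g * x ∈ H} := fun s =>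
    ⟨s.1.1.out * s.2, by
      have e : (s.1.1.out * (s.2 : G))⁻¹ * g * (s.1.1.out * (s.2 : G)) =
          (s.2 : G)⁻¹ * ((s.1.1.out)⁻¹ * g * s.1.1.out) * s.2 := by group
      rw [e]
      exact mul_mem (mul_mem (inv_mem s.2.2) (hfix s.1)) s.2.2⟩
  have hΨ : Function.Bijective Ψ := by
    constructor
    · rintro ⟨⟨q, hq⟩, ⟨h, hh⟩⟩ ⟨⟨q', hq'⟩, ⟨h', hh'⟩⟩ e
      have e1 : q.out * h = q'.out * h' := congrArg Subtype.val e
      have e2 : q = q' := by
        rw [← hout q, ← hout q']
        apply QuotientGroup.eq.mpr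
        have : (q.out)⁻¹ * q'.out = h * h'⁻¹ := by
          have h3 : q'.out = q.out * h * h'⁻¹ := by rw [e1]; group
          rw [h3]; group
        rw [this]
        exact mul_mem hh (inv_mem hh')
      subst e2
      have e3 : h = h' := mul_left_cancel e1
      subst e3
      rfl
    · rintro ⟨x, hx⟩
      have hq : ((x : G) : G ⧸ H) ∈ fixedBy (G ⧸ H) g := by
        rw [mem_fixedBy, MulAction.Quotient.smul_coe]
        apply QuotientGroup.eq.mpr
        simp only [smul_eq_mul]
        have h3 : (g * x)⁻¹ * x = (x⁻¹ * g * x)⁻¹ := by group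
        rw [h3]
        exact inv_mem hx
      have h4 : (((x : G) : G ⧸ H).out)⁻¹ * x ∈ H := by
        apply QuotientGroup.eq.mp
        rw [hout]
      refine ⟨⟨⟨_, hq⟩, ⟨_, h4⟩⟩, ?_⟩
      apply Subtype.ext
      show ((x : G) : G ⧸ H).out * (((x : G) : G ⧸ H).out⁻¹ * x) = x
      group
  rw [← Nat.card_prod]
  exact (Nat.card_congr (Equiv.ofBijective Ψ hΨ)).symm

/-- The permutation character is induced from the trivial character. -/
theorem fpc_eq_indFun [Fintype G] (H : Subgroup G) : fixedPointCharacter H = indFun H (fun _ => (1 : ℂ)) := by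
  classical
  funext g
  unfold fixedPointCharacter indFun
  have h1 : ∀ x : G, extendByZero H (fun _ => (1 : ℂ)) (x⁻¹ * g * x) = if x⁻¹ * g * x ∈ H then 1 else 0 := by
    intro x
    by_cases h : x⁻¹ * g * x ∈ H
    · rw [if_pos h]
      exact Cfsg.Agent.H21.extendByZero_coe H _ (⟨_, h⟩ : H)
    · rw [if_neg h]
      exact Cfsg.Agent.H21.extendByZero_of_not_mem H _ h
  simp only [h1]
  have h2 : (∑ x : G, if x⁻¹ * g * x ∈ H then (1 : ℂ) else 0) = (Nat.card {x : G // x⁻¹ * g * x ∈ H} : ℂ) := by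
    rw [Finset.sum_boole, Nat.card_eq_fintype_card, Fintype.card_subtype]
  rw [h2, card_conj_mem]
  have hne : (Nat.card H : ℂ) ≠ 0 := by
    exact_mod_cast Nat.card_pos.ne'
  push_cast
  field_simp

theorem isCharacter_fpc [Fintype G] (H : Subgroup G) : IsCharacter G (fixedPointCharacter H) := by
  classical
  haveI : Fintype H := Fintype.ofFinite _
  rw [fpc_eq_indFun]
  exact Cfsg.Agent.H21.isCharacter_indFun H Cfsg.Agent.H21.isCharacter_one

section
variable {ι : Type*} (P Q : Subgroup G) (r : ι → G)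

/-- orbits on a product -/
theorem card_orbits_prod [Finite G] [Fintype ι]
    (hcover : ∀ g : G, ∃ i, ∃ p ∈ P, ∃ q ∈ Q, g = p * r i * q)
    (hdisj : ∀ i j, ∀ p ∈ P, ∀ q ∈ Q, r j = p * r i * q → i = j) :
    Nat.card (orbitRel.Quotient G ((G ⧸ P) × (G ⧸ Q))) = Fintype.card ι := by
  classical
  let Φ : ι → orbitRel.Quotient G ((G ⧸ P) × (G ⧸ Q)) := fun i =>
    Quotient.mk'' (((1 : G) : G ⧸ P), ((r i : G) : G ⧸ Q))
  have hΦ : Function.Bijective Φ := by
    constructor
    · intro i j e
      have e1 := Quotient.exact' e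
      rw [orbitRel_apply] at e1
      obtain ⟨γ, hγ⟩ := e1
      have h1 : γ • ((1 : G) : G ⧸ P) = ((1 : G) : G ⧸ P) := congrArg Prod.fst hγ
      have h2 : γ • ((r j : G) : G ⧸ Q) = ((r i : G) : G ⧸ Q) := congrArg Prod.snd hγ
      rw [MulAction.Quotient.smul_coe] at h1 h2
      have h3 := QuotientGroup.eq.mp h1
      have h4 := QuotientGroup.eq.mp h2
      simp only [smul_eq_mul, mul_one] at h3 h4
      have h5 : γ ∈ P := by
        have := inv_mem h3
        rwa [inv_inv] at this
      refine (hdisj j i γ h5 _ h4 ?_).symm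
      group
    · intro s
      induction s using Quotient.inductionOn' with
      | h s =>
      obtain ⟨a, b⟩ := s
      induction a using QuotientGroup.induction_on with
      | H g =>
      induction b using QuotientGroup.induction_on with
      | H g' =>
      obtain ⟨i, p, hp, q, hq, e⟩ := hcover (g⁻¹ * g')
      refine ⟨i, ?_⟩
      apply Quotient.sound'
      rw [orbitRel_apply]
      refine ⟨p⁻¹ * g⁻¹, ?_⟩
      apply Prod.ext
      · show (p⁻¹ * g⁻¹) • ((g : G) : G ⧸ P) = ((1 : G) : G ⧸ P)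
        rw [MulAction.Quotient.smul_coe]
        apply QuotientGroup.eq.mpr
        simp only [smul_eq_mul]
        have : ((p⁻¹ * g⁻¹) * g)⁻¹ * 1 = p := by group
        rw [this]
        exact hp
      · show (p⁻¹ * g⁻¹) • ((g' : G) : G ⧸ Q) = ((r i : G) : G ⧸ Q)
        rw [MulAction.Quotient.smul_coe]
        apply QuotientGroup.eq.mpr
        simp only [smul_eq_mul]
        have e2 : (p⁻¹ * g⁻¹) * g' = r i * q := by
          have : g' = g * (p * r i * q) := by rw [← e]; group
          rw [this]; group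
        rw [e2]
        have : (r i * q)⁻¹ * r i = q⁻¹ := by group
        rw [this]
        exact inv_mem hq
  rw [← Nat.card_congr (Equiv.ofBijective Φ hΦ), Nat.card_eq_fintype_card]

/-- Burnside for a product of coset spaces -/
theorem inner_fpc_eq_card [Fintype G] [Fintype ι]
    (hcover : ∀ g : G, ∃ i, ∃ p ∈ P, ∃ q ∈ Q, g = p * r i * q)
    (hdisj : ∀ i j, ∀ p ∈ P, ∀ q ∈ Q, r j = p * r i * q → i = j) :
    classInner (fixedPointCharacter P) (fixedPointCharacter Q) = (Fintype.card ι : ℂ) := by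
  classical
  have h1 := MulAction.sum_card_fixedBy_eq_card_orbits_mul_card_group G ((G ⧸ P) × (G ⧸ Q))
  simp only [← Nat.card_eq_fintype_card] at h1
  rw [show Nat.card (Quotient (orbitRel G ((G ⧸ P) × (G ⧸ Q)))) = Fintype.card ι from card_orbits_prod P Q r hcover hdisj] at h1
  have h2 : ∀ g : G, Nat.card (fixedBy ((G ⧸ P) × (G ⧸ Q)) g) = Nat.card (fixedBy (G ⧸ P) g) * Nat.card (fixedBy (G ⧸ Q) g) := by
    intro g
    rw [← Nat.card_prod]
    apply Nat.card_congr
    exact {
      toFun := fun s => ⟨⟨s.1.1, congrArg Prod.fst s.2⟩, ⟨s.1.2, congrArg Prod.snd s.2⟩⟩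
      invFun := fun s => ⟨(s.1.1, s.2.1), Prod.ext s.1.2 s.2.2⟩
      left_inv := fun s => rfl
      right_inv := fun s => rfl }
  unfold classInner fixedPointCharacter
  have h3 : ∑ g : G, ((Nat.card (fixedBy (G ⧸ P) g) : ℕ) : ℂ) * (starRingEnd ℂ) ((Nat.card (fixedBy (G ⧸ Q) g) : ℕ) : ℂ) =
      (((Fintype.card ι) * Nat.card G : ℕ) : ℂ) := by
    rw [← h1]
    push_cast
    refine Finset.sum_congr rfl fun g _ => ?_
    rw [h2, Complex.conj_natCast]
    push_cast
    rfl
  rw [h3]
  have hne : (Nat.card G : ℂ) ≠ 0 := by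
    exact_mod_cast Nat.card_pos.ne'
  push_cast
  field_simp

end

end Cfsg.Agent.H10
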