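import Mathlib

/-!
# Orbits of a subgroup on a coset space: counting fixed points
-/

set_option autoImplicit false

namespace Cfsg.Agent.H10

open MulAction

variable {Γ : Type*} [Group Γ]

/-- the stabilizer in `B` of `r B`-type points -/
def Bw (B : Subgroup Γ) (r : Γ) : Subgroup ↥B where
  carrier := {x | r⁻¹ * (x : Γ) * r ∈ B}
  one_mem' := by simp
  mul_mem' := by
    intro a b ha hb
    have : r⁻¹ * ((a * b : ↥B) : Γ) * r = (r⁻¹ * (a : Γ) * r) * (r⁻¹ * (b : Γ) * r) := by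
      simp only [Subgroup.coe_mul]; group
    show r⁻¹ * ((a * b : ↥B) : Γ) * r ∈ B
    rw [this]
    exact mul_mem ha hb
  inv_mem' := by
    intro a ha
    have : r⁻¹ * ((a⁻¹ : ↥B) : Γ) * r = (r⁻¹ * (a : Γ) * r)⁻¹ := by
      simp only [Subgroup.coe_inv]; group
    show r⁻¹ * ((a⁻¹ : ↥B) : Γ) * r ∈ B
    rw [this]
    exact inv_mem ha

lemma mem_Bw {B : Subgroup Γ} {r : Γ} {x : ↥B} : x ∈ Bw B r ↔ r⁻¹ * (x : Γ) * r ∈ B := Iff.rfl

section
variable (B P : Subgroup Γ) {ι : Type*} (r : ι → Γ)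

/-- the map from the disjoint union of the orbits -/
noncomputable def orbMap (hBP : B ≤ P) : (Σ i, ↥B ⧸ Bw B (r i)) → Γ ⧸ P := fun s =>
  Quotient.liftOn' s.2 (fun x : ↥B => ((x : Γ) * r s.1 : Γ ⧸ P)) (by
    intro a b hab
    have h1 : (a : ↥B)⁻¹ * b ∈ Bw B (r s.1) := QuotientGroup.leftRel_apply.mp hab
    apply QuotientGroup.eq.mpr
    have h2 : (r s.1)⁻¹ * (((a : ↥B)⁻¹ * b : ↥B) : Γ) * r s.1 ∈ B := h1
    have e : ((a : Γ) * r s.1)⁻¹ * ((b : Γ) * r s.1) = (r s.1)⁻¹ * (((a : ↥B)⁻¹ * b : ↥B) : Γ) * r s.1 := by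
      simp only [Subgroup.coe_mul, Subgroup.coe_inv]; group
    rw [e]
    exact hBP h2)

lemma orbMap_mk (hBP : B ≤ P) (i : ι) (x : ↥B) :
    orbMap B P r hBP ⟨i, (x : ↥B ⧸ Bw B (r i))⟩ = ((x : Γ) * r i : Γ ⧸ P) := rfl

variable {B P r}
variable (hBP : B ≤ P)
  (hcover : ∀ g : Γ, ∃ i, ∃ b ∈ B, ∃ p ∈ P, g = b * r i * p)
  (hdisj : ∀ i j, ∀ b ∈ B, ∀ p ∈ P, r j = b * r i * p → i = j)
  (hstab : ∀ i, ∀ c ∈ B, (r i)⁻¹ * c * r i ∈ P → (r i)⁻¹ * c * r i ∈ B)

include hBP hcover hdisj hstab in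
lemma orbMap_bij : Function.Bijective (orbMap B P r hBP) := by
  constructor
  · rintro ⟨i, q⟩ ⟨j, q'⟩ e
    induction q using QuotientGroup.induction_on with
    | H x =>
    induction q' using QuotientGroup.induction_on with
    | H y =>
    rw [orbMap_mk, orbMap_mk] at e
    have h1 : ((x : Γ) * r i)⁻¹ * ((y : Γ) * r j) ∈ P := QuotientGroup.eq.mp e
    have hij : i = j := by
      apply hdisj i j ((y : Γ)⁻¹ * (x : Γ)) (mul_mem (inv_mem y.2) x.2) _ h1
      group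
    subst hij
    congr 1
    apply QuotientGroup.eq.mpr
    show (r i)⁻¹ * ((x⁻¹ * y : ↥B) : Γ) * r i ∈ B
    have e2 : (r i)⁻¹ * ((x⁻¹ * y : ↥B) : Γ) * r i = ((x : Γ) * r i)⁻¹ * ((y : Γ) * r i) := by
      simp only [Subgroup.coe_mul, Subgroup.coe_inv]; group
    rw [e2]
    have e3 : (r i)⁻¹ * ((x : Γ)⁻¹ * (y : Γ)) * r i = ((x : Γ) * r i)⁻¹ * ((y : Γ) * r i) := by group
    rw [← e3]
    apply hstab i _ (mul_mem (inv_mem x.2) y.2)
    rw [e3]
    exact h1
  · intro q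
    induction q using QuotientGroup.induction_on with
    | H g =>
    obtain ⟨i, b, hb, p, hp, e⟩ := hcover g
    refine ⟨⟨i, ((⟨b, hb⟩ : ↥B) : ↥B ⧸ Bw B (r i))⟩, ?_⟩
    rw [orbMap_mk]
    apply QuotientGroup.eq.mpr
    rw [e]
    have e2 : (b * r i)⁻¹ * (b * r i * p) = p := by group
    simp only
    rw [e2]
    exact hp

include hBP in
lemma orbMap_smul (b : ↥B) (i : ι) (q : ↥B ⧸ Bw B (r i)) :
    orbMap B P r hBP ⟨i, b • q⟩ = (b : Γ) • orbMap B P r hBP ⟨i, q⟩ := by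
  induction q using QuotientGroup.induction_on with
  | H x =>
  rw [MulAction.Quotient.smul_coe, orbMap_mk, orbMap_mk, MulAction.Quotient.smul_coe]
  simp only [smul_eq_mul, Subgroup.coe_mul]
  rw [mul_assoc]

include hBP hcover hdisj hstab in
/-- the number of fixed points on the cosets of `P` is a sum over the `B`-orbits -/
theorem card_fixedBy_eq_sum [Fintype ι] [Finite Γ] (b : ↥B) :
    Nat.card (fixedBy (Γ ⧸ P) (b : Γ)) = ∑ i, Nat.card (fixedBy (↥B ⧸ Bw B (r i)) b) := by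
  classical
  have hbij := orbMap_bij hBP hcover hdisj hstab
  let ψ : (Σ i, fixedBy (↥B ⧸ Bw B (r i)) b) → fixedBy (Γ ⧸ P) (b : Γ) := fun s =>
    ⟨orbMap B P r hBP ⟨s.1, s.2.1⟩, by
      have h := s.2.2
      rw [mem_fixedBy] at h ⊢
      rw [← orbMap_smul, h]⟩
  have hψ : Function.Bijective ψ := by
    constructor
    · rintro ⟨i, q, hq⟩ ⟨j, q', hq'⟩ e
      have e1 := hbij.1 (congrArg Subtype.val e)
      have hij : i = j := congrArg Sigma.fst e1
      subst hij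
      have e2 : q = q' := by
        simpa using e1
      subst e2
      rfl
    · rintro ⟨x, hx⟩
      obtain ⟨⟨i, q⟩, e⟩ := hbij.2 x
      refine ⟨⟨i, q, ?_⟩, Subtype.ext e⟩
      rw [mem_fixedBy] at hx ⊢
      have h1 : orbMap B P r hBP ⟨i, b • q⟩ = orbMap B P r hBP ⟨i, q⟩ := by
        rw [orbMap_smul, e, hx]
      have h2 := hbij.1 h1
      simpa using h2
  rw [← Nat.card_congr (Equiv.ofBijective ψ hψ), Nat.card_sigma]

end

/-- Inclusion-exclusion over the sets contained in the ascents. -/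
theorem sum_powerset_asc {W : Type*} [Fintype W] (R : Finset ℕ) (asc : W → Finset ℕ) (hasc : ∀ w, asc w ⊆ R)
    (f : W → ℂ) [∀ K : Finset ℕ, Fintype {w : W // K ⊆ asc w}] :
    ∑ K ∈ R.powerset, (-1 : ℂ) ^ K.card * ∑ w : {w : W // K ⊆ asc w}, f w.1 =
      ∑ w : {w : W // asc w = ∅}, f w.1 := by
  classical
  have h1 : ∀ K : Finset ℕ, ∑ w : {w : W // K ⊆ asc w}, f w.1 = ∑ w, if K ⊆ asc w then f w else 0 := by
    intro K
    rw [← Finset.sum_filter]
    exact (Finset.sum_subtype (Finset.univ.filter fun w => K ⊆ asc w) (by simp) f).symm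
  have h2 : ∑ w : {w : W // asc w = ∅}, f w.1 = ∑ w, if asc w = ∅ then f w else 0 := by
    rw [← Finset.sum_filter]
    exact (Finset.sum_subtype (Finset.univ.filter fun w => asc w = ∅) (by simp) f).symm
  rw [h2]
  simp only [h1, Finset.mul_sum]
  rw [Finset.sum_comm]
  refine Finset.sum_congr rfl fun w _ => ?_
  have h3 : ∑ K ∈ R.powerset, (-1 : ℂ) ^ K.card * (if K ⊆ asc w then f w else 0) =
      ∑ K ∈ (asc w).powerset, (-1 : ℂ) ^ K.card * f w := by
    rw [← Finset.sum_filter_add_sum_filter_not R.powerset (fun K => K ⊆ asc w)]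
    have h4 : ∑ K ∈ R.powerset.filter (fun K => ¬ K ⊆ asc w), (-1 : ℂ) ^ K.card * (if K ⊆ asc w then f w else 0) = 0 := by
      apply Finset.sum_eq_zero
      intro K hK
      rw [if_neg (Finset.mem_filter.mp hK).2, mul_zero]
    rw [h4, add_zero]
    have h5 : R.powerset.filter (fun K => K ⊆ asc w) = (asc w).powerset := by
      ext K
      simp only [Finset.mem_filter, Finset.mem_powerset]
      exact ⟨fun h => h.2, fun h => ⟨h.trans (hasc w), h⟩⟩
    rw [h5]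
    refine Finset.sum_congr rfl fun K hK => ?_
    rw [if_pos (Finset.mem_powerset.mp hK)]
  rw [h3, ← Finset.sum_mul]
  have h6 : ∑ K ∈ (asc w).powerset, (-1 : ℂ) ^ K.card = ((∑ K ∈ (asc w).powerset, (-1 : ℤ) ^ K.card : ℤ) : ℂ) := by
    push_cast
    rfl
  rw [h6, Finset.sum_powerset_neg_one_pow_card]
  by_cases h7 : asc w = ∅
  · simp [h7]
  · simp [h7]

end Cfsg.Agent.H10
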