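import Cfsg.Agent.Lib.H10.StG
import Cfsg.Agent.Lib.H10.StOrb
import Cfsg.Prelude.Def_ParabolicCharacters

/-!
# The alternating sum of permutation characters on the Borel subgroup
-/

set_option autoImplicit false
set_option linter.style.haveILetI false
set_option linter.unusedSimpArgs false
set_option linter.unusedSectionVars false
set_option linter.unusedVariables false

open Cfsg.Lie Cfsg.Agent.H04.Chev MulAction

namespace Cfsg.Agent.H10

variable {D : ChevalleyDatum} {T : Tabs} {U : Tabs3}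

section
variable (C : Checks D T) (C2 : Checks2 D T) (C3 : Checks3 D T U)
variable (F : Type*) [Field F]

/-- a choice of representatives -/
noncomputable def repN (x : Equiv.Perm (Fin D.nroots)) : GL D.Idx F := by
  classical
  exact if h : ∃ n : GL D.Idx F, RepN C F x n then h.choose else 1

include C3 in
lemma repN_spec {x : Equiv.Perm (Fin D.nroots)} (hx : x ∈ WW C) : RepN C F x (repN C F x) := by
  classical
  have h := RepN.exists (F := F) C C3 hx
  unfold repN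
  rw [dif_pos h]
  exact h.choose_spec

/-- the ascents in `R` -/
noncomputable def ascS (R : Finset ℕ) (w : Equiv.Perm (Fin D.nroots)) : Finset ℕ := by
  classical
  exact R.filter fun i => ∀ hi : i < D.rank, D.nroots / 2 ≤ (w (sF C hi)).1

variable {F}

lemma subset_ascS_iff {R K : Finset ℕ} (hKR : K ⊆ R) (hR : ∀ s ∈ R, s < D.rank) {w : Equiv.Perm (Fin D.nroots)} :
    K ⊆ ascS C R w ↔ KMin C (↑K : Set ℕ) w := by
  classical
  unfold ascS
  constructor
  · intro h i hi hiK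
    exact (Finset.mem_filter.mp (h hiK)).2 hi
  · intro h i hiK
    exact Finset.mem_filter.mpr ⟨hKR hiK, fun hi => h i hi hiK⟩

lemma ascS_eq_empty_iff {R : Finset ℕ} (hR : ∀ s ∈ R, s < D.rank) {w : Equiv.Perm (Fin D.nroots)} :
    ascS C R w = ∅ ↔ NoAsc C (↑R : Set ℕ) w := by
  classical
  unfold ascS
  rw [Finset.filter_eq_empty_iff]
  constructor
  · intro h i hi hiR
    have := h hiR
    push Not at this
    obtain ⟨_, h1⟩ := this
    exact h1
  · intro h i hiR hcon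
    have := hcon (hR i hiR)
    have h2 := h i (hR i hiR) hiR
    omega

variable (R : Finset ℕ) (hR : ∀ s ∈ R, s < D.rank) (A : Subgroup (GL D.Idx F))
  (hA : A = D.parabolicSubgroup F (↑R : Set ℕ))

include C2 C3 hR hA in
lemma repN_mem {x : Equiv.Perm (Fin D.nroots)} (hx : x ∈ WJ C (↑R : Set ℕ)) : repN C F x ∈ A := by
  rw [hA]
  have hR' : ∀ s ∈ (↑R : Set ℕ), s < D.rank := hR
  exact (para_iff C C2 C3 hR').mpr ⟨x, hx, _, repN_spec C C3 F (WW_of_WJ C hR' hx), 1, one_mem _, 1, one_mem _, by group⟩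

include hA in
lemma borel_le_A : D.borelSubgroup F ≤ A := by
  rw [hA]
  exact B_le_para

/-- the Borel subgroup inside `A` -/
abbrev borelIn : Subgroup ↥A := (D.borelSubgroup F).subgroupOf A

/-- the representative as an element of `A` -/
noncomputable def repA (x : ↥(WJ C (↑R : Set ℕ))) : ↥A := ⟨repN C F x.1, repN_mem C C2 C3 R hR A hA x.2⟩

/-- the points of `A / P_K` as a sum of orbits -/
theorem fix_sum (K : Finset ℕ) (hKR : K ⊆ R) [Finite F] (b : ↥(borelIn (D := D) A))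
    [Fintype {w : ↥(WJ C (↑R : Set ℕ)) // K ⊆ ascS C R w.1}] :
    Nat.card (fixedBy (↥A ⧸ (D.parabolicSubgroup F (↑K : Set ℕ)).subgroupOf A) (b : ↥A)) =
      ∑ w : {w : ↥(WJ C (↑R : Set ℕ)) // K ⊆ ascS C R w.1},
        Nat.card (fixedBy (↥(borelIn (D := D) A) ⧸ Bw (borelIn (D := D) A) (repA C C2 C3 R hR A hA w.1)) b) := by
  classical
  have hR' : ∀ s ∈ (↑R : Set ℕ), s < D.rank := hR
  have hKR' : (↑K : Set ℕ) ⊆ (↑R : Set ℕ) := by exact_mod_cast hKR
  have hK' : ∀ s ∈ (↑K : Set ℕ), s < D.rank := fun s hs => hR' s (hKR' hs)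
  haveI : Finite ↥A := inferInstance
  refine card_fixedBy_eq_sum (r := fun w : {w : ↥(WJ C (↑R : Set ℕ)) // K ⊆ ascS C R w.1} => repA C C2 C3 R hR A hA w.1)
    ?_ ?_ ?_ ?_ b
  · intro x hx
    exact B_le_para hx
  · rintro ⟨g, hg⟩
    have hg' : g ∈ D.parabolicSubgroup F (↑R : Set ℕ) := hA ▸ hg
    obtain ⟨x, hx, hxm, b, hb, p, hp, e⟩ := para_cover C2 C3 hR' hKR' (repN C F) (fun x hx => repN_spec C C3 F hx) hg'
    have hbA : b ∈ A := borel_le_A R A hA hb
    have hn : repN C F x ∈ A := repN_mem C C2 C3 R hR A hA hx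
    have hpA : p ∈ A := by
      have h1 : p = (b * repN C F x)⁻¹ * g := by rw [e]; group
      rw [h1]
      exact mul_mem (inv_mem (mul_mem hbA hn)) hg
    refine ⟨⟨⟨x, hx⟩, (subset_ascS_iff C hKR hR).mpr hxm⟩, ⟨b, hbA⟩, hb, ⟨p, hpA⟩, hp, ?_⟩
    exact Subtype.ext e
  · rintro ⟨⟨x, hx⟩, hxK⟩ ⟨⟨y, hy⟩, hyK⟩ ⟨b, hbA⟩ hb ⟨p, hpA⟩ hp e
    have e1 : repN C F y = b * repN C F x * p := congrArg Subtype.val e
    have h1 := para_disj C2 C3 hK' (WW_of_WJ C hR' hx) (WW_of_WJ C hR' hy) ((subset_ascS_iff C hKR hR).mp hxK)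
      ((subset_ascS_iff C hKR hR).mp hyK) (repN_spec C C3 F (WW_of_WJ C hR' hx)) (repN_spec C C3 F (WW_of_WJ C hR' hy)) hb hp e1
    subst h1
    rfl
  · rintro ⟨⟨x, hx⟩, hxK⟩ ⟨c, hcA⟩ hc hp
    exact para_stab C2 C3 hK' (WW_of_WJ C hR' hx) ((subset_ascS_iff C hKR hR).mp hxK) (repN_spec C C3 F (WW_of_WJ C hR' hx)) hc hp

/-- the alternating sum over the subsets of `R` -/
theorem alt_sum_fix [Finite F] (z : Equiv.Perm (Fin D.nroots)) (hz : z ∈ WJ C (↑R : Set ℕ)) (hzn : NoAsc C (↑R : Set ℕ) z)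
    (b : ↥(borelIn (D := D) A)) :
    ∑ K ∈ R.powerset, (-1 : ℂ) ^ K.card *
        (Nat.card (fixedBy (↥A ⧸ (D.parabolicSubgroup F (↑K : Set ℕ)).subgroupOf A) (b : ↥A)) : ℂ) =
      (Nat.card (fixedBy (↥(borelIn (D := D) A) ⧸ Bw (borelIn (D := D) A) (repA C C2 C3 R hR A hA ⟨z, hz⟩)) b) : ℂ) := by
  classical
  have hR' : ∀ s ∈ (↑R : Set ℕ), s < D.rank := hR
  haveI : Fintype ↥(WJ C (↑R : Set ℕ)) := Fintype.ofFinite _
  let f : ↥(WJ C (↑R : Set ℕ)) → ℂ := fun w =>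
    (Nat.card (fixedBy (↥(borelIn (D := D) A) ⧸ Bw (borelIn (D := D) A) (repA C C2 C3 R hR A hA w)) b) : ℂ)
  have h1 : ∀ K ∈ R.powerset, (-1 : ℂ) ^ K.card *
        (Nat.card (fixedBy (↥A ⧸ (D.parabolicSubgroup F (↑K : Set ℕ)).subgroupOf A) (b : ↥A)) : ℂ) =
      (-1 : ℂ) ^ K.card * ∑ w : {w : ↥(WJ C (↑R : Set ℕ)) // K ⊆ ascS C R w.1}, f w.1 := by
    intro K hK
    rw [fix_sum C C2 C3 R hR A hA K (Finset.mem_powerset.mp hK) b]
    push_cast
    rfl
  rw [Finset.sum_congr rfl h1]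
  have h2 := sum_powerset_asc R (fun w : ↥(WJ C (↑R : Set ℕ)) => ascS C R w.1)
    (fun w => by classical exact Finset.filter_subset _ _) f
  rw [h2]
  have hz0 : ascS C R z = ∅ := (ascS_eq_empty_iff C hR).mpr hzn
  rw [Finset.sum_eq_single (⟨⟨z, hz⟩, hz0⟩ : {w : ↥(WJ C (↑R : Set ℕ)) // ascS C R w.1 = ∅})]
  · rintro ⟨⟨y, hy⟩, hy0⟩ _ hne
    exfalso
    apply hne
    have := noAsc_uniq C C2 C3 hR' hy hz ((ascS_eq_empty_iff C hR).mp hy0) hzn
    subst this
    rfl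
  · intro h
    exact absurd (Finset.mem_univ _) h

end

end Cfsg.Agent.H10
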