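import Cfsg.Agent.Lib.H10.St1
import Cfsg.Agent.Lib.H10.StInner
import Cfsg.Agent.Lib.H01.Frobenius

/-!
# Irreducibility of the Steinberg character
-/

set_option autoImplicit false
set_option linter.style.haveILetI false
set_option linter.unusedSimpArgs false
set_option linter.unusedSectionVars false
set_option linter.unusedVariables false

open Cfsg.Lie Cfsg.Agent.H04.Chev MulAction Cfsg
open Cfsg.Agent.H21 (classInner_sum_right classInner_smul_right)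

namespace Cfsg.Agent.H10

variable {D : ChevalleyDatum} {T : Tabs} {U : Tabs3}

section
variable {C : Checks D T} (C2 : Checks2 D T) (C3 : Checks3 D T U)
variable {F : Type*} [Field F]

include C2 C3 in
lemma right_step {i : ℕ} (hi : i < D.rank) {n b : GL D.Idx F} (hn : n ∈ D.monomialSubgroup F) (hb : b ∈ D.borelSubgroup F) :
    (∃ c1 ∈ D.borelSubgroup F, ∃ c2 ∈ D.borelSubgroup F, n * b * nG C (D.simple i) 1 = c1 * (n * nG C (D.simple i) 1) * c2) ∨
    (∃ c1 ∈ D.borelSubgroup F, ∃ c2 ∈ D.borelSubgroup F, n * b * nG C (D.simple i) 1 = c1 * n * c2) := by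
  let P := bnPair C C2 C3 F
  have hs : nS C F hi ∈ P.S := (mem_SS C).mpr ⟨i, hi, rfl⟩
  have hn' : (⟨n, N_le_group C hn⟩ : ↥(D.group F)) ∈ P.N := hn
  have hb' : (⟨b, B_le_group C hb⟩ : ↥(D.group F)) ∈ P.B := hb
  rcases Cfsg.Agent.H02.BN.t4_right hs hn' hb' with ⟨c1, hc1, c2, hc2, e⟩ | ⟨c1, hc1, c2, hc2, e⟩
  · left
    exact ⟨c1.1, hc1, c2.1, hc2, congrArg Subtype.val e⟩
  · right
    exact ⟨c1.1, hc1, c2.1, hc2, congrArg Subtype.val e⟩

lemma RepN.word (C : Checks D T) (C3 : Checks3 D T U) {l : List ℕ} (hl : ∀ i ∈ l, i < D.rank) : RepN C F (wordP C l) (nWordG C F l) := by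
  obtain ⟨π', d, a⟩ := NAct_word (F := F) C hl
  exact ⟨nWordG_mem C C3 hl, π', d, a.congr fun s hs => piOf_word C hl hs⟩

include C2 C3 in
lemma gen_right {K : Set ℕ} (hK : ∀ s ∈ K, s < D.rank) : ∀ l : List ℕ, (∀ i ∈ l, i ∈ K) → ∀ n ∈ D.monomialSubgroup F, ∀ b ∈ D.borelSubgroup F,
    ∃ y ∈ WJ C K, ∃ m, RepN C F y m ∧ ∃ c1 ∈ D.borelSubgroup F, ∃ c2 ∈ D.borelSubgroup F,
      n * b * nWordG C F l = c1 * (n * m) * c2 := by
  intro l
  induction l with
  | nil =>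
    intro _ n _ b hb
    exact ⟨1, one_mem _, 1, RepN.one C, 1, one_mem _, b, hb, by simp [nWordG]⟩
  | cons i l ih =>
    intro hl n hn b hb
    have hiK := hl i List.mem_cons_self
    have hl' : ∀ j ∈ l, j ∈ K := fun j hj => hl j (List.mem_cons_of_mem _ hj)
    rw [nWordG_cons]
    rcases right_step C2 C3 (hK i hiK) hn hb with ⟨c1, hc1, c2, hc2, e⟩ | ⟨c1, hc1, c2, hc2, e⟩
    · have hs := RepN.simple C (F := F) (hK i hiK)
      obtain ⟨y, hy, m, hm, d1, hd1, d2, hd2, e2⟩ := ih hl' (n * nG C (D.simple i) 1) (mul_mem hn hs.1) c2 hc2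
      refine ⟨wPn C i * y, mul_mem (wPn_mem C hiK) hy, nG C (D.simple i) 1 * m, hs.mul hm, c1 * d1, mul_mem hc1 hd1, d2, hd2, ?_⟩
      rw [← mul_assoc, e]
      calc c1 * (n * nG C (D.simple i) 1) * c2 * nWordG C F l = c1 * (n * nG C (D.simple i) 1 * c2 * nWordG C F l) := by group
        _ = c1 * d1 * (n * (nG C (D.simple i) 1 * m)) * d2 := by rw [e2]; group
    · obtain ⟨y, hy, m, hm, d1, hd1, d2, hd2, e2⟩ := ih hl' n hn c2 hc2
      refine ⟨y, hy, m, hm, c1 * d1, mul_mem hc1 hd1, d2, hd2, ?_⟩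
      rw [← mul_assoc, e]
      calc c1 * n * c2 * nWordG C F l = c1 * (n * c2 * nWordG C F l) := by group
        _ = c1 * d1 * (n * m) * d2 := by rw [e2]; group

include C2 C3 in
lemma gen_right' {K : Set ℕ} (hK : ∀ s ∈ K, s < D.rank) {v : Equiv.Perm (Fin D.nroots)} {m : GL D.Idx F} (hv : v ∈ WJ C K) (hm : RepN C F v m)
    {n b : GL D.Idx F} (hn : n ∈ D.monomialSubgroup F) (hb : b ∈ D.borelSubgroup F) :
    ∃ y ∈ WJ C K, ∃ m', RepN C F y m' ∧ ∃ c1 ∈ D.borelSubgroup F, ∃ c2 ∈ D.borelSubgroup F, n * b * m = c1 * (n * m') * c2 := by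
  obtain ⟨l, hl, rfl⟩ := exists_word C hv
  have hl' : ∀ i ∈ l, i ∈ K := hl
  have hl2 : ∀ i ∈ l, i < D.rank := fun i hi => hK i (hl' i hi)
  have h1 := RepN.unique C2 C3 (RepN.word C C3 hl2) hm
  obtain ⟨y, hy, m', hm', c1, hc1, c2, hc2, e⟩ := gen_right C2 C3 hK l hl' n hn b hb
  refine ⟨y, hy, m', hm', c1, hc1, c2 * ((nWordG C F l)⁻¹ * m), mul_mem hc2 (H_le_B h1), ?_⟩
  calc n * b * m = (n * b * nWordG C F l) * ((nWordG C F l)⁻¹ * m) := by group
    _ = _ := by rw [e]; group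

include C2 C3 in
lemma gen_left {J : Set ℕ} (hJ : ∀ s ∈ J, s < D.rank) {x : Equiv.Perm (Fin D.nroots)} {m : GL D.Idx F} (hx : x ∈ WJ C J) (hm : RepN C F x m)
    {n b : GL D.Idx F} (hn : n ∈ D.monomialSubgroup F) (hb : b ∈ D.borelSubgroup F) :
    ∃ y ∈ WJ C J, ∃ m', RepN C F y m' ∧ ∃ c1 ∈ D.borelSubgroup F, ∃ c2 ∈ D.borelSubgroup F, m * b * n = c1 * (m' * n) * c2 := by
  obtain ⟨y, hy, m', hm', c1, hc1, c2, hc2, e⟩ := gen_right' C2 C3 hJ (inv_mem hx) hm.inv (inv_mem hn) (inv_mem hb)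
  refine ⟨y⁻¹, inv_mem hy, m'⁻¹, hm'.inv, c2⁻¹, inv_mem hc2, c1⁻¹, inv_mem hc1, ?_⟩
  have h1 := congrArg (·⁻¹) e
  simp only [mul_inv_rev, inv_inv] at h1
  simpa [mul_assoc] using h1

include C2 C3 in
lemma two_sided {J K : Set ℕ} (hJ : ∀ s ∈ J, s < D.rank) (hK : ∀ s ∈ K, s < D.rank) {n : GL D.Idx F}
    (hn : n ∈ D.monomialSubgroup F) {γ p : GL D.Idx F} (hγ : γ ∈ D.parabolicSubgroup F J) (hp : p ∈ D.parabolicSubgroup F K) :
    ∃ x ∈ WJ C J, ∃ y ∈ WJ C K, ∃ m1 m2, RepN C F x m1 ∧ RepN C F y m2 ∧ ∃ c1 ∈ D.borelSubgroup F, ∃ c2 ∈ D.borelSubgroup F,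
      γ * n * p = c1 * (m1 * n * m2) * c2 := by
  obtain ⟨x, hx, m, hm, b1, hb1, b2, hb2, rfl⟩ := (para_iff C C2 C3 hJ).mp hγ
  obtain ⟨v, hv, m', hm', b3, hb3, b4, hb4, rfl⟩ := (para_iff C C2 C3 hK).mp hp
  obtain ⟨y, hy, m2, hm2, c1, hc1, c2, hc2, e1⟩ := gen_right' C2 C3 hK hv hm' hn hb3
  obtain ⟨x', hx', m1, hm1, d1, hd1, d2, hd2, e2⟩ := gen_left C2 C3 hJ hx hm (mul_mem hn hm2.1) (mul_mem hb2 hc1)
  refine ⟨x', hx', y, hy, m1, m2, hm1, hm2, b1 * d1, mul_mem hb1 hd1, d2 * c2 * b4, mul_mem (mul_mem hd2 hc2) hb4, ?_⟩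
  calc b1 * m * b2 * n * (b3 * m' * b4) = b1 * m * b2 * (n * b3 * m') * b4 := by group
    _ = b1 * (m * (b2 * c1) * (n * m2)) * c2 * b4 := by rw [e1]; group
    _ = _ := by rw [e2]; group

include C2 C3 in
/-- disjointness of the double cosets -/
lemma dc_disj {J K : Set ℕ} (hJ : ∀ s ∈ J, s < D.rank) (hK : ∀ s ∈ K, s < D.rank) {d e : Equiv.Perm (Fin D.nroots)} (hd : d ∈ WW C) (he : e ∈ WW C)
    (hd1 : KMin C J d⁻¹) (hd2 : KMin C K d) (he1 : KMin C J e⁻¹) (he2 : KMin C K e)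
    {n n' : GL D.Idx F} (hn : RepN C F d n) (hn' : RepN C F e n') {γ p : GL D.Idx F} (hγ : γ ∈ D.parabolicSubgroup F J)
    (hp : p ∈ D.parabolicSubgroup F K) (hE : n' = γ * n * p) : d = e := by
  obtain ⟨x, hx, y, hy, m1, m2, h1, h2, c1, hc1, c2, hc2, e1⟩ := two_sided C2 C3 hJ hK hn.1 hγ hp
  have hrep := (h1.mul hn).mul h2
  have e3 : 1 * n' * 1 = c1 * (m1 * n * m2) * c2 := by
    rw [one_mul, mul_one, hE, e1]
  have h3 := dc_unique C C2 C3 (one_mem _) hc1 hn'.1 hrep.1 (one_mem _) hc2 e3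
  have h4 := RepN.w_eq C3 hn' hrep h3
  exact (bm_uniq C C2 C3 hJ hK hd he hd1 hd2 he1 he2 _ x y rfl hx hy h4).symm

include C2 C3 in
/-- covering by the double cosets -/
lemma dc_cover {J K : Set ℕ} (hJ : ∀ s ∈ J, s < D.rank) (hK : ∀ s ∈ K, s < D.rank) (rep : Equiv.Perm (Fin D.nroots) → GL D.Idx F)
    (hrep : ∀ x ∈ WW C, RepN C F x (rep x)) {g : GL D.Idx F} (hg : g ∈ D.group F) :
    ∃ d ∈ WW C, KMin C J d⁻¹ ∧ KMin C K d ∧ ∃ p ∈ D.parabolicSubgroup F J, ∃ q ∈ D.parabolicSubgroup F K, g = p * rep d * q := by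
  obtain ⟨b, hb, n, hn, π, π', d, h, u, hu, rfl⟩ := bruhat_exists C C2 C3 hg
  obtain ⟨w, hw, hr⟩ := RepN.of_N C C3 hn
  obtain ⟨x, d, y, hx, hd, hy, hd1, hd2, rfl⟩ := bm_exists C C2 C3 hJ hK _ w rfl hw
  have hxW := WW_of_WJ C hJ hx
  have hyW := WW_of_WJ C hK hy
  have h1 := ((hrep x hxW).mul (hrep d hd)).mul (hrep y hyW)
  have h2 := RepN.unique C2 C3 h1 hr
  have hm1 : rep x ∈ D.parabolicSubgroup F J :=
    (para_iff C C2 C3 hJ).mpr ⟨x, hx, _, hrep x hxW, 1, one_mem _, 1, one_mem _, by group⟩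
  have hm2 : rep y ∈ D.parabolicSubgroup F K :=
    (para_iff C C2 C3 hK).mpr ⟨y, hy, _, hrep y hyW, 1, one_mem _, 1, one_mem _, by group⟩
  refine ⟨d, hd, hd1, hd2, b * rep x, mul_mem (B_le_para hb) hm1,
    rep y * ((rep x * rep d * rep y)⁻¹ * n) * u, mul_mem (mul_mem hm2 (B_le_para (H_le_B h2)))
      (B_le_para (U_le_B (RS_le_U C C2 (fun r _ hr => hr.1) hu))), ?_⟩
  group

end

section
variable (C : Checks D T) (C2 : Checks2 D T) (C3 : Checks3 D T U)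
variable (F : Type*) [Field F]

include C C2 C3 in
/-- the inner product of two permutation characters -/
theorem inner_para [Finite F] [Fintype ↥(D.group F)] (J K : Finset ℕ) (hJ : J ⊆ Finset.range D.rank) (hK : K ⊆ Finset.range D.rank)
    [Fintype {d : ↥(WW C) // J ⊆ ascS C (Finset.range D.rank) d.1⁻¹ ∧ K ⊆ ascS C (Finset.range D.rank) d.1}] :
    classInner (fixedPointCharacter (D.parabolicIn F J)) (fixedPointCharacter (D.parabolicIn F K)) =
      (Fintype.card {d : ↥(WW C) // J ⊆ ascS C (Finset.range D.rank) d.1⁻¹ ∧ K ⊆ ascS C (Finset.range D.rank) d.1} : ℂ) := by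
  have hJ' : ∀ s ∈ (↑J : Set ℕ), s < D.rank := fun s hs => Finset.mem_range.mp (hJ hs)
  have hK' : ∀ s ∈ (↑K : Set ℕ), s < D.rank := fun s hs => Finset.mem_range.mp (hK hs)
  have hsp : ∀ x ∈ WW C, RepN C F x (repN C F x) := fun x hx => repN_spec C C3 F hx
  refine inner_fpc_eq_card _ _ (fun d => (⟨repN C F d.1.1, N_le_group C (hsp d.1.1 d.1.2).1⟩ : ↥(D.group F))) ?_ ?_
  · rintro ⟨g, hg⟩
    obtain ⟨d, hd, hd1, hd2, p, hp, q, hq, e⟩ := dc_cover C2 C3 hJ' hK' (repN C F) hsp hg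
    refine ⟨⟨⟨d, hd⟩, (subset_ascS_iff C hJ hR₀).mpr hd1, (subset_ascS_iff C hK hR₀).mpr hd2⟩,
      ⟨p, para_le_group C C2 C3 F _ hp⟩, hp, ⟨q, para_le_group C C2 C3 F _ hq⟩, hq, Subtype.ext e⟩
  · rintro ⟨⟨d, hd⟩, hd1, hd2⟩ ⟨⟨e, he⟩, he1, he2⟩ ⟨p, hpG⟩ hp ⟨q, hqG⟩ hq E
    have h1 := dc_disj C2 C3 hJ' hK' hd he ((subset_ascS_iff C hJ hR₀).mp hd1) ((subset_ascS_iff C hK hR₀).mp hd2)
      ((subset_ascS_iff C hJ hR₀).mp he1) ((subset_ascS_iff C hK hR₀).mp he2) (hsp d hd) (hsp e he) hp hq (congrArg Subtype.val E)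
    subst h1
    rfl

/-- The Steinberg function as a linear combination -/
lemma steinberg_eq_sum : D.steinbergCharacter F =
    ∑ J ∈ (Finset.range D.rank).powerset, ((-1 : ℂ) ^ J.card) • fixedPointCharacter (D.parabolicIn F J) := by
  funext g
  simp only [Cfsg.Lie.ChevalleyDatum.steinbergCharacter, Finset.sum_apply, Pi.smul_apply, smul_eq_mul]

include C C2 C3 in
/-- the inner product of the Steinberg function with itself -/
theorem steinberg_inner [Finite F] [Fintype ↥(D.group F)] :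
    classInner (D.steinbergCharacter F) (D.steinbergCharacter F) = 1 := by
  classical
  haveI : Fintype ↥(WW C) := Fintype.ofFinite _
  set R := Finset.range D.rank with hRdef
  obtain ⟨z, hz, hzn⟩ := exists_w0 C C2 C3
  have hR' : ∀ s ∈ (↑R : Set ℕ), s < D.rank := hR₀
  have hzW : z ∈ WW C := by rwa [← WW_eq]
  have hzA : ascS C R z = ∅ := (ascS_eq_empty_iff C hR₀).mpr hzn
  have hzA' : ascS C R z⁻¹ = ∅ := (ascS_eq_empty_iff C hR₀).mpr (noAsc_inv C C2 C3 hR' hz hzn)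
  -- one fixed `J`
  have key : ∀ J ∈ R.powerset, classInner (fixedPointCharacter (D.parabolicIn F J)) (D.steinbergCharacter F) =
      if J = ∅ then 1 else 0 := by
    intro J hJ
    have hJ' := Finset.mem_powerset.mp hJ
    rw [steinberg_eq_sum, classInner_sum_right]
    have h1 : ∀ K ∈ R.powerset, classInner (fixedPointCharacter (D.parabolicIn F J))
          (((-1 : ℂ) ^ K.card) • fixedPointCharacter (D.parabolicIn F K)) =
        (-1 : ℂ) ^ K.card * ∑ d : {d : ↥(WW C) // K ⊆ ascS C R d.1}, (fun d : ↥(WW C) => if J ⊆ ascS C R d.1⁻¹ then (1 : ℂ) else 0) d.1 := by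
      intro K hK
      have hK' := Finset.mem_powerset.mp hK
      rw [classInner_smul_right, inner_para C C2 C3 F J K hJ' hK']
      simp only [map_pow, map_neg, map_one]
      congr 1
      have e1 : ∑ d : {d : ↥(WW C) // K ⊆ ascS C R d.1}, (if J ⊆ ascS C R d.1.1⁻¹ then (1 : ℂ) else 0) =
          ∑ d : ↥(WW C), if J ⊆ ascS C R d.1⁻¹ ∧ K ⊆ ascS C R d.1 then (1 : ℂ) else 0 := by
        have h2 : ∀ d : ↥(WW C), (if J ⊆ ascS C R d.1⁻¹ ∧ K ⊆ ascS C R d.1 then (1 : ℂ) else 0) =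
            if K ⊆ ascS C R d.1 then (if J ⊆ ascS C R d.1⁻¹ then (1 : ℂ) else 0) else 0 := by
          intro d
          by_cases h3 : K ⊆ ascS C R d.1 <;> by_cases h4 : J ⊆ ascS C R d.1⁻¹ <;> simp [h3, h4]
        simp only [h2]
        have e9 : ∑ d : ↥(WW C), (if K ⊆ ascS C R d.1 then (if J ⊆ ascS C R d.1⁻¹ then (1 : ℂ) else 0) else 0) =
            ∑ d ∈ Finset.univ.filter (fun d : ↥(WW C) => K ⊆ ascS C R d.1), (if J ⊆ ascS C R d.1⁻¹ then (1 : ℂ) else 0) :=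
          (Finset.sum_filter _ _).symm
        rw [e9]
        exact (Finset.sum_subtype (p := fun d : ↥(WW C) => K ⊆ ascS C R d.1) (Finset.univ.filter fun d : ↥(WW C) => K ⊆ ascS C R d.1) (by simp) (fun d : ↥(WW C) => if J ⊆ ascS C R d.1⁻¹ then (1 : ℂ) else 0)).symm
      rw [e1, Finset.sum_boole, Fintype.card_subtype]
    have h5 := sum_powerset_asc R (fun d : ↥(WW C) => ascS C R d.1)
      (fun d => by classical exact Finset.filter_subset _ _) (fun d : ↥(WW C) => if J ⊆ ascS C R d.1⁻¹ then (1 : ℂ) else 0)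
    rw [Finset.sum_congr rfl h1, h5]
    rw [Finset.sum_eq_single (⟨⟨z, hzW⟩, hzA⟩ : {d : ↥(WW C) // ascS C R d.1 = ∅})]
    · simp only [hzA', Finset.subset_empty]
    · rintro ⟨⟨y, hy⟩, hy0⟩ _ hne
      exfalso
      apply hne
      have hyJ : y ∈ WJ C (↑R : Set ℕ) := by rw [WW_eq]; exact hy
      have := noAsc_uniq C C2 C3 hR' hyJ hz ((ascS_eq_empty_iff C hR₀).mp hy0) hzn
      subst this
      rfl
    · intro h
      exact absurd (Finset.mem_univ _) h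
  nth_rw 1 [steinberg_eq_sum]
  rw [Cfsg.Agent.H21.classInner_sum_left]
  rw [Finset.sum_congr rfl (fun J hJ => by rw [Cfsg.Agent.H21.classInner_smul_left, key J hJ])]
  rw [Finset.sum_eq_single (∅ : Finset ℕ)]
  · simp
  · intro J _ hJ
    rw [if_neg hJ, mul_zero]
  · intro h
    exact absurd (Finset.empty_mem_powerset _) h

include C C2 C3 in
/-- **S2311** -/
theorem steinberg_irr [Fintype F] : IsIrrCharacter ↥(D.group F) (D.steinbergCharacter F) := by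
  classical
  haveI : Fintype ↥(D.group F) := Fintype.ofFinite _
  haveI : Fintype (IrrCharacter ↥(D.group F)) := Fintype.ofFinite _
  apply Cfsg.Agent.H01.isIrrCharacter_of_int_norm_one
  · rw [steinberg_eq_sum]
    intro g h
    rw [Finset.sum_apply, Finset.sum_apply]
    refine Finset.sum_congr rfl fun J _ => ?_
    rw [Pi.smul_apply, Pi.smul_apply, Cfsg.Agent.H21.isClassFunction_of_isCharacter (isCharacter_fpc _) g h]
  · intro χ
    rw [steinberg_eq_sum, Cfsg.Agent.H21.classInner_sum_left]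
    have h1 : ∀ J ∈ (Finset.range D.rank).powerset, ∃ m : ℕ, classInner (fixedPointCharacter (D.parabolicIn F J)) (χ : ↥(D.group F) → ℂ) = m :=
      fun J _ => Cfsg.Agent.H21.classInner_isNat (isCharacter_fpc _) χ
    choose! m hm using h1
    refine ⟨∑ J ∈ (Finset.range D.rank).powerset, (-1 : ℤ) ^ J.card * m J, ?_⟩
    push_cast
    refine Finset.sum_congr rfl fun J hJ => ?_
    rw [Cfsg.Agent.H21.classInner_smul_left, hm J hJ]
  · exact steinberg_inner C C2 C3 F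
  · rw [steinberg_degree C C2 C3 F]
    have h1 : ((Fintype.card F : ℂ) ^ (D.nroots / 2)).re = ((Fintype.card F : ℝ) ^ (D.nroots / 2)) := by
      have : ((Fintype.card F : ℂ) ^ (D.nroots / 2)) = (((Fintype.card F : ℝ) ^ (D.nroots / 2) : ℝ) : ℂ) := by
        push_cast
        rfl
      rw [this, Complex.ofReal_re]
    rw [h1]
    have : (0 : ℝ) < Fintype.card F := by exact_mod_cast Fintype.card_pos
    positivity

end

end Cfsg.Agent.H10
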