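import Cfsg.Agent.Lib.H04.Chev.Coxeter
import Cfsg.Agent.Lib.H04.Chev.Para

/-!
# Minimal coset representatives in the Weyl group (root level)
-/

set_option autoImplicit false
set_option linter.style.haveILetI false
set_option linter.unusedSimpArgs false
set_option linter.unusedSectionVars false
set_option linter.unusedVariables false

open Cfsg.Lie Cfsg.Agent.H04.Chev

namespace Cfsg.Agent.H10

variable {D : ChevalleyDatum} {T : Tabs} {U : Tabs3}

/-- a simple root as an element of `Fin nroots` -/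
def sF (C : Checks D T) {i : ℕ} (hi : i < D.rank) : Fin D.nroots := ⟨D.simple i, C.simple_lt i hi⟩

/-- all `K`-simple roots stay positive -/
def KMin (C : Checks D T) (K : Set ℕ) (w : Equiv.Perm (Fin D.nroots)) : Prop :=
  ∀ (i : ℕ) (hi : i < D.rank), i ∈ K → D.nroots / 2 ≤ (w (sF C hi)).1

/-- all `K`-simple roots become negative -/
def NoAsc (C : Checks D T) (K : Set ℕ) (w : Equiv.Perm (Fin D.nroots)) : Prop :=
  ∀ (i : ℕ) (hi : i < D.rank), i ∈ K → (w (sF C hi)).1 < D.nroots / 2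

/-- support in `K` -/
def SupK (U : Tabs3) (D : ChevalleyDatum) (K : Set ℕ) (t : ℕ) : Prop :=
  ∀ j, j < D.rank → j ∉ K → U.cofI t j = 0

section
variable (C : Checks D T) (C2 : Checks2 D T) (C3 : Checks3 D T U)

lemma sF_val {i : ℕ} (hi : i < D.rank) : (sF C hi).1 = D.simple i := rfl

include C3 in
lemma sF_pos {i : ℕ} (hi : i < D.rank) : D.nroots / 2 ≤ (sF C hi).1 := C3.simple_pos i hi

include C3 in
lemma supK_simple {K : Set ℕ} {i : ℕ} (hi : i < D.rank) (hK : i ∈ K) : SupK U D K (D.simple i) := by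
  intro j hj hjK
  rw [C3.cof_simple i hi j hj, if_neg]
  rintro rfl
  exact hjK hK

include C3 in
lemma supK_neg {K : Set ℕ} {t : ℕ} (ht : t < D.nroots) (h : SupK U D K t) : SupK U D K (negF D t) := by
  intro j hj hjK
  rw [C3.cof_neg t ht j hj, h j hj hjK, neg_zero]

lemma wPn_mem {K : Set ℕ} {i : ℕ} (hi : i ∈ K) : wPn C i ∈ WJ C K :=
  Subgroup.subset_closure ⟨i, hi, rfl⟩

lemma WW_of_WJ {K : Set ℕ} (hK : ∀ s ∈ K, s < D.rank) {w : Equiv.Perm (Fin D.nroots)} (hw : w ∈ WJ C K) : w ∈ WW C :=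
  WJ_le_WW C hK hw

include C2 C3 in
/-- `K`-minimal elements keep positive roots supported in `K` positive -/
lemma kmin_pos {K : Set ℕ} (hK : ∀ s ∈ K, s < D.rank) {w : Equiv.Perm (Fin D.nroots)} (hw : w ∈ WW C) (hm : KMin C K w)
    {t : Fin D.nroots} (h0 : D.nroots / 2 ≤ t.1) (hs : SupK U D K t.1) : D.nroots / 2 ≤ (w t).1 := by
  obtain ⟨l, hl, rfl⟩ := exists_word C hw
  have hl' : ∀ i ∈ l, i < D.rank := hl
  rw [wordP_apply C hl']
  refine word_pos_of C C2 C3 hl' ?_ hK h0 t.2 hs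
  intro s hsK
  have := hm s (hK s hsK) hsK
  rwa [← sF_val C (hK s hsK), ← wordP_apply C hl']

include C2 C3 in
/-- `K`-minimal elements keep negative roots supported in `K` negative -/
lemma kmin_neg {K : Set ℕ} (hK : ∀ s ∈ K, s < D.rank) {w : Equiv.Perm (Fin D.nroots)} (hw : w ∈ WW C) (hm : KMin C K w)
    {t : Fin D.nroots} (h0 : t.1 < D.nroots / 2) (hs : SupK U D K t.1) : (w t).1 < D.nroots / 2 := by
  have h1 : D.nroots / 2 ≤ (nF t).1 := negF_pos C2 h0
  have h2 : SupK U D K (nF t).1 := supK_neg C3 t.2 hs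
  have h3 := kmin_pos C C2 C3 hK hw hm h1 h2
  have h4 : (w (nF t)).1 = negF D (w t) := W_neg C hw t
  rw [h4] at h3
  by_contra hcon
  exact absurd (negF_neg C2 (not_lt.mp hcon) (w t).2) (not_lt.mpr h3)

include C2 C3 in
/-- `W_K` preserves the support -/
lemma supK_WJ {K : Set ℕ} (hK : ∀ s ∈ K, s < D.rank) {v : Equiv.Perm (Fin D.nroots)} (hv : v ∈ WJ C K)
    {t : Fin D.nroots} (hs : SupK U D K t.1) : SupK U D K (v t).1 := by
  intro j hj hjK
  rw [cof_WJ C C3 hK hv hj hjK t, hs j hj hjK]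

include C2 C3 in
/-- `W_K` keeps positive roots not supported in `K` positive -/
lemma notsup_pos {K : Set ℕ} (hK : ∀ s ∈ K, s < D.rank) {v : Equiv.Perm (Fin D.nroots)} (hv : v ∈ WJ C K)
    {t : Fin D.nroots} (h0 : D.nroots / 2 ≤ t.1) (hs : ¬ SupK U D K t.1) : D.nroots / 2 ≤ (v t).1 := by
  unfold SupK at hs
  push Not at hs
  obtain ⟨j, hj, hjK, h1⟩ := hs
  have h2 : 0 < U.cofI (v t) j := by
    rw [cof_WJ C C3 hK hv hj hjK t]
    exact lt_of_le_of_ne (C3.cof_pos t h0 t.2 j hj) (Ne.symm h1)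
  exact pos_of_cof C2 C3 (v t).2 hj h2

include C2 C3 in
/-- an element of `W_K` keeping the `K`-simple roots positive is trivial -/
lemma min_eq_one {K : Set ℕ} (hK : ∀ s ∈ K, s < D.rank) {v : Equiv.Perm (Fin D.nroots)} (hv : v ∈ WJ C K)
    (hm : KMin C K v) : v = 1 := by
  have hvW := WW_of_WJ C hK hv
  apply eq_one_of_pos C C2 C3 hvW
  intro r hr
  by_cases hs : SupK U D K r.1
  · exact kmin_pos C C2 C3 hK hvW hm hr hs
  · exact notsup_pos C C2 C3 hK hv hr hs

include C2 C3 in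
/-- Uniqueness of `K`-minimal coset representatives -/
lemma kmin_uniq {K : Set ℕ} (hK : ∀ s ∈ K, s < D.rank) {w w' : Equiv.Perm (Fin D.nroots)} (hw : w ∈ WW C) (hw' : w' ∈ WW C)
    (hm : KMin C K w) (hm' : KMin C K w') (hv : w⁻¹ * w' ∈ WJ C K) : w = w' := by
  have hk : KMin C K (w⁻¹ * w') := by
    intro i hi hiK
    by_contra hcon
    have h1 := not_le.mp hcon
    have h2 : SupK U D K (sF C hi).1 := supK_simple C3 hi hiK
    have h3 := supK_WJ C C2 C3 hK hv h2
    have h4 := kmin_neg C C2 C3 hK hw hm h1 h3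
    have h5 : w ((w⁻¹ * w') (sF C hi)) = w' (sF C hi) := by simp
    rw [h5] at h4
    exact absurd (hm' i hi hiK) (not_le.mpr h4)
  have := min_eq_one C C2 C3 hK hv hk
  rw [inv_mul_eq_one] at this
  exact this

include C2 C3 in
/-- Existence of the decomposition `w = x v` -/
lemma kmin_dec {K : Set ℕ} (hK : ∀ s ∈ K, s < D.rank) : ∀ (k : ℕ) (w : Equiv.Perm (Fin D.nroots)), invP w = k → w ∈ WW C →
    ∃ x v, x ∈ WW C ∧ KMin C K x ∧ v ∈ WJ C K ∧ w = x * v := by
  intro k
  induction k using Nat.strong_induction_on with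
  | _ k ih =>
    intro w hk hw
    by_cases hm : KMin C K w
    · exact ⟨w, 1, hw, hm, one_mem _, (mul_one w).symm⟩
    · unfold KMin at hm
      push Not at hm
      obtain ⟨i, hi, hiK, h1⟩ := hm
      have h2 := invP_right_neg C C2 C3 hi hw h1
      obtain ⟨x, v, hx, hxm, hv, e⟩ := ih (invP (w * wPn C i)) (by omega) (w * wPn C i) rfl
        (mul_mem hw (Subgroup.subset_closure ⟨i, hi, rfl⟩))
      refine ⟨x, v * wPn C i, hx, hxm, mul_mem hv (wPn_mem C hiK), ?_⟩
      rw [← mul_assoc, ← e, mul_assoc, wPn_mul_self C, mul_one]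

include C2 C3 in
lemma exists_kmin_dec {K : Set ℕ} (hK : ∀ s ∈ K, s < D.rank) {w : Equiv.Perm (Fin D.nroots)} (hw : w ∈ WW C) :
    ∃ x v, x ∈ WW C ∧ KMin C K x ∧ v ∈ WJ C K ∧ w = x * v := kmin_dec C C2 C3 hK _ w rfl hw

include C2 C3 in
/-- Existence of an element without ascents -/
lemma exists_noAsc {K : Set ℕ} (hK : ∀ s ∈ K, s < D.rank) : ∃ z ∈ WJ C K, NoAsc C K z := by
  classical
  obtain ⟨⟨z, hz⟩, hmax⟩ := Finite.exists_max (fun y : ↥(WJ C K) => invP y.1)
  refine ⟨z, hz, ?_⟩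
  intro i hi hiK
  by_contra hcon
  have h1 := not_lt.mp hcon
  have h2 := invP_right C C2 C3 hi (WW_of_WJ C hK hz) h1
  have h3 := hmax ⟨z * wPn C i, mul_mem hz (wPn_mem C hiK)⟩
  simp only at h3
  omega

include C2 C3 in
/-- positive combination -/
lemma noAsc_neg {K : Set ℕ} (hK : ∀ s ∈ K, s < D.rank) {z : Equiv.Perm (Fin D.nroots)} (hz : z ∈ WW C) (hn : NoAsc C K z)
    {t : Fin D.nroots} (h0 : D.nroots / 2 ≤ t.1) (hs : SupK U D K t.1) : (z t).1 < D.nroots / 2 := by
  by_contra hcon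
  have h1 := not_lt.mp hcon
  have h2 : D.nroots / 2 ≤ negF D (z t) := by
    apply pos_of_nonneg C C2 C3 (negF_lt (z t).2)
    intro j hj
    rw [C3.cof_neg _ (z t).2 j hj, cof_perm_linear C C3 hz t hj, neg_nonneg]
    apply Finset.sum_nonpos
    intro i hi
    have hi' := Finset.mem_range.mp hi
    by_cases hiK : i ∈ K
    · apply mul_nonpos_of_nonneg_of_nonpos (C3.cof_pos t h0 t.2 i hi')
      have h3 := hn i hi' hiK
      have h4 : piOf z (D.simple i) = (z (sF C hi')).1 := piOf_apply z (sF C hi')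
      rw [h4]
      have h5 := C3.cof_pos _ (negF_pos C2 h3) (negF_lt (z (sF C hi')).2) j hj
      rw [C3.cof_neg _ (z (sF C hi')).2 j hj] at h5
      linarith
    · rw [hs i hi' hiK, zero_mul]
  exact absurd (negF_neg C2 h1 (z t).2) (not_lt.mpr h2)

include C2 C3 in
lemma noAsc_neg_inv {K : Set ℕ} (hK : ∀ s ∈ K, s < D.rank) {z : Equiv.Perm (Fin D.nroots)} (hz : z ∈ WJ C K) (hn : NoAsc C K z)
    {t : Fin D.nroots} (h0 : t.1 < D.nroots / 2) (hs : SupK U D K t.1) : D.nroots / 2 ≤ (z⁻¹ t).1 := by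
  by_contra hcon
  have h1 := not_le.mp hcon
  have hzW := WW_of_WJ C hK hz
  have h2 : SupK U D K (z⁻¹ t).1 := supK_WJ C C2 C3 hK (inv_mem hz) hs
  have h3 := noAsc_neg C C2 C3 hK hzW hn (t := nF (z⁻¹ t)) (negF_pos C2 h1) (supK_neg C3 (z⁻¹ t).2 h2)
  rw [W_neg C hzW, show z (z⁻¹ t) = t by simp] at h3
  exact absurd h3 (not_lt.mpr (negF_pos C2 h0))

include C2 C3 in
/-- Uniqueness of an element without ascents -/
lemma noAsc_uniq {K : Set ℕ} (hK : ∀ s ∈ K, s < D.rank) {z z' : Equiv.Perm (Fin D.nroots)} (hz : z ∈ WJ C K) (hz' : z' ∈ WJ C K)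
    (hn : NoAsc C K z) (hn' : NoAsc C K z') : z = z' := by
  have hk : KMin C K (z⁻¹ * z') := by
    intro i hi hiK
    exact noAsc_neg_inv C C2 C3 hK hz hn (hn' i hi hiK) (supK_WJ C C2 C3 hK hz' (supK_simple C3 hi hiK))
  have := min_eq_one C C2 C3 hK (mul_mem (inv_mem hz) hz') hk
  rwa [inv_mul_eq_one] at this

include C2 C3 in
lemma noAsc_inv {K : Set ℕ} (hK : ∀ s ∈ K, s < D.rank) {z : Equiv.Perm (Fin D.nroots)} (hz : z ∈ WJ C K)
    (hn : NoAsc C K z) : NoAsc C K z⁻¹ := by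
  intro i hi hiK
  by_contra hcon
  have h1 := not_lt.mp hcon
  have h2 : SupK U D K (z⁻¹ (sF C hi)).1 := supK_WJ C C2 C3 hK (inv_mem hz) (supK_simple C3 hi hiK)
  have h3 := noAsc_neg C C2 C3 hK (WW_of_WJ C hK hz) hn h1 h2
  rw [show z (z⁻¹ (sF C hi)) = sF C hi by simp] at h3
  exact absurd (sF_pos C C3 hi) (not_le.mpr h3)

/-- the whole set of fundamental indices -/
def Rk (D : ChevalleyDatum) : Set ℕ := {i | i < D.rank}

include C3 in
lemma supK_all (t : ℕ) : SupK U D (Rk D) t := fun j hj hjK => absurd hj hjK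

lemma kMin_mono {K K' : Set ℕ} (h : K ⊆ K') {w : Equiv.Perm (Fin D.nroots)} (hm : KMin C K' w) : KMin C K w :=
  fun i hi hiK => hm i hi (h hiK)

include C3 in
/-- positive roots supported in `K` are `W_K`-conjugate to `K`-simple roots -/
lemma exists_conj_simple {K : Set ℕ} : ∀ q, D.nroots / 2 ≤ q → (hq : q < D.nroots) → SupK U D K q →
    ∃ u ∈ WJ C K, ∃ (k : ℕ) (hk : k < D.rank), k ∈ K ∧ (u (sF C hk)).1 = q := by
  intro q
  induction q using Nat.strong_induction_on with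
  | _ q ih =>
    intro h0 hq hs
    rcases C3.height q h0 hq with ⟨i, hi, rfl⟩ | ⟨j, hj, h1, h2, h3⟩
    · refine ⟨1, one_mem _, i, hi, ?_, rfl⟩
      by_contra hcon
      have := hs i hi hcon
      rw [C3.cof_simple i hi i hi, if_pos rfl] at this
      exact one_ne_zero this
    · have hjK : j ∈ K := by
        by_contra hcon
        exact h1 (hs j hj hcon)
      have hlt := C.w_lt j hj q hq
      have hs' : SupK U D K (T.w (D.simple j) q) := by
        intro i hi hiK
        rw [C3.cof_w j hj q hq i hi, hs i hi hiK, if_neg]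
        · simp
        · rintro rfl
          exact hiK hjK
      obtain ⟨u, hu, k, hk, hkK, e⟩ := ih _ h3 h2 hlt hs'
      refine ⟨wPn C j * u, mul_mem (wPn_mem C hjK) hu, k, hk, hkK, ?_⟩
      rw [Equiv.Perm.mul_apply, wPn_apply C hj, e, C.w_w j hj q hq]

include C2 C3 in
/-- double coset representatives: existence -/
lemma bm_exists {J K : Set ℕ} (hJ : ∀ s ∈ J, s < D.rank) (hK : ∀ s ∈ K, s < D.rank) :
    ∀ (k : ℕ) (w : Equiv.Perm (Fin D.nroots)), invP w = k → w ∈ WW C →
    ∃ x d y, x ∈ WJ C J ∧ d ∈ WW C ∧ y ∈ WJ C K ∧ KMin C J d⁻¹ ∧ KMin C K d ∧ w = x * d * y := by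
  intro k
  induction k using Nat.strong_induction_on with
  | _ k ih =>
    intro w hk hw
    by_cases hm : KMin C K w
    · by_cases hm' : KMin C J w⁻¹
      · exact ⟨1, w, 1, one_mem _, hw, one_mem _, hm', hm, by simp⟩
      · unfold KMin at hm'
        push Not at hm'
        obtain ⟨i, hi, hiJ, h1⟩ := hm'
        have h2 := invP_left_neg C C2 C3 hi hw h1
        obtain ⟨x, d, y, hx, hd, hy, hd1, hd2, e⟩ := ih (invP (wPn C i * w)) (by omega) (wPn C i * w) rfl
          (mul_mem (Subgroup.subset_closure ⟨i, hi, rfl⟩) hw)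
        refine ⟨wPn C i * x, d, y, mul_mem (wPn_mem C hiJ) hx, hd, hy, hd1, hd2, ?_⟩
        have e' : x * d * y = wPn C i * w := e.symm
        calc w = wPn C i * (wPn C i * w) := by rw [← mul_assoc, wPn_mul_self C, one_mul]
          _ = wPn C i * x * d * y := by rw [← e']; group
    · unfold KMin at hm
      push Not at hm
      obtain ⟨i, hi, hiK, h1⟩ := hm
      have h2 := invP_right_neg C C2 C3 hi hw h1
      obtain ⟨x, d, y, hx, hd, hy, hd1, hd2, e⟩ := ih (invP (w * wPn C i)) (by omega) (w * wPn C i) rfl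
        (mul_mem hw (Subgroup.subset_closure ⟨i, hi, rfl⟩))
      refine ⟨x, d, y * wPn C i, hx, hd, mul_mem hy (wPn_mem C hiK), hd1, hd2, ?_⟩
      rw [← mul_assoc, ← e, mul_assoc, wPn_mul_self C, mul_one]

include C2 C3 in
/-- double coset representatives: uniqueness -/
lemma bm_uniq {J K : Set ℕ} (hJ : ∀ s ∈ J, s < D.rank) (hK : ∀ s ∈ K, s < D.rank)
    {d e : Equiv.Perm (Fin D.nroots)} (hd : d ∈ WW C) (he : e ∈ WW C)
    (hd1 : KMin C J d⁻¹) (hd2 : KMin C K d) (he1 : KMin C J e⁻¹) (he2 : KMin C K e) :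
    ∀ (n : ℕ) (x y : Equiv.Perm (Fin D.nroots)), invP x = n → x ∈ WJ C J → y ∈ WJ C K → e = x * d * y → e = d := by
  intro n
  induction n using Nat.strong_induction_on with
  | _ n ih =>
    intro x y hn hx hy hE
    by_cases hm : KMin C J x⁻¹
    · have h1 := min_eq_one C C2 C3 hJ (inv_mem hx) hm
      have h2 : x = 1 := inv_eq_one.mp h1
      subst h2
      rw [one_mul] at hE
      subst hE
      refine (kmin_uniq C C2 C3 hK hd he hd2 he2 ?_).symm
      simpa using hy
    · unfold KMin at hm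
      push Not at hm
      obtain ⟨j, hj, hjJ, h1⟩ := hm
      have hxW := WW_of_WJ C hJ hx
      have hyW := WW_of_WJ C hK hy
      -- the negative root `γ`
      have h2 : SupK U D J (x⁻¹ (sF C hj)).1 := supK_WJ C C2 C3 hJ (inv_mem hx) (supK_simple C3 hj hjJ)
      have h3 := kmin_neg C C2 C3 hJ (inv_mem hd) hd1 h1 h2
      -- `β`
      have h4 := he1 j hj hjJ
      have e1 : e⁻¹ (sF C hj) = y⁻¹ (d⁻¹ (x⁻¹ (sF C hj))) := by
        rw [hE]; simp [mul_inv_rev, Equiv.Perm.mul_apply]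
      -- δ is supported in K
      have h5 : SupK U D K (d⁻¹ (x⁻¹ (sF C hj))).1 := by
        by_contra hcon
        have h6 : ¬ SupK U D K (nF (d⁻¹ (x⁻¹ (sF C hj)))).1 := by
          intro h7
          apply hcon
          have h8 := supK_neg C3 (negF_lt (d⁻¹ (x⁻¹ (sF C hj))).2) h7
          rwa [negF_negF C2 (d⁻¹ (x⁻¹ (sF C hj))).2] at h8
        have h7 := notsup_pos C C2 C3 hK (inv_mem hy) (negF_pos C2 h3) h6
        rw [W_neg C (inv_mem hyW)] at h7
        rw [e1] at h4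
        exact absurd (negF_neg C2 h4 (y⁻¹ (d⁻¹ (x⁻¹ (sF C hj)))).2) (not_lt.mpr h7)
      have h6 : SupK U D K (e⁻¹ (sF C hj)).1 := by
        rw [e1]
        exact supK_WJ C C2 C3 hK (inv_mem hy) h5
      obtain ⟨u, hu, k, hk, hkK, e2⟩ := exists_conj_simple C C3 _ h4 (e⁻¹ (sF C hj)).2 h6
      have huW := WW_of_WJ C hK hu
      have hk' := hK k hkK
      obtain ⟨l, hl, hlE⟩ := exists_word C (mul_mem he huW)
      have hl' : ∀ i ∈ l, i < D.rank := hl
      have e3 : applyW D T l (D.simple k) = D.simple j := by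
        rw [← sF_val C hk, ← wordP_apply C hl', ← hlE, Equiv.Perm.mul_apply]
        have : u (sF C hk) = e⁻¹ (sF C hj) := Fin.ext e2
        rw [this]
        simp [sF_val]
      have e4 := word_conj_refl C C2 C3 hl' hk hj e3
      rw [← hlE] at e4
      -- `s_j e = e c`
      set c := u * wPn C k * u⁻¹ with hc
      have hcmem : c ∈ WJ C K := mul_mem (mul_mem hu (wPn_mem C hkK)) (inv_mem hu)
      have e5 : wPn C j * e = e * c := by
        have : e * c = (e * u * wPn C k) * u⁻¹ := by rw [hc]; group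
        rw [this]
        have h9 : wPn C j * (e * u) * wPn C k = e * u := e4
        have h10 : e * u * wPn C k = wPn C j * (e * u) := by
          have := congrArg (· * wPn C k) h9
          simp only [mul_assoc, wPn_mul_self C, mul_one] at this
          rw [mul_assoc, ← this]
        rw [h10]
        group
      have hlen := invP_left_neg C C2 C3 hj hxW h1
      have e6 : e = (wPn C j * x) * d * (y * c⁻¹) := by
        have h11 : wPn C j * e * c⁻¹ = e := by rw [e5]; group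
        rw [← h11]
        conv_lhs => rw [hE]
        group
      exact ih (invP (wPn C j * x)) (by omega) (wPn C j * x) (y * c⁻¹) rfl (mul_mem (wPn_mem C hjJ) hx)
        (mul_mem hy (inv_mem hcmem)) e6

end

end Cfsg.Agent.H10
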