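import Cfsg.Agent.Lib.H10.StFit2

/-!
# Coordinates on the fundamental roots in the unipotent subgroup
-/

set_option autoImplicit false
set_option linter.style.haveILetI false
set_option linter.unusedSimpArgs false
set_option linter.unusedSectionVars false
set_option linter.unusedVariables false

open Cfsg.Lie Cfsg.Agent.H04.Chev

namespace Cfsg.Agent.H10

variable {D : ChevalleyDatum} {T : Tabs} {U : Tabs3}

/-- the height of a root -/
noncomputable def htR (U : Tabs3) (D : ChevalleyDatum) : ℕ → ℤ := ellOf U D (fun _ => 1)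

section
variable (C : Checks D T) (C2 : Checks2 D T) (C3 : Checks3 D T U)

lemma htR_eq (r : ℕ) : htR U D r = ∑ j ∈ Finset.range D.rank, U.cofI r j := by
  unfold htR ellOf
  simp

include C C2 C3 in
lemma htR_pos {r : ℕ} (h0 : D.nroots / 2 ≤ r) (hr : r < D.nroots) : 0 < htR U D r := by
  rw [htR_eq]
  have hnn : ∀ j ∈ Finset.range D.rank, 0 ≤ U.cofI r j := fun j hj => C3.cof_pos r h0 hr j (Finset.mem_range.mp hj)
  rcases C3.height r h0 hr with ⟨i, hi, rfl⟩ | ⟨j, hj, h1, _, _⟩
  · apply Finset.sum_pos' hnn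
    refine ⟨i, Finset.mem_range.mpr hi, ?_⟩
    rw [C3.cof_simple i hi i hi, if_pos rfl]
    exact one_pos
  · apply Finset.sum_pos' hnn
    refine ⟨j, Finset.mem_range.mpr hj, ?_⟩
    exact lt_of_le_of_ne (C3.cof_pos r h0 hr j hj) (Ne.symm h1)

include C3 in
lemma htR_simple {k : ℕ} (hk : k < D.rank) : htR U D (D.simple k) = 1 := by
  rw [htR_eq, Finset.sum_congr rfl (fun j hj => C3.cof_simple k hk j (Finset.mem_range.mp hj)),
    Finset.sum_ite_eq', if_pos (Finset.mem_range.mpr hk)]

include C3 in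
lemma htR_coroot {k : ℕ} (hk : k < D.rank) : htR U D (D.nroots + k) = 0 := by
  rw [htR_eq]
  apply Finset.sum_eq_zero
  intro j hj
  exact C3.cof_coroot k hk j (Finset.mem_range.mp hj)

variable {F : Type*} [Field F]

include C C2 C3 in
lemma U_le_Uni : D.posUnipotent F ≤ UniL D (htR U D) F := by
  rw [posUnipotent_eq C C2, Vfrom, Subgroup.closure_le]
  rintro g ⟨r, t, h1, h2, rfl⟩
  exact xG_mem_UniL C (ellOf_graded C3 _) h2 (htR_pos C C2 C3 h1 h2) t

/-- the coordinate on a fundamental root -/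
noncomputable def coordS {k : ℕ} (hk : k < D.rank) (g : GL D.Idx F) : F :=
  (g : Matrix D.Idx D.Idx F) (Sum.inl ⟨k, hk⟩) (Sum.inr ⟨negF D (D.simple k), negF_lt (C.simple_lt k hk)⟩)

include C2 C3 in
/-- the coordinates are additive on `U` -/
lemma coord_mul {k : ℕ} (hk : k < D.rank) {g h : GL D.Idx F} (hg : g ∈ D.posUnipotent F) (hh : h ∈ D.posUnipotent F) :
    coordS C hk (g * h) = coordS C hk g + coordS C hk h := by
  have h1 := (U_le_Uni C C2 C3 hg).1
  have h2 := (U_le_Uni C C2 C3 hh).1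
  have h3 := SupL.mul h1 h2
  unfold coordS
  set a : D.Idx := Sum.inl ⟨k, hk⟩ with ha
  set b : D.Idx := Sum.inr ⟨negF D (D.simple k), negF_lt (C.simple_lt k hk)⟩ with hb
  have hdeg : htR U D (code D a) - htR U D (code D b) < 1 + 1 := by
    have e1 : code D a = D.nroots + k := rfl
    have e2 : code D b = negF D (D.simple k) := rfl
    rw [e1, e2, htR_coroot C3 hk]
    have e3 : htR U D (negF D (D.simple k)) = - htR U D (D.simple k) := ellOf_neg C3 _ (C.simple_lt k hk)
    rw [e3, htR_simple C3 hk]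
    norm_num
  have h4 := h3 a b hdeg
  have hab : (1 : Matrix D.Idx D.Idx F) a b = 0 := by
    rw [Matrix.one_apply, if_neg]
    simp [ha, hb]
  have e : ((g * h : GL D.Idx F) : Matrix D.Idx D.Idx F) =
      ((g : Matrix D.Idx D.Idx F) - 1) * ((h : Matrix D.Idx D.Idx F) - 1) + (g : Matrix D.Idx D.Idx F) + (h : Matrix D.Idx D.Idx F) - 1 := by
    rw [Units.val_mul]
    noncomm_ring
  rw [e]
  simp only [Matrix.add_apply, Matrix.sub_apply, h4, hab]
  ring

include C C2 C3 in
lemma coord_one {k : ℕ} (hk : k < D.rank) : coordS C hk (1 : GL D.Idx F) = 0 := by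
  have := coord_mul C C2 C3 (F := F) hk (one_mem _) (one_mem _)
  rw [mul_one] at this
  exact left_eq_add.mp this

include C C2 C3 in
lemma coord_inv {k : ℕ} (hk : k < D.rank) {g : GL D.Idx F} (hg : g ∈ D.posUnipotent F) :
    coordS C hk g⁻¹ = - coordS C hk g := by
  have := coord_mul C C2 C3 hk (inv_mem hg) hg
  rw [inv_mul_cancel, coord_one C C2 C3] at this
  exact eq_neg_of_add_eq_zero_left this.symm

include C2 C3 in
/-- the coordinates of root elements -/
lemma coord_x {k r : ℕ} (hk : k < D.rank) (hr0 : D.nroots / 2 ≤ r) (hr : r < D.nroots) (t : F) :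
    coordS C hk (xG C r t) = if r = D.simple k then t else 0 := by
  unfold coordS
  have hp := C.simple_lt k hk
  have hn : negF D (D.simple k) < D.nroots / 2 := by
    have := negF_neg C2 (C3.simple_pos k hk) hp
    exact this
  rw [xG_val, Cfsg.Lie.ChevalleyDatum.x, dif_pos hr]
  simp only [Cfsg.Lie.ChevalleyDatum.xMat, Matrix.of_apply]
  have h1 : ¬ ((⟨negF D (D.simple k), negF_lt hp⟩ : Fin D.nroots) = ⟨r, hr⟩) := by
    intro h
    have := Fin.mk.inj_iff.mp h
    omega
  rw [if_neg h1]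
  have hneg : D.negIdx.getD r 0 = negF D r := C.neg r hr
  rw [hneg]
  by_cases h2 : r = D.simple k
  · subst h2
    simp only [if_true]
    rw [C3.coroot_simple k hk k hk, if_pos rfl]
    simp
  · have h3 : ¬ negF D (D.simple k) = negF D r := by
      intro h
      apply h2
      have := congrArg (negF D) h
      rw [negF_negF C2 hp, negF_negF C2 hr] at this
      exact this.symm
    simp only [if_neg h3, if_neg h2]

include C C2 C3 in
/-- conjugation by the torus -/
lemma coord_torus {k : ℕ} (hk : k < D.rank) (ψ : ℕ → Fˣ) (g : GL D.Idx F) :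
    coordS C hk (torusG U D ψ * g * (torusG U D ψ)⁻¹) = (ψ k : F) * coordS C hk g := by
  unfold coordS
  have hp := C.simple_lt k hk
  rw [← torusG_inv]
  simp only [Units.val_mul, torusG_val, torusM, Matrix.diagonal_mul, Matrix.mul_diagonal]
  have e1 : tv U D ψ (code D (Sum.inl ⟨k, hk⟩ : D.Idx)) = 1 := tv_coroot C3 hk ψ
  have e2 : tv U D ψ⁻¹ (code D (Sum.inr ⟨negF D (D.simple k), negF_lt hp⟩ : D.Idx)) = ψ k := by
    show tv U D ψ⁻¹ (negF D (D.simple k)) = ψ k
    rw [tv_neg C3 hp, tv_inv, tv_simple C3 hk, inv_inv]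
  rw [e1, e2]
  simp
  ring

end

section
variable (C : Checks D T) {F : Type*} [Field F]

/-- peeling off a root element -/
lemma peel {R R' : ℕ → Prop} {p : ℕ} (hR : ∀ r, r < D.nroots → R r → r = p ∨ R' r)
    (hn : ∀ a : F, xG C p a ∈ Subgroup.normalizer (RS C R' F : Set (GL D.Idx F))) {v : GL D.Idx F} (hv : v ∈ RS C R F) :
    ∃ (t : F), ∃ v' ∈ RS C R' F, v = xG C p t * v' := by
  unfold RS at hv
  have hconj : ∀ (a : F) (w : GL D.Idx F), w ∈ RS C R' F → (xG C p a)⁻¹ * w * xG C p a ∈ RS C R' F := by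
    intro a w hw
    have h1 := (Subgroup.mem_normalizer_iff.mp (inv_mem (hn a)) w).mp hw
    rwa [inv_inv] at h1
  induction hv using Subgroup.closure_induction_right with
  | one => exact ⟨0, 1, Subgroup.one_mem _, by simp⟩
  | mul_right x _ y hy ih =>
    obtain ⟨t, v, hv, rfl⟩ := ih
    obtain ⟨r, u, h1, h2, rfl⟩ := hy
    rcases hR r h1 h2 with rfl | h3
    · refine ⟨t + u, (xG C r u)⁻¹ * v * xG C r u, hconj u v hv, ?_⟩
      rw [← xG_add C]
      group
    · exact ⟨t, v * xG C r u, Subgroup.mul_mem _ hv (xG_mem_RS C h1 h3 u), by group⟩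
  | mul_inv_cancel x _ y hy ih =>
    obtain ⟨t, v, hv, rfl⟩ := ih
    obtain ⟨r, u, h1, h2, rfl⟩ := hy
    rw [xG_inv C]
    rcases hR r h1 h2 with rfl | h3
    · refine ⟨t + -u, (xG C r (-u))⁻¹ * v * xG C r (-u), hconj (-u) v hv, ?_⟩
      rw [← xG_add C]
      group
    · exact ⟨t, v * xG C r (-u), Subgroup.mul_mem _ hv (xG_mem_RS C h1 h3 (-u)), by group⟩

end

/-- A subgroup covering modulo the commutator with the group, in a nilpotent group. -/
lemma le_of_le_sup_commutator {G : Type*} [Group G] [Group.IsNilpotent G] {X V : Subgroup G} [X.Normal]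
    (h : V ≤ X ⊔ ⁅V, (⊤ : Subgroup G)⁆) : V ≤ X := by
  let π := QuotientGroup.mk' X
  have hk : X.map π = ⊥ := by
    rw [Subgroup.map_eq_bot_iff, QuotientGroup.ker_mk']
  have h1 : V.map π ≤ ⁅V.map π, (⊤ : Subgroup (G ⧸ X))⁆ := by
    have h2 := Subgroup.map_mono (f := π) h
    rw [Subgroup.map_sup, hk, bot_sup_eq, Subgroup.map_commutator] at h2
    refine h2.trans (Subgroup.commutator_mono le_rfl le_top)
  have h3 : ∀ n, V.map π ≤ (⊤ : Subgroup (G ⧸ X)).lowerCentralSeries n := by
    intro n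
    induction n with
    | zero => exact le_top
    | succ n ih =>
      rw [Subgroup.lowerCentralSeries_succ]
      exact h1.trans (Subgroup.commutator_mono ih le_rfl)
  obtain ⟨n, hn⟩ := nilpotent_iff_lowerCentralSeries.mp (inferInstance : Group.IsNilpotent (G ⧸ X))
  have h4 := h3 n
  rw [hn, le_bot_iff, Subgroup.map_eq_bot_iff, QuotientGroup.ker_mk'] at h4
  exact h4

end Cfsg.Agent.H10
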