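import Cfsg.Agent.Lib.H10.StWC1

/-!
# Non-simple radical root elements lie in the commutator with `U`
-/

set_option autoImplicit false
set_option linter.style.haveILetI false
set_option linter.unusedSimpArgs false
set_option linter.unusedSectionVars false
set_option linter.unusedVariables false

open Cfsg.Lie Cfsg.Agent.H04.Chev

namespace Cfsg.Agent.H10

variable {D : ChevalleyDatum} {T : Tabs} {U : Tabs3}

/-- radical roots different from the first fundamental roots -/
def PhiJ (D : ChevalleyDatum) (J : Set ℕ) (n r : ℕ) : Prop := RJ D J r ∧ ∀ m, m < n → m < D.rank → r ≠ D.simple m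

/-- first form of a step -/
def StepA (D : ChevalleyDatum) (F : Type*) [Field F] (μ : ℕ → ℤ) (r j s : ℕ) : Prop :=
  ∃ (C' : ℤ) (tail : List (ℕ × ℤ × ℕ × ℕ)), D.commTerms (D.simple j) s = (r, C', 1, 1) :: tail ∧ (C' : F) ≠ 0 ∧
    ∀ c ∈ tail, (c.2.1 : F) = 0 ∨ μ r < μ c.1

/-- second form of a step -/
def StepB (D : ChevalleyDatum) (F : Type*) [Field F] (μ : ℕ → ℤ) (r j s : ℕ) : Prop :=
  ∃ (s₁ : ℕ) (C₁ : ℤ) (l₁ : List (ℕ × ℤ × ℕ × ℕ)) (C' : ℤ) (k : ℕ) (l₂ : List (ℕ × ℤ × ℕ × ℕ)),
    D.commTerms (D.simple j) s = (s₁, C₁, 1, 1) :: (l₁ ++ (r, C', k, 1) :: l₂) ∧ (C' : F) ≠ 0 ∧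
    (∃ l : F, l ≠ 0 ∧ l ^ (k - 1) ≠ 1) ∧ ∀ c ∈ l₁ ++ l₂, (c.2.1 : F) = 0 ∨ μ r < μ c.1

/-- a root is reached by the commutator formula -/
def Step (D : ChevalleyDatum) (F : Type*) [Field F] (μ : ℕ → ℤ) (r : ℕ) : Prop :=
  ∃ j s, j < D.rank ∧ D.nroots / 2 ≤ s ∧ s < D.nroots ∧ s ≠ D.simple j ∧ (StepA D F μ r j s ∨ StepB D F μ r j s)

section
variable (C : Checks D T) (C2 : Checks2 D T) (C3 : Checks3 D T U)
variable {F : Type*} [Field F]

include C C2 C3 in
/-- the terms of a commutator with a fundamental root -/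
lemma comm_Phi {J : Set ℕ} {j s : ℕ} (hj : j < D.rank) (hs0 : D.nroots / 2 ≤ s) (hs : s < D.nroots) (hsne : s ≠ D.simple j)
    (hV : RJ D J s ∨ RJ D J (D.simple j)) {c : ℕ × ℤ × ℕ × ℕ} (hc : c ∈ D.commTerms (D.simple j) s) :
    c.1 < D.nroots ∧ RJ D J c.1 ∧ ∀ m, m < D.rank → c.1 ≠ D.simple m := by
  have hlt := comm_lt C C3 hc
  obtain ⟨h3, h4, h6⟩ := comm_cof C C3 hc
  have hp0 := C3.simple_pos j hj
  have hp := C.simple_lt j hj
  have h10 : (1 : ℤ) ≤ (c.2.2.2 : ℤ) := by exact_mod_cast h4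
  have h11 : (1 : ℤ) ≤ (c.2.2.1 : ℤ) := by exact_mod_cast h3
  have hnn1 : ∀ i, i < D.rank → 0 ≤ U.cofI (D.simple j) i := fun i hi => C3.cof_pos _ hp0 hp i hi
  have hnn2 : ∀ i, i < D.rank → 0 ≤ U.cofI s i := fun i hi => C3.cof_pos _ hs0 hs i hi
  have hpos : ∀ i, i < D.rank → (0 < U.cofI (D.simple j) i ∨ 0 < U.cofI s i) → 0 < U.cofI c.1 i := by
    intro i hi h
    rw [h6 i hi]
    have h1 := hnn1 i hi
    have h2 := hnn2 i hi
    rcases h with h | h
    · nlinarith [mul_nonneg (by linarith : (0:ℤ) ≤ (c.2.2.2 : ℤ)) h2]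
    · nlinarith [mul_nonneg (by linarith : (0:ℤ) ≤ (c.2.2.1 : ℤ)) h1]
  refine ⟨hlt, ?_, ?_⟩
  · have : ∃ i, i < D.rank ∧ i ∉ J ∧ (0 < U.cofI (D.simple j) i ∨ 0 < U.cofI s i) := by
      rcases hV with h | h
      · obtain ⟨i, hi, hiJ, h5⟩ := RJ_spec C C2 C3 h
        exact ⟨i, hi, hiJ, Or.inr h5⟩
      · obtain ⟨i, hi, hiJ, h5⟩ := RJ_spec C C2 C3 h
        exact ⟨i, hi, hiJ, Or.inl h5⟩
    obtain ⟨i, hi, hiJ, h5⟩ := this
    have h8 := hpos i hi h5
    refine ⟨(C2.pos_iff _).mpr ⟨pos_of_cof C2 C3 hlt hi h8, hlt⟩, ?_⟩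
    intro h9
    rw [(inRootSub_iff C3).mp h9 |>.2 i hi hiJ] at h8
    exact lt_irrefl _ h8
  · intro m hm e
    rw [e] at h6
    have h7 := h6 j hj
    rw [C3.cof_simple j hj j hj, if_pos rfl, C3.cof_simple m hm j hj] at h7
    have hjm : j = m := by
      by_contra hne
      rw [if_neg hne] at h7
      nlinarith [hnn2 j hj, mul_nonneg (by linarith : (0:ℤ) ≤ (c.2.2.2 : ℤ)) (hnn2 j hj)]
    subst hjm
    rw [if_pos rfl] at h7
    rcases C3.support2 s hs0 hs j hj with h8 | ⟨i, hi, hij, h9⟩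
    · exact hsne h8
    · have h12 := h6 i hi
      rw [C3.cof_simple j hj i hi, if_neg hij] at h12
      nlinarith [mul_pos (by linarith : (0:ℤ) < (c.2.2.2 : ℤ)) h9]

include C2 C3 in
lemma xG_pos_mem {r : ℕ} (h0 : D.nroots / 2 ≤ r) (hr : r < D.nroots) (t : F) : xG C r t ∈ D.posUnipotent F :=
  xG_mem_pos C ((C2.pos_iff _).mpr ⟨h0, hr⟩) t

include C2 C3 in
/-- the coordinate vanishes on root subgroups not involving the fundamental root -/
lemma coord_RS {k : ℕ} (hk : k < D.rank) {R : ℕ → Prop} (hR : ∀ r, r < D.nroots → R r → D.nroots / 2 ≤ r ∧ r ≠ D.simple k)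
    {v : GL D.Idx F} (hv : v ∈ RS C R F) : coordS C hk v = 0 := by
  have hle : RS C R F ≤ D.posUnipotent F := RS_le_U C C2 (fun r hr h => (hR r hr h).1)
  unfold RS at hv hle
  induction hv using Subgroup.closure_induction with
  | mem x hx =>
    obtain ⟨r, t, h1, h2, rfl⟩ := hx
    rw [coord_x C C2 C3 hk (hR r h1 h2).1 h1, if_neg (hR r h1 h2).2]
  | one => exact coord_one C C2 C3 hk
  | mul x y hx hy ihx ihy =>
    rw [coord_mul C C2 C3 hk (hle hx) (hle hy), ihx, ihy, add_zero]
  | inv x hx ih =>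
    rw [coord_inv C C2 C3 hk (hle hx), ih, neg_zero]

include C2 C3 in
/-- elements of the radical with vanishing fundamental coordinates -/
theorem coord_zero_mem {J : Set ℕ} {v : GL D.Idx F} (hv : v ∈ RS C (RJ D J) F)
    (h0 : ∀ (k : ℕ) (hk : k < D.rank), coordS C hk v = 0) : v ∈ RS C (PhiJ D J D.rank) F := by
  have key : ∀ n, n ≤ D.rank → v ∈ RS C (PhiJ D J n) F := by
    intro n
    induction n with
    | zero =>
      intro _
      refine RS_mono C F ?_ hv
      intro r _ hr
      exact ⟨hr, fun m hm => absurd hm (Nat.not_lt_zero _)⟩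
    | succ n ih =>
      intro hn
      have hnr : n < D.rank := hn
      have hp := C.simple_lt n hnr
      have hp0 := C3.simple_pos n hnr
      have hvn := ih (by omega)
      obtain ⟨t, v', hv', e⟩ := peel C (R := PhiJ D J n) (R' := PhiJ D J (n + 1)) (p := D.simple n)
        (by
          intro r hr h
          by_cases h1 : r = D.simple n
          · exact Or.inl h1
          · refine Or.inr ⟨h.1, fun m hm hm' => ?_⟩
            by_cases h2 : m = n
            · rw [h2]; exact h1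
            · exact h.2 m (by omega) hm')
        (by
          intro a
          apply xG_mem_normalizer C hp
          intro s hs h
          have hs0 := ((C2.pos_iff _).mp h.1.1).1
          have hsne : s ≠ D.simple n := h.2 n (by omega) hnr
          have hneg : s ≠ negF D (D.simple n) := by
            have := negF_neg C2 hp0 hp
            omega
          refine ⟨hsne, hneg, ?_⟩
          intro c hc
          obtain ⟨h1, h2, h3⟩ := comm_Phi C C2 C3 hnr hs0 hs hsne (Or.inl h.1) hc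
          exact ⟨h1, h2, fun m _ hm' => h3 m hm'⟩)
        hvn
      have hR : ∀ r, r < D.nroots → PhiJ D J (n + 1) r → D.nroots / 2 ≤ r ∧ r ≠ D.simple n :=
        fun r _ h => ⟨((C2.pos_iff _).mp h.1.1).1, h.2 n (by omega) hnr⟩
      have h1 := coord_RS C C2 C3 hnr hR hv'
      have hv'U : v' ∈ D.posUnipotent F := RS_le_U C C2 (fun r hr h => (hR r hr h).1) hv'
      have h2 := h0 n hnr
      rw [e, coord_mul C C2 C3 hnr (xG_pos_mem C C2 C3 hp0 hp t) hv'U, h1, add_zero, coord_x C C2 C3 hnr hp0 hp, if_pos rfl] at h2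
      rw [e, h2, xG_zero, one_mul]
      exact hv'
  exact key _ le_rfl

include C2 C3 in
/-- **The non-simple radical root elements** lie in any subgroup containing the commutators of `U_J` and `U`, normalized
by `U`, provided each root is reached by the commutator formula. -/
theorem star {J : Set ℕ} (μ : ℕ → ℤ)
    (hstep : ∀ r, D.nroots / 2 ≤ r → r < D.nroots → (∀ m, m < D.rank → r ≠ D.simple m) → Step D F μ r)
    {W : Subgroup (GL D.Idx F)}
    (hWc : ∀ v ∈ RS C (RJ D J) F, ∀ u ∈ D.posUnipotent F, v * u * v⁻¹ * u⁻¹ ∈ W)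
    (hWn : ∀ u ∈ D.posUnipotent F, ∀ w ∈ W, u * w * u⁻¹ ∈ W) :
    ∀ r, PhiJ D J D.rank r → ∀ t : F, xG C r t ∈ W := by
  classical
  obtain ⟨b, hb⟩ : ∃ b : ℤ, ∀ r, r < D.nroots → μ r ≤ b := by
    obtain ⟨b, hb⟩ := ((Finset.range D.nroots).image μ).exists_le
    exact ⟨b, fun r hr => hb _ (Finset.mem_image_of_mem _ (Finset.mem_range.mpr hr))⟩
  have key : ∀ (m : ℕ) (r : ℕ), (b - μ r).toNat = m → PhiJ D J D.rank r → ∀ t : F, xG C r t ∈ W := by
    intro m
    induction m using Nat.strong_induction_on with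
    | _ m ih =>
      intro r hm hΦ t
      have hr := RJ_lt hΦ.1
      have hr0 := ((C2.pos_iff _).mp hΦ.1.1).1
      obtain ⟨j, s, hj, hs0, hs, hsne, hcase⟩ := hstep r hr0 hr (fun n hn => hΦ.2 n hn hn)
      have hp := C.simple_lt j hj
      have hp0 := C3.simple_pos j hj
      have hneg : s ≠ negF D (D.simple j) := by
        have := negF_neg C2 hp0 hp
        omega
      -- an entry for `r`
      have hV : RJ D J s ∨ RJ D J (D.simple j) := by
        by_cases hjJ : j ∈ J
        · left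
          have hentry : ∃ (C' : ℤ) (k : ℕ), (r, C', k, 1) ∈ D.commTerms (D.simple j) s := by
            rcases hcase with ⟨C', tail, e, _, _⟩ | ⟨s₁, C₁, l₁, C', k, l₂, e, _, _, _⟩
            · exact ⟨C', 1, by rw [e]; exact List.mem_cons_self⟩
            · exact ⟨C', k, by rw [e]; simp⟩
          obtain ⟨C', k, he⟩ := hentry
          obtain ⟨_, _, h6⟩ := comm_cof C C3 he
          apply RJ_of_cof C C2 C3 hΦ.1 hs
          intro i hi hiJ
          have h7 := h6 i hi
          simp only at h7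
          have hne : i ≠ j := fun h => hiJ (h ▸ hjJ)
          rw [h7, C3.cof_simple j hj i hi, if_neg hne]
          simp
        · right
          exact RJ_simple C C2 C3 hj hjJ
      have hword : ∀ t u : F, wordG C (D.commWord F (D.simple j) s t u) ∈ W := by
        intro t u
        have h1 := xG_comm C hp hs hsne hneg t u
        have e1 : wordG C (D.commWord F (D.simple j) s t u) =
            (xG C s u)⁻¹ * (xG C (D.simple j) t)⁻¹ * xG C s u * xG C (D.simple j) t := by
          have e2 : xG C s u * xG C (D.simple j) t = xG C (D.simple j) t * xG C s u * wordG C (D.commWord F (D.simple j) s t u) := h1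
          rw [mul_assoc, mul_assoc, e2]
          group
        rw [e1]
        have hU1 : (xG C s u)⁻¹ ∈ D.posUnipotent F := inv_mem (xG_pos_mem C C2 C3 hs0 hs u)
        have hU2 : (xG C (D.simple j) t)⁻¹ ∈ D.posUnipotent F := inv_mem (xG_pos_mem C C2 C3 hp0 hp t)
        rcases hV with h | h
        · have := hWc _ (inv_mem (xG_mem_RS C hs h u)) _ hU2
          simpa only [inv_inv] using this
        · have := inv_mem (hWc _ (inv_mem (xG_mem_RS C hp h t)) _ hU1)
          have e3 : ((xG C (D.simple j) t)⁻¹ * (xG C s u)⁻¹ * ((xG C (D.simple j) t)⁻¹)⁻¹ * ((xG C s u)⁻¹)⁻¹)⁻¹ =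
              (xG C s u)⁻¹ * (xG C (D.simple j) t)⁻¹ * xG C s u * xG C (D.simple j) t := by group
          rwa [e3] at this
      have hterm : ∀ c ∈ D.commTerms (D.simple j) s, ((c.2.1 : F) = 0 ∨ μ r < μ c.1) →
          ∀ t u : F, xG C c.1 ((c.2.1 : F) * (-t) ^ c.2.2.1 * u ^ c.2.2.2) ∈ W := by
        intro c hc h t u
        rcases h with h | h
        · rw [h, zero_mul, zero_mul, xG_zero]
          exact one_mem _
        · obtain ⟨h1, h2, h3⟩ := comm_Phi C C2 C3 hj hs0 hs hsne hV hc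
          have h4 := hb _ h1
          have h5 := hb _ hr
          refine ih (b - μ c.1).toNat ?_ c.1 rfl ⟨h2, fun n _ hn => h3 n hn⟩ _
          omega
      rcases hcase with ⟨C', tail, e, hne, htail⟩ | ⟨s₁, C₁, l₁, C', k, l₂, e, hne, ⟨l, hl0, hl1⟩, htail⟩
      · -- first form
        have hw : xG C r ((C' : F) * (- -1) ^ 1 * (t / (C' : F)) ^ 1) *
            wordG C (tail.map fun c => (c.1, (c.2.1 : F) * (- -1) ^ c.2.2.1 * (t / (C' : F)) ^ c.2.2.2)) ∈ W := by
          have h := hword (-1) (t / (C' : F))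
          unfold Cfsg.Lie.ChevalleyDatum.commWord at h
          rw [e, List.map_cons, wordG_cons] at h
          exact h
        have e2 : (C' : F) * (- -1) ^ 1 * (t / (C' : F)) ^ 1 = t := by
          simp only [neg_neg, one_pow, pow_one, mul_one]
          field_simp
        rw [e2] at hw
        have hτ : wordG C (tail.map fun c => (c.1, (c.2.1 : F) * (- -1) ^ c.2.2.1 * (t / (C' : F)) ^ c.2.2.2)) ∈ W := by
          apply wordG_mem_of C
          intro p hp'
          rw [List.mem_map] at hp'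
          obtain ⟨c, hc, rfl⟩ := hp'
          exact hterm c (by rw [e]; exact List.mem_cons_of_mem _ hc) (htail c hc) _ _
        have := mul_mem hw (inv_mem hτ)
        rwa [mul_inv_cancel_right] at this
      · -- second form
        have hmemc : ∀ c ∈ l₁ ++ l₂, c ∈ D.commTerms (D.simple j) s := by
          intro c hc
          rw [e]
          rcases List.mem_append.mp hc with h | h
          · simp [h]
          · simp [h]
        have hτ : ∀ (L : List (ℕ × ℤ × ℕ × ℕ)), (∀ c ∈ L, c ∈ l₁ ++ l₂) → ∀ t u : F,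
            wordG C (L.map fun c => (c.1, (c.2.1 : F) * (-t) ^ c.2.2.1 * u ^ c.2.2.2)) ∈ W := by
          intro L hL t u
          apply wordG_mem_of C
          intro p hp'
          rw [List.mem_map] at hp'
          obtain ⟨c, hc, rfl⟩ := hp'
          exact hterm c (hmemc c (hL c hc)) (htail c (hL c hc)) _ _
        have hexp : ∀ (t u : F), wordG C (D.commWord F (D.simple j) s t u) =
            xG C s₁ ((C₁ : F) * (-t) ^ 1 * u ^ 1) *
            (wordG C (l₁.map fun c => (c.1, (c.2.1 : F) * (-t) ^ c.2.2.1 * u ^ c.2.2.2)) *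
              (xG C r ((C' : F) * (-t) ^ k * u ^ 1) *
                wordG C (l₂.map fun c => (c.1, (c.2.1 : F) * (-t) ^ c.2.2.1 * u ^ c.2.2.2)))) := by
          intro t u
          unfold Cfsg.Lie.ChevalleyDatum.commWord
          rw [e]
          simp only [List.map_cons, List.map_append, wordG_cons, wordG_append]
        have hk1 : 1 ≤ k := by
          have : (r, C', k, 1) ∈ D.commTerms (D.simple j) s := by rw [e]; simp
          exact (comm_cof C C3 this).1
        have hdiff : l ^ (k - 1) - 1 ≠ 0 := sub_ne_zero.mpr hl1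
        set u : F := t / ((C' : F) * (l ^ (k - 1) - 1)) with hu
        have hw1 := hword (-1) u
        have hw2 := hword (-l) (l⁻¹ * u)
        rw [hexp] at hw1 hw2
        set A := xG C s₁ ((C₁ : F) * (- -1) ^ 1 * u ^ 1) with hA
        have eA : xG C s₁ ((C₁ : F) * (- -l) ^ 1 * (l⁻¹ * u) ^ 1) = A := by
          rw [hA]
          congr 1
          field_simp
        rw [eA] at hw2
        set τ₁ := wordG C (l₁.map fun c => (c.1, (c.2.1 : F) * (- -1) ^ c.2.2.1 * u ^ c.2.2.2)) with hτ₁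
        set τ₂ := wordG C (l₂.map fun c => (c.1, (c.2.1 : F) * (- -1) ^ c.2.2.1 * u ^ c.2.2.2)) with hτ₂
        set τ₁' := wordG C (l₁.map fun c => (c.1, (c.2.1 : F) * (- -l) ^ c.2.2.1 * (l⁻¹ * u) ^ c.2.2.2)) with hτ₁'
        set τ₂' := wordG C (l₂.map fun c => (c.1, (c.2.1 : F) * (- -l) ^ c.2.2.1 * (l⁻¹ * u) ^ c.2.2.2)) with hτ₂'
        have m1 : τ₁ ∈ W := hτ l₁ (fun c hc => List.mem_append_left _ hc) _ _
        have m2 : τ₂ ∈ W := hτ l₂ (fun c hc => List.mem_append_right _ hc) _ _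
        have m1' : τ₁' ∈ W := hτ l₁ (fun c hc => List.mem_append_left _ hc) _ _
        have m2' : τ₂' ∈ W := hτ l₂ (fun c hc => List.mem_append_right _ hc) _ _
        set y₁ := xG C r ((C' : F) * (- -1) ^ k * u ^ 1) with hy₁
        set y₂ := xG C r ((C' : F) * (- -l) ^ k * (l⁻¹ * u) ^ 1) with hy₂
        have hq := mul_mem (inv_mem hw1) hw2
        have eq1 : (A * (τ₁ * (y₁ * τ₂)))⁻¹ * (A * (τ₁' * (y₂ * τ₂'))) = τ₂⁻¹ * (y₁⁻¹ * (τ₁⁻¹ * τ₁') * y₁) * (y₁⁻¹ * y₂) * τ₂' := by
          group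
        rw [eq1] at hq
        have hy1U : y₁⁻¹ ∈ D.posUnipotent F := inv_mem (xG_pos_mem C C2 C3 hr0 hr _)
        have hc1 : y₁⁻¹ * (τ₁⁻¹ * τ₁') * y₁ ∈ W := by
          have := hWn _ hy1U _ (mul_mem (inv_mem m1) m1')
          simpa only [inv_inv] using this
        have e5 : y₁⁻¹ * y₂ = (y₁⁻¹ * (τ₁⁻¹ * τ₁') * y₁)⁻¹ * τ₂ * (τ₂⁻¹ * (y₁⁻¹ * (τ₁⁻¹ * τ₁') * y₁) * (y₁⁻¹ * y₂) * τ₂') * τ₂'⁻¹ := by
          group
        have hfin : y₁⁻¹ * y₂ ∈ W := by
          rw [e5]
          exact mul_mem (mul_mem (mul_mem (inv_mem hc1) m2) hq) (inv_mem m2')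
        have e6 : y₁⁻¹ * y₂ = xG C r t := by
          rw [hy₁, hy₂, xG_inv C, xG_add C]
          congr 1
          have hk2 : (- -l) ^ k = l * l ^ (k - 1) := by
            rw [neg_neg, ← pow_succ', Nat.sub_add_cancel hk1]
          rw [hk2, hu]
          have hC' := hne
          simp only [neg_neg, one_pow, pow_one, mul_one]
          field_simp
          try ring
        rwa [e6] at hfin
  intro r hr t
  exact key _ r rfl hr t

end

end Cfsg.Agent.H10
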