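import Cfsg.Agent.Lib.H10.StWC2

/-!
# Weakly closed subgroups of the unipotent subgroup
-/

set_option autoImplicit false
set_option linter.style.haveILetI false
set_option linter.unusedSimpArgs false
set_option linter.unusedSectionVars false
set_option linter.unusedVariables false

open Cfsg.Lie Cfsg.Agent.H04.Chev
open scoped commutatorElement

namespace Cfsg.Agent.H10

variable {D : ChevalleyDatum} {T : Tabs} {U : Tabs3}

/-- separation of the fundamental coordinates by the torus -/
def SepD (D : ChevalleyDatum) (F : Type*) [Field F] : Prop :=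
  ∀ i j, i < D.rank → j < D.rank → i ≠ j → ∃ c : ℕ → Fˣ, capply D c i = 1 ∧ capply D c j ≠ 1

lemma capply_single {F : Type*} [Field F] {k : ℕ} (hk : k < D.rank) (z : Fˣ) : capply D (Function.update 1 k z) = psiI D k z := by
  unfold capply
  have key : ∀ m, m ≤ D.rank →
      ((List.range m).map fun i => psiI D i ((Function.update (1 : ℕ → Fˣ) k z) i)).prod = if k < m then psiI D k z else 1 := by
    intro m hm
    induction m with
    | zero => simp
    | succ m ih =>
      rw [List.range_succ, List.map_append, List.prod_append, ih (by omega)]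
      simp only [List.map_cons, List.map_nil, List.prod_cons, List.prod_nil, mul_one]
      by_cases h : k = m
      · subst h
        simp [psiI_one]
      · have h2 : Function.update (1 : ℕ → Fˣ) k z m = 1 := by
          rw [Function.update_of_ne (Ne.symm h)]
          rfl
        rw [h2, psiI_one, mul_one]
        by_cases h3 : k < m
        · rw [if_pos h3, if_pos (by omega)]
        · rw [if_neg h3, if_neg (by omega)]
  rw [key _ le_rfl, if_pos hk]

/-- every element of a finite field is a sum of two squares -/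
lemma sum_two_squares {F : Type*} [Field F] [Fintype F] (d : F) : ∃ s t : F, d = s ^ 2 + t ^ 2 := by
  classical
  by_cases h2 : Fintype.card F % 2 = 1
  · obtain ⟨a, b, h⟩ := FiniteField.exists_root_sum_quadratic (R := F) (f := Polynomial.X ^ 2) (g := Polynomial.X ^ 2 - Polynomial.C d)
      (Polynomial.degree_X_pow 2) (Polynomial.degree_X_pow_sub_C (by decide) _) h2
    refine ⟨a, b, ?_⟩
    simp only [Polynomial.eval_pow, Polynomial.eval_X, Polynomial.eval_sub, Polynomial.eval_C] at h
    linear_combination -h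
  · have h3 : ringChar F = 2 := FiniteField.even_card_iff_char_two.mpr (by omega)
    obtain ⟨s, hs⟩ := FiniteField.isSquare_of_char_two h3 d
    exact ⟨s, 0, by rw [hs]; ring⟩

section
variable (C : Checks D T) (C2 : Checks2 D T) (C3 : Checks3 D T U)
variable {F : Type*} [Field F]

include C C2 C3 in
lemma cartan_self {j : ℕ} (hj : j < D.rank) : D.cartan j (D.simple j) = 2 := by
  have hp := C.simple_lt j hj
  have h1 := C3.cof_w j hj _ hp j hj
  rw [w_simple_self C C3 hj, C3.cof_neg _ hp j hj, C3.cof_simple j hj j hj, if_pos rfl, if_pos rfl] at h1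
  omega

include C C3 in
lemma torus_mem_B (c : ℕ → Fˣ) : torusG U D (capply D c) ∈ D.borelSubgroup F := by
  apply H_le_B
  rw [diagonal_eq C C3]
  exact mem_HT.mpr ⟨c, rfl⟩

variable {X : Subgroup (GL D.Idx F)} (hXU : X ≤ D.posUnipotent F)
  (hB : D.borelSubgroup F ≤ Subgroup.normalizer (X : Set (GL D.Idx F)))

include C C2 C3 hXU hB in
lemma coord_act (c : ℕ → Fˣ) {y : GL D.Idx F} (hy : y ∈ X) :
    torusG U D (capply D c) * y * (torusG U D (capply D c))⁻¹ ∈ X :=
  (Subgroup.mem_normalizer_iff.mp (hB (torus_mem_B C C3 c)) y).mp hy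

include C2 C3 hXU hB in
/-- isolating a fundamental coordinate -/
lemma isolate (hsep : SepD D F) {j : ℕ} (hj : j < D.rank) {x : GL D.Idx F} (hx : x ∈ X) (hne : coordS C hj x ≠ 0) :
    ∃ y ∈ X, (∀ i (hi : i < D.rank), i ≠ j → coordS C hi y = 0) ∧ coordS C hj y ≠ 0 := by
  have key : ∀ n, ∃ y ∈ X, (∀ i (hi : i < D.rank), i < n → i ≠ j → coordS C hi y = 0) ∧ coordS C hj y ≠ 0 := by
    intro n
    induction n with
    | zero => exact ⟨x, hx, fun i _ h => absurd h (Nat.not_lt_zero _), hne⟩
    | succ n ih =>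
      obtain ⟨y, hy, h1, h2⟩ := ih
      by_cases hn : n < D.rank ∧ n ≠ j
      · obtain ⟨c, hc1, hc2⟩ := hsep n j hn.1 hj hn.2
        set ψ := capply D c with hψ
        have hz : torusG U D ψ * y * (torusG U D ψ)⁻¹ ∈ X := coord_act C C2 C3 hXU hB c hy
        have hform : ∀ i (hi : i < D.rank), coordS C hi (torusG U D ψ * y * (torusG U D ψ)⁻¹ * y⁻¹) =
            ((ψ i : F) - 1) * coordS C hi y := by
          intro i hi
          rw [coord_mul C C2 C3 hi (hXU hz) (inv_mem (hXU hy)), coord_inv C C2 C3 hi (hXU hy), coord_torus C C2 C3 hi]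
          ring
        refine ⟨_, mul_mem hz (inv_mem hy), ?_, ?_⟩
        · intro i hi hin hij
          rw [hform i hi]
          by_cases h3 : i = n
          · subst h3
            rw [hc1]
            simp
          · rw [h1 i hi (by omega) hij, mul_zero]
        · rw [hform j hj]
          apply mul_ne_zero _ h2
          intro h3
          apply hc2
          apply Units.ext
          rw [Units.val_one]
          exact sub_eq_zero.mp h3
      · refine ⟨y, hy, ?_, h2⟩
        intro i hi hin hij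
        apply h1 i hi _ hij
        by_contra h3
        have : i = n := by omega
        subst this
        exact hn ⟨hi, hij⟩
  obtain ⟨y, hy, h1, h2⟩ := key D.rank
  exact ⟨y, hy, fun i hi hij => h1 i hi hi hij, h2⟩

include C2 C3 hXU hB in
/-- all values of the isolated coordinate -/
lemma scale [Fintype F] {j : ℕ} (hj : j < D.rank) {y : GL D.Idx F} (hy : y ∈ X) (h0 : ∀ i (hi : i < D.rank), i ≠ j → coordS C hi y = 0)
    (hne : coordS C hj y ≠ 0) (a : F) : ∃ z ∈ X, (∀ i (hi : i < D.rank), i ≠ j → coordS C hi z = 0) ∧ coordS C hj z = a := by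
  have hsq : ∀ s : F, ∃ z ∈ X, (∀ i (hi : i < D.rank), i ≠ j → coordS C hi z = 0) ∧ coordS C hj z = s ^ 2 * coordS C hj y := by
    intro s
    by_cases hs : s = 0
    · refine ⟨1, one_mem _, fun i hi _ => coord_one C C2 C3 hi, ?_⟩
      rw [coord_one C C2 C3, hs]
      simp
    · have hz := coord_act C C2 C3 hXU hB (Function.update 1 j (Units.mk0 s hs)) hy
      refine ⟨_, hz, ?_, ?_⟩
      · intro i hi hij
        rw [coord_torus C C2 C3 hi, h0 i hi hij, mul_zero]
      · rw [coord_torus C C2 C3 hj, capply_single hj]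
        congr 1
        unfold psiI
        rw [cartan_self C C2 C3 hj]
        simp
  obtain ⟨s, t, e⟩ := sum_two_squares (a / coordS C hj y)
  obtain ⟨z₁, m1, h1, h2⟩ := hsq s
  obtain ⟨z₂, m2, h3, h4⟩ := hsq t
  refine ⟨z₁ * z₂, mul_mem m1 m2, ?_, ?_⟩
  · intro i hi hij
    rw [coord_mul C C2 C3 hi (hXU m1) (hXU m2), h1 i hi hij, h3 i hi hij, add_zero]
  · rw [coord_mul C C2 C3 hj (hXU m1) (hXU m2), h2, h4, ← add_mul, ← e]
    field_simp

include C2 C3 in
/-- no fundamental coordinate: conjugation by the fundamental reflection stays in `U` -/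
lemma conj_U_of_coord {j : ℕ} (hj : j < D.rank) {x : GL D.Idx F} (hx : x ∈ D.posUnipotent F) (h0 : coordS C hj x = 0) :
    nG C (D.simple j) (1 : F) * x * (nG C (D.simple j) 1)⁻¹ ∈ D.posUnipotent F := by
  have hp := C.simple_lt j hj
  have hp0 := C3.simple_pos j hj
  have hx' : x ∈ RS C (fun r => D.nroots / 2 ≤ r) F := by
    rw [pos_eq_RS C] at hx
    refine RS_mono C F ?_ hx
    intro r _ hr
    exact ((C2.pos_iff _).mp hr).1
  obtain ⟨t, v, hv, e⟩ := peel C (R := fun r => D.nroots / 2 ≤ r) (R' := fun r => D.nroots / 2 ≤ r ∧ r ≠ D.simple j) (p := D.simple j)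
    (by
      intro r _ h
      by_cases h1 : r = D.simple j
      · exact Or.inl h1
      · exact Or.inr ⟨h, h1⟩)
    (by
      intro a
      apply xG_mem_normalizer C hp
      rintro s hs ⟨h1, h2⟩
      refine ⟨h2, ?_, ?_⟩
      · have := negF_neg C2 hp0 hp
        omega
      · intro c hc
        have := C2.pos_comm _ _ hp0 hp h1 hs h2 c hc
        exact ⟨this.2.2, by omega, by omega⟩)
    hx'
  have hvU : v ∈ D.posUnipotent F := RS_le_U C C2 (fun r _ h => h.1) hv
  have h1 := coord_RS C C2 C3 hj (R := fun r => D.nroots / 2 ≤ r ∧ r ≠ D.simple j) (fun r _ h => h) hv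
  rw [e, coord_mul C C2 C3 hj (xG_pos_mem C C2 C3 hp0 hp t) hvU, h1, add_zero, coord_x C C2 C3 hj hp0 hp, if_pos rfl] at h0
  rw [e, h0, xG_zero, one_mul]
  have h2 : nG C (D.simple j) (1 : F) * v * (nG C (D.simple j) 1)⁻¹ ∈ RS C (fun r => D.nroots / 2 ≤ r) F := by
    refine (NAct_simple (F := F) C hj).conj_RS ?_ hv
    rintro s hs ⟨h3, h4⟩
    exact C3.w_pos j hj s h3 hs h4
  exact RS_le_U C C2 (fun r _ h => h) h2

omit C C2 C3 in
lemma mem_norm_of_map_eq {G : Type*} [Group G] {X : Subgroup G} {g : G} (h : X.map (MulAut.conj g).toMonoidHom = X) :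
    g ∈ Subgroup.normalizer (X : Set G) := by
  rw [Subgroup.mem_normalizer_iff]
  intro y
  constructor
  · intro hy
    rw [← h]
    exact ⟨y, hy, rfl⟩
  · intro hy
    rw [← h] at hy
    obtain ⟨y', hy', e⟩ := hy
    have e' : g * y' * g⁻¹ = g * y * g⁻¹ := e
    have : y' = y := by
      have := mul_left_cancel (mul_right_cancel e')
      exact this
    rwa [← this]

omit C C2 C3 in
lemma map_le_of_conj {G : Type*} [Group G] {X A : Subgroup G} {g : G} (h : ∀ y ∈ X, g * y * g⁻¹ ∈ A) :
    X.map (MulAut.conj g).toMonoidHom ≤ A := by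
  rintro _ ⟨y, hy, rfl⟩
  exact h y hy

include C C2 C3 in
/-- **Weakly closed subgroups of `U` are unipotent radicals.** -/
theorem wc_main [Fintype F] (hsep : SepD D F) (μ : ℕ → ℤ)
    (hstep : ∀ r, D.nroots / 2 ≤ r → r < D.nroots → (∀ m, m < D.rank → r ≠ D.simple m) → Step D F μ r)
    (X : Subgroup (GL D.Idx F)) (hXU : X ≤ D.posUnipotent F)
    (hwc : ∀ g ∈ D.group F, X.map (MulAut.conj g).toMonoidHom ≤ D.posUnipotent F → X.map (MulAut.conj g).toMonoidHom = X) :
    ∃ J : Set ℕ, (∀ j ∈ J, j < D.rank) ∧ X = D.unipotentRadical F J := by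
  classical
  have hB : D.borelSubgroup F ≤ Subgroup.normalizer (X : Set (GL D.Idx F)) := by
    intro b hb
    apply mem_norm_of_map_eq
    apply hwc b (B_le_group C hb)
    apply map_le_of_conj
    intro y hy
    exact (Subgroup.mem_normalizer_iff.mp (U_normal_B C2 C3 C hb) y).mp (hXU hy)
  let J : Set ℕ := {j | j < D.rank ∧ nG C (D.simple j) (1 : F) ∈ Subgroup.normalizer (X : Set (GL D.Idx F))}
  have hJ : ∀ j ∈ J, j < D.rank := fun j hj => hj.1
  refine ⟨J, hJ, ?_⟩
  have hPN : D.parabolicSubgroup F J ≤ Subgroup.normalizer (X : Set (GL D.Idx F)) := by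
    unfold Cfsg.Lie.ChevalleyDatum.parabolicSubgroup
    refine sup_le hB ?_
    rw [Subgroup.closure_le]
    rintro g ⟨j, hjJ, hj, h⟩
    have e : g = nG C (D.simple j) 1 := Units.ext (by rw [h, nG_val])
    rw [e]
    exact hjJ.2
  -- `X ≤ U_J`
  have hXV : X ≤ RS C (RJ D J) F := by
    intro x hx
    obtain ⟨z, hz, hzn⟩ := exists_noAsc C C2 C3 hJ
    have hzW := WW_of_WJ C hJ hz
    obtain ⟨n, hn⟩ := RepN.exists (F := F) C C3 hzW
    have hnP : n ∈ D.parabolicSubgroup F J :=
      (para_iff C C2 C3 hJ).mpr ⟨z, hz, n, hn, 1, one_mem _, 1, one_mem _, by group⟩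
    have h1 : n⁻¹ * x * n ∈ X := by
      have := (Subgroup.mem_normalizer_iff.mp (hPN (inv_mem hnP)) x).mp hx
      simpa only [inv_inv] using this
    exact (stabU C2 C3 hJ hz hzn hn (hXU hx)).mp (U_le_B (hXU h1))
  -- the fundamental coordinates
  have hcov : ∀ j (hj : j < D.rank), j ∉ J → ∀ a : F, ∃ z ∈ X, (∀ i (hi : i < D.rank), i ≠ j → coordS C hi z = 0) ∧ coordS C hj z = a := by
    intro j hj hjJ a
    have hex : ∃ x ∈ X, coordS C hj x ≠ 0 := by
      by_contra hcon
      push Not at hcon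
      apply hjJ
      refine ⟨hj, mem_norm_of_map_eq ?_⟩
      apply hwc _ (nG_mem_group C (C.simple_lt j hj) 1)
      apply map_le_of_conj
      intro y hy
      exact conj_U_of_coord C C2 C3 hj (hXU hy) (hcon y hy)
    obtain ⟨x, hx, hne⟩ := hex
    obtain ⟨y, hy, h1, h2⟩ := isolate C C2 C3 hXU hB hsep hj hx hne
    exact scale C C2 C3 hXU hB hj hy h1 h2 a
  -- in the nilpotent group `U`
  haveI : Finite F := inferInstance
  have hnil : Group.IsNilpotent ↥(D.posUnipotent F) := by
    obtain ⟨p, hp⟩ := CharP.exists F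
    obtain ⟨f, hpp, hq⟩ := FiniteField.card F p
    haveI : Fact p.Prime := ⟨hpp⟩
    have hUp : IsPGroup p ↥(D.posUnipotent F) := by
      apply IsPGroup.of_card (n := (f : ℕ) * (D.nroots / 2))
      rw [card_posUnipotent C C2, hq, pow_mul]
    exact hUp.isNilpotent
  have hVU : RS C (RJ D J) F ≤ D.posUnipotent F := RS_le_U C C2 (fun r _ hr => ((C2.pos_iff _).mp hr.1).1)
  let X₁ : Subgroup ↥(D.posUnipotent F) := X.subgroupOf (D.posUnipotent F)
  let V₁ : Subgroup ↥(D.posUnipotent F) := (RS C (RJ D J) F).subgroupOf (D.posUnipotent F)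
  have hX₁ : X₁.Normal := by
    constructor
    intro n hn g
    exact (Subgroup.mem_normalizer_iff.mp (hB (U_le_B g.2)) n.1).mp hn
  have hV₁ : V₁.Normal := by
    constructor
    intro n hn g
    have h1 := para_le_normalizer C C2 C3 (F := F) J (B_le_para (U_le_B g.2))
    rw [UJ_eq C J] at h1
    exact (Subgroup.mem_normalizer_iff.mp h1 n.1).mp hn
  let W₁ : Subgroup ↥(D.posUnipotent F) := ⁅V₁, (⊤ : Subgroup ↥(D.posUnipotent F))⁆
  have hW₁ : W₁.Normal := Subgroup.commutator_normal _ _
  let W : Subgroup (GL D.Idx F) := W₁.map (D.posUnipotent F).subtype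
  have hWc : ∀ v ∈ RS C (RJ D J) F, ∀ u ∈ D.posUnipotent F, v * u * v⁻¹ * u⁻¹ ∈ W := by
    intro v hv u hu
    refine ⟨⁅(⟨v, hVU hv⟩ : ↥(D.posUnipotent F)), (⟨u, hu⟩ : ↥(D.posUnipotent F))⁆, ?_, rfl⟩
    exact Subgroup.commutator_mem_commutator hv (Subgroup.mem_top _)
  have hWn : ∀ u ∈ D.posUnipotent F, ∀ w ∈ W, u * w * u⁻¹ ∈ W := by
    rintro u hu _ ⟨w, hw, rfl⟩
    exact ⟨(⟨u, hu⟩ : ↥(D.posUnipotent F)) * w * (⟨u, hu⟩ : ↥(D.posUnipotent F))⁻¹, hW₁.conj_mem w hw _, rfl⟩
  have hstar := star C2 C3 (C := C) (J := J) μ hstep hWc hWn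
  have hΦ : RS C (PhiJ D J D.rank) F ≤ W := by
    unfold RS
    rw [Subgroup.closure_le]
    rintro _ ⟨r, t, h1, h2, rfl⟩
    exact hstar r h2 t
  let A : Subgroup (GL D.Idx F) := (X₁ ⊔ W₁).map (D.posUnipotent F).subtype
  have hXA : X ≤ A := by
    intro x hx
    exact ⟨⟨x, hXU hx⟩, Subgroup.mem_sup_left hx, rfl⟩
  have hWA : W ≤ A := Subgroup.map_mono le_sup_right
  have hVA : RS C (RJ D J) F ≤ A := by
    unfold RS
    rw [Subgroup.closure_le]
    rintro _ ⟨r, t, h1, h2, rfl⟩
    by_cases hs : ∀ m, m < D.rank → r ≠ D.simple m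
    · exact hWA (hstar r ⟨h2, fun m _ hm => hs m hm⟩ t)
    · push Not at hs
      obtain ⟨j, hj, rfl⟩ := hs
      have hjJ : j ∉ J := by
        intro hjJ
        exact h2.2 (simple_inRootSub C C3 hj hjJ)
      obtain ⟨z, hz, h3, h4⟩ := hcov j hj hjJ t
      have hp := C.simple_lt j hj
      have hp0 := C3.simple_pos j hj
      have hv : xG C (D.simple j) t * z⁻¹ ∈ RS C (RJ D J) F :=
        mul_mem (xG_mem_RS C hp h2 t) (inv_mem (hXV hz))
      have hcoord : ∀ (k : ℕ) (hk : k < D.rank), coordS C hk (xG C (D.simple j) t * z⁻¹) = 0 := by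
        intro k hk
        rw [coord_mul C C2 C3 hk (xG_pos_mem C C2 C3 hp0 hp t) (inv_mem (hXU hz)), coord_inv C C2 C3 hk (hXU hz),
          coord_x C C2 C3 hk hp0 hp]
        by_cases hkj : k = j
        · subst hkj
          rw [if_pos rfl, h4]
          simp
        · have hne : D.simple j ≠ D.simple k := by
            intro e
            have h5 := C3.cof_simple j hj k hk
            rw [e, C3.cof_simple k hk k hk, if_pos rfl, if_neg hkj] at h5
            exact one_ne_zero h5
          rw [if_neg hne, h3 k hk hkj]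
          simp
      have h5 := hWA (hΦ (coord_zero_mem C C2 C3 hv hcoord))
      have e : xG C (D.simple j) t = (xG C (D.simple j) t * z⁻¹) * z := by group
      rw [e]
      exact mul_mem h5 (hXA hz)
  have hfin : V₁ ≤ X₁ := by
    apply le_of_le_sup_commutator
    intro v hv
    obtain ⟨y, hy, e⟩ := hVA hv
    have : y = v := Subtype.ext e
    rwa [← this]
  apply le_antisymm
  · rw [UJ_eq C J]
    exact hXV
  · rw [UJ_eq C J]
    intro v hv
    exact hfin (show (⟨v, hVU hv⟩ : ↥(D.posUnipotent F)) ∈ V₁ from hv)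

end

end Cfsg.Agent.H10
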