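import Mathlib
import Cfsg.Prelude.Def_LieExceptional

/-! The Suzuki group as the stabiliser of the Suzuki-Tits ovoid: basic field facts and matrices. -/

set_option autoImplicit false
set_option linter.unusedSectionVars false
set_option linter.unusedSimpArgs false
set_option linter.style.haveILetI false

namespace Cfsg.Agent.H10

open Matrix

section Field

variable {F : Type*} [Field F] [Fintype F] {m : ℕ}

lemma sz_charP (hF : Fintype.card F = 2 ^ (2 * m + 1)) : CharP F 2 := by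
  obtain ⟨p, hp⟩ := CharP.exists F
  haveI := hp
  have hpp : p.Prime := by
    rcases CharP.char_is_prime_or_zero F p with h | h
    · exact h
    · subst h
      exact absurd (CharP.charP_to_charZero F) (fun h => by
        haveI := h
        exact not_finite F)
  have h1 : p ∣ Fintype.card F := by
    obtain ⟨n, hn, hc⟩ := FiniteField.card F p
    rw [hc]
    exact dvd_pow_self p (PNat.ne_zero n)
  rw [hF] at h1
  have h2 : p = 2 := (Nat.prime_dvd_prime_iff_eq hpp Nat.prime_two).1 (hpp.dvd_of_dvd_pow h1)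
  rwa [h2] at hp

lemma sz_frob2 (hF : Fintype.card F = 2 ^ (2 * m + 1)) (x : F) :
    (x ^ (2 ^ (m + 1))) ^ (2 ^ (m + 1)) = x ^ 2 := by
  rw [← pow_mul, show 2 ^ (m + 1) * 2 ^ (m + 1) = 2 ^ (2 * m + 1) * 2 by ring, pow_mul, ← hF, FiniteField.pow_card]

/-- The trace to the prime field, in elementary form. -/
def szTr (n : ℕ) (x : F) : F := ∑ i ∈ Finset.range n, x ^ (2 ^ i)

lemma szTr_sq (hF : Fintype.card F = 2 ^ (2 * m + 1)) (x : F) :
    szTr (2 * m + 1) (x ^ 2) = szTr (2 * m + 1) x := by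
  unfold szTr
  have h1 : ∀ i, (x ^ 2) ^ (2 ^ i) = x ^ (2 ^ (i + 1)) := fun i => by
    rw [← pow_mul, pow_succ']
  simp_rw [h1]
  have h2 := Finset.sum_range_succ' (fun i => x ^ 2 ^ i) (2 * m + 1)
  have h3 := Finset.sum_range_succ (fun i => x ^ 2 ^ i) (2 * m + 1)
  have h4 : x ^ 2 ^ (2 * m + 1) = x := by rw [← hF, FiniteField.pow_card]
  simp only [pow_zero, pow_one] at h2
  rw [h4] at h3
  exact add_right_cancel (h2.symm.trans h3)

lemma szTr_pow_two_pow (hF : Fintype.card F = 2 ^ (2 * m + 1)) (k : ℕ) (x : F) :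
    szTr (2 * m + 1) (x ^ (2 ^ k)) = szTr (2 * m + 1) x := by
  induction k with
  | zero => simp
  | succ k ih =>
    rw [pow_succ, pow_mul, szTr_sq hF, ih]

variable [CharP F 2]

lemma sz_two : (2 : F) = 0 := CharTwo.two_eq_zero

lemma sz_neg (x : F) : -x = x := CharTwo.neg_eq x

lemma sz_sub (x y : F) : x - y = x + y := CharTwo.sub_eq_add x y

lemma sz_add_self (x : F) : x + x = 0 := CharTwo.add_self_eq_zero x

lemma sz_add_pow (k : ℕ) (x y : F) : (x + y) ^ (2 ^ k) = x ^ (2 ^ k) + y ^ (2 ^ k) := by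
  haveI : Fact (Nat.Prime 2) := ⟨Nat.prime_two⟩
  exact add_pow_char_pow x y 2 k

lemma szTr_add (n : ℕ) (x y : F) : szTr n (x + y) = szTr n x + szTr n y := by
  unfold szTr
  rw [← Finset.sum_add_distrib]
  exact Finset.sum_congr rfl (fun i _ => sz_add_pow i x y)

lemma szTr_one_odd (m : ℕ) : szTr (2 * m + 1) (1 : F) = 1 := by
  have h : szTr (2 * m + 1) (1 : F) = ((2 * m + 1 : ℕ) : F) := by simp [szTr]
  rw [h]
  push_cast
  rw [sz_two]
  simp

/-- The equation `y ^ σ + y = 1` has no solution. -/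
lemma sz_no_sol (hF : Fintype.card F = 2 ^ (2 * m + 1)) (k : ℕ) (y : F) : y ^ (2 ^ k) + y ≠ 1 := by
  intro h
  have h1 := congrArg (szTr (2 * m + 1)) h
  rw [szTr_add, szTr_pow_two_pow hF, szTr_one_odd, sz_add_self] at h1
  exact zero_ne_one h1

/-- The function defining the ovoid. -/
def szf (m : ℕ) (x y : F) : F := x * y + x ^ (2 ^ (m + 1) + 2) + y ^ (2 ^ (m + 1))

lemma szf_eq (m : ℕ) (x y : F) : szf m x y = x * y + x ^ (2 ^ (m + 1)) * x ^ 2 + y ^ (2 ^ (m + 1)) := by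
  rw [szf, pow_add]

/-- Scaling the ovoid function. -/
lemma szf_scale (hF : Fintype.card F = 2 ^ (2 * m + 1)) (l x y : F) :
    szf m (l * x) (l ^ (2 ^ (m + 1) + 1) * y) = l ^ (2 ^ (m + 1) + 2) * szf m x y := by
  have hθ := sz_frob2 (m := m) hF
  simp only [szf]
  generalize 2 ^ (m + 1) = s at hθ ⊢
  have e1 : (l * x) ^ (s + 2) = l ^ s * l ^ 2 * x ^ (s + 2) := by ring
  have e2 : (l ^ (s + 1) * y) ^ s = (l ^ s) ^ s * l ^ s * y ^ s := by
    rw [mul_pow, pow_add, pow_one, mul_pow]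
  rw [e1, e2, hθ]
  ring

lemma szf_eq_zero (hF : Fintype.card F = 2 ^ (2 * m + 1)) {x y : F} (h : szf m x y = 0) : x = 0 ∧ y = 0 := by
  by_cases hx : x = 0
  · subst hx
    simp only [szf_eq, zero_mul, zero_add, ne_eq, Nat.pow_eq_zero, OfNat.ofNat_ne_zero, false_and, not_false_eq_true,
      zero_pow] at h
    exact ⟨rfl, pow_eq_zero_iff (by positivity) |>.1 h⟩
  · exfalso
    set y' := y / x ^ (2 ^ (m + 1) + 1) with hy'
    have hy : y = x ^ (2 ^ (m + 1) + 1) * y' := by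
      rw [hy']
      field_simp
    have h1 := szf_scale hF x 1 y'
    rw [mul_one, ← hy, h] at h1
    have h2 : x ^ (2 ^ (m + 1) + 2) ≠ 0 := pow_ne_zero _ hx
    have h3 : szf m 1 y' = 0 := by
      rcases mul_eq_zero.1 h1.symm with h4 | h4
      · exact absurd h4 h2
      · exact h4
    simp only [szf_eq, one_mul, one_pow] at h3
    apply sz_no_sol hF (m + 1) y'
    have h4 : y' ^ 2 ^ (m + 1) + y' + 1 = 0 := by
      rw [← h3]
      ring
    calc y' ^ 2 ^ (m + 1) + y' = (y' ^ 2 ^ (m + 1) + y' + 1) + 1 := by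
          rw [add_assoc (y' ^ 2 ^ (m + 1) + y'), sz_add_self, add_zero]
      _ = 1 := by rw [h4, zero_add]

/-- `λ ↦ λ ^ (σ + 1)` is injective. -/
lemma sz_pow_inj (hF : Fintype.card F = 2 ^ (2 * m + 1)) {a b : F} (ha : a ≠ 0) (hb : b ≠ 0)
    (h : a ^ (2 ^ (m + 1) + 1) = b ^ (2 ^ (m + 1) + 1)) : a = b := by
  -- raise to the `σ`-th power
  have h1 : (a ^ (2 ^ (m + 1) + 1)) ^ (2 ^ (m + 1)) = a ^ 2 * a ^ (2 ^ (m + 1)) := by
    rw [pow_add, mul_pow, sz_frob2 hF, pow_one]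
  have h2 : (b ^ (2 ^ (m + 1) + 1)) ^ (2 ^ (m + 1)) = b ^ 2 * b ^ (2 ^ (m + 1)) := by
    rw [pow_add, mul_pow, sz_frob2 hF, pow_one]
  rw [h, h2] at h1
  have h3 : a ^ (2 ^ (m + 1)) * a = b ^ (2 ^ (m + 1)) * b := by
    simpa [pow_add] using h
  -- divide
  have hs : a ^ (2 ^ (m + 1)) ≠ 0 := pow_ne_zero _ ha
  have h4 : a ^ 2 * a ^ (2 ^ (m + 1)) = b ^ 2 * b ^ (2 ^ (m + 1)) := h1.symm
  have h5 : a * b ^ (2 ^ (m + 1)) * b = b ^ 2 * b ^ (2 ^ (m + 1)) := by
    calc a * b ^ (2 ^ (m + 1)) * b = a * (b ^ (2 ^ (m + 1)) * b) := by ring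
      _ = a * (a ^ (2 ^ (m + 1)) * a) := by rw [h3]
      _ = a ^ 2 * a ^ (2 ^ (m + 1)) := by ring
      _ = _ := h4
  have hb' : b ^ (2 ^ (m + 1)) * b ≠ 0 := mul_ne_zero (pow_ne_zero _ hb) hb
  apply mul_right_cancel₀ hb'
  calc a * (b ^ (2 ^ (m + 1)) * b) = a * b ^ (2 ^ (m + 1)) * b := by ring
    _ = b ^ 2 * b ^ (2 ^ (m + 1)) := h5
    _ = b * (b ^ (2 ^ (m + 1)) * b) := by ring

/-- Fourth powers are injective. -/
lemma sz_four_inj {a b : F} (h : a ^ 4 = b ^ 4) : a = b := by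
  have h1 : (a + b) ^ (2 ^ 2) = 0 := by
    rw [sz_add_pow]
    norm_num
    rw [h, sz_add_self]
  have h2 : a + b = 0 := pow_eq_zero_iff (by norm_num) |>.1 h1
  calc a = a + b + b := by rw [add_assoc, sz_add_self, add_zero]
    _ = b := by rw [h2, zero_add]

/-! ### Identities -/

lemma szf_add (hF : Fintype.card F = 2 ^ (2 * m + 1)) (x y a b : F) :
    szf m (x + a) (y + b + a ^ (2 ^ (m + 1)) * x) =
      szf m x y + a * y + (b + a ^ (2 ^ (m + 1) + 1)) * x + szf m a b := by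
  have h2 : (2 : F) = 0 := sz_two
  have e1 : (x + a) ^ (2 ^ (m + 1)) = x ^ (2 ^ (m + 1)) + a ^ (2 ^ (m + 1)) := sz_add_pow _ _ _
  have e2 : (y + b + a ^ (2 ^ (m + 1)) * x) ^ (2 ^ (m + 1)) =
      y ^ (2 ^ (m + 1)) + b ^ (2 ^ (m + 1)) + a ^ 2 * x ^ (2 ^ (m + 1)) := by
    rw [sz_add_pow, sz_add_pow, mul_pow, sz_frob2 hF]
  simp only [szf_eq, pow_succ (a) (2 ^ (m + 1))]
  rw [e1, e2]
  generalize x ^ (2 ^ (m + 1)) = X
  generalize a ^ (2 ^ (m + 1)) = A
  generalize y ^ (2 ^ (m + 1)) = Y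
  generalize b ^ (2 ^ (m + 1)) = B
  linear_combination (A * x ^ 2 + X * x * a + X * a ^ 2 + A * x * a) * h2

lemma szf_zero (m : ℕ) : szf m (0 : F) 0 = 0 := by
  simp [szf]

/-- The key identity for the involution swapping the two base points. -/
lemma szf_inv (hF : Fintype.card F = 2 ^ (2 * m + 1)) (x y : F) (hf : szf m x y ≠ 0) :
    szf m (y / szf m x y) (x / szf m x y) = (szf m x y)⁻¹ := by
  have h2 : (2 : F) = 0 := sz_two
  set f := szf m x y with hfdef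
  have hΦ : f ^ (2 ^ (m + 1)) = x ^ (2 ^ (m + 1)) * y ^ (2 ^ (m + 1)) +
      x ^ 2 * (x ^ (2 ^ (m + 1))) ^ 2 + y ^ 2 := by
    rw [hfdef, szf_eq, sz_add_pow, sz_add_pow, mul_pow, mul_pow, sz_frob2 hF, sz_frob2 hF]
    have : (x ^ 2) ^ (2 ^ (m + 1)) = (x ^ (2 ^ (m + 1))) ^ 2 := by
      rw [← pow_mul, ← pow_mul, mul_comm]
    rw [this]
  have hfe : f = x * y + x ^ (2 ^ (m + 1)) * x ^ 2 + y ^ (2 ^ (m + 1)) := szf_eq m x y
  have hΦne : f ^ (2 ^ (m + 1)) ≠ 0 := pow_ne_zero _ hf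
  have key : x * y * f ^ (2 ^ (m + 1)) + y ^ (2 ^ (m + 1)) * y ^ 2 + x ^ (2 ^ (m + 1)) * f ^ 2 =
      f ^ (2 ^ (m + 1)) * f := by
    rw [hΦ, hfe]
    generalize x ^ (2 ^ (m + 1)) = X
    generalize y ^ (2 ^ (m + 1)) = Y
    linear_combination (x ^ 3 * y * X ^ 2 + x * y * X * Y) * h2
  rw [szf_eq, div_pow, div_pow, div_pow]
  generalize f ^ (2 ^ (m + 1)) = Φ at hΦne key
  generalize x ^ (2 ^ (m + 1)) = X at key
  generalize y ^ (2 ^ (m + 1)) = Y at key
  field_simp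
  linear_combination key

/-! ### Matrices -/

/-- The upper unitriangular matrices. -/
def szU (m : ℕ) (a b : F) : Matrix (Fin 4) (Fin 4) F :=
  !![1, a, b + a ^ (2 ^ (m + 1) + 1), szf m a b;
     0, 1, a ^ (2 ^ (m + 1)), b;
     0, 0, 1, a;
     0, 0, 0, 1]

/-- The vector of an affine point of the ovoid. -/
def szVec (m : ℕ) (x y : F) : Fin 4 → F := ![szf m x y, y, x, 1]

/-- The diagonal matrices. -/
def szH (m : ℕ) (l : F) : Matrix (Fin 4) (Fin 4) F :=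
  Matrix.diagonal ![l ^ (2 ^ m + 1), l ^ (2 ^ m), (l⁻¹) ^ (2 ^ m), (l⁻¹) ^ (2 ^ m + 1)]

/-- The antidiagonal matrix. -/
def szW : Matrix (Fin 4) (Fin 4) F := !![0, 0, 0, 1; 0, 0, 1, 0; 0, 1, 0, 0; 1, 0, 0, 0]

lemma szU_mulVec (m : ℕ) (a b : F) (w : Fin 4 → F) :
    szU m a b *ᵥ w = ![w 0 + a * w 1 + (b + a ^ (2 ^ (m + 1) + 1)) * w 2 + szf m a b * w 3,
      w 1 + a ^ (2 ^ (m + 1)) * w 2 + b * w 3, w 2 + a * w 3, w 3] := by
  ext j
  fin_cases j <;> simp [szU, Matrix.mulVec, dotProduct, Fin.sum_univ_four]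

lemma szU_vec (hF : Fintype.card F = 2 ^ (2 * m + 1)) (a b x y : F) :
    szU m a b *ᵥ szVec m x y = szVec m (x + a) (y + b + a ^ (2 ^ (m + 1)) * x) := by
  rw [szU_mulVec]
  simp only [szVec]
  have e := szf_add hF x y a b
  ext j
  fin_cases j
  · simp [e]
  · simp
    ring
  · simp
  · simp

lemma szU_mul (hF : Fintype.card F = 2 ^ (2 * m + 1)) (a b c d : F) :
    szU m a b * szU m c d = szU m (a + c) (b + d + a ^ (2 ^ (m + 1)) * c) := by
  have h2 : (2 : F) = 0 := sz_two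
  have e := szf_add hF c d a b
  have e1 : (a + c) ^ (2 ^ (m + 1)) = a ^ (2 ^ (m + 1)) + c ^ (2 ^ (m + 1)) := sz_add_pow _ _ _
  have e2 : (a + c) ^ (2 ^ (m + 1) + 1) = (a ^ (2 ^ (m + 1)) + c ^ (2 ^ (m + 1))) * (a + c) := by
    rw [pow_succ, e1]
  have e3 : szf m (a + c) (b + d + a ^ (2 ^ (m + 1)) * c) =
      szf m c d + a * d + (b + a ^ (2 ^ (m + 1) + 1)) * c + szf m a b := by
    rw [← e]
    congr 1
    · ring
    · ring
  ext i j
  fin_cases i <;> fin_cases j <;>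
    simp [szU, Matrix.mul_apply, Fin.sum_univ_four, e1, e2, e3, pow_succ (a) (2 ^ (m + 1)), pow_succ (c) (2 ^ (m + 1))]
  all_goals first
    | ring1
    | linear_combination (-(a ^ (2 ^ (m + 1)) * c)) * h2

lemma szU_zero (m : ℕ) : szU m (0 : F) 0 = 1 := by
  ext i j
  fin_cases i <;> fin_cases j <;> simp [szU, szf]

lemma szU_inv (hF : Fintype.card F = 2 ^ (2 * m + 1)) (a b : F) :
    szU m a b * szU m a (b + a ^ (2 ^ (m + 1) + 1)) = 1 := by
  rw [szU_mul hF, sz_add_self, pow_succ]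
  have : b + (b + a ^ (2 ^ (m + 1)) * a) + a ^ (2 ^ (m + 1)) * a = 0 := by
    calc _ = (b + b) + (a ^ (2 ^ (m + 1)) * a + a ^ (2 ^ (m + 1)) * a) := by ring
      _ = 0 := by rw [sz_add_self, sz_add_self, add_zero]
  rw [this, szU_zero]

lemma szU_det (m : ℕ) (a b : F) : (szU m a b).det = 1 := by
  rw [Matrix.det_of_isUpperTriangular]
  · simp [szU, Fin.prod_univ_four]
  · intro i j hij
    fin_cases i <;> fin_cases j <;> simp_all [szU]

lemma szH_det (l : F) (hl : l ≠ 0) : (szH m l).det = 1 := by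
  rw [szH, Matrix.det_diagonal, Fin.prod_univ_four]
  simp
  field_simp

lemma szW_det : (szW : Matrix (Fin 4) (Fin 4) F).det = 1 := by
  rw [szW]
  simp [Matrix.det_succ_row_zero, Fin.sum_univ_succ, Fin.succAbove]
  norm_num

lemma szW_mul_self : (szW : Matrix (Fin 4) (Fin 4) F) * szW = 1 := by
  ext i j
  fin_cases i <;> fin_cases j <;> simp [szW, Matrix.mul_apply, Fin.sum_univ_four]

lemma szW_mulVec (w : Fin 4 → F) : (szW : Matrix (Fin 4) (Fin 4) F) *ᵥ w = ![w 3, w 2, w 1, w 0] := by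
  ext j
  fin_cases j <;> simp [szW, Matrix.mulVec, dotProduct, Fin.sum_univ_four]

lemma szH_mul (m : ℕ) (l l' : F) : szH m l * szH m l' = szH m (l * l') := by
  unfold szH
  rw [Matrix.diagonal_mul_diagonal]
  congr 1
  ext i
  fin_cases i <;> simp [mul_pow, pow_add, mul_inv] <;> ring

lemma szH_one (m : ℕ) : szH m (1 : F) = 1 := by
  unfold szH
  rw [← Matrix.diagonal_one]
  congr 1
  ext i
  fin_cases i <;> simp

lemma szH_mulVec (m : ℕ) (l : F) (w : Fin 4 → F) :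
    szH m l *ᵥ w = ![l ^ (2 ^ m + 1) * w 0, l ^ (2 ^ m) * w 1, (l⁻¹) ^ (2 ^ m) * w 2, (l⁻¹) ^ (2 ^ m + 1) * w 3] := by
  ext j
  fin_cases j <;> simp [szH, Matrix.mulVec_diagonal]

lemma szH_vec (hF : Fintype.card F = 2 ^ (2 * m + 1)) (l x y : F) (hl : l ≠ 0) :
    szH m l *ᵥ szVec m x y = ((l⁻¹) ^ (2 ^ m + 1)) • szVec m (l * x) (l ^ (2 ^ (m + 1) + 1) * y) := by
  rw [szH_mulVec]
  simp only [szVec]
  have e := szf_scale hF l x y
  have es : (2 : ℕ) ^ (m + 1) = 2 * 2 ^ m := pow_succ' 2 m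
  rw [e, es]
  generalize 2 ^ m = s
  ext j
  fin_cases j
  · simp only [Matrix.cons_val_zero, Fin.zero_eta, Pi.smul_apply, smul_eq_mul, Matrix.smul_cons, Matrix.smul_empty]
    simp
    field_simp
    ring
  · simp
    field_simp
    ring
  · simp
    field_simp
    ring
  · simp

lemma szH_eq (m : ℕ) (l : F) : szH m l =
    !![l ^ (2 ^ m + 1), 0, 0, 0; 0, l ^ (2 ^ m), 0, 0; 0, 0, (l⁻¹) ^ (2 ^ m), 0; 0, 0, 0, (l⁻¹) ^ (2 ^ m + 1)] := by
  ext i j
  fin_cases i <;> fin_cases j <;> simp [szH]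

/-- Conjugation of the unitriangular matrices by the diagonal ones. -/
lemma szH_szU (hF : Fintype.card F = 2 ^ (2 * m + 1)) (l a b : F) (hl : l ≠ 0) :
    szH m l * szU m a b = szU m (l * a) (l ^ (2 ^ (m + 1) + 1) * b) * szH m l := by
  have e := szf_scale hF l a b
  have es : (2 : ℕ) ^ (m + 1) = 2 * 2 ^ m := pow_succ' 2 m
  rw [szH_eq]
  ext i j
  fin_cases i <;> fin_cases j <;>
    simp [szU, Matrix.mul_apply, Fin.sum_univ_four, e, mul_pow]
  all_goals first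
    | (rw [es]; generalize 2 ^ m = s; field_simp; ring1)
    | (generalize 2 ^ m = s; field_simp; ring1)

lemma szW_szH (l : F) (hl : l ≠ 0) : szW * szH m l * szW = szH m l⁻¹ := by
  rw [szH_eq, szH_eq]
  ext i j
  fin_cases i <;> fin_cases j <;>
    simp [szW, Matrix.mul_apply, Fin.sum_univ_four]

/-- Vanishing of a polynomial function with few monomials. -/
lemma sz_poly_vanish {s : ℕ} (hs : 3 ≤ s) (hq : s + 2 < Fintype.card F) (c₁ c₂ c₃ c₄ : F)
    (h : ∀ x : F, c₁ * x ^ (s + 2) + c₂ * x ^ s + c₃ * x ^ 2 + c₄ * x = 0) :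
    c₁ = 0 ∧ c₂ = 0 ∧ c₃ = 0 ∧ c₄ = 0 := by
  classical
  let P : Polynomial F := Polynomial.C c₁ * Polynomial.X ^ (s + 2) + Polynomial.C c₂ * Polynomial.X ^ s +
    Polynomial.C c₃ * Polynomial.X ^ 2 + Polynomial.C c₄ * Polynomial.X ^ 1
  have hdeg : P.natDegree ≤ s + 2 := by
    simp only [P]
    compute_degree
  have hP : P = 0 := by
    apply Polynomial.eq_zero_of_natDegree_lt_card_of_eval_eq_zero P (f := fun x : F => x) Function.injective_id
    · intro x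
      simp only [P, Polynomial.eval_add, Polynomial.eval_mul, Polynomial.eval_C, Polynomial.eval_pow, Polynomial.eval_X, pow_one]
      exact h x
    · exact lt_of_le_of_lt hdeg hq
  have hc : ∀ n, P.coeff n = 0 := fun n => by rw [hP]; simp
  have h1 := hc (s + 2)
  have h2 := hc s
  have h3 := hc 2
  have h4 := hc 1
  simp only [P, Polynomial.coeff_add, Polynomial.coeff_C_mul_X_pow] at h1 h2 h3 h4
  rw [if_pos trivial, if_neg (by omega), if_neg (by omega), if_neg (by omega)] at h1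
  rw [if_neg (by omega), if_pos trivial, if_neg (by omega), if_neg (by omega)] at h2
  rw [if_neg (by omega), if_neg (by omega), if_pos trivial, if_neg (by omega)] at h3
  rw [if_neg (by omega), if_neg (by omega), if_neg (by omega), if_pos trivial] at h4
  simp only [add_zero, zero_add] at h1 h2 h3 h4
  exact ⟨h1, h2, h3, h4⟩

lemma sz_sigma_bounds (hm : 1 ≤ m) (hF : Fintype.card F = 2 ^ (2 * m + 1)) :
    3 ≤ 2 ^ (m + 1) ∧ 2 ^ (m + 1) + 2 < Fintype.card F := by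
  have h1 : 4 ≤ 2 ^ (m + 1) := by
    calc 4 = 2 ^ 2 := by norm_num
      _ ≤ 2 ^ (m + 1) := Nat.pow_le_pow_right (by norm_num) (by omega)
  have h2 : 2 ≤ 2 ^ m := by
    calc 2 = 2 ^ 1 := by norm_num
      _ ≤ 2 ^ m := Nat.pow_le_pow_right (by norm_num) hm
  refine ⟨by omega, ?_⟩
  rw [hF, show 2 * m + 1 = (m + 1) + m by ring, pow_add 2 (m + 1) m]
  nlinarith

end Field

end Cfsg.Agent.H10
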