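import Mathlib
import Cfsg.Agent.Lib.H10.SzCore

/-! The Suzuki group as the stabiliser of the Suzuki-Tits ovoid: action on the ovoid. -/

set_option autoImplicit false
set_option linter.unusedSectionVars false
set_option linter.unusedSimpArgs false
set_option linter.style.haveILetI false

namespace Cfsg.Agent.H10

open Matrix Cfsg
open scoped Pointwise

variable {F : Type*} [Field F] [Fintype F] [CharP F 2] {m : ℕ}

abbrev SL4 (F : Type*) [Field F] := Matrix.SpecialLinearGroup (Fin 4) F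

lemma szVec_ne (m : ℕ) (x y : F) : szVec m x y ≠ 0 := fun h => by
  have := congrFun h 3
  simp [szVec] at this

/-- The affine points of the ovoid. -/
def szPt (m : ℕ) (x y : F) : Projectivization F (Fin 4 → F) :=
  Projectivization.mk F (szVec m x y) (szVec_ne m x y)

lemma szPt_inj {x y x' y' : F} (h : szPt m x y = szPt m x' y') : x = x' ∧ y = y' := by
  obtain ⟨a, ha⟩ := (Projectivization.mk_eq_mk_iff F _ _ _ _).1 h
  have h3 := congrFun ha 3
  have h2 := congrFun ha 2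
  have h1 := congrFun ha 1
  simp [szVec, Units.smul_def] at h3 h2 h1
  rw [h3] at h2 h1
  simp at h2 h1
  exact ⟨h2.symm, h1.symm⟩

lemma szPt_ne_inf (x y : F) : szPt m x y ≠ suzukiPointInfinity F := by
  intro h
  obtain ⟨a, ha⟩ := (Projectivization.mk_eq_mk_iff F _ _ _ _).1 h
  have h3 := congrFun ha 3
  simp [szVec, Units.smul_def] at h3

lemma szPt_zero (m : ℕ) : szPt m (0 : F) 0 = suzukiPointZero F := by
  unfold szPt suzukiPointZero
  congr 1
  ext j
  fin_cases j <;> simp [szVec, szf]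

lemma mem_ovoid_iff (p : Projectivization F (Fin 4 → F)) :
    p ∈ suzukiOvoid F m ↔ p = suzukiPointInfinity F ∨ ∃ x y, p = szPt m x y := by
  constructor
  · rintro ⟨v, hv, rfl, rfl | ⟨x, y, rfl⟩⟩
    · exact Or.inl rfl
    · exact Or.inr ⟨x, y, rfl⟩
  · rintro (rfl | ⟨x, y, rfl⟩)
    · exact ⟨![1, 0, 0, 0], by simp, rfl, Or.inl rfl⟩
    · exact ⟨szVec m x y, szVec_ne m x y, rfl, Or.inr ⟨x, y, rfl⟩⟩

lemma inf_mem_ovoid : suzukiPointInfinity F ∈ suzukiOvoid F m :=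
  (mem_ovoid_iff _).2 (Or.inl rfl)

lemma szPt_mem_ovoid (x y : F) : szPt m x y ∈ suzukiOvoid F m :=
  (mem_ovoid_iff _).2 (Or.inr ⟨x, y, rfl⟩)

/-- The unitriangular elements. -/
def uS (m : ℕ) (a b : F) : SL4 F := ⟨szU m a b, szU_det m a b⟩

/-- The diagonal elements. -/
def hS (m : ℕ) (l : Fˣ) : SL4 F := ⟨szH m l, szH_det _ l.ne_zero⟩

/-- The antidiagonal element. -/
def wS : SL4 F := ⟨szW, szW_det⟩

lemma smul_mk_eq (g : SL4 F) {v v' : Fin 4 → F} (hv : v ≠ 0) (hv' : v' ≠ 0) (c : F) (hc : c ≠ 0)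
    (h : (g : Matrix (Fin 4) (Fin 4) F) *ᵥ v = c • v') :
    g • Projectivization.mk F v hv = Projectivization.mk F v' hv' := by
  rw [Projectivization.smul_mk]
  apply (Projectivization.mk_eq_mk_iff F _ _ _ _).2
  refine ⟨Units.mk0 c hc, ?_⟩
  rw [Units.smul_def]
  exact h.symm

lemma uS_pt (hF : Fintype.card F = 2 ^ (2 * m + 1)) (a b x y : F) :
    uS m a b • szPt m x y = szPt m (x + a) (y + b + a ^ (2 ^ (m + 1)) * x) := by
  apply smul_mk_eq _ _ _ 1 one_ne_zero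
  rw [one_smul]
  exact szU_vec hF a b x y

lemma uS_inf (a b : F) : uS m a b • suzukiPointInfinity F = suzukiPointInfinity F := by
  apply smul_mk_eq _ _ _ 1 one_ne_zero
  rw [one_smul]
  show szU m a b *ᵥ _ = _
  rw [szU_mulVec]
  ext j
  fin_cases j <;> simp

lemma hS_pt (hF : Fintype.card F = 2 ^ (2 * m + 1)) (l : Fˣ) (x y : F) :
    hS m l • szPt m x y = szPt m ((l : F) * x) ((l : F) ^ (2 ^ (m + 1) + 1) * y) := by
  apply smul_mk_eq _ _ _ (((l : F)⁻¹) ^ (2 ^ m + 1)) (pow_ne_zero _ (inv_ne_zero l.ne_zero))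
  exact szH_vec hF (l : F) x y l.ne_zero

lemma hS_inf (l : Fˣ) : hS m l • suzukiPointInfinity F = suzukiPointInfinity F := by
  apply smul_mk_eq _ _ _ ((l : F) ^ (2 ^ m + 1)) (pow_ne_zero _ l.ne_zero)
  show szH m (l : F) *ᵥ _ = _
  rw [szH_mulVec]
  ext j
  fin_cases j <;> simp

lemma wS_pt (hF : Fintype.card F = 2 ^ (2 * m + 1)) (x y : F) (hf : szf m x y ≠ 0) :
    (wS : SL4 F) • szPt m x y = szPt m (y / szf m x y) (x / szf m x y) := by
  apply smul_mk_eq _ _ _ (szf m x y) hf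
  show szW *ᵥ _ = _
  rw [szW_mulVec]
  have e := szf_inv hF x y hf
  simp only [szVec, e]
  ext j
  fin_cases j
  · simp [hf]
  · simp
    field_simp
  · simp
    field_simp
  · simp

lemma wS_inf : (wS : SL4 F) • suzukiPointInfinity F = szPt m (0 : F) 0 := by
  apply smul_mk_eq _ _ _ 1 one_ne_zero
  rw [one_smul]
  show szW *ᵥ _ = _
  rw [szW_mulVec]
  ext j
  fin_cases j <;> simp [szVec, szf]

lemma wS_zero : (wS : SL4 F) • szPt m (0 : F) 0 = suzukiPointInfinity F := by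
  apply smul_mk_eq _ _ _ 1 one_ne_zero
  rw [one_smul]
  show szW *ᵥ _ = _
  rw [szW_mulVec]
  ext j
  fin_cases j <;> simp [szVec, szf]

lemma uS_mul (hF : Fintype.card F = 2 ^ (2 * m + 1)) (a b c d : F) :
    uS m a b * uS m c d = uS m (a + c) (b + d + a ^ (2 ^ (m + 1)) * c) :=
  Subtype.ext (szU_mul hF a b c d)

lemma uS_zero : uS m (0 : F) 0 = 1 := Subtype.ext (szU_zero m)

lemma uS_inv (hF : Fintype.card F = 2 ^ (2 * m + 1)) (a b : F) :
    (uS m a b)⁻¹ = uS m a (b + a ^ (2 ^ (m + 1) + 1)) :=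
  inv_eq_of_mul_eq_one_right (Subtype.ext (szU_inv hF a b))

lemma hS_mul (l l' : Fˣ) : hS m l * hS m l' = hS m (l * l') :=
  Subtype.ext (by
    show szH m (l : F) * szH m (l' : F) = szH m ((l * l' : Fˣ) : F)
    rw [szH_mul, Units.val_mul])

lemma hS_one : hS m (1 : Fˣ) = 1 := Subtype.ext (by
  show szH m ((1 : Fˣ) : F) = 1
  rw [Units.val_one, szH_one])

lemma hS_inv (l : Fˣ) : (hS m l)⁻¹ = hS m l⁻¹ :=
  inv_eq_of_mul_eq_one_right (by rw [hS_mul, mul_inv_cancel, hS_one])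

lemma wS_mul_self : (wS : SL4 F) * wS = 1 := Subtype.ext szW_mul_self

lemma wS_inv : (wS : SL4 F)⁻¹ = wS := inv_eq_of_mul_eq_one_right wS_mul_self

lemma hS_uS (hF : Fintype.card F = 2 ^ (2 * m + 1)) (l : Fˣ) (a b : F) :
    hS m l * uS m a b = uS m ((l : F) * a) ((l : F) ^ (2 ^ (m + 1) + 1) * b) * hS m l :=
  Subtype.ext (szH_szU hF (l : F) a b l.ne_zero)

lemma wS_hS (l : Fˣ) : (wS : SL4 F) * hS m l * wS = hS m l⁻¹ :=
  Subtype.ext (by
    show szW * szH m (l : F) * szW = szH m ((l⁻¹ : Fˣ) : F)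
    rw [szW_szH (l : F) l.ne_zero, Units.val_inv_eq_inv_val])

/-- A criterion for membership in the Suzuki group. -/
lemma mem_Sz_of_maps (g : SL4 F) (h1 : ∀ p ∈ suzukiOvoid F m, g • p ∈ suzukiOvoid F m)
    (h2 : ∀ p ∈ suzukiOvoid F m, g⁻¹ • p ∈ suzukiOvoid F m) : g ∈ Sz F m := by
  rw [MulAction.mem_stabilizer_iff]
  ext p
  rw [Set.mem_smul_set_iff_inv_smul_mem]
  constructor
  · intro hp
    have := h1 _ hp
    simpa using this
  · exact h2 p

lemma maps_of_mem {g : SL4 F} (hg : g ∈ Sz F m) {p : Projectivization F (Fin 4 → F)} :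
    g • p ∈ suzukiOvoid F m ↔ p ∈ suzukiOvoid F m := by
  rw [MulAction.mem_stabilizer_iff] at hg
  conv_lhs => rw [← hg]
  exact Set.smul_mem_smul_set_iff

lemma uS_maps (hF : Fintype.card F = 2 ^ (2 * m + 1)) (a b : F) :
    ∀ p ∈ suzukiOvoid F m, uS m a b • p ∈ suzukiOvoid F m := by
  intro p hp
  rcases (mem_ovoid_iff p).1 hp with rfl | ⟨x, y, rfl⟩
  · rw [uS_inf]
    exact inf_mem_ovoid
  · rw [uS_pt hF]
    exact szPt_mem_ovoid _ _

lemma uS_mem (hF : Fintype.card F = 2 ^ (2 * m + 1)) (a b : F) : uS m a b ∈ Sz F m := by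
  apply mem_Sz_of_maps _ (uS_maps hF a b)
  rw [uS_inv hF]
  exact uS_maps hF _ _

lemma hS_maps (hF : Fintype.card F = 2 ^ (2 * m + 1)) (l : Fˣ) :
    ∀ p ∈ suzukiOvoid F m, hS m l • p ∈ suzukiOvoid F m := by
  intro p hp
  rcases (mem_ovoid_iff p).1 hp with rfl | ⟨x, y, rfl⟩
  · rw [hS_inf]
    exact inf_mem_ovoid
  · rw [hS_pt hF]
    exact szPt_mem_ovoid _ _

lemma hS_mem (hF : Fintype.card F = 2 ^ (2 * m + 1)) (l : Fˣ) : hS m l ∈ Sz F m := by
  apply mem_Sz_of_maps _ (hS_maps hF l)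
  rw [hS_inv]
  exact hS_maps hF _

lemma wS_maps (hF : Fintype.card F = 2 ^ (2 * m + 1)) :
    ∀ p ∈ suzukiOvoid F m, (wS : SL4 F) • p ∈ suzukiOvoid F m := by
  intro p hp
  rcases (mem_ovoid_iff p).1 hp with rfl | ⟨x, y, rfl⟩
  · rw [wS_inf]
    exact szPt_mem_ovoid _ _
  · by_cases hf : szf m x y = 0
    · obtain ⟨rfl, rfl⟩ := szf_eq_zero hF hf
      rw [wS_zero]
      exact inf_mem_ovoid
    · rw [wS_pt hF x y hf]
      exact szPt_mem_ovoid _ _

lemma wS_mem (hF : Fintype.card F = 2 ^ (2 * m + 1)) : (wS : SL4 F) ∈ Sz F m := by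
  apply mem_Sz_of_maps _ (wS_maps hF)
  rw [wS_inv]
  exact wS_maps hF

end Cfsg.Agent.H10
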