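import Mathlib
import Cfsg.Agent.Lib.H10.SzGroup

/-! The Suzuki group: the stabiliser of two points of the ovoid. -/

set_option autoImplicit false
set_option linter.unusedSectionVars false
set_option linter.unusedSimpArgs false
set_option linter.style.haveILetI false

namespace Cfsg.Agent.H10

open Matrix Cfsg
open scoped Pointwise

variable {F : Type*} [Field F] [Fintype F] [CharP F 2] {m : ℕ}

lemma sz_mv_apply (M : Matrix (Fin 4) (Fin 4) F) (v : Fin 4 → F) (i : Fin 4) :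
    (M *ᵥ v) i = M i 0 * v 0 + M i 1 * v 1 + M i 2 * v 2 + M i 3 * v 3 := by
  simp [Matrix.mulVec, dotProduct, Fin.sum_univ_four]

/-- Every element of the Suzuki group maps an affine point to a point of the ovoid; a fixer of `∞`
maps it to an affine point. -/
lemma exists_image_pt {g : SL4 F} (hg : g ∈ Sz F m) (h1 : g • suzukiPointInfinity F = suzukiPointInfinity F)
    (x y : F) : ∃ x' y', g • szPt m x y = szPt m x' y' := by
  have h2 : g • szPt m x y ∈ suzukiOvoid F m := (maps_of_mem hg).2 (szPt_mem_ovoid x y)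
  rcases (mem_ovoid_iff _).1 h2 with h3 | h3
  · exfalso
    rw [← h1] at h3
    exact szPt_ne_inf x y (smul_left_cancel g h3)
  · exact h3

lemma sz_smul_pt_coords (g : SL4 F) {x y x' y' : F} (h : g • szPt m x y = szPt m x' y') :
    ∃ c : F, c ≠ 0 ∧ (g : Matrix (Fin 4) (Fin 4) F) *ᵥ szVec m x y = c • szVec m x' y' := by
  unfold szPt at h
  rw [Projectivization.smul_mk] at h
  obtain ⟨a, ha⟩ := (Projectivization.mk_eq_mk_iff F _ _ _ _).1 h
  exact ⟨a, a.ne_zero, ha.symm⟩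

/-- The two-point stabiliser is the diagonal torus. -/
theorem fix_two (hm : 1 ≤ m) (hF : Fintype.card F = 2 ^ (2 * m + 1)) {g : SL4 F} (hg : g ∈ Sz F m)
    (h1 : g • suzukiPointInfinity F = suzukiPointInfinity F) (h2 : g • szPt m (0 : F) 0 = szPt m (0 : F) 0) :
    ∃ l : Fˣ, g = hS m l := by
  have h2F : (2 : F) = 0 := sz_two
  obtain ⟨hs3, hsq⟩ := sz_sigma_bounds (F := F) hm hF
  set M := (g : Matrix (Fin 4) (Fin 4) F) with hM
  -- the first column
  have hc0 : ∃ a : F, a ≠ 0 ∧ M 0 0 = a ∧ M 1 0 = 0 ∧ M 2 0 = 0 ∧ M 3 0 = 0 := by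
    have h3 := h1
    unfold suzukiPointInfinity at h3
    rw [Projectivization.smul_mk] at h3
    obtain ⟨a, ha⟩ := (Projectivization.mk_eq_mk_iff F _ _ _ _).1 h3
    refine ⟨a, a.ne_zero, ?_, ?_, ?_, ?_⟩
    · have := congrFun ha 0
      have e : (g • (![1, 0, 0, 0] : Fin 4 → F)) 0 = M 0 0 := by
        show (M *ᵥ _) 0 = _
        rw [sz_mv_apply]
        simp
      rw [← e]
      simpa [Units.smul_def] using this.symm
    · have := congrFun ha 1
      have e : (g • (![1, 0, 0, 0] : Fin 4 → F)) 1 = M 1 0 := by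
        show (M *ᵥ _) 1 = _
        rw [sz_mv_apply]
        simp
      rw [← e, ← this]
      simp [Units.smul_def]
    · have := congrFun ha 2
      have e : (g • (![1, 0, 0, 0] : Fin 4 → F)) 2 = M 2 0 := by
        show (M *ᵥ _) 2 = _
        rw [sz_mv_apply]
        simp
      rw [← e, ← this]
      simp [Units.smul_def]
    · have := congrFun ha 3
      have e : (g • (![1, 0, 0, 0] : Fin 4 → F)) 3 = M 3 0 := by
        show (M *ᵥ _) 3 = _
        rw [sz_mv_apply]
        simp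
      rw [← e, ← this]
      simp [Units.smul_def]
  obtain ⟨α, hα, hM00, hM10, hM20, hM30⟩ := hc0
  -- the last column
  have hvec0 : szVec m (0 : F) 0 = ![0, 0, 0, 1] := by
    ext j
    fin_cases j <;> simp [szVec, szf]
  have hc3 : M 0 3 = 0 ∧ M 1 3 = 0 ∧ M 2 3 = 0 := by
    obtain ⟨c, hc, he⟩ := sz_smul_pt_coords g h2
    rw [hvec0] at he
    have e0 := congrFun he 0
    have e1 := congrFun he 1
    have e2 := congrFun he 2
    rw [sz_mv_apply] at e0 e1 e2
    simp at e0 e1 e2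
    exact ⟨e0, e1, e2⟩
  obtain ⟨hM03, hM13, hM23⟩ := hc3
  -- general points
  have hgen : ∀ x y : F, ∃ x' y' c : F, c ≠ 0 ∧ M *ᵥ szVec m x y = c • szVec m x' y' := by
    intro x y
    obtain ⟨x', y', h3⟩ := exists_image_pt hg h1 x y
    obtain ⟨c, hc, he⟩ := sz_smul_pt_coords g h3
    exact ⟨x', y', c, hc, he⟩
  have hlast : ∀ x y : F, M 3 1 * y + M 3 2 * x + M 3 3 ≠ 0 := by
    intro x y
    obtain ⟨x', y', c, hc, he⟩ := hgen x y
    have e3 := congrFun he 3
    rw [sz_mv_apply] at e3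
    simp [szVec, hM30] at e3
    rwa [e3]
  have hδ : M 3 3 ≠ 0 := by
    have := hlast 0 0
    simpa using this
  have hM32 : M 3 2 = 0 := by
    by_contra hne
    apply hlast (M 3 3 / M 3 2) 0
    field_simp
    simp [sz_add_self]
  have hM31 : M 3 1 = 0 := by
    by_contra hne
    apply hlast 0 (M 3 3 / M 3 1)
    field_simp
    simp [sz_add_self]
  set δ := M 3 3 with hδdef
  -- the functional equation
  have hfun : ∀ x y : F, szf m ((M 2 1 / δ) * y + (M 2 2 / δ) * x) ((M 1 1 / δ) * y + (M 1 2 / δ) * x) =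
      (α / δ) * szf m x y + (M 0 1 / δ) * y + (M 0 2 / δ) * x := by
    intro x y
    obtain ⟨x', y', c, hc, he⟩ := hgen x y
    have e0 := congrFun he 0
    have e1 := congrFun he 1
    have e2 := congrFun he 2
    have e3 := congrFun he 3
    rw [sz_mv_apply] at e0 e1 e2 e3
    simp [szVec, hM00, hM10, hM20, hM30, hM03, hM13, hM23, hM31, hM32] at e0 e1 e2 e3
    have hcδ : c = δ := e3.symm
    rw [hcδ] at e0 e1 e2
    have hx' : x' = (M 2 1 / δ) * y + (M 2 2 / δ) * x := by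
      field_simp
      linear_combination -e2
    have hy' : y' = (M 1 1 / δ) * y + (M 1 2 / δ) * x := by
      field_simp
      linear_combination -e1
    rw [← hx', ← hy']
    field_simp
    linear_combination -e0
  set A := M 2 1 / δ with hA
  set B := M 2 2 / δ with hB
  set C := M 1 1 / δ with hC
  set D := M 1 2 / δ with hD
  set α' := α / δ with hα'
  set a₁ := M 0 1 / δ with ha₁
  set a₂ := M 0 2 / δ with ha₂
  have hα'0 : α' ≠ 0 := div_ne_zero hα hδ
  have hsp : 2 ^ (m + 1) = 2 * 2 ^ m := pow_succ' 2 m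
  have hθ := sz_frob2 (m := m) hF
  -- `y = 0`
  have hy0 := sz_poly_vanish (F := F) hs3 hsq (B ^ (2 ^ (m + 1) + 2) + α') (D ^ (2 ^ (m + 1))) (B * D) a₂ (by
    intro x
    have e := hfun x 0
    simp only [mul_zero, zero_add, add_zero] at e
    have h3 : szf m (B * x) (D * x) = B * D * x ^ 2 + B ^ (2 ^ (m + 1) + 2) * x ^ (2 ^ (m + 1) + 2) +
        D ^ (2 ^ (m + 1)) * x ^ (2 ^ (m + 1)) := by
      simp only [szf, mul_pow]
      ring
    have h4 : szf m x (0 : F) = x ^ (2 ^ (m + 1) + 2) := by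
      simp [szf]
    rw [h3, h4] at e
    have h5 : (2 : F) = 0 := sz_two
    generalize x ^ (2 ^ (m + 1) + 2) = X at *
    generalize x ^ (2 ^ (m + 1)) = X' at *
    generalize B ^ (2 ^ (m + 1) + 2) = B' at *
    generalize D ^ (2 ^ (m + 1)) = D' at *
    linear_combination e + (α' * X + a₂ * x) * h5)
  -- `x = 0`
  have hx0 := sz_poly_vanish (F := F) hs3 hsq (A ^ (2 ^ (m + 1) + 2)) (C ^ (2 ^ (m + 1)) + α') (A * C) a₁ (by
    intro x
    have e := hfun 0 x
    simp only [mul_zero, zero_add, add_zero] at e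
    have h3 : szf m (A * x) (C * x) = A * C * x ^ 2 + A ^ (2 ^ (m + 1) + 2) * x ^ (2 ^ (m + 1) + 2) +
        C ^ (2 ^ (m + 1)) * x ^ (2 ^ (m + 1)) := by
      simp only [szf, mul_pow]
      ring
    have h4 : szf m (0 : F) x = x ^ (2 ^ (m + 1)) := by
      simp [szf]
    rw [h3, h4] at e
    have h5 : (2 : F) = 0 := sz_two
    generalize x ^ (2 ^ (m + 1) + 2) = X at *
    generalize x ^ (2 ^ (m + 1)) = X' at *
    generalize A ^ (2 ^ (m + 1) + 2) = B' at *
    generalize C ^ (2 ^ (m + 1)) = D' at *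
    linear_combination e + (α' * X' + a₁ * x) * h5)
  obtain ⟨hB1, hD1, -, ha₂0⟩ := hy0
  obtain ⟨hA1, hC1, -, ha₁0⟩ := hx0
  have hD0 : D = 0 := pow_eq_zero_iff (by positivity) |>.1 hD1
  have hA0 : A = 0 := pow_eq_zero_iff (by positivity) |>.1 hA1
  have hαB : B ^ (2 ^ (m + 1) + 2) = α' := by
    have h5 : (2 : F) = 0 := sz_two
    linear_combination hB1 - α' * h5
  have hαC : C ^ (2 ^ (m + 1)) = α' := by
    have h5 : (2 : F) = 0 := sz_two
    linear_combination hC1 - α' * h5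
  have hB0 : B ≠ 0 := by
    intro h
    rw [h, zero_pow (by positivity)] at hαB
    exact hα'0 hαB.symm
  have hBC : B * C = α' := by
    have e := hfun 1 1
    have h5 : (2 : F) = 0 := sz_two
    have e1 : szf m (1 : F) 1 = 3 := by
      simp [szf]
      norm_num
    rw [e1, hA0, hD0, ha₁0, ha₂0] at e
    simp only [zero_mul, mul_one, zero_add, add_zero] at e
    simp only [szf] at e
    rw [hαB, hαC] at e
    linear_combination e
  have hCB : C = B ^ (2 ^ (m + 1) + 1) := by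
    have e : B * C = B * B ^ (2 ^ (m + 1) + 1) := by
      rw [hBC, ← hαB]
      ring
    exact mul_left_cancel₀ hB0 e
  have hM11 : M 1 1 = C * δ := by rw [hC]; field_simp
  have hM22 : M 2 2 = B * δ := by rw [hB]; field_simp
  have hM12 : M 1 2 = 0 := by
    have : M 1 2 = D * δ := by rw [hD]; field_simp
    rw [this, hD0, zero_mul]
  have hM21 : M 2 1 = 0 := by
    have : M 2 1 = A * δ := by rw [hA]; field_simp
    rw [this, hA0, zero_mul]
  have hM01 : M 0 1 = 0 := by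
    have : M 0 1 = a₁ * δ := by rw [ha₁]; field_simp
    rw [this, ha₁0, zero_mul]
  have hM02 : M 0 2 = 0 := by
    have : M 0 2 = a₂ * δ := by rw [ha₂]; field_simp
    rw [this, ha₂0, zero_mul]
  have hαδ : α = B ^ (2 ^ (m + 1) + 2) * δ := by
    rw [hαB, hα']
    field_simp
  -- the determinant
  have hdet : M.det = 1 := g.2
  have hMeq : M = !![α, 0, 0, 0; 0, C * δ, 0, 0; 0, 0, B * δ, 0; 0, 0, 0, δ] := by
    ext i j
    fin_cases i <;> fin_cases j <;>
      (try simp [hM00, hM10, hM20, hM30, hM01, hM02, hM03, hM11, hM12, hM13, hM21, hM22, hM23, hM31, hM32]) <;> rfl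
  have hdet2 : α * (C * δ) * (B * δ) * δ = 1 := by
    rw [hMeq, Matrix.det_succ_row_zero] at hdet
    simp [Fin.sum_univ_succ, Matrix.det_succ_row_zero, Fin.succAbove] at hdet
    linear_combination hdet
  have hδB : δ = (B⁻¹) ^ (2 ^ m + 1) := by
    apply sz_four_inj
    rw [inv_pow, inv_pow]
    apply eq_inv_of_mul_eq_one_left
    rw [hαδ, hCB] at hdet2
    rw [← hdet2, hsp]
    generalize 2 ^ m = t
    ring
  refine ⟨Units.mk0 B hB0, ?_⟩
  apply Subtype.ext
  show M = szH m B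
  have hbb : B * B⁻¹ = 1 := mul_inv_cancel₀ hB0
  have hpw : B ^ (2 ^ m + 1) * (B⁻¹) ^ (2 ^ m + 1) = 1 := by rw [← mul_pow, hbb, one_pow]
  have e1 : B ^ (2 ^ (m + 1) + 2) * (B⁻¹) ^ (2 ^ m + 1) = B ^ (2 ^ m + 1) := by
    rw [hsp]
    generalize 2 ^ m = t at hpw
    calc B ^ (2 * t + 2) * (B⁻¹) ^ (t + 1) = B ^ (t + 1) * (B ^ (t + 1) * (B⁻¹) ^ (t + 1)) := by ring
      _ = _ := by rw [hpw, mul_one]
  have e2 : B ^ (2 ^ (m + 1) + 1) * (B⁻¹) ^ (2 ^ m + 1) = B ^ (2 ^ m) := by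
    rw [hsp]
    generalize 2 ^ m = t at hpw
    calc B ^ (2 * t + 1) * (B⁻¹) ^ (t + 1) = B ^ t * (B ^ (t + 1) * (B⁻¹) ^ (t + 1)) := by ring
      _ = _ := by rw [hpw, mul_one]
  have e3 : B * (B⁻¹) ^ (2 ^ m + 1) = (B⁻¹) ^ (2 ^ m) := by
    rw [pow_succ, mul_comm, mul_assoc, inv_mul_cancel₀ hB0, mul_one]
  rw [hMeq, szH_eq, hαδ, hCB, hδB, e1, e2, e3]


/-- The stabiliser of `∞` is `U T`. -/
theorem stab_inf (hm : 1 ≤ m) (hF : Fintype.card F = 2 ^ (2 * m + 1)) {g : SL4 F} (hg : g ∈ Sz F m)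
    (h1 : g • suzukiPointInfinity F = suzukiPointInfinity F) :
    ∃ (a b : F) (l : Fˣ), g = uS m a b * hS m l := by
  obtain ⟨a, b, hab⟩ := exists_image_pt hg h1 (0 : F) 0
  have hu : uS m a b • szPt m (0 : F) 0 = szPt m a b := by
    rw [uS_pt hF]
    simp
  have hmem : (uS m a b)⁻¹ * g ∈ Sz F m := Subgroup.mul_mem _ (Subgroup.inv_mem _ (uS_mem hF a b)) hg
  obtain ⟨l, hl⟩ := fix_two hm hF hmem (by
      rw [mul_smul, h1, inv_smul_eq_iff, uS_inf]) (by
      rw [mul_smul, hab, inv_smul_eq_iff, hu])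
  refine ⟨a, b, l, ?_⟩
  rw [← hl, mul_inv_cancel_left]

lemma hS_zero (hF : Fintype.card F = 2 ^ (2 * m + 1)) (l : Fˣ) :
    hS m l • szPt m (0 : F) 0 = szPt m (0 : F) 0 := by
  rw [hS_pt hF]
  simp

lemma uShS_pt0 (hF : Fintype.card F = 2 ^ (2 * m + 1)) (a b : F) (l : Fˣ) :
    (uS m a b * hS m l) • szPt m (0 : F) 0 = szPt m a b := by
  rw [mul_smul, hS_zero hF, uS_pt hF]
  simp

lemma hS_inj (hF : Fintype.card F = 2 ^ (2 * m + 1)) {l l' : Fˣ} (h : hS m l = hS m l') : l = l' := by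
  have h1 : hS m l • szPt m (1 : F) 0 = hS m l' • szPt m (1 : F) 0 := by rw [h]
  rw [hS_pt hF, hS_pt hF] at h1
  have := (szPt_inj h1).1
  simp only [mul_one] at this
  exact Units.ext this

lemma uS_inj (hF : Fintype.card F = 2 ^ (2 * m + 1)) {a b c d : F} (h : uS m a b = uS m c d) : a = c ∧ b = d := by
  have h1 : uS m a b • szPt m (0 : F) 0 = uS m c d • szPt m (0 : F) 0 := by rw [h]
  rw [uS_pt hF, uS_pt hF] at h1
  simpa using szPt_inj h1

lemma uShS_inj (hF : Fintype.card F = 2 ^ (2 * m + 1)) {a b c d : F} {l l' : Fˣ}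
    (h : uS m a b * hS m l = uS m c d * hS m l') : a = c ∧ b = d ∧ l = l' := by
  have h1 : (uS m a b * hS m l) • szPt m (0 : F) 0 = (uS m c d * hS m l') • szPt m (0 : F) 0 := by rw [h]
  rw [uShS_pt0 hF, uShS_pt0 hF] at h1
  obtain ⟨rfl, rfl⟩ := szPt_inj h1
  exact ⟨rfl, rfl, hS_inj hF (mul_left_cancel h)⟩

/-- The Suzuki group is transitive on the ovoid; each point is reached from `∞`. -/
lemma exists_to_pt (hF : Fintype.card F = 2 ^ (2 * m + 1)) {p : Projectivization F (Fin 4 → F)}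
    (hp : p ∈ suzukiOvoid F m) : ∃ g ∈ Sz F m, g • suzukiPointInfinity F = p := by
  rcases (mem_ovoid_iff p).1 hp with rfl | ⟨x, y, rfl⟩
  · exact ⟨1, Subgroup.one_mem _, one_smul _ _⟩
  · refine ⟨uS m x y * wS, Subgroup.mul_mem _ (uS_mem hF x y) (wS_mem hF), ?_⟩
    rw [mul_smul, wS_inf, uS_pt hF]
    simp

/-- Two-transitivity, with the standard pair. -/
lemma exists_to_pair (hF : Fintype.card F = 2 ^ (2 * m + 1)) {p q : Projectivization F (Fin 4 → F)}
    (hp : p ∈ suzukiOvoid F m) (hq : q ∈ suzukiOvoid F m) (hpq : p ≠ q) :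
    ∃ g ∈ Sz F m, g • suzukiPointInfinity F = p ∧ g • szPt m (0 : F) 0 = q := by
  obtain ⟨g₁, hg₁, rfl⟩ := exists_to_pt hF hp
  have h2 : g₁⁻¹ • q ∈ suzukiOvoid F m := (maps_of_mem (Subgroup.inv_mem _ hg₁)).2 hq
  rcases (mem_ovoid_iff _).1 h2 with h3 | ⟨x, y, h3⟩
  · exfalso
    apply hpq
    rw [inv_smul_eq_iff] at h3
    exact h3.symm
  · refine ⟨g₁ * uS m x y, Subgroup.mul_mem _ hg₁ (uS_mem hF x y), ?_, ?_⟩
    · rw [mul_smul, uS_inf]
    · rw [mul_smul, uS_pt hF]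
      simp only [zero_add, mul_zero, add_zero]
      rw [← h3, smul_inv_smul]

end Cfsg.Agent.H10
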