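import Mathlib
import Cfsg.Agent.Lib.H10.SzStab

/-! The Suzuki group: order, two-transitivity, the form. -/

set_option autoImplicit false
set_option linter.unusedSectionVars false
set_option linter.unusedSimpArgs false
set_option linter.style.haveILetI false

namespace Cfsg.Agent.H10

open Matrix Cfsg
open scoped Pointwise

variable {F : Type*} [Field F] [Fintype F] [CharP F 2] {m : ℕ}

/-- Elements of the group. -/
def uG (hF : Fintype.card F = 2 ^ (2 * m + 1)) (a b : F) : ↥(Sz F m) := ⟨uS m a b, uS_mem hF a b⟩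
def hG (hF : Fintype.card F = 2 ^ (2 * m + 1)) (l : Fˣ) : ↥(Sz F m) := ⟨hS m l, hS_mem hF l⟩
def wG (hF : Fintype.card F = 2 ^ (2 * m + 1)) : ↥(Sz F m) := ⟨wS, wS_mem hF⟩

lemma uG_mul (hF : Fintype.card F = 2 ^ (2 * m + 1)) (a b c d : F) :
    uG hF a b * uG hF c d = uG hF (a + c) (b + d + a ^ (2 ^ (m + 1)) * c) :=
  Subtype.ext (uS_mul hF a b c d)

lemma uG_zero (hF : Fintype.card F = 2 ^ (2 * m + 1)) : uG hF (0 : F) 0 = 1 := Subtype.ext uS_zero

lemma uG_inv (hF : Fintype.card F = 2 ^ (2 * m + 1)) (a b : F) :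
    (uG hF a b)⁻¹ = uG hF a (b + a ^ (2 ^ (m + 1) + 1)) :=
  Subtype.ext (uS_inv hF a b)

lemma hG_mul (hF : Fintype.card F = 2 ^ (2 * m + 1)) (l l' : Fˣ) : hG hF l * hG hF l' = hG hF (l * l') :=
  Subtype.ext (hS_mul l l')

lemma hG_one (hF : Fintype.card F = 2 ^ (2 * m + 1)) : hG hF (1 : Fˣ) = 1 := Subtype.ext hS_one

lemma hG_inv (hF : Fintype.card F = 2 ^ (2 * m + 1)) (l : Fˣ) : (hG hF l)⁻¹ = hG hF l⁻¹ :=
  Subtype.ext (hS_inv l)

lemma wG_mul_self (hF : Fintype.card F = 2 ^ (2 * m + 1)) : wG hF * wG hF = 1 := Subtype.ext wS_mul_self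

lemma wG_inv (hF : Fintype.card F = 2 ^ (2 * m + 1)) : (wG hF)⁻¹ = wG hF := Subtype.ext wS_inv

lemma hG_uG (hF : Fintype.card F = 2 ^ (2 * m + 1)) (l : Fˣ) (a b : F) :
    hG hF l * uG hF a b = uG hF ((l : F) * a) ((l : F) ^ (2 ^ (m + 1) + 1) * b) * hG hF l :=
  Subtype.ext (hS_uS hF l a b)

lemma wG_hG (hF : Fintype.card F = 2 ^ (2 * m + 1)) (l : Fˣ) : wG hF * hG hF l * wG hF = hG hF l⁻¹ :=
  Subtype.ext (wS_hS l)

lemma uG_smul (hF : Fintype.card F = 2 ^ (2 * m + 1)) (a b x y : F) :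
    uG hF a b • szPt m x y = szPt m (x + a) (y + b + a ^ (2 ^ (m + 1)) * x) := uS_pt hF a b x y

lemma hG_smul (hF : Fintype.card F = 2 ^ (2 * m + 1)) (l : Fˣ) (x y : F) :
    hG hF l • szPt m x y = szPt m ((l : F) * x) ((l : F) ^ (2 ^ (m + 1) + 1) * y) := hS_pt hF l x y

lemma uG_inf (hF : Fintype.card F = 2 ^ (2 * m + 1)) (a b : F) :
    uG hF a b • suzukiPointInfinity F = suzukiPointInfinity F := uS_inf a b

lemma hG_inf (hF : Fintype.card F = 2 ^ (2 * m + 1)) (l : Fˣ) :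
    hG hF l • suzukiPointInfinity F = suzukiPointInfinity F := hS_inf l

lemma wG_infty (hF : Fintype.card F = 2 ^ (2 * m + 1)) :
    wG hF • suzukiPointInfinity F = szPt m (0 : F) 0 := wS_inf

lemma wG_zero (hF : Fintype.card F = 2 ^ (2 * m + 1)) :
    wG hF • szPt m (0 : F) 0 = suzukiPointInfinity F := wS_zero

lemma wG_smul (hF : Fintype.card F = 2 ^ (2 * m + 1)) (x y : F) (hf : szf m x y ≠ 0) :
    wG hF • szPt m x y = szPt m (y / szf m x y) (x / szf m x y) := wS_pt hF x y hf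

/-- The point stabiliser in the group. -/
abbrev szB (F : Type*) [Field F] (m : ℕ) : Subgroup ↥(Sz F m) :=
  MulAction.stabilizer (Sz F m) (suzukiPointInfinity F)

lemma uG_mem_B (hF : Fintype.card F = 2 ^ (2 * m + 1)) (a b : F) : uG hF a b ∈ szB F m := uG_inf hF a b

lemma hG_mem_B (hF : Fintype.card F = 2 ^ (2 * m + 1)) (l : Fˣ) : hG hF l ∈ szB F m := hG_inf hF l

lemma mem_B_iff (hm : 1 ≤ m) (hF : Fintype.card F = 2 ^ (2 * m + 1)) (g : ↥(Sz F m)) :
    g ∈ szB F m ↔ ∃ (a b : F) (l : Fˣ), g = uG hF a b * hG hF l := by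
  constructor
  · intro h
    obtain ⟨a, b, l, hab⟩ := stab_inf hm hF g.2 h
    exact ⟨a, b, l, Subtype.ext hab⟩
  · rintro ⟨a, b, l, rfl⟩
    exact Subgroup.mul_mem _ (uG_mem_B hF a b) (hG_mem_B hF l)

lemma uG_hG_inj (hF : Fintype.card F = 2 ^ (2 * m + 1)) {a b c d : F} {l l' : Fˣ}
    (h : uG hF a b * hG hF l = uG hF c d * hG hF l') : a = c ∧ b = d ∧ l = l' :=
  uShS_inj hF (congrArg Subtype.val h)

lemma uG_inj (hF : Fintype.card F = 2 ^ (2 * m + 1)) {a b c d : F}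
    (h : uG hF a b = uG hF c d) : a = c ∧ b = d :=
  uS_inj hF (congrArg Subtype.val h)

lemma hG_inj (hF : Fintype.card F = 2 ^ (2 * m + 1)) {l l' : Fˣ} (h : hG hF l = hG hF l') : l = l' :=
  hS_inj hF (congrArg Subtype.val h)

/-- The bijection `F × F × Fˣ → B`. -/
lemma card_B (hm : 1 ≤ m) (hF : Fintype.card F = 2 ^ (2 * m + 1)) :
    Nat.card (szB F m) = (2 ^ (2 * m + 1)) ^ 2 * (2 ^ (2 * m + 1) - 1) := by
  classical
  let f : F × F × Fˣ → szB F m := fun t =>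
    ⟨uG hF t.1 t.2.1 * hG hF t.2.2, Subgroup.mul_mem _ (uG_mem_B hF _ _) (hG_mem_B hF _)⟩
  have hf : Function.Bijective f := by
    constructor
    · rintro ⟨a, b, l⟩ ⟨c, d, l'⟩ h
      obtain ⟨rfl, rfl, rfl⟩ := uG_hG_inj hF (congrArg Subtype.val h)
      rfl
    · rintro ⟨g, hg⟩
      obtain ⟨a, b, l, rfl⟩ := (mem_B_iff hm hF g).1 hg
      exact ⟨(a, b, l), rfl⟩
  rw [← Nat.card_congr (Equiv.ofBijective f hf)]
  rw [Nat.card_eq_fintype_card, Fintype.card_prod, Fintype.card_prod, Fintype.card_units, hF]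
  ring

lemma orbit_inf (hF : Fintype.card F = 2 ^ (2 * m + 1)) :
    MulAction.orbit (Sz F m) (suzukiPointInfinity F) = suzukiOvoid F m := by
  ext p
  constructor
  · rintro ⟨g, rfl⟩
    exact (maps_of_mem g.2).2 inf_mem_ovoid
  · intro hp
    obtain ⟨g, hg, rfl⟩ := exists_to_pt hF hp
    exact ⟨⟨g, hg⟩, rfl⟩

lemma card_ovoid (m : ℕ) : Nat.card (suzukiOvoid F m) = Fintype.card F ^ 2 + 1 := by
  classical
  let f : Option (F × F) → ↥(suzukiOvoid F m) := fun o => match o with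
    | none => ⟨suzukiPointInfinity F, inf_mem_ovoid⟩
    | some (x, y) => ⟨szPt m x y, szPt_mem_ovoid x y⟩
  have hf : Function.Bijective f := by
    constructor
    · rintro (_ | ⟨x, y⟩) (_ | ⟨x', y'⟩) h
      · rfl
      · exact absurd (congrArg Subtype.val h).symm (szPt_ne_inf _ _)
      · exact absurd (congrArg Subtype.val h) (szPt_ne_inf _ _)
      · obtain ⟨rfl, rfl⟩ := szPt_inj (congrArg Subtype.val h)
        rfl
    · rintro ⟨p, hp⟩
      rcases (mem_ovoid_iff p).1 hp with rfl | ⟨x, y, rfl⟩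
      · exact ⟨none, rfl⟩
      · exact ⟨some (x, y), rfl⟩
  rw [← Nat.card_congr (Equiv.ofBijective f hf)]
  simp [Nat.card_eq_fintype_card, Fintype.card_option, Fintype.card_prod, sq]

theorem index_B (hF : Fintype.card F = 2 ^ (2 * m + 1)) :
    (szB F m).index = (2 ^ (2 * m + 1)) ^ 2 + 1 := by
  rw [MulAction.index_stabilizer, orbit_inf hF, ← Nat.card_coe_set_eq, card_ovoid, hF]

theorem card_Sz (hm : 1 ≤ m) (hF : Fintype.card F = 2 ^ (2 * m + 1)) :
    Nat.card (Sz F m) = (2 ^ (2 * m + 1)) ^ 2 * ((2 ^ (2 * m + 1)) ^ 2 + 1) * (2 ^ (2 * m + 1) - 1) := by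
  rw [← Subgroup.index_mul_card (szB F m), index_B hF, card_B hm hF]
  ring

/-- The two-point stabiliser. -/
theorem two_point_equiv (hm : 1 ≤ m) (hF : Fintype.card F = 2 ^ (2 * m + 1)) :
    Nonempty (↥(MulAction.stabilizer (Sz F m) (suzukiPointInfinity F) ⊓
        MulAction.stabilizer (Sz F m) (suzukiPointZero F)) ≃* Fˣ) := by
  have hmem : ∀ l : Fˣ, hG hF l ∈ (MulAction.stabilizer (Sz F m) (suzukiPointInfinity F) ⊓
        MulAction.stabilizer (Sz F m) (suzukiPointZero F)) := by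
    intro l
    refine ⟨hG_inf hF l, ?_⟩
    show hS m l • suzukiPointZero F = suzukiPointZero F
    rw [← szPt_zero m, hS_zero hF]
  let f : Fˣ →* ↥(MulAction.stabilizer (Sz F m) (suzukiPointInfinity F) ⊓
        MulAction.stabilizer (Sz F m) (suzukiPointZero F)) :=
    { toFun := fun l => ⟨hG hF l, hmem l⟩
      map_one' := Subtype.ext (hG_one hF)
      map_mul' := fun l l' => Subtype.ext (hG_mul hF l l').symm }
  have hf : Function.Bijective f := by
    constructor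
    · intro l l' h
      exact hG_inj hF (congrArg Subtype.val h)
    · rintro ⟨g, hg1, hg2⟩
      have h2 : (g : SL4 F) • szPt m (0 : F) 0 = szPt m (0 : F) 0 := by
        rw [szPt_zero m]
        exact hg2
      obtain ⟨l, hl⟩ := fix_two hm hF g.2 hg1 h2
      exact ⟨l, Subtype.ext (Subtype.ext hl.symm)⟩
  exact ⟨(MulEquiv.ofBijective f hf).symm⟩

/-! ### The alternating form -/

lemma form_mul {M N : Matrix (Fin 4) (Fin 4) F} (hM : Mᵀ * suzukiForm F * M = suzukiForm F)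
    (hN : Nᵀ * suzukiForm F * N = suzukiForm F) : (M * N)ᵀ * suzukiForm F * (M * N) = suzukiForm F := by
  rw [Matrix.transpose_mul]
  calc Nᵀ * Mᵀ * suzukiForm F * (M * N) = Nᵀ * (Mᵀ * suzukiForm F * M) * N := by
        simp only [Matrix.mul_assoc]
    _ = _ := by rw [hM, hN]

lemma form_szU (hF : Fintype.card F = 2 ^ (2 * m + 1)) (a b : F) :
    (szU m a b)ᵀ * suzukiForm F * szU m a b = suzukiForm F := by
  have h2 : (2 : F) = 0 := sz_two
  ext i j
  fin_cases i <;> fin_cases j <;>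
    simp [szU, suzukiForm, Matrix.mul_apply, Fin.sum_univ_four, pow_succ (a) (2 ^ (m + 1))] <;>
    first
    | (linear_combination (szf m a b + a * b) * h2)
    | (generalize a ^ (2 ^ (m + 1)) = A; linear_combination (b + a * A + szf m a b) * h2)
    | (generalize a ^ (2 ^ (m + 1)) = A; linear_combination (b + a * A) * h2)
    | (generalize a ^ (2 ^ (m + 1)) = A; linear_combination (A) * h2)
    | (generalize a ^ (2 ^ (m + 1)) = A; linear_combination (a) * h2)
    | (linear_combination (b) * h2)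
    | skip

lemma form_szH (l : F) (hl : l ≠ 0) : (szH m l)ᵀ * suzukiForm F * szH m l = suzukiForm F := by
  have e1 : l ^ (2 ^ m + 1) * (l⁻¹) ^ (2 ^ m + 1) = 1 := by rw [← mul_pow, mul_inv_cancel₀ hl, one_pow]
  have e2 : l ^ (2 ^ m) * (l⁻¹) ^ (2 ^ m) = 1 := by rw [← mul_pow, mul_inv_cancel₀ hl, one_pow]
  have e1' : (l⁻¹) ^ (2 ^ m + 1) * l ^ (2 ^ m + 1) = 1 := by rw [mul_comm, e1]
  have e2' : (l⁻¹) ^ (2 ^ m) * l ^ (2 ^ m) = 1 := by rw [mul_comm, e2]
  rw [szH_eq]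
  ext i j
  fin_cases i <;> fin_cases j <;>
    simp [suzukiForm, Matrix.mul_apply, Fin.sum_univ_four]
  all_goals first
    | exact mul_inv_cancel₀ (pow_ne_zero _ hl)
    | exact inv_mul_cancel₀ (pow_ne_zero _ hl)

lemma form_szW : (szW : Matrix (Fin 4) (Fin 4) F)ᵀ * suzukiForm F * szW = suzukiForm F := by
  ext i j
  fin_cases i <;> fin_cases j <;>
    simp [szW, suzukiForm, Matrix.mul_apply, Fin.sum_univ_four]

/-- Bruhat: an element of the group is in `B` or `U w B`. -/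
lemma bruhat (hm : 1 ≤ m) (hF : Fintype.card F = 2 ^ (2 * m + 1)) (g : ↥(Sz F m)) :
    g ∈ szB F m ∨ ∃ (a b : F), ∃ g' ∈ szB F m, g = uG hF a b * wG hF * g' := by
  by_cases h : g • suzukiPointInfinity F = suzukiPointInfinity F
  · exact Or.inl h
  · right
    have h2 : g • suzukiPointInfinity F ∈ suzukiOvoid F m := (maps_of_mem g.2).2 inf_mem_ovoid
    rcases (mem_ovoid_iff _).1 h2 with h3 | ⟨x, y, h3⟩
    · exact absurd h3 h
    · refine ⟨x, y, (uG hF x y * wG hF)⁻¹ * g, ?_, by rw [mul_inv_cancel_left]⟩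
      show ((uG hF x y * wG hF)⁻¹ * g) • suzukiPointInfinity F = suzukiPointInfinity F
      rw [mul_smul, h3, inv_smul_eq_iff, mul_smul, wG_infty, uG_smul]
      simp

theorem form_of_mem (hm : 1 ≤ m) (hF : Fintype.card F = 2 ^ (2 * m + 1)) {g : SL4 F} (hg : g ∈ Sz F m) :
    (g : Matrix (Fin 4) (Fin 4) F)ᵀ * suzukiForm F * (g : Matrix (Fin 4) (Fin 4) F) = suzukiForm F := by
  have hB : ∀ g' : ↥(Sz F m), g' ∈ szB F m →
      ((g' : SL4 F) : Matrix (Fin 4) (Fin 4) F)ᵀ * suzukiForm F * ((g' : SL4 F) : Matrix (Fin 4) (Fin 4) F) = suzukiForm F := by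
    intro g' hg'
    obtain ⟨a, b, l, rfl⟩ := (mem_B_iff hm hF g').1 hg'
    exact form_mul (form_szU hF a b) (form_szH _ l.ne_zero)
  rcases bruhat hm hF ⟨g, hg⟩ with h | ⟨a, b, g', hg', h⟩
  · exact hB _ h
  · have e : g = uS m a b * wS * (g' : SL4 F) := congrArg Subtype.val h
    rw [e]
    exact form_mul (form_mul (form_szU hF a b) form_szW) (hB g' hg')

end Cfsg.Agent.H10
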