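import Mathlib
import Cfsg.Agent.Lib.H10.SzOrder

/-! The Suzuki group: simplicity and the Zassenhaus property. -/

set_option autoImplicit false
set_option linter.unusedSectionVars false
set_option linter.unusedSimpArgs false
set_option linter.style.haveILetI false

namespace Cfsg.Agent.H10

open Matrix Cfsg
open scoped Pointwise commutatorElement

variable {F : Type*} [Field F] [Fintype F] [CharP F 2] {m : ℕ}

/-- `λ ^ (σ + 1) = 1` only for `λ = 1`. -/
lemma sz_pow_eq_one (hF : Fintype.card F = 2 ^ (2 * m + 1)) {l : F} (hl : l ≠ 0)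
    (h : l ^ (2 ^ (m + 1) + 1) = 1) : l = 1 :=
  sz_pow_inj hF hl one_ne_zero (by rw [h, one_pow])

/-- No non-identity element fixes three points of the ovoid. -/
theorem eq_one_of_fix_three (hm : 1 ≤ m) (hF : Fintype.card F = 2 ^ (2 * m + 1)) {g : SL4 F} (hg : g ∈ Sz F m)
    {p q r : Projectivization F (Fin 4 → F)} (hp : p ∈ suzukiOvoid F m) (hq : q ∈ suzukiOvoid F m)
    (hr : r ∈ suzukiOvoid F m) (hpq : p ≠ q) (hqr : q ≠ r) (hpr : p ≠ r)
    (h1 : g • p = p) (h2 : g • q = q) (h3 : g • r = r) : g = 1 := by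
  obtain ⟨k, hk, hk1, hk2⟩ := exists_to_pair hF hp hq hpq
  have hg' : k⁻¹ * g * k ∈ Sz F m := Subgroup.mul_mem _ (Subgroup.mul_mem _ (Subgroup.inv_mem _ hk) hg) hk
  obtain ⟨l, hl⟩ := fix_two hm hF hg' (by
      rw [mul_smul, mul_smul, hk1, h1, inv_smul_eq_iff, hk1]) (by
      rw [mul_smul, mul_smul, hk2, h2, inv_smul_eq_iff, hk2])
  have hr' : k⁻¹ • r ∈ suzukiOvoid F m := (maps_of_mem (Subgroup.inv_mem _ hk)).2 hr
  have hfix : (k⁻¹ * g * k) • (k⁻¹ • r) = k⁻¹ • r := by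
    rw [mul_smul, mul_smul, smul_inv_smul, h3]
  rcases (mem_ovoid_iff _).1 hr' with h4 | ⟨x, y, h4⟩
  · exfalso
    rw [inv_smul_eq_iff] at h4
    exact hpr (hk1.symm.trans h4.symm)
  · rw [h4, hl, hS_pt hF] at hfix
    obtain ⟨hx, hy⟩ := szPt_inj hfix
    have hl1 : l = 1 := by
      apply Units.ext
      rw [Units.val_one]
      by_cases hx0 : x = 0
      · subst hx0
        have hy0 : y ≠ 0 := by
          rintro rfl
          rw [inv_smul_eq_iff] at h4
          exact hqr (hk2.symm.trans h4.symm)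
        apply sz_pow_eq_one hF l.ne_zero
        exact mul_right_cancel₀ hy0 (by rw [hy, one_mul])
      · exact mul_right_cancel₀ hx0 (by rw [hx, one_mul])
    rw [hl1, hS_one] at hl
    calc g = k * (k⁻¹ * g * k) * k⁻¹ := by group
      _ = 1 := by rw [hl, mul_one, mul_inv_cancel]

/-- A non-identity element moves a point of the ovoid. -/
lemma exists_moved (hm : 1 ≤ m) (hF : Fintype.card F = 2 ^ (2 * m + 1)) {g : SL4 F} (hg : g ∈ Sz F m)
    (hne : g ≠ 1) : ∃ p ∈ suzukiOvoid F m, g • p ≠ p := by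
  by_contra hcon
  push Not at hcon
  have h0 : szPt m (0 : F) 0 ≠ szPt m (1 : F) 0 := fun h => by
    have := (szPt_inj h).1
    exact zero_ne_one this
  exact hne (eq_one_of_fix_three hm hF hg inf_mem_ovoid (szPt_mem_ovoid (0 : F) 0) (szPt_mem_ovoid (1 : F) 0)
    (szPt_ne_inf _ _).symm h0 (szPt_ne_inf _ _).symm (hcon _ inf_mem_ovoid) (hcon _ (szPt_mem_ovoid _ _))
    (hcon _ (szPt_mem_ovoid _ _)))

/-- Two-transitivity in the form with arbitrary pairs. -/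
lemma exists_pair_to_pair (hF : Fintype.card F = 2 ^ (2 * m + 1)) {a b c d : Projectivization F (Fin 4 → F)}
    (ha : a ∈ suzukiOvoid F m) (hb : b ∈ suzukiOvoid F m) (hc : c ∈ suzukiOvoid F m) (hd : d ∈ suzukiOvoid F m)
    (hab : a ≠ b) (hcd : c ≠ d) : ∃ g ∈ Sz F m, g • a = c ∧ g • b = d := by
  obtain ⟨k₁, hk₁, h1, h2⟩ := exists_to_pair hF ha hb hab
  obtain ⟨k₂, hk₂, h3, h4⟩ := exists_to_pair hF hc hd hcd
  refine ⟨k₂ * k₁⁻¹, Subgroup.mul_mem _ hk₂ (Subgroup.inv_mem _ hk₁), ?_, ?_⟩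
  · rw [mul_smul, inv_smul_eq_iff.2 h1.symm, h3]
  · rw [mul_smul, inv_smul_eq_iff.2 h2.symm, h4]

/-- `F` has a non-trivial unit. -/
lemma exists_unit_ne_one (hm : 1 ≤ m) (hF : Fintype.card F = 2 ^ (2 * m + 1)) : ∃ l : Fˣ, l ≠ 1 := by
  classical
  by_contra hcon
  push Not at hcon
  have h1 : Fintype.card Fˣ = 1 := Fintype.card_eq_one_iff.2 ⟨1, hcon⟩
  rw [Fintype.card_units, hF] at h1
  have h2 : 2 ^ (2 * 1 + 1) ≤ 2 ^ (2 * m + 1) := Nat.pow_le_pow_right (by norm_num) (by omega)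
  norm_num at h2
  omega

/-- Every unit is a square. -/
lemma exists_unit_sq (hF : Fintype.card F = 2 ^ (2 * m + 1)) (l : Fˣ) : ∃ l' : Fˣ, l' * l' = l := by
  refine ⟨l ^ (2 ^ (2 * m)), ?_⟩
  apply Units.ext
  simp only [Units.val_mul, Units.val_pow_eq_pow_val]
  rw [← pow_add, ← two_mul, ← pow_succ', ← hF, FiniteField.pow_card]

/-- The commutator of a torus element with a unipotent one. -/
lemma comm_hG_uG (hF : Fintype.card F = 2 ^ (2 * m + 1)) (l : Fˣ) (c d : F) :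
    ⁅hG hF l, uG hF c d⁆ = uG hF (((l : F) + 1) * c)
      (((l : F) ^ (2 ^ (m + 1) + 1) + 1) * d + (c ^ (2 ^ (m + 1) + 1) + ((l : F) * c) ^ (2 ^ (m + 1)) * c)) := by
  rw [commutatorElement_def, hG_uG, mul_inv_cancel_right, uG_inv, uG_mul]
  congr 1
  · ring
  · ring

lemma comm_hG_wG (hF : Fintype.card F = 2 ^ (2 * m + 1)) (l : Fˣ) :
    ⁅hG hF l, wG hF⁆ = hG hF (l * l) := by
  rw [commutatorElement_def, wG_inv]
  have : wG hF * (hG hF l)⁻¹ * wG hF = hG hF l := by rw [hG_inv, wG_hG, inv_inv]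
  calc hG hF l * wG hF * (hG hF l)⁻¹ * wG hF = hG hF l * (wG hF * (hG hF l)⁻¹ * wG hF) := by group
    _ = _ := by rw [this, hG_mul]

lemma hG_mem_commutator (hF : Fintype.card F = 2 ^ (2 * m + 1)) (l : Fˣ) :
    hG hF l ∈ commutator ↥(Sz F m) := by
  obtain ⟨l', rfl⟩ := exists_unit_sq hF l
  rw [← comm_hG_wG]
  exact Subgroup.commutator_mem_commutator (Subgroup.mem_top _) (Subgroup.mem_top _)

lemma sz_add_one_ne (l : Fˣ) (hl : l ≠ 1) : (l : F) + 1 ≠ 0 := by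
  intro h
  apply hl
  apply Units.ext
  rw [Units.val_one]
  calc (l : F) = (l : F) + 1 + 1 := by rw [add_assoc, sz_add_self, add_zero]
    _ = 1 := by rw [h, zero_add]

lemma sz_pow_add_one_ne (hF : Fintype.card F = 2 ^ (2 * m + 1)) (l : Fˣ) (hl : l ≠ 1) :
    (l : F) ^ (2 ^ (m + 1) + 1) + 1 ≠ 0 := by
  intro h
  apply hl
  apply Units.ext
  rw [Units.val_one]
  apply sz_pow_eq_one hF l.ne_zero
  calc (l : F) ^ (2 ^ (m + 1) + 1) = (l : F) ^ (2 ^ (m + 1) + 1) + 1 + 1 := by rw [add_assoc, sz_add_self, add_zero]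
    _ = 1 := by rw [h, zero_add]

/-- Every unitriangular element is a commutator with the torus element `l ≠ 1`. -/
lemma uG_eq_comm (hF : Fintype.card F = 2 ^ (2 * m + 1)) (l : Fˣ) (hl : l ≠ 1) (a b : F) :
    ∃ c d : F, ⁅hG hF l, uG hF c d⁆ = uG hF a b := by
  have h1 := sz_add_one_ne l hl
  have h2 := sz_pow_add_one_ne hF l hl
  set c := a / ((l : F) + 1) with hc
  set E := c ^ (2 ^ (m + 1) + 1) + ((l : F) * c) ^ (2 ^ (m + 1)) * c with hE
  refine ⟨c, (b + E) / ((l : F) ^ (2 ^ (m + 1) + 1) + 1), ?_⟩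
  rw [comm_hG_uG, ← hE]
  congr 1
  · rw [hc]
    field_simp
  · rw [mul_div_cancel₀ _ h2, add_assoc, sz_add_self, add_zero]

lemma uG_mem_commutator (hm : 1 ≤ m) (hF : Fintype.card F = 2 ^ (2 * m + 1)) (a b : F) :
    uG hF a b ∈ commutator ↥(Sz F m) := by
  obtain ⟨l, hl⟩ := exists_unit_ne_one (F := F) hm hF
  obtain ⟨c, d, h⟩ := uG_eq_comm hF l hl a b
  rw [← h]
  exact Subgroup.commutator_mem_commutator (Subgroup.mem_top _) (Subgroup.mem_top _)

lemma szf_one_zero (m : ℕ) : szf m (1 : F) 0 = 1 := by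
  simp [szf]

/-- A normal subgroup containing `U` and `T` is everything. -/
theorem eq_top_of_normal (hm : 1 ≤ m) (hF : Fintype.card F = 2 ^ (2 * m + 1)) (H : Subgroup ↥(Sz F m)) [H.Normal]
    (hU : ∀ a b : F, uG hF a b ∈ H) (hT : ∀ l : Fˣ, hG hF l ∈ H) : H = ⊤ := by
  -- `w ∈ H`
  have hk : wG hF * uG hF (1 : F) 0 * (wG hF)⁻¹ ∈ H := Subgroup.Normal.conj_mem inferInstance _ (hU _ _) _
  have hk1 : (wG hF * uG hF (1 : F) 0 * (wG hF)⁻¹) • suzukiPointInfinity F = szPt m (0 : F) 1 := by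
    rw [wG_inv, mul_smul, mul_smul, wG_infty, uG_smul, wG_smul hF _ _ (by simp [szf_one_zero])]
    simp [szf_one_zero]
  have hu : (uG hF (0 : F) 1 * wG hF) • suzukiPointInfinity F = szPt m (0 : F) 1 := by
    rw [mul_smul, wG_infty, uG_smul]
    simp
  have hmem : (uG hF (0 : F) 1 * wG hF)⁻¹ * (wG hF * uG hF (1 : F) 0 * (wG hF)⁻¹) ∈ szB F m := by
    show _ • suzukiPointInfinity F = _
    rw [mul_smul, hk1, inv_smul_eq_iff, hu]
  obtain ⟨a, b, l, hab⟩ := (mem_B_iff hm hF _).1 hmem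
  have hw : wG hF ∈ H := by
    have e : wG hF = (uG hF (0 : F) 1)⁻¹ * (wG hF * uG hF (1 : F) 0 * (wG hF)⁻¹) * (uG hF a b * hG hF l)⁻¹ := by
      rw [← hab]
      group
    rw [e]
    exact H.mul_mem (H.mul_mem (H.inv_mem (hU _ _)) hk) (H.inv_mem (H.mul_mem (hU _ _) (hT _)))
  rw [eq_top_iff]
  rintro g -
  have hB : ∀ g' ∈ szB F m, g' ∈ H := by
    intro g' hg'
    obtain ⟨a, b, l, rfl⟩ := (mem_B_iff hm hF g').1 hg'
    exact H.mul_mem (hU _ _) (hT _)
  rcases bruhat hm hF g with h | ⟨a, b, g', hg', rfl⟩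
  · exact hB _ h
  · exact H.mul_mem (H.mul_mem (hU _ _) hw) (hB _ hg')

theorem commutator_eq_top (hm : 1 ≤ m) (hF : Fintype.card F = 2 ^ (2 * m + 1)) :
    commutator ↥(Sz F m) = ⊤ :=
  eq_top_of_normal hm hF _ (uG_mem_commutator hm hF) (hG_mem_commutator hF)

/-! ### `B` is soluble -/

/-- The torus coordinate of an element of `B`. -/
noncomputable def lamFun (hm : 1 ≤ m) (hF : Fintype.card F = 2 ^ (2 * m + 1)) (g : szB F m) : Fˣ :=
  Classical.choose (Classical.choose_spec (Classical.choose_spec ((mem_B_iff hm hF g.1).1 g.2)))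

lemma lamFun_spec (hm : 1 ≤ m) (hF : Fintype.card F = 2 ^ (2 * m + 1)) (g : szB F m) :
    ∃ a b : F, g.1 = uG hF a b * hG hF (lamFun hm hF g) :=
  ⟨_, _, Classical.choose_spec (Classical.choose_spec (Classical.choose_spec ((mem_B_iff hm hF g.1).1 g.2)))⟩

lemma lamFun_eq (hm : 1 ≤ m) (hF : Fintype.card F = 2 ^ (2 * m + 1)) (g : szB F m) {a b : F} {l : Fˣ}
    (h : g.1 = uG hF a b * hG hF l) : lamFun hm hF g = l := by
  obtain ⟨a', b', h'⟩ := lamFun_spec hm hF g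
  exact (uG_hG_inj hF (h'.symm.trans h)).2.2

/-- The torus coordinate as a homomorphism. -/
noncomputable def lamHom (hm : 1 ≤ m) (hF : Fintype.card F = 2 ^ (2 * m + 1)) : szB F m →* Fˣ :=
  MonoidHom.mk' (lamFun hm hF) (by
    intro g g'
    obtain ⟨a, b, h⟩ := lamFun_spec hm hF g
    obtain ⟨a', b', h'⟩ := lamFun_spec hm hF g'
    apply lamFun_eq hm hF (g * g') (a := a + (lamFun hm hF g : F) * a')
      (b := b + (lamFun hm hF g : F) ^ (2 ^ (m + 1) + 1) * b' + a ^ (2 ^ (m + 1)) * ((lamFun hm hF g : F) * a'))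
    show g.1 * g'.1 = _
    rw [h, h', ← uG_mul, mul_assoc, ← mul_assoc (hG hF _) (uG hF a' b'), hG_uG, mul_assoc, mul_assoc, hG_mul])

lemma lamHom_eq (hm : 1 ≤ m) (hF : Fintype.card F = 2 ^ (2 * m + 1)) (g : szB F m) {a b : F} {l : Fˣ}
    (h : g.1 = uG hF a b * hG hF l) : lamHom hm hF g = l := lamFun_eq hm hF g h

lemma mem_ker_lamHom (hm : 1 ≤ m) (hF : Fintype.card F = 2 ^ (2 * m + 1)) (g : szB F m)
    (h : g ∈ (lamHom hm hF).ker) : ∃ a b : F, g.1 = uG hF a b := by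
  obtain ⟨a, b, h'⟩ := lamFun_spec hm hF g
  have h1 : lamFun hm hF g = 1 := h
  rw [h1, hG_one, mul_one] at h'
  exact ⟨a, b, h'⟩

/-- `u(a, b)² = u(0, a^(σ+1))`. -/
lemma uG_sq (hF : Fintype.card F = 2 ^ (2 * m + 1)) (a b : F) :
    uG hF a b ^ 2 = uG hF (0 : F) (a ^ (2 ^ (m + 1) + 1)) := by
  rw [sq, uG_mul, sz_add_self, sz_add_self, zero_add, pow_succ a (2 ^ (m + 1))]

/-- `u(a, b)⁴ = 1`. -/
lemma uG_pow_four (hF : Fintype.card F = 2 ^ (2 * m + 1)) (a b : F) : uG hF a b ^ 4 = 1 := by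
  calc uG hF a b ^ 4 = (uG hF a b ^ 2) ^ 2 := by rw [← pow_mul]
    _ = 1 := by rw [uG_sq, uG_sq, zero_pow (by positivity), uG_zero]

theorem isSolvable_B (hm : 1 ≤ m) (hF : Fintype.card F = 2 ^ (2 * m + 1)) : Group.IsSolvable (szB F m) := by
  have h2 : IsPGroup 2 (lamHom (F := F) hm hF).ker := by
    rintro ⟨g, hg⟩
    obtain ⟨a, b, h⟩ := mem_ker_lamHom hm hF g hg
    refine ⟨2, ?_⟩
    have e : (uG hF a b) ^ (2 ^ 2) = 1 := uG_pow_four hF a b
    have e' : g.1 ^ (2 ^ 2) = 1 := by rw [h, e]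
    exact Subtype.ext (Subtype.ext e')
  haveI : Group.IsNilpotent (lamHom (F := F) hm hF).ker := h2.isNilpotent
  exact Group.isSolvable_of_ker_le_range (lamHom hm hF).ker.subtype (lamHom hm hF) (by
    intro g hg
    exact ⟨⟨g, hg⟩, rfl⟩)

/-- The Suzuki group is simple. -/
theorem isSimple_Sz (hm : 1 ≤ m) (hF : Fintype.card F = 2 ^ (2 * m + 1)) : IsSimpleGroup ↥(Sz F m) := by
  haveI : Nontrivial ↥(Sz F m) := ⟨⟨uG hF (1 : F) 0, 1, fun h => by
    rw [← uG_zero hF] at h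
    exact one_ne_zero (uG_inj hF h).1⟩⟩
  refine ⟨?_⟩
  intro N hN
  rcases N.bot_or_exists_ne_one with hbot | ⟨n, hn, hn1⟩
  · exact Or.inl hbot
  right
  have hn1' : (n : SL4 F) ≠ 1 := fun h => hn1 (Subtype.ext h)
  obtain ⟨a, ha, hna⟩ := exists_moved hm hF n.2 hn1'
  have htrans : ∀ g : ↥(Sz F m), ∃ n' ∈ N, n' • suzukiPointInfinity F = g • suzukiPointInfinity F := by
    intro g
    by_cases hg : g • suzukiPointInfinity F = suzukiPointInfinity F
    · exact ⟨1, N.one_mem, by rw [one_smul, hg]⟩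
    · obtain ⟨k, hk, h1, h2⟩ := exists_pair_to_pair hF ha ((maps_of_mem n.2).2 ha) inf_mem_ovoid
        ((maps_of_mem g.2).2 inf_mem_ovoid) (Ne.symm hna) (Ne.symm hg)
      let K : ↥(Sz F m) := ⟨k, hk⟩
      have hK1 : K • a = suzukiPointInfinity F := h1
      have hK2 : K • (n • a) = g • suzukiPointInfinity F := h2
      refine ⟨K * n * K⁻¹, hN.conj_mem _ hn _, ?_⟩
      rw [mul_smul, mul_smul, inv_smul_eq_iff.2 hK1.symm, hK2]
  let φ : szB F m →* ↥(Sz F m) ⧸ N := (QuotientGroup.mk' N).comp (szB F m).subtype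
  have hφ : Function.Surjective φ := by
    intro x
    obtain ⟨g, rfl⟩ := QuotientGroup.mk'_surjective N x
    obtain ⟨n', hn', h⟩ := htrans g
    have hmem : n'⁻¹ * g ∈ szB F m := by
      show (n'⁻¹ * g) • suzukiPointInfinity F = suzukiPointInfinity F
      rw [mul_smul, ← h, inv_smul_smul]
    refine ⟨⟨n'⁻¹ * g, hmem⟩, ?_⟩
    show (QuotientGroup.mk' N) (n'⁻¹ * g) = _
    have h1 : QuotientGroup.mk' N n' = 1 := (QuotientGroup.eq_one_iff n').2 hn'
    rw [map_mul, map_inv, h1, inv_one, one_mul]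
  haveI := isSolvable_B (F := F) hm hF
  haveI : Group.IsSolvable (↥(Sz F m) ⧸ N) := Group.isSolvable_of_surjective hφ
  rcases subsingleton_or_nontrivial (↥(Sz F m) ⧸ N) with h | h
  · exact QuotientGroup.subgroup_eq_top_of_subsingleton N h
  · exfalso
    have e : commutator (↥(Sz F m) ⧸ N) = ⊤ := by
      have e1 := Subgroup.map_commutator (⊤ : Subgroup ↥(Sz F m)) ⊤ (QuotientGroup.mk' N)
      rw [Subgroup.map_top_of_surjective _ (QuotientGroup.mk'_surjective N)] at e1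
      have e2 : ⁅(⊤ : Subgroup ↥(Sz F m)), ⊤⁆ = ⊤ := commutator_eq_top hm hF
      rw [e2, Subgroup.map_top_of_surjective _ (QuotientGroup.mk'_surjective N)] at e1
      exact e1.symm
    exact (Group.IsSolvable.commutator_lt_top_of_nontrivial (↥(Sz F m) ⧸ N)).ne e

/-- The Zassenhaus property. -/
theorem isZassenhaus_Sz (hm : 1 ≤ m) (hF : Fintype.card F = 2 ^ (2 * m + 1)) :
    IsZassenhausGroup (Sz F m) (suzukiOvoid F m) := by
  have hval : ∀ (g : ↥(Sz F m)) (p : ↥(suzukiOvoid F m)),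
      ((g • p : ↥(suzukiOvoid F m)) : Projectivization F (Fin 4 → F)) = (g : SL4 F) • (p : Projectivization F (Fin 4 → F)) :=
    fun _ _ => rfl
  refine ⟨⟨?_⟩, ?_, ?_, ?_, ?_⟩
  · intro g g' h
    by_contra hne
    have hne' : ((g'⁻¹ * g : ↥(Sz F m)) : SL4 F) ≠ 1 := by
      intro h1
      apply hne
      have : g'⁻¹ * g = 1 := Subtype.ext h1
      rw [inv_mul_eq_one] at this
      exact this.symm
    obtain ⟨p, hp, hne2⟩ := exists_moved hm hF (g'⁻¹ * g).2 hne'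
    apply hne2
    have e := h ⟨p, hp⟩
    have e' : (g : SL4 F) • p = (g' : SL4 F) • p := congrArg Subtype.val e
    show ((g'⁻¹ : ↥(Sz F m)) * g : ↥(Sz F m)) • p = p
    rw [mul_smul]
    show (g'⁻¹ : ↥(Sz F m)) • ((g : SL4 F) • p) = p
    rw [e']
    exact inv_smul_smul g' p
  · rw [MulAction.is_two_pretransitive_iff]
    intro a b c d hab hcd
    obtain ⟨g, hg, h1, h2⟩ := exists_pair_to_pair hF a.2 b.2 c.2 d.2
      (fun h => hab (Subtype.ext h)) (fun h => hcd (Subtype.ext h))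
    exact ⟨⟨g, hg⟩, Subtype.ext h1, Subtype.ext h2⟩
  · intro g a b c hab hbc hac h1 h2 h3
    apply Subtype.ext
    exact eq_one_of_fix_three hm hF g.2 a.2 b.2 c.2 (fun h => hab (Subtype.ext h)) (fun h => hbc (Subtype.ext h))
      (fun h => hac (Subtype.ext h)) (congrArg Subtype.val h1) (congrArg Subtype.val h2) (congrArg Subtype.val h3)
  · obtain ⟨l, hl⟩ := exists_unit_ne_one (F := F) hm hF
    refine ⟨hG hF l, ?_, ⟨suzukiPointInfinity F, inf_mem_ovoid⟩, ⟨szPt m (0 : F) 0, szPt_mem_ovoid _ _⟩, ?_, ?_, ?_⟩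
    · intro h
      rw [← hG_one hF] at h
      exact hl (hG_inj hF h)
    · intro h
      exact szPt_ne_inf _ _ (congrArg Subtype.val h).symm
    · exact Subtype.ext (hG_inf hF l)
    · exact Subtype.ext (hS_zero hF l)
  · intro N hN htr
    haveI := isSimple_Sz (F := F) hm hF
    have hNe : N = ⊥ ∨ N = ⊤ := IsSimpleGroup.eq_bot_or_eq_top_of_normal N hN
    rcases hNe with rfl | rfl
    · exfalso
      obtain ⟨⟨n, hn⟩, h⟩ := htr.exists_smul_eq ⟨suzukiPointInfinity F, inf_mem_ovoid⟩ ⟨szPt m (0 : F) 0, szPt_mem_ovoid _ _⟩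
      have : n = 1 := hn
      subst this
      have h' : (1 : ↥(Sz F m)) • suzukiPointInfinity F = szPt m (0 : F) 0 := congrArg Subtype.val h
      rw [one_smul] at h'
      exact szPt_ne_inf _ _ h'.symm
    · refine ⟨⟨suzukiPointInfinity F, inf_mem_ovoid⟩, ?_⟩
      intro hbot
      have hmem : (⟨uG hF (1 : F) 0, Subgroup.mem_top _⟩ : ↥(⊤ : Subgroup ↥(Sz F m))) ∈
          MulAction.stabilizer (⊤ : Subgroup ↥(Sz F m)) (⟨suzukiPointInfinity F, inf_mem_ovoid⟩ : ↥(suzukiOvoid F m)) :=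
        Subtype.ext (uG_inf hF (1 : F) 0)
      rw [hbot, Subgroup.mem_bot] at hmem
      have h1 : uG hF (1 : F) 0 = 1 := congrArg Subtype.val hmem
      rw [← uG_zero hF] at h1
      exact one_ne_zero (uG_inj hF h1).1

end Cfsg.Agent.H10
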