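import Mathlib
import Cfsg.Agent.Lib.H10.SzSimple

/-! The Suzuki group: the Sylow 2-subgroup. -/

set_option autoImplicit false
set_option linter.unusedSectionVars false
set_option linter.unusedSimpArgs false
set_option linter.style.haveILetI false

namespace Cfsg.Agent.H10

open Matrix Cfsg
open scoped Pointwise commutatorElement

variable {F : Type*} [Field F] [Fintype F] [CharP F 2] {m : ℕ}

instance instFiniteSz : Finite ↥(Sz F m) := by
  classical
  infer_instance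

/-- The unitriangular subgroup. -/
def szUG (hF : Fintype.card F = 2 ^ (2 * m + 1)) : Subgroup ↥(Sz F m) where
  carrier := {g | ∃ a b : F, g = uG hF a b}
  mul_mem' := by
    rintro _ _ ⟨a, b, rfl⟩ ⟨c, d, rfl⟩
    exact ⟨_, _, uG_mul hF a b c d⟩
  one_mem' := ⟨0, 0, (uG_zero hF).symm⟩
  inv_mem' := by
    rintro _ ⟨a, b, rfl⟩
    exact ⟨_, _, uG_inv hF a b⟩

lemma uG_mem (hF : Fintype.card F = 2 ^ (2 * m + 1)) (a b : F) : uG hF a b ∈ szUG hF := ⟨a, b, rfl⟩

lemma card_szUG (hF : Fintype.card F = 2 ^ (2 * m + 1)) : Nat.card (szUG hF) = (2 ^ (2 * m + 1)) ^ 2 := by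
  classical
  let f : F × F → szUG hF := fun t => ⟨uG hF t.1 t.2, uG_mem hF _ _⟩
  have hf : Function.Bijective f := by
    constructor
    · rintro ⟨a, b⟩ ⟨c, d⟩ h
      obtain ⟨rfl, rfl⟩ := uG_inj hF (congrArg Subtype.val h)
      rfl
    · rintro ⟨g, a, b, rfl⟩
      exact ⟨(a, b), rfl⟩
  rw [← Nat.card_congr (Equiv.ofBijective f hf), Nat.card_eq_fintype_card, Fintype.card_prod, hF]
  ring

lemma isPGroup_szUG (hF : Fintype.card F = 2 ^ (2 * m + 1)) : IsPGroup 2 (szUG hF) := by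
  rintro ⟨g, a, b, rfl⟩
  refine ⟨2, Subtype.ext ?_⟩
  exact uG_pow_four hF a b

lemma szUG_le_B (hF : Fintype.card F = 2 ^ (2 * m + 1)) : szUG hF ≤ szB F m := by
  rintro _ ⟨a, b, rfl⟩
  exact uG_mem_B hF a b

lemma index_szUG (hm : 1 ≤ m) (hF : Fintype.card F = 2 ^ (2 * m + 1)) :
    (szUG hF).index = ((2 ^ (2 * m + 1)) ^ 2 + 1) * (2 ^ (2 * m + 1) - 1) := by
  have h1 := Subgroup.index_mul_card (szUG hF)
  rw [card_szUG, card_Sz hm hF] at h1
  have h2 : 0 < (2 ^ (2 * m + 1)) ^ 2 := by positivity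
  apply Nat.eq_of_mul_eq_mul_right h2
  rw [h1]
  ring

lemma not_two_dvd_index (hm : 1 ≤ m) (hF : Fintype.card F = 2 ^ (2 * m + 1)) : ¬ 2 ∣ (szUG hF).index := by
  rw [index_szUG hm hF, Nat.Prime.dvd_mul Nat.prime_two]
  have h1 : 2 ∣ 2 ^ (2 * m + 1) := dvd_pow_self 2 (by omega)
  have h2 : 1 ≤ 2 ^ (2 * m + 1) := Nat.one_le_two_pow
  rintro (h | h)
  · have h3 : 2 ∣ (2 ^ (2 * m + 1)) ^ 2 := dvd_pow h1 (by norm_num)
    omega
  · omega

instance instFactTwoPrime : Fact (Nat.Prime 2) := ⟨Nat.prime_two⟩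

/-- The standard Sylow 2-subgroup. -/
noncomputable def szSylow (hm : 1 ≤ m) (hF : Fintype.card F = 2 ^ (2 * m + 1)) : Sylow 2 ↥(Sz F m) :=
  (isPGroup_szUG hF).toSylow (not_two_dvd_index hm hF)

lemma szSylow_coe (hm : 1 ≤ m) (hF : Fintype.card F = 2 ^ (2 * m + 1)) :
    (szSylow hm hF : Subgroup ↥(Sz F m)) = szUG hF := rfl

/-- Every Sylow 2-subgroup is a conjugate of `U`. -/
lemma exists_conj_sylow (hm : 1 ≤ m) (hF : Fintype.card F = 2 ^ (2 * m + 1)) (P : Sylow 2 ↥(Sz F m)) :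
    ∃ k : ↥(Sz F m), ∀ x, x ∈ (P : Subgroup ↥(Sz F m)) ↔ k⁻¹ * x * k ∈ szUG hF := by
  obtain ⟨k, hk⟩ := MulAction.exists_smul_eq ↥(Sz F m) (szSylow hm hF) P
  refine ⟨k, fun x => ?_⟩
  rw [← hk, Sylow.coe_subgroup_smul, Subgroup.mem_pointwise_smul_iff_inv_smul_mem, szSylow_coe]
  simp [MulAut.smul_def, MulAut.conj_apply]

lemma sylow_equiv (hm : 1 ≤ m) (hF : Fintype.card F = 2 ^ (2 * m + 1)) (P : Sylow 2 ↥(Sz F m)) :
    Nonempty (↥(P : Subgroup ↥(Sz F m)) ≃* ↥(szUG hF)) :=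
  ⟨Sylow.equiv P (szSylow hm hF)⟩

/-! ### Commutators -/

lemma uG_comm (hF : Fintype.card F = 2 ^ (2 * m + 1)) (a b c d : F) :
    ⁅uG hF a b, uG hF c d⁆ = uG hF (0 : F) (a ^ (2 ^ (m + 1)) * c + c ^ (2 ^ (m + 1)) * a) := by
  have h2 : (2 : F) = 0 := sz_two
  rw [commutatorElement_def, mul_assoc, ← _root_.mul_inv_rev, uG_mul, uG_mul, uG_inv, uG_mul]
  have e1 : (a + c) ^ (2 ^ (m + 1) + 1) = (a + c) ^ (2 ^ (m + 1)) * (a + c) := pow_succ _ _
  have e2 : c + a = a + c := add_comm _ _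
  rw [e2, e1, sz_add_self]
  congr 1
  generalize (a + c) ^ (2 ^ (m + 1)) = A
  generalize a ^ (2 ^ (m + 1)) = A'
  generalize c ^ (2 ^ (m + 1)) = C'
  linear_combination (b + d + A * (a + c)) * h2

/-- `x ↦ x ^ (σ + 1)` is a bijection. -/
lemma exists_pow_eq (hF : Fintype.card F = 2 ^ (2 * m + 1)) (b : F) : ∃ c : F, c ^ (2 ^ (m + 1) + 1) = b := by
  have hinj : Function.Injective (fun x : F => x ^ (2 ^ (m + 1) + 1)) := by
    intro x y h
    have h' : x ^ (2 ^ (m + 1) + 1) = y ^ (2 ^ (m + 1) + 1) := h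
    by_cases hx : x = 0
    · subst hx
      rw [zero_pow (by positivity)] at h'
      exact (pow_eq_zero_iff (by positivity)).1 h'.symm |>.symm
    · by_cases hy : y = 0
      · subst hy
        rw [zero_pow (by positivity)] at h'
        exact (pow_eq_zero_iff (by positivity)).1 h'
      · exact sz_pow_inj hF hx hy h'
  exact (Finite.injective_iff_surjective.1 hinj) b

/-- An element outside the prime field. -/
lemma exists_t_ne (hm : 1 ≤ m) (hF : Fintype.card F = 2 ^ (2 * m + 1)) :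
    ∃ t : F, t ^ (2 ^ (m + 1)) + t ≠ 0 := by
  obtain ⟨l, hl⟩ := exists_unit_ne_one (F := F) hm hF
  refine ⟨l, fun h => ?_⟩
  have h1 : (l : F) ^ (2 ^ (m + 1)) = l := by
    calc (l : F) ^ (2 ^ (m + 1)) = (l : F) ^ (2 ^ (m + 1)) + (l : F) + (l : F) := by rw [add_assoc, sz_add_self, add_zero]
      _ = (l : F) := by rw [h, zero_add]
  have h2 := sz_frob2 hF (l : F)
  rw [h1, h1] at h2
  apply hl
  apply Units.ext
  rw [Units.val_one]
  have h3 : (l : F) * l = l * 1 := by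
    rw [mul_one, ← sq]
    exact h2.symm
  exact mul_left_cancel₀ l.ne_zero h3

/-- Every element of `F` is a value of the commutator form. -/
lemma exists_comm_val (hm : 1 ≤ m) (hF : Fintype.card F = 2 ^ (2 * m + 1)) (b : F) :
    ∃ a c : F, a ^ (2 ^ (m + 1)) * c + c ^ (2 ^ (m + 1)) * a = b := by
  obtain ⟨t, ht⟩ := exists_t_ne (F := F) hm hF
  obtain ⟨c, hc⟩ := exists_pow_eq hF (b / (t ^ (2 ^ (m + 1)) + t))
  refine ⟨t * c, c, ?_⟩
  rw [mul_pow]
  calc t ^ 2 ^ (m + 1) * c ^ 2 ^ (m + 1) * c + c ^ 2 ^ (m + 1) * (t * c)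
      = c ^ (2 ^ (m + 1) + 1) * (t ^ (2 ^ (m + 1)) + t) := by rw [pow_succ c]; ring
    _ = b := by rw [hc]; field_simp

lemma uG_zero_mem_center (hF : Fintype.card F = 2 ^ (2 * m + 1)) (b c d : F) :
    uG hF (0 : F) b * uG hF c d = uG hF c d * uG hF (0 : F) b := by
  rw [uG_mul, uG_mul, zero_add, add_zero, zero_pow (by positivity), zero_mul, mul_zero, add_comm b d]

/-- Membership in the centre of `U`. -/
lemma mem_center_szUG (hm : 1 ≤ m) (hF : Fintype.card F = 2 ^ (2 * m + 1)) (x : szUG hF) :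
    x ∈ Subgroup.center (szUG hF) ↔ ∃ b : F, x.1 = uG hF (0 : F) b := by
  constructor
  · intro hx
    obtain ⟨g, a, b, rfl⟩ := x
    refine ⟨b, ?_⟩
    by_cases ha : a = 0
    · subst ha
      rfl
    · exfalso
      obtain ⟨t, ht⟩ := exists_t_ne (F := F) hm hF
      have h1 := Subgroup.mem_center_iff.1 hx ⟨uG hF (t * a) 0, uG_mem hF _ _⟩
      have h2 : uG hF (t * a) 0 * uG hF a b = uG hF a b * uG hF (t * a) 0 := congrArg Subtype.val h1
      rw [uG_mul, uG_mul] at h2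
      have h3 := (uG_inj hF h2).2
      rw [mul_pow, zero_add, add_zero] at h3
      apply ht
      have h4 : a ^ (2 ^ (m + 1)) * a * (t ^ (2 ^ (m + 1)) + t) = 0 := by
        have h5 : (2 : F) = 0 := sz_two
        linear_combination h3 + (a ^ (2 ^ (m + 1)) * (t * a)) * h5
      exact (mul_eq_zero.1 h4).resolve_left (mul_ne_zero (pow_ne_zero _ ha) ha)
  · rintro ⟨b, hb⟩
    rw [Subgroup.mem_center_iff]
    rintro ⟨g, c, d, rfl⟩
    apply Subtype.ext
    show uG hF c d * x.1 = x.1 * uG hF c d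
    rw [hb]
    exact (uG_zero_mem_center hF b c d).symm

theorem center_eq_commutator_szUG (hm : 1 ≤ m) (hF : Fintype.card F = 2 ^ (2 * m + 1)) :
    Subgroup.center (szUG hF) = commutator (szUG hF) := by
  apply le_antisymm
  · intro x hx
    obtain ⟨b, hb⟩ := (mem_center_szUG hm hF x).1 hx
    obtain ⟨a, c, hac⟩ := exists_comm_val hm hF b
    have e : x = ⁅(⟨uG hF a 0, uG_mem hF _ _⟩ : szUG hF), (⟨uG hF c 0, uG_mem hF _ _⟩ : szUG hF)⁆ := by
      apply Subtype.ext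
      rw [hb, ← hac, ← uG_comm hF a 0 c 0]
      rfl
    rw [e]
    exact Subgroup.commutator_mem_commutator (Subgroup.mem_top _) (Subgroup.mem_top _)
  · show ⁅(⊤ : Subgroup (szUG hF)), ⊤⁆ ≤ _
    rw [Subgroup.commutator_le]
    rintro ⟨g, a, b, rfl⟩ - ⟨g', c, d, rfl⟩ -
    rw [mem_center_szUG hm hF]
    exact ⟨_, uG_comm hF a b c d⟩

theorem card_center_szUG (hm : 1 ≤ m) (hF : Fintype.card F = 2 ^ (2 * m + 1)) :
    Nat.card (Subgroup.center (szUG hF)) = 2 ^ (2 * m + 1) := by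
  classical
  let f : F → Subgroup.center (szUG hF) := fun b =>
    ⟨⟨uG hF (0 : F) b, uG_mem hF _ _⟩, (mem_center_szUG hm hF _).2 ⟨b, rfl⟩⟩
  have hf : Function.Bijective f := by
    constructor
    · intro b c h
      exact (uG_inj hF (congrArg (fun x : Subgroup.center (szUG hF) => x.1.1) h)).2
    · rintro ⟨x, hx⟩
      obtain ⟨b, hb⟩ := (mem_center_szUG hm hF x).1 hx
      exact ⟨b, Subtype.ext (Subtype.ext hb.symm)⟩
  rw [← Nat.card_congr (Equiv.ofBijective f hf), Nat.card_eq_fintype_card, hF]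

theorem exponent_szUG (hF : Fintype.card F = 2 ^ (2 * m + 1)) : Monoid.exponent (szUG hF) = 4 := by
  apply Nat.dvd_antisymm
  · rw [Monoid.exponent_dvd_iff_forall_pow_eq_one]
    rintro ⟨g, a, b, rfl⟩
    exact Subtype.ext (uG_pow_four hF a b)
  · have h1 : orderOf (⟨uG hF (1 : F) 0, uG_mem hF _ _⟩ : szUG hF) = 2 ^ 2 := by
      apply orderOf_eq_prime_pow (p := 2) (n := 1)
      · intro h
        have h2 : uG hF (1 : F) 0 ^ 2 = 1 := congrArg Subtype.val h
        rw [uG_sq, one_pow, ← uG_zero hF] at h2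
        exact one_ne_zero (uG_inj hF h2).2
      · exact Subtype.ext (uG_pow_four hF 1 0)
    have h2 := Monoid.order_dvd_exponent (⟨uG hF (1 : F) 0, uG_mem hF _ _⟩ : szUG hF)
    rw [h1] at h2
    simpa using h2

lemma center_eq_commutator_of_equiv {P Q : Type*} [Group P] [Group Q] (e : P ≃* Q)
    (h : Subgroup.center Q = commutator Q) : Subgroup.center P = commutator P := by
  have h1 : ∀ x : P, x ∈ commutator P ↔ e x ∈ commutator Q := by
    intro x
    have e1 := Subgroup.map_commutator (⊤ : Subgroup P) ⊤ e.toMonoidHom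
    have e2 : Subgroup.map e.toMonoidHom ⊤ = ⊤ := Subgroup.map_top_of_surjective _ e.surjective
    rw [e2] at e1
    show x ∈ ⁅(⊤ : Subgroup P), ⊤⁆ ↔ e x ∈ ⁅(⊤ : Subgroup Q), ⊤⁆
    rw [← e1, Subgroup.mem_map]
    constructor
    · intro hx
      exact ⟨x, hx, rfl⟩
    · rintro ⟨y, hy, hxy⟩
      rwa [← e.injective hxy]
  have h2 : ∀ x : P, x ∈ Subgroup.center P ↔ e x ∈ Subgroup.center Q := by
    intro x
    rw [Subgroup.mem_center_iff, Subgroup.mem_center_iff]
    constructor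
    · intro hx g
      obtain ⟨g, rfl⟩ := e.surjective g
      rw [← map_mul, ← map_mul, hx]
    · intro hx g
      apply e.injective
      rw [map_mul, map_mul, hx]
  ext x
  rw [h1, h2, h]

lemma card_center_of_equiv {P Q : Type*} [Group P] [Group Q] (e : P ≃* Q) :
    Nat.card (Subgroup.center P) = Nat.card (Subgroup.center Q) := by
  have h2 : ∀ x : P, x ∈ Subgroup.center P ↔ e x ∈ Subgroup.center Q := by
    intro x
    rw [Subgroup.mem_center_iff, Subgroup.mem_center_iff]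
    constructor
    · intro hx g
      obtain ⟨g, rfl⟩ := e.surjective g
      rw [← map_mul, ← map_mul, hx]
    · intro hx g
      apply e.injective
      rw [map_mul, map_mul, hx]
  exact Nat.card_congr (Equiv.subtypeEquiv e.toEquiv h2)

theorem sylow_structure (hm : 1 ≤ m) (hF : Fintype.card F = 2 ^ (2 * m + 1)) (P : Sylow 2 ↥(Sz F m)) :
    Nat.card P = (2 ^ (2 * m + 1)) ^ 2 ∧ Monoid.exponent P = 4 ∧
      Subgroup.center P = commutator P ∧ Nat.card (Subgroup.center P) = 2 ^ (2 * m + 1) := by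
  obtain ⟨e⟩ := sylow_equiv hm hF P
  refine ⟨?_, ?_, ?_, ?_⟩
  · rw [Nat.card_congr e.toEquiv, card_szUG]
  · rw [Monoid.exponent_eq_of_mulEquiv e, exponent_szUG]
  · exact center_eq_commutator_of_equiv e (center_eq_commutator_szUG hm hF)
  · rw [card_center_of_equiv e, card_center_szUG hm hF]

end Cfsg.Agent.H10
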