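import Mathlib
import Cfsg.Agent.Lib.H10.SzSylow

/-! The Suzuki group: generation, the maximality of `B`, real elements. -/

set_option autoImplicit false
set_option linter.unusedSectionVars false
set_option linter.unusedSimpArgs false
set_option linter.style.haveILetI false

namespace Cfsg.Agent.H10

open Matrix Cfsg
open scoped Pointwise commutatorElement

variable {F : Type*} [Field F] [Fintype F] [CharP F 2] {m : ℕ}

/-- Only the identity of `U` fixes an affine point. -/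
lemma uG_fix (hF : Fintype.card F = 2 ^ (2 * m + 1)) {a b x y : F}
    (h : uG hF a b • szPt m x y = szPt m x y) : a = 0 ∧ b = 0 := by
  rw [uG_smul] at h
  obtain ⟨h1, h2⟩ := szPt_inj h
  have ha : a = 0 := by
    have : x + a = x + 0 := by rw [h1, add_zero]
    exact add_left_cancel this
  subst ha
  rw [zero_pow (by positivity), zero_mul, add_zero] at h2
  refine ⟨rfl, ?_⟩
  have : y + b = y + 0 := by rw [h2, add_zero]
  exact add_left_cancel this

/-- A point of the ovoid fixed by `U` is `∞`; also for one non-trivial element. -/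
lemma eq_inf_of_uG_fix (hF : Fintype.card F = 2 ^ (2 * m + 1)) {a b : F} (hne : a ≠ 0 ∨ b ≠ 0)
    {p : Projectivization F (Fin 4 → F)} (hp : p ∈ suzukiOvoid F m) (h : uG hF a b • p = p) :
    p = suzukiPointInfinity F := by
  rcases (mem_ovoid_iff p).1 hp with h1 | ⟨x, y, rfl⟩
  · exact h1
  · exfalso
    obtain ⟨h1, h2⟩ := uG_fix hF h
    rcases hne with h3 | h3
    · exact h3 h1
    · exact h3 h2

/-- The normaliser of `U` is `B`. -/
theorem normalizer_szUG (hm : 1 ≤ m) (hF : Fintype.card F = 2 ^ (2 * m + 1)) :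
    Subgroup.normalizer ((szUG hF : Subgroup ↥(Sz F m)) : Set ↥(Sz F m)) = szB F m := by
  apply le_antisymm
  · intro g hg
    have h1 : g * uG hF (1 : F) 0 * g⁻¹ ∈ szUG hF := (Subgroup.mem_normalizer_iff.1 hg _).1 (uG_mem hF _ _)
    -- `g⁻¹ u g` is in `U`, and fixes `g⁻¹ ∞`
    have h2 : g⁻¹ * uG hF (1 : F) 0 * g⁻¹⁻¹ ∈ szUG hF := by
      have := (Subgroup.mem_normalizer_iff.1 (Subgroup.inv_mem _ hg) (uG hF (1 : F) 0)).1 (uG_mem hF _ _)
      exact this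
    obtain ⟨a, b, hab⟩ := h1
    have hne : a ≠ 0 ∨ b ≠ 0 := by
      by_contra hcon
      push Not at hcon
      obtain ⟨rfl, rfl⟩ := hcon
      rw [uG_zero, mul_inv_eq_one] at hab
      have h3 : uG hF (1 : F) 0 = 1 := mul_left_cancel (a := g) (by rw [hab, mul_one])
      rw [← uG_zero hF] at h3
      exact one_ne_zero (uG_inj hF h3).1
    have hfix : uG hF a b • (g • suzukiPointInfinity F) = g • suzukiPointInfinity F := by
      rw [← hab, mul_smul, mul_smul, inv_smul_smul, uG_inf]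
    exact eq_inf_of_uG_fix hF hne ((maps_of_mem g.2).2 inf_mem_ovoid) hfix
  · intro g hg
    rw [Subgroup.mem_normalizer_iff]
    obtain ⟨a, b, l, rfl⟩ := (mem_B_iff hm hF g).1 hg
    have hl : ∀ (l : Fˣ) (x : ↥(Sz F m)), x ∈ szUG hF → hG hF l * x * (hG hF l)⁻¹ ∈ szUG hF := by
      rintro l _ ⟨c, d, rfl⟩
      rw [hG_uG, mul_inv_cancel_right]
      exact uG_mem hF _ _
    intro x
    constructor
    · intro hx
      have := hl l x hx
      have h2 : uG hF a b * hG hF l * x * (uG hF a b * hG hF l)⁻¹ =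
          uG hF a b * (hG hF l * x * (hG hF l)⁻¹) * (uG hF a b)⁻¹ := by group
      rw [h2]
      exact (szUG hF).mul_mem ((szUG hF).mul_mem (uG_mem hF _ _) this) ((szUG hF).inv_mem (uG_mem hF _ _))
    · intro hx
      have h3 := (szUG hF).mul_mem ((szUG hF).mul_mem ((szUG hF).inv_mem (uG_mem hF a b)) hx) (uG_mem hF a b)
      have h4 := hl l⁻¹ _ h3
      have h5 : hG hF l⁻¹ * ((uG hF a b)⁻¹ * (uG hF a b * hG hF l * x * (uG hF a b * hG hF l)⁻¹) * uG hF a b) *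
          (hG hF l⁻¹)⁻¹ = x := by
        rw [← hG_inv]
        group
      rwa [h5] at h4

/-- `w u(1,0) w = u(0,1) w u(1,0)`. -/
lemma wG_uG_wG (hF : Fintype.card F = 2 ^ (2 * m + 1)) :
    wG hF * uG hF (1 : F) 0 * wG hF = uG hF (0 : F) 1 * wG hF * uG hF (1 : F) 0 := by
  have h2 : (2 : F) = 0 := sz_two
  apply Subtype.ext
  apply Subtype.ext
  show szW * szU m (1 : F) 0 * szW = szU m (0 : F) 1 * szW * szU m (1 : F) 0
  ext i j
  fin_cases i <;> fin_cases j <;>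
    simp [szW, szU, szf, Matrix.mul_apply, Fin.sum_univ_four]
  all_goals exact (sz_add_self (1 : F)).symm

lemma hG_wG (hF : Fintype.card F = 2 ^ (2 * m + 1)) (l : Fˣ) : hG hF l * wG hF = wG hF * hG hF l⁻¹ := by
  have h := wG_hG hF l⁻¹
  rw [inv_inv] at h
  rw [← h]
  calc wG hF * hG hF l⁻¹ * wG hF * wG hF = wG hF * hG hF l⁻¹ * (wG hF * wG hF) := by group
    _ = _ := by rw [wG_mul_self, mul_one]

/-- A subgroup containing `U` and `w` is everything. -/
theorem eq_top_of_U_w (hm : 1 ≤ m) (hF : Fintype.card F = 2 ^ (2 * m + 1)) (H : Subgroup ↥(Sz F m))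
    (hU : ∀ a b : F, uG hF a b ∈ H) (hw : wG hF ∈ H) : H = ⊤ := by
  have key : ∀ l : Fˣ, wG hF * uG hF ((l⁻¹ : Fˣ) : F) 0 * wG hF =
      uG hF (0 : F) ((l : F) ^ (2 ^ (m + 1) + 1)) * wG hF * uG hF ((l⁻¹ : Fˣ) : F) 0 * hG hF (l⁻¹ * l⁻¹) := by
    intro l
    have hll : ∀ c : Fˣ, hG hF c * hG hF c⁻¹ = 1 := fun c => by rw [hG_mul, mul_inv_cancel, hG_one]
    have hll' : ∀ c : Fˣ, hG hF c⁻¹ * hG hF c = 1 := fun c => by rw [hG_mul, inv_mul_cancel, hG_one]
    have a1 : uG hF ((l⁻¹ : Fˣ) : F) 0 = hG hF l⁻¹ * uG hF (1 : F) 0 * hG hF l := by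
      rw [hG_uG, mul_one, mul_zero, mul_assoc, hll', mul_one]
    have a2 : uG hF (0 : F) ((l : F) ^ (2 ^ (m + 1) + 1)) = hG hF l * uG hF (0 : F) 1 * hG hF l⁻¹ := by
      rw [hG_uG, mul_zero, mul_one, mul_assoc, hll, mul_one]
    have a3 := hG_wG hF l
    have a4 := hG_wG hF l⁻¹
    rw [inv_inv] at a4
    have a5 := wG_uG_wG hF
    have e1 : wG hF * uG hF ((l⁻¹ : Fˣ) : F) 0 * wG hF = hG hF l * (wG hF * uG hF (1 : F) 0 * wG hF) * hG hF l⁻¹ := by
      rw [a1]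
      calc wG hF * (hG hF l⁻¹ * uG hF (1 : F) 0 * hG hF l) * wG hF
          = (wG hF * hG hF l⁻¹) * uG hF (1 : F) 0 * (hG hF l * wG hF) := by group
        _ = (hG hF l * wG hF) * uG hF (1 : F) 0 * (wG hF * hG hF l⁻¹) := by rw [a3]
        _ = _ := by simp only [mul_assoc]
    have e2 : uG hF (0 : F) ((l : F) ^ (2 ^ (m + 1) + 1)) * wG hF * uG hF ((l⁻¹ : Fˣ) : F) 0 * hG hF (l⁻¹ * l⁻¹) =
        hG hF l * (uG hF (0 : F) 1 * wG hF * uG hF (1 : F) 0) * hG hF l⁻¹ := by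
      rw [a1, a2, ← hG_mul]
      calc hG hF l * uG hF (0 : F) 1 * hG hF l⁻¹ * wG hF * (hG hF l⁻¹ * uG hF (1 : F) 0 * hG hF l) * (hG hF l⁻¹ * hG hF l⁻¹)
          = hG hF l * uG hF (0 : F) 1 * (hG hF l⁻¹ * wG hF) * hG hF l⁻¹ * uG hF (1 : F) 0 * (hG hF l * hG hF l⁻¹) * hG hF l⁻¹ := by group
        _ = hG hF l * uG hF (0 : F) 1 * (wG hF * hG hF l) * hG hF l⁻¹ * uG hF (1 : F) 0 * hG hF l⁻¹ := by rw [a4, hll, mul_one]
        _ = hG hF l * uG hF (0 : F) 1 * wG hF * (hG hF l * hG hF l⁻¹) * uG hF (1 : F) 0 * hG hF l⁻¹ := by group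
        _ = _ := by rw [hll, mul_one]; group
    rw [e1, a5, e2]
  have hT : ∀ l : Fˣ, hG hF l ∈ H := by
    intro l
    obtain ⟨l', hl'⟩ := exists_unit_sq hF l⁻¹
    have e : l = l'⁻¹ * l'⁻¹ := by
      rw [← _root_.mul_inv_rev, hl', inv_inv]
    have h1 := key l'
    have h2 : hG hF (l'⁻¹ * l'⁻¹) = (uG hF (0 : F) ((l' : F) ^ (2 ^ (m + 1) + 1)) * wG hF * uG hF ((l'⁻¹ : Fˣ) : F) 0)⁻¹ *
        (wG hF * uG hF ((l'⁻¹ : Fˣ) : F) 0 * wG hF) := by
      rw [h1]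
      group
    rw [e, h2]
    exact H.mul_mem (H.inv_mem (H.mul_mem (H.mul_mem (hU _ _) hw) (hU _ _))) (H.mul_mem (H.mul_mem hw (hU _ _)) hw)
  have hB : ∀ g' ∈ szB F m, g' ∈ H := by
    intro g' hg'
    obtain ⟨a, b, l, rfl⟩ := (mem_B_iff hm hF g').1 hg'
    exact H.mul_mem (hU _ _) (hT _)
  rw [eq_top_iff]
  rintro g -
  rcases bruhat hm hF g with h | ⟨a, b, g', hg', rfl⟩
  · exact hB _ h
  · exact H.mul_mem (H.mul_mem (hU _ _) hw) (hB _ hg')

/-- A subgroup containing `U` and an element outside `B` is everything. -/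
theorem eq_top_of_U_not_B (hm : 1 ≤ m) (hF : Fintype.card F = 2 ^ (2 * m + 1)) (H : Subgroup ↥(Sz F m))
    (hU : ∀ a b : F, uG hF a b ∈ H) {x : ↥(Sz F m)} (hx : x ∈ H) (hxB : x ∉ szB F m) : H = ⊤ := by
  -- move `x ∞` to `0`
  have h1 : x • suzukiPointInfinity F ∈ suzukiOvoid F m := (maps_of_mem x.2).2 inf_mem_ovoid
  rcases (mem_ovoid_iff _).1 h1 with h2 | ⟨c, d, h2⟩
  · exact absurd h2 hxB
  set g := (uG hF c d)⁻¹ * x with hg
  have hgH : g ∈ H := H.mul_mem (H.inv_mem (hU _ _)) hx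
  have hg0 : g • suzukiPointInfinity F = szPt m (0 : F) 0 := by
    rw [hg, mul_smul, h2, inv_smul_eq_iff, uG_smul]
    simp
  have hr : g⁻¹ • suzukiPointInfinity F ∈ suzukiOvoid F m := (maps_of_mem (g⁻¹).2).2 inf_mem_ovoid
  rcases (mem_ovoid_iff _).1 hr with h3 | ⟨e, e', h3⟩
  · exfalso
    rw [inv_smul_eq_iff] at h3
    exact szPt_ne_inf (0 : F) 0 (by rw [← hg0, ← h3])
  -- a swap
  set g' := g * uG hF e e' with hg'
  have hg'H : g' ∈ H := H.mul_mem hgH (hU _ _)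
  have hs1 : g' • suzukiPointInfinity F = szPt m (0 : F) 0 := by
    rw [hg', mul_smul, uG_inf, hg0]
  have hs2 : g' • szPt m (0 : F) 0 = suzukiPointInfinity F := by
    rw [hg', mul_smul, uG_smul]
    simp only [zero_add, mul_zero, add_zero]
    rw [← h3, smul_inv_smul]
  have hfix : ∃ l : Fˣ, wG hF * g' = hG hF l := by
    obtain ⟨l, hl⟩ := fix_two hm hF (wG hF * g').2 (by
      show (wG hF * g') • suzukiPointInfinity F = suzukiPointInfinity F
      rw [mul_smul, hs1, wG_zero]) (by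
      show (wG hF * g') • szPt m (0 : F) 0 = szPt m (0 : F) 0
      rw [mul_smul, hs2, wG_infty])
    exact ⟨l, Subtype.ext hl⟩
  obtain ⟨l, hl⟩ := hfix
  have hg'eq : g' = wG hF * hG hF l := by
    rw [← hl, ← mul_assoc, wG_mul_self, one_mul]
  -- conjugate
  have h4 : wG hF * uG hF (1 : F) 0 * wG hF ∈ H := by
    have h5 := H.mul_mem (H.mul_mem hg'H (hU ((l⁻¹ : Fˣ) : F) 0)) (H.inv_mem hg'H)
    have h6 : g' * uG hF ((l⁻¹ : Fˣ) : F) 0 * g'⁻¹ = wG hF * uG hF (1 : F) 0 * wG hF := by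
      rw [hg'eq]
      have e1 : hG hF l * uG hF ((l⁻¹ : Fˣ) : F) 0 = uG hF (1 : F) 0 * hG hF l := by
        rw [hG_uG, Units.mul_inv, mul_zero]
      calc wG hF * hG hF l * uG hF ((l⁻¹ : Fˣ) : F) 0 * (wG hF * hG hF l)⁻¹
          = wG hF * (hG hF l * uG hF ((l⁻¹ : Fˣ) : F) 0) * (hG hF l)⁻¹ * (wG hF)⁻¹ := by group
        _ = _ := by rw [e1, wG_inv]; group
    rwa [h6] at h5
  have hw : wG hF ∈ H := by
    have e : wG hF = (uG hF (0 : F) 1)⁻¹ * (wG hF * uG hF (1 : F) 0 * wG hF) * (uG hF (1 : F) 0)⁻¹ := by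
      rw [wG_uG_wG]
      group
    rw [e]
    exact H.mul_mem (H.mul_mem (H.inv_mem (hU _ _)) h4) (H.inv_mem (hU _ _))
  exact eq_top_of_U_w hm hF H hU hw

lemma wG_not_mem_B (hF : Fintype.card F = 2 ^ (2 * m + 1)) : wG hF ∉ szB F m := by
  intro h
  have h1 : wG hF • suzukiPointInfinity F = suzukiPointInfinity F := h
  rw [wG_infty] at h1
  exact szPt_ne_inf _ _ h1

theorem isCoatom_B (hm : 1 ≤ m) (hF : Fintype.card F = 2 ^ (2 * m + 1)) : IsCoatom (szB F m) := by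
  constructor
  · intro h
    exact wG_not_mem_B hF (h ▸ Subgroup.mem_top _)
  · intro H hH
    obtain ⟨x, hx, hxB⟩ := SetLike.exists_of_lt hH
    exact eq_top_of_U_not_B hm hF H (fun a b => hH.le (uG_mem_B hF a b)) hx hxB

theorem eq_B_of_coatom (hm : 1 ≤ m) (hF : Fintype.card F = 2 ^ (2 * m + 1)) {M : Subgroup ↥(Sz F m)}
    (hM : IsCoatom M) (hU : szUG hF ≤ M) : M = szB F m := by
  have h1 : M ≤ szB F m := by
    intro x hx
    by_contra hxB
    exact hM.1 (eq_top_of_U_not_B hm hF M (fun a b => hU (uG_mem hF a b)) hx hxB)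
  rcases h1.lt_or_eq with h2 | h2
  · exact absurd (hM.2 _ h2) (isCoatom_B hm hF).1
  · exact h2

lemma mem_map_conj {G : Type*} [Group G] (k : G) (H : Subgroup G) (x : G) :
    x ∈ H.map (MulAut.conj k).toMonoidHom ↔ k⁻¹ * x * k ∈ H := by
  constructor
  · rintro ⟨y, hy, rfl⟩
    have : k⁻¹ * (MulAut.conj k).toMonoidHom y * k = y := by
      simp [MulAut.conj_apply, mul_assoc]
    rwa [this]
  · intro h
    refine ⟨_, h, ?_⟩
    simp [MulAut.conj_apply, mul_assoc]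

/-- The structure of the normaliser of a Sylow 2-subgroup. -/
theorem sylow_unique_max (hm : 1 ≤ m) (hF : Fintype.card F = 2 ^ (2 * m + 1)) (P : Sylow 2 ↥(Sz F m)) :
    IsCoatom (Subgroup.normalizer ((P : Subgroup ↥(Sz F m)) : Set ↥(Sz F m))) ∧
    ∀ M : Subgroup ↥(Sz F m), IsCoatom M → (P : Subgroup ↥(Sz F m)) ≤ M →
      M = Subgroup.normalizer ((P : Subgroup ↥(Sz F m)) : Set ↥(Sz F m)) := by
  obtain ⟨k, hk⟩ := exists_conj_sylow hm hF P
  let φ := (MulAut.conj k).mapSubgroup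
  have hφ : ∀ H x, x ∈ φ H ↔ k⁻¹ * x * k ∈ H := fun H x => mem_map_conj k H x
  have hP : (P : Subgroup ↥(Sz F m)) = φ (szUG hF) := by
    ext x
    rw [hφ, hk]
  have hN : Subgroup.normalizer ((P : Subgroup ↥(Sz F m)) : Set ↥(Sz F m)) = φ (szB F m) := by
    ext g
    rw [hφ, ← normalizer_szUG hm hF, Subgroup.mem_normalizer_iff, Subgroup.mem_normalizer_iff]
    constructor
    · intro h y
      have e1 := hk (k * y * k⁻¹)
      have e2 : k⁻¹ * (k * y * k⁻¹) * k = y := by group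
      rw [e2] at e1
      have e3 := hk (g * (k * y * k⁻¹) * g⁻¹)
      have e4 : k⁻¹ * (g * (k * y * k⁻¹) * g⁻¹) * k = k⁻¹ * g * k * y * (k⁻¹ * g * k)⁻¹ := by group
      rw [e4] at e3
      rw [← e1, ← e3]
      exact h _
    · intro h x
      have e3 := hk (g * x * g⁻¹)
      have e4 : k⁻¹ * (g * x * g⁻¹) * k = k⁻¹ * g * k * (k⁻¹ * x * k) * (k⁻¹ * g * k)⁻¹ := by group
      rw [e4] at e3
      rw [hk x, e3]
      exact h _
  rw [hN]
  refine ⟨(φ.isCoatom_iff _).2 (isCoatom_B hm hF), ?_⟩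
  intro M hM hPM
  have hM' : M = φ (φ.symm M) := (φ.apply_symm_apply M).symm
  rw [hM'] at hM hPM ⊢
  rw [hP] at hPM
  congr 1
  exact eq_B_of_coatom hm hF ((φ.isCoatom_iff _).1 hM) (φ.le_iff_le.1 hPM)

end Cfsg.Agent.H10
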