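import Mathlib
import Cfsg.Agent.Lib.H10.SzGen

/-! The Suzuki group: two generators, real elements of the Sylow 2-subgroup, the ovoid property. -/

set_option autoImplicit false
set_option linter.unusedSectionVars false
set_option linter.unusedSimpArgs false
set_option linter.style.haveILetI false

namespace Cfsg.Agent.H10

open Matrix Cfsg
open scoped Pointwise commutatorElement

variable {F : Type*} [Field F] [Fintype F] [CharP F 2] {m : ℕ}

/-- Conjugation of `U` by the torus. -/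
lemma hG_conj_uG (hF : Fintype.card F = 2 ^ (2 * m + 1)) (l : Fˣ) (a b : F) :
    hG hF l * uG hF a b * (hG hF l)⁻¹ = uG hF ((l : F) * a) ((l : F) ^ (2 ^ (m + 1) + 1) * b) := by
  rw [hG_uG, mul_inv_cancel_right]

lemma uG_conj_uG (hF : Fintype.card F = 2 ^ (2 * m + 1)) (c d a b : F) :
    uG hF c d * uG hF a b * (uG hF c d)⁻¹ =
      uG hF a (b + c ^ (2 ^ (m + 1)) * a + a ^ (2 ^ (m + 1)) * c) := by
  have h := uG_comm hF c d a b
  rw [commutatorElement_def] at h
  have e : uG hF c d * uG hF a b * (uG hF c d)⁻¹ =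
      (uG hF c d * uG hF a b * (uG hF c d)⁻¹ * (uG hF a b)⁻¹) * uG hF a b := by group
  rw [e, h, uG_mul, zero_add, zero_pow (by positivity), zero_mul, add_zero]
  congr 1
  ring

/-- The Suzuki group is 2-generated. -/
theorem exists_two_gen (hm : 1 ≤ m) (hF : Fintype.card F = 2 ^ (2 * m + 1)) :
    ∃ a b : ↥(Sz F m), Subgroup.closure ({a, b} : Set ↥(Sz F m)) = ⊤ := by
  obtain ⟨ζ, hζ⟩ := IsCyclic.exists_generator (α := Fˣ)
  obtain ⟨l₀, hl₀⟩ := exists_unit_ne_one (F := F) hm hF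
  have hζ1 : ζ ≠ 1 := by
    rintro rfl
    obtain ⟨k, hk⟩ := Subgroup.mem_zpowers_iff.1 (hζ l₀)
    rw [_root_.one_zpow] at hk
    exact hl₀ hk.symm
  refine ⟨hG hF ζ, wG hF * uG hF (1 : F) 0, ?_⟩
  set H := Subgroup.closure ({hG hF ζ, wG hF * uG hF (1 : F) 0} : Set ↥(Sz F m)) with hH
  have ha : hG hF ζ ∈ H := Subgroup.subset_closure (by simp)
  have hb : wG hF * uG hF (1 : F) 0 ∈ H := Subgroup.subset_closure (by simp)
  -- the torus
  have hT : ∀ l : Fˣ, hG hF l ∈ H := by
    have hpow : ∀ k : ℕ, hG hF (ζ ^ k) ∈ H := by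
      intro k
      induction k with
      | zero =>
        rw [pow_zero, hG_one]
        exact H.one_mem
      | succ k ih =>
        rw [pow_succ, ← hG_mul]
        exact H.mul_mem ih ha
    intro l
    obtain ⟨k, hk⟩ := (mem_powers_iff_mem_zpowers).2 (hζ l)
    rw [← hk]
    exact hpow k
  -- an element of `U` with non-zero first coordinate
  have hx₀ : uG hF ((ζ : F) + 1) ((ζ : F) ^ (2 ^ (m + 1) + 1) + (ζ : F) ^ (2 ^ (m + 1))) ∈ H := by
    have e1 : (wG hF * uG hF (1 : F) 0)⁻¹ * hG hF ζ * (wG hF * uG hF (1 : F) 0) =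
        (uG hF (1 : F) 0)⁻¹ * hG hF ζ⁻¹ * uG hF (1 : F) 0 := by
      have e2 := wG_hG hF ζ
      rw [← e2, _root_.mul_inv_rev, wG_inv]
      simp only [mul_assoc]
    have e3 : hG hF ζ * ((uG hF (1 : F) 0)⁻¹ * hG hF ζ⁻¹ * uG hF (1 : F) 0) =
        uG hF ((ζ : F) + 1) ((ζ : F) ^ (2 ^ (m + 1) + 1) + (ζ : F) ^ (2 ^ (m + 1))) := by
      have e4 := hG_conj_uG hF ζ 1 (1 ^ (2 ^ (m + 1) + 1) + 0)
      have e5 : (uG hF (1 : F) 0)⁻¹ = uG hF (1 : F) (0 + 1 ^ (2 ^ (m + 1) + 1)) := uG_inv hF 1 0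
      have e6 : hG hF ζ * ((uG hF (1 : F) 0)⁻¹ * hG hF ζ⁻¹ * uG hF (1 : F) 0) =
          (hG hF ζ * (uG hF (1 : F) 0)⁻¹ * (hG hF ζ)⁻¹) * uG hF (1 : F) 0 := by
        rw [hG_inv]
        simp only [mul_assoc]
      rw [e6, e5, hG_conj_uG, uG_mul]
      congr 1
      · ring
      · simp
    rw [← e3, ← e1]
    exact H.mul_mem ha (H.mul_mem (H.mul_mem (H.inv_mem hb) ha) hb)
  have hne : (ζ : F) + 1 ≠ 0 := sz_add_one_ne ζ hζ1
  -- all first coordinates occur
  have hfirst : ∀ a : F, ∃ d : F, uG hF a d ∈ H := by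
    intro a
    by_cases ha0 : a = 0
    · subst ha0
      exact ⟨0, by rw [uG_zero]; exact H.one_mem⟩
    · let l : Fˣ := Units.mk0 (a / ((ζ : F) + 1)) (div_ne_zero ha0 hne)
      refine ⟨((l : Fˣ) : F) ^ (2 ^ (m + 1) + 1) * ((ζ : F) ^ (2 ^ (m + 1) + 1) + (ζ : F) ^ (2 ^ (m + 1))), ?_⟩
      have h := H.mul_mem (H.mul_mem (hT l) hx₀) (H.inv_mem (hT l))
      rw [hG_conj_uG] at h
      have e : ((l : Fˣ) : F) * ((ζ : F) + 1) = a := by
        show a / ((ζ : F) + 1) * ((ζ : F) + 1) = a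
        field_simp
      rw [e] at h
      exact h
  have hsecond : ∀ b : F, uG hF (0 : F) b ∈ H := by
    intro b
    obtain ⟨a, c, hac⟩ := exists_comm_val hm hF b
    obtain ⟨d₁, h₁⟩ := hfirst a
    obtain ⟨d₂, h₂⟩ := hfirst c
    have h := H.mul_mem (H.mul_mem (H.mul_mem h₁ h₂) (H.inv_mem h₁)) (H.inv_mem h₂)
    have e := uG_comm hF a d₁ c d₂
    rw [commutatorElement_def] at e
    rw [e, hac] at h
    exact h
  have hU : ∀ a b : F, uG hF a b ∈ H := by
    intro a b
    obtain ⟨d, hd⟩ := hfirst a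
    have h := H.mul_mem hd (hsecond (b + d))
    rw [uG_mul] at h
    have e : d + (b + d) + a ^ (2 ^ (m + 1)) * 0 = b := by
      rw [mul_zero, add_zero, add_comm b d, ← add_assoc, sz_add_self, zero_add]
    rw [e, add_zero] at h
    exact h
  have hw : wG hF ∈ H := by
    have e : wG hF = (wG hF * uG hF (1 : F) 0) * (uG hF (1 : F) 0)⁻¹ := by group
    rw [e]
    exact H.mul_mem hb (H.inv_mem (hU _ _))
  exact eq_top_of_U_w hm hF H hU hw

/-- Real elements of the Sylow 2-subgroup. -/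
theorem real_iff (hm : 1 ≤ m) (hF : Fintype.card F = 2 ^ (2 * m + 1)) (P : Sylow 2 ↥(Sz F m))
    (g : ↥(Sz F m)) (hg : g ∈ (P : Subgroup ↥(Sz F m))) (h1 : g ≠ 1) :
    IsConj g g⁻¹ ↔ orderOf g = 2 := by
  constructor
  · intro hconj
    obtain ⟨k, hk⟩ := exists_conj_sylow hm hF P
    obtain ⟨a, b, hab⟩ := (hk g).1 hg
    have hg_eq : g = k * uG hF a b * k⁻¹ := by
      rw [← hab]
      group
    have hne : a ≠ 0 ∨ b ≠ 0 := by
      by_contra hcon
      push Not at hcon
      obtain ⟨rfl, rfl⟩ := hcon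
      rw [uG_zero, mul_one, mul_inv_cancel] at hg_eq
      exact h1 hg_eq
    obtain ⟨c, hc⟩ := isConj_iff.1 hconj
    set x := k⁻¹ * c * k with hx
    have hxu : x * uG hF a b * x⁻¹ = (uG hF a b)⁻¹ := by
      have e1 : (uG hF a b)⁻¹ = k⁻¹ * g⁻¹ * k := by
        rw [hg_eq]
        group
      rw [e1, ← hc, hg_eq, hx]
      group
    have hinv : (uG hF a b)⁻¹ = uG hF a (b + a ^ (2 ^ (m + 1) + 1)) := uG_inv hF a b
    have hne' : a ≠ 0 ∨ b + a ^ (2 ^ (m + 1) + 1) ≠ 0 := by
      by_cases ha : a = 0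
      · subst ha
        rcases hne with h | h
        · exact absurd rfl h
        · right
          rw [zero_pow (by positivity), add_zero]
          exact h
      · exact Or.inl ha
    have hxB : x ∈ szB F m := by
      show x • suzukiPointInfinity F = suzukiPointInfinity F
      apply eq_inf_of_uG_fix hF hne' ((maps_of_mem x.2).2 inf_mem_ovoid)
      change uG hF a (b + a ^ (2 ^ (m + 1) + 1)) • (x • suzukiPointInfinity F) = x • suzukiPointInfinity F
      rw [← hinv, ← hxu, mul_smul, mul_smul, inv_smul_smul, uG_inf]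
    obtain ⟨c', d', l, hcd⟩ := (mem_B_iff hm hF x).1 hxB
    rw [hcd] at hxu
    have e2 : uG hF c' d' * hG hF l * uG hF a b * (uG hF c' d' * hG hF l)⁻¹ =
        uG hF c' d' * (hG hF l * uG hF a b * (hG hF l)⁻¹) * (uG hF c' d')⁻¹ := by
      simp only [_root_.mul_inv_rev, mul_assoc]
    rw [e2, hG_conj_uG, uG_conj_uG, hinv] at hxu
    obtain ⟨h3, h4⟩ := uG_inj hF hxu
    by_cases ha : a = 0
    · subst ha
      have h5 : (uG hF (0 : F) b) ^ 2 = 1 := by
        rw [uG_sq, zero_pow (by positivity), uG_zero]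
      apply orderOf_eq_prime _ h1
      rw [hg_eq]
      simp only [conj_pow, h5, mul_one, mul_inv_cancel]
    · exfalso
      have hl : (l : F) = 1 := mul_right_cancel₀ ha (by rw [h3, one_mul])
      rw [hl] at h4
      simp only [one_pow, one_mul, mul_one] at h4
      -- `t = c' / a`
      have h5 : c' ^ (2 ^ (m + 1)) * a + a ^ (2 ^ (m + 1)) * c' = a ^ (2 ^ (m + 1) + 1) := by
        have h2 : (2 : F) = 0 := sz_two
        linear_combination h4 + b * h2 * 0
      apply sz_no_sol hF (m + 1) (c' / a)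
      have hs : a ^ (2 ^ (m + 1)) ≠ 0 := pow_ne_zero _ ha
      rw [div_pow]
      field_simp
      rw [pow_succ a (2 ^ (m + 1))] at h5
      linear_combination h5
  · intro h
    have h2 : g ^ 2 = 1 := by
      rw [← h]
      exact pow_orderOf_eq_one g
    have h3 : g⁻¹ = g := by
      rw [inv_eq_iff_mul_eq_one, ← sq, h2]
    rw [h3]

/-- The ovoid property. -/
theorem ovoid_independent (hm : 1 ≤ m) (hF : Fintype.card F = 2 ^ (2 * m + 1)) (p : Fin 3 ↪ ↥(suzukiOvoid F m)) :
    Projectivization.Independent (fun i => (p i : Projectivization F (Fin 4 → F))) := by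
  have hne : ∀ {i j : Fin 3}, i ≠ j → (p i : Projectivization F (Fin 4 → F)) ≠ p j := by
    intro i j hij h
    exact hij (p.injective (Subtype.ext h))
  obtain ⟨k, hk, h0, h1⟩ := exists_to_pair hF (p 0).2 (p 1).2 (hne (by decide))
  have hr : k⁻¹ • (p 2 : Projectivization F (Fin 4 → F)) ∈ suzukiOvoid F m :=
    (maps_of_mem (Subgroup.inv_mem _ hk)).2 (p 2).2
  rcases (mem_ovoid_iff _).1 hr with h2 | ⟨x, y, h2⟩
  · exfalso
    rw [inv_smul_eq_iff] at h2
    exact hne (i := 0) (j := 2) (by decide) (h0.symm.trans h2.symm)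
  rw [inv_smul_eq_iff] at h2
  have hxy : x ≠ 0 ∨ y ≠ 0 := by
    by_contra hcon
    push Not at hcon
    obtain ⟨rfl, rfl⟩ := hcon
    exact hne (i := 1) (j := 2) (by decide) (h1.symm.trans h2.symm)
  -- the vectors
  let v : Fin 3 → Fin 4 → F := ![![1, 0, 0, 0], ![0, 0, 0, 1], szVec m x y]
  have hv : LinearIndependent F v := by
    rw [Fintype.linearIndependent_iff]
    intro c hc
    have e1 := congrFun hc 1
    have e2 := congrFun hc 2
    have e0 := congrFun hc 0
    have e3 := congrFun hc 3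
    simp [Fin.sum_univ_three, v, szVec] at e0 e1 e2 e3
    have hc2 : c 2 = 0 := by
      rcases hxy with h | h
      · exact e2.resolve_right h
      · exact e1.resolve_right h
    rw [hc2] at e0 e3
    simp at e0 e3
    intro i
    fin_cases i
    · exact e0
    · exact e3
    · exact hc2
  let M : (Fin 4 → F) →ₗ[F] (Fin 4 → F) := Matrix.mulVecLin (k : Matrix (Fin 4) (Fin 4) F)
  have hMinj : Function.Injective M := by
    intro a b hab
    have h3 : k • a = k • b := hab
    exact smul_left_cancel k h3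
  have hl : LinearIndependent F (fun i => M (v i)) := hv.map' M (LinearMap.ker_eq_bot.2 hMinj)
  have hnz : ∀ i, M (v i) ≠ 0 := fun i => hl.ne_zero i
  have hfun : (fun i => (p i : Projectivization F (Fin 4 → F))) =
      fun i => Projectivization.mk F (M (v i)) (hnz i) := by
    funext i
    fin_cases i
    · show ((p 0 : ↥(suzukiOvoid F m)) : Projectivization F (Fin 4 → F)) = Projectivization.mk F (M (v 0)) (hnz 0)
      rw [← h0, suzukiPointInfinity, Projectivization.smul_mk]
      rfl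
    · show ((p 1 : ↥(suzukiOvoid F m)) : Projectivization F (Fin 4 → F)) = Projectivization.mk F (M (v 1)) (hnz 1)
      rw [← h1, szPt_zero, suzukiPointZero, Projectivization.smul_mk]
      rfl
    · show ((p 2 : ↥(suzukiOvoid F m)) : Projectivization F (Fin 4 → F)) = Projectivization.mk F (M (v 2)) (hnz 2)
      rw [h2, szPt, Projectivization.smul_mk]
      rfl
  rw [hfun]
  exact Projectivization.Independent.mk _ hnz hl

end Cfsg.Agent.H10
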