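import Mathlib
import Cfsg.Agent.Lib.H10.SzGen2
import Cfsg.Agent.Lib.H10.HomoSylow

/-! The Suzuki group: odd Sylow subgroups are cyclic. -/

set_option autoImplicit false
set_option linter.unusedSectionVars false
set_option linter.unusedSimpArgs false
set_option linter.style.haveILetI false

namespace Cfsg.Agent.H10

open Matrix Cfsg
open scoped Pointwise commutatorElement

variable {F : Type*} [Field F] [Fintype F] [CharP F 2] {m : ℕ}

/-- A `p`-subgroup (`p` odd) fixing `∞` is cyclic. -/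
lemma isCyclic_of_le_B (hm : 1 ≤ m) (hF : Fintype.card F = 2 ^ (2 * m + 1)) {p : ℕ} [Fact p.Prime] (hp : p ≠ 2)
    (P : Subgroup ↥(Sz F m)) (hP : IsPGroup p P) (k : ↥(Sz F m))
    (hfix : ∀ g ∈ P, g • (k • suzukiPointInfinity F) = k • suzukiPointInfinity F) : IsCyclic P := by
  have hmem : ∀ g : P, k⁻¹ * g.1 * k ∈ szB F m := by
    intro g
    show (k⁻¹ * g.1 * k) • suzukiPointInfinity F = suzukiPointInfinity F
    rw [mul_smul, mul_smul, hfix g.1 g.2, inv_smul_smul]
  let φ : P →* szB F m := MonoidHom.mk' (fun g => ⟨k⁻¹ * g.1 * k, hmem g⟩) (by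
    intro a b
    apply Subtype.ext
    show k⁻¹ * (a.1 * b.1) * k = k⁻¹ * a.1 * k * (k⁻¹ * b.1 * k)
    group)
  let f : P →* Fˣ := (lamHom hm hF).comp φ
  have hf : Function.Injective f := by
    rw [injective_iff_map_eq_one]
    intro g hg
    obtain ⟨a, b, h⟩ := mem_ker_lamHom hm hF (φ g) (MonoidHom.mem_ker.2 hg)
    obtain ⟨j, hj⟩ := hP g
    have h4 : g ^ 4 = 1 := by
      apply Subtype.ext
      have e1 : k⁻¹ * g.1 * k = uG hF a b := h
      have e2 : g.1 = k * uG hF a b * k⁻¹ := by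
        rw [← e1]
        group
      show g.1 ^ 4 = 1
      rw [e2, conj_pow, uG_pow_four, mul_one, mul_inv_cancel]
    have h1 : orderOf g ∣ 4 := orderOf_dvd_of_pow_eq_one h4
    have h2 : orderOf g ∣ p ^ j := orderOf_dvd_of_pow_eq_one hj
    have hcop : Nat.Coprime (p ^ j) 4 := by
      apply Nat.Coprime.pow_left
      have hpp : p.Prime := Fact.out
      rw [show 4 = 2 ^ 2 by norm_num]
      apply Nat.Coprime.pow_right
      exact (Nat.coprime_primes hpp Nat.prime_two).2 hp
    have h3 : orderOf g = 1 := Nat.eq_one_of_dvd_coprimes hcop h2 h1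
    exact orderOf_eq_one_iff.1 h3
  exact isCyclic_of_injective f hf

/-- A `p`-subgroup, with `p ∤ q² + 1`, fixes a point. -/
lemma exists_fixed_of_pGroup (hF : Fintype.card F = 2 ^ (2 * m + 1)) {p : ℕ} [Fact p.Prime]
    (hp : ¬ p ∣ (2 ^ (2 * m + 1)) ^ 2 + 1) (P : Subgroup ↥(Sz F m)) (hP : IsPGroup p P) :
    ∃ c ∈ suzukiOvoid F m, ∀ g ∈ P, g • c = c := by
  classical
  haveI : Finite ↥(suzukiOvoid F m) := Nat.finite_of_card_ne_zero (by
    rw [card_ovoid]
    positivity)
  have h := hP.card_modEq_card_fixedPoints ↥(suzukiOvoid F m)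
  rw [card_ovoid, hF] at h
  by_cases hne : (MulAction.fixedPoints P ↥(suzukiOvoid F m)).Nonempty
  · obtain ⟨⟨c, hc⟩, hfix⟩ := hne
    refine ⟨c, hc, fun g hg => ?_⟩
    have := hfix ⟨g, hg⟩
    exact congrArg Subtype.val this
  · exfalso
    rw [Set.not_nonempty_iff_eq_empty] at hne
    rw [hne] at h
    simp only [Nat.card_of_isEmpty, Set.mem_empty_iff_false] at h
    apply hp
    exact (Nat.modEq_zero_iff_dvd).1 h

/-- The map into `GL`. -/
lemma isCyclic_of_dvd (hF : Fintype.card F = 2 ^ (2 * m + 1)) {p : ℕ} [Fact p.Prime] (hp : p ≠ 2)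
    (hpq : p ∣ (2 ^ (2 * m + 1)) ^ 2 + 1) (P : Subgroup ↥(Sz F m)) (hP : IsPGroup p P) : IsCyclic P := by
  have hpp : p.Prime := Fact.out
  set q := 2 ^ (2 * m + 1) with hq
  let ψ : ↥(Sz F m) →* GL (Fin 4) F := (Matrix.SpecialLinearGroup.toGL).comp (Sz F m).subtype
  have hψ : Function.Injective ψ := by
    intro a b h
    apply Subtype.ext
    apply Subtype.ext
    have := congrArg (fun x : GL (Fin 4) F => (x : Matrix (Fin 4) (Fin 4) F)) h
    exact this
  have hmap : IsPGroup p (P.map ψ) := hP.map ψ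
  obtain ⟨Q, hQ⟩ := hmap.exists_le_sylow
  have hrq : ¬ p ∣ q := by
    intro h
    have := hpp.dvd_of_dvd_pow h
    exact hp ((Nat.prime_dvd_prime_iff_eq hpp Nat.prime_two).1 this)
  have hord : orderOf (q : ZMod p) = 4 := by
    have h1 : ((q : ZMod p)) ^ 2 = -1 := by
      have h2 : ((q ^ 2 + 1 : ℕ) : ZMod p) = 0 := (ZMod.natCast_eq_zero_iff _ _).2 hpq
      push_cast at h2
      linear_combination h2
    have h21 : (-1 : ZMod p) ≠ 1 := by
      haveI : Fact (2 < p) := ⟨by
        have := hpp.two_le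
        omega⟩
      exact ZMod.neg_one_ne_one
    have := orderOf_eq_prime_pow (x := (q : ZMod p)) (p := 2) (n := 1) (by
        rw [show 2 ^ (1) = 2 by norm_num, h1]
        exact h21) (by
        rw [show 2 ^ (1 + 1) = 2 * 2 by norm_num, pow_mul, h1]
        norm_num)
    simpa using this
  obtain ⟨e⟩ := sylow_GL (F := F) hF 4 p hrq (by
    rw [hord]
    have := hpp.two_le
    omega) Q
  rw [hord] at e
  have hcyc : IsCyclic ↥(Q : Subgroup (GL (Fin 4) F)) := by
    haveI : Unique (Fin (4 / 4)) := inferInstanceAs (Unique (Fin 1))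
    have e' : ↥(Q : Subgroup (GL (Fin 4) F)) ≃* Multiplicative (ZMod (p ^ padicValNat p ((Polynomial.cyclotomic 4 ℤ).eval (q : ℤ)).natAbs)) :=
      e.trans (MulEquiv.piUnique _)
    exact isCyclic_of_surjective e'.symm e'.symm.surjective
  let f : P →* ↥(Q : Subgroup (GL (Fin 4) F)) :=
    MonoidHom.mk' (fun g => ⟨ψ g.1, hQ ⟨g.1, g.2, rfl⟩⟩) (by
      intro a b
      apply Subtype.ext
      exact map_mul ψ _ _)
  have hf : Function.Injective f := by
    intro a b h
    apply Subtype.ext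
    exact hψ (congrArg Subtype.val h)
  exact isCyclic_of_injective f hf

/-- Sylow `p`-subgroups for odd `p` are cyclic. -/
theorem isCyclic_sylow_odd (hm : 1 ≤ m) (hF : Fintype.card F = 2 ^ (2 * m + 1)) {p : ℕ} [Fact p.Prime] (hp : p ≠ 2)
    (P : Subgroup ↥(Sz F m)) (hP : IsPGroup p P) : IsCyclic P := by
  by_cases hpq : p ∣ (2 ^ (2 * m + 1)) ^ 2 + 1
  · exact isCyclic_of_dvd hF hp hpq P hP
  · obtain ⟨c, hc, hfix⟩ := exists_fixed_of_pGroup hF hpq P hP
    obtain ⟨k, hk, hkc⟩ := exists_to_pt hF hc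
    exact isCyclic_of_le_B hm hF hp P hP ⟨k, hk⟩ (fun g hg => by
      have := hfix g hg
      rw [← hkc] at this
      exact this)

end Cfsg.Agent.H10
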