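import Mathlib

/-! Schur's lemma and Wedderburn for an element of `M₄(F)` of prime order `p`, where `q² ≡ -1` mod `p`. -/

set_option autoImplicit false
set_option linter.unusedSectionVars false
set_option linter.unusedSimpArgs false
set_option linter.style.haveILetI false

namespace Cfsg.Agent.H10

open Matrix

section

variable {F : Type*} [Field F] [Fintype F] {p : ℕ} [Fact p.Prime]

abbrev M4 (F : Type*) [Field F] := Matrix (Fin 4) (Fin 4) F

/-- The only small power of `q` congruent to `1` is the trivial one. -/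
lemma sz_pow_cases {Q : ZMod p} (hQ : Q ^ 2 = -1) (h21 : (-1 : ZMod p) ≠ 1) {d : ℕ} (hd : d ≤ 3) (h : Q ^ d = 1) :
    d = 0 := by
  interval_cases d
  · rfl
  · exfalso
    rw [pow_one] at h
    rw [h, one_pow] at hQ
    exact h21 hQ.symm
  · exfalso
    rw [hQ] at h
    exact h21 h
  · exfalso
    have h1 : Q ^ 3 = Q ^ 2 * Q := by ring
    rw [h1, hQ] at h
    have h2 : Q = -1 := by linear_combination -h
    rw [h2] at hQ
    apply h21
    rw [← hQ]
    ring

/-- The space of fixed vectors. -/
def szFixSub (z : M4 F) : Submodule F (Fin 4 → F) := LinearMap.ker (Matrix.mulVecLin (z - 1))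

lemma mem_szFixSub {z : M4 F} {v : Fin 4 → F} : v ∈ szFixSub z ↔ z *ᵥ v = v := by
  rw [szFixSub, LinearMap.mem_ker, Matrix.mulVecLin_apply, Matrix.sub_mulVec, Matrix.one_mulVec, sub_eq_zero]

/-- Counting modulo `p`. -/
lemma card_invariant_modEq (z : M4 F) (hz : z ^ p = 1) (W : Submodule F (Fin 4 → F))
    (hW : ∀ v ∈ W, z *ᵥ v ∈ W) :
    ((Fintype.card F : ℕ) : ZMod p) ^ Module.finrank F W =
      ((Fintype.card F : ℕ) : ZMod p) ^ Module.finrank F ↥(W ⊓ szFixSub z) := by
  classical
  let f : Function.End ↥W := fun v => ⟨z *ᵥ v.1, hW v.1 v.2⟩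
  have hpow : ∀ (n : ℕ) (v : ↥W), ((f ^ n) v).1 = (z ^ n) *ᵥ v.1 := by
    intro n
    induction n with
    | zero =>
      intro v
      rw [pow_zero, pow_zero, Matrix.one_mulVec]
      rfl
    | succ n ih =>
      intro v
      rw [pow_succ', pow_succ']
      show (f ((f ^ n) v)).1 = _
      show z *ᵥ ((f ^ n) v).1 = _
      rw [ih, Matrix.mulVec_mulVec]
  have hf : f ^ p ^ 1 = 1 := by
    funext v
    apply Subtype.ext
    rw [pow_one, hpow, hz, Matrix.one_mulVec]
    rfl
  have h := Equiv.Perm.card_fixedPoints_modEq hf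
  have hfix : Fintype.card (Function.fixedPoints f) = Fintype.card ↥(W ⊓ szFixSub z) := by
    apply Fintype.card_congr
    refine ⟨fun v => ⟨v.1.1, v.1.2, mem_szFixSub.2 (congrArg Subtype.val v.2)⟩,
      fun v => ⟨⟨v.1, v.2.1⟩, Subtype.ext (mem_szFixSub.1 v.2.2)⟩, ?_, ?_⟩
    · intro v
      rfl
    · intro v
      rfl
  rw [hfix, Module.card_eq_pow_finrank (K := F) (V := ↥W), Module.card_eq_pow_finrank (K := F) (V := ↥(W ⊓ szFixSub z))] at h
  have h2 := (ZMod.natCast_eq_natCast_iff _ _ p).2 h
  push_cast at h2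
  exact h2

/-- An element of prime order with no small invariant subspaces: the Schur hypothesis. -/
def SzIrr (z : M4 F) : Prop :=
  ∀ W : Submodule F (Fin 4 → F), (∀ v ∈ W, z *ᵥ v ∈ W) → W ≠ ⊥ → W = ⊤

theorem szIrr_of_prime_order (z : M4 F) (hz : z ^ p = 1) (hz1 : z ≠ 1)
    (hQ : ((Fintype.card F : ℕ) : ZMod p) ^ 2 = -1) (h21 : (-1 : ZMod p) ≠ 1) : SzIrr z := by
  classical
  set Q := ((Fintype.card F : ℕ) : ZMod p) with hQdef
  have hQ4 : Q ^ 4 = 1 := by
    calc Q ^ 4 = (Q ^ 2) ^ 2 := by ring
      _ = 1 := by rw [hQ]; ring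
  have hfr : Module.finrank F (Fin 4 → F) = 4 := by simp
  -- no fixed vectors
  have hfix0 : szFixSub z = ⊥ := by
    have h1 := card_invariant_modEq z hz ⊤ (fun _ _ => Submodule.mem_top)
    rw [← hQdef, top_inf_eq, finrank_top, hfr, hQ4] at h1
    have h2 : Module.finrank F ↥(szFixSub z) ≤ 4 :=
      (Submodule.finrank_le _).trans hfr.le
    have h3 : Module.finrank F ↥(szFixSub z) ≠ 4 := by
      intro h4
      have h5 : szFixSub z = ⊤ := Submodule.eq_top_of_finrank_eq (by rw [h4, hfr])
      apply hz1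
      ext i j
      have h6 := mem_szFixSub.1 (show (Pi.single j 1 : Fin 4 → F) ∈ szFixSub z by rw [h5]; exact Submodule.mem_top)
      have h7 := congrFun h6 i
      rw [Matrix.mulVec_single_one] at h7
      simpa [Matrix.one_apply, Pi.single_apply, eq_comm] using h7
    have h4 := sz_pow_cases hQ h21 (d := Module.finrank F ↥(szFixSub z)) (by omega) h1.symm
    exact Submodule.finrank_eq_zero.1 h4
  intro W hW hW0
  have h1 := card_invariant_modEq z hz W hW
  rw [← hQdef, hfix0, inf_bot_eq, finrank_bot, pow_zero] at h1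
  have h2 : Module.finrank F ↥W ≤ 4 :=
    (Submodule.finrank_le _).trans hfr.le
  by_cases h3 : Module.finrank F ↥W = 4
  · exact Submodule.eq_top_of_finrank_eq (by rw [h3, hfr])
  · exfalso
    have h4 := sz_pow_cases hQ h21 (d := Module.finrank F ↥W) (by omega) h1
    exact hW0 (Submodule.finrank_eq_zero.1 h4)

/-- A non-zero matrix commuting with `z` is injective. -/
lemma szIrr_injective {z : M4 F} (hz : SzIrr z) {a : M4 F} (ha : a * z = z * a) (ha0 : a ≠ 0) {v : Fin 4 → F}
    (hv : a *ᵥ v = 0) : v = 0 := by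
  by_contra hv0
  have h1 : LinearMap.ker (Matrix.mulVecLin a) = ⊤ := by
    apply hz
    · intro w hw
      rw [LinearMap.mem_ker, Matrix.mulVecLin_apply] at hw ⊢
      rw [Matrix.mulVec_mulVec, ha, ← Matrix.mulVec_mulVec, hw, Matrix.mulVec_zero]
    · intro h
      apply hv0
      have : v ∈ LinearMap.ker (Matrix.mulVecLin a) := by
        rw [LinearMap.mem_ker, Matrix.mulVecLin_apply]
        exact hv
      rw [h] at this
      simpa using this
  apply ha0
  ext i j
  have h2 : (Pi.single j 1 : Fin 4 → F) ∈ LinearMap.ker (Matrix.mulVecLin a) := by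
    rw [h1]
    exact Submodule.mem_top
  rw [LinearMap.mem_ker, Matrix.mulVecLin_apply, Matrix.mulVec_single_one] at h2
  simpa using congrFun h2 i

/-- The commutant. -/
abbrev szComm (z : M4 F) : Subalgebra F (M4 F) := Subalgebra.centralizer F ({z} : Set (M4 F))

lemma mem_szComm {z a : M4 F} : a ∈ szComm z ↔ z * a = a * z := by
  rw [Subalgebra.mem_centralizer_iff]
  simp

instance instFiniteM4 : Finite (M4 F) := by
  classical
  infer_instance

theorem szComm_isDomain {z : M4 F} (hz : SzIrr z) : IsDomain ↥(szComm z) := by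
  haveI : Nontrivial ↥(szComm z) := inferInstance
  haveI : NoZeroDivisors ↥(szComm z) := ⟨by
    rintro ⟨a, ha⟩ ⟨b, hb⟩ h
    by_contra hcon
    push Not at hcon
    have ha0 : a ≠ 0 := fun h0 => hcon.1 (Subtype.ext h0)
    have hb0 : b ≠ 0 := fun h0 => hcon.2 (Subtype.ext h0)
    have hab : a * b = 0 := congrArg Subtype.val h
    apply hb0
    ext i j
    have h1 : b *ᵥ (Pi.single j 1 : Fin 4 → F) = 0 := by
      apply szIrr_injective hz (mem_szComm.1 ha).symm ha0
      rw [Matrix.mulVec_mulVec, hab, Matrix.zero_mulVec]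
    rw [Matrix.mulVec_single_one] at h1
    simpa using congrFun h1 i⟩
  exact NoZeroDivisors.to_isDomain _

theorem szComm_mul_comm {z : M4 F} (hz : SzIrr z) {a b : M4 F} (ha : a * z = z * a) (hb : b * z = z * b) :
    a * b = b * a := by
  haveI := szComm_isDomain hz
  haveI : Finite ↥(szComm z) := Finite.of_injective (fun x : ↥(szComm z) => x.1) Subtype.val_injective
  have h := (Finite.isDomain_to_isField ↥(szComm z)).mul_comm
    ⟨a, mem_szComm.2 ha.symm⟩ ⟨b, mem_szComm.2 hb.symm⟩
  exact congrArg Subtype.val h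

/-- The commutant as a field. -/
noncomputable abbrev szCommField {z : M4 F} (hz : SzIrr z) : Field ↥(szComm z) :=
  haveI := szComm_isDomain hz
  haveI : Finite ↥(szComm z) := Finite.of_injective (fun x : ↥(szComm z) => x.1) Subtype.val_injective
  (Finite.isDomain_to_isField ↥(szComm z)).toField

/-- A finite group of matrices commuting with `z` is cyclic. -/
theorem isCyclic_of_comm {z : M4 F} (hz : SzIrr z) {H : Type*} [Group H] [Finite H] (f : H →* M4 F)
    (hf : Function.Injective f) (hc : ∀ h : H, f h * z = z * f h) : IsCyclic H := by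
  letI := szCommField hz
  let g : H →* ↥(szComm z) :=
    { toFun := fun h => ⟨f h, mem_szComm.2 (hc h).symm⟩
      map_one' := Subtype.ext (map_one f)
      map_mul' := fun a b => Subtype.ext (map_mul f a b) }
  have hg : Function.Injective g := fun a b h => hf (congrArg Subtype.val h)
  exact isCyclic_of_subgroup_isDomain g hg

/-- At most four conjugates of `z` commute with `z`. -/
theorem card_conj_le {z : M4 F} (hz : SzIrr z) (S : Finset (M4 F)) (hS : ∀ s ∈ S, s * z = z * s ∧ s.charpoly = z.charpoly) :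
    S.card ≤ 4 := by
  classical
  letI := szCommField hz
  have hinj : Function.Injective (fun x : ↥(szComm z) => (x : M4 F)) := Subtype.val_injective
  -- the elements of `S`, in the field
  let f : ↥S → ↥(szComm z) := fun s => ⟨s.1, mem_szComm.2 (hS s.1 s.2).1.symm⟩
  have hfinj : Function.Injective f := fun a b h =>
    Subtype.ext (congrArg (fun x : ↥(szComm z) => (x : M4 F)) h)
  let P : Polynomial ↥(szComm z) := z.charpoly.map (algebraMap F ↥(szComm z))
  have hP0 : P ≠ 0 := by
    apply Polynomial.map_ne_zero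
    exact (Matrix.charpoly_monic z).ne_zero
  have hdeg : P.natDegree = 4 := by
    rw [Polynomial.natDegree_map, Matrix.charpoly_natDegree_eq_dim]
    simp
  let Z : Finset ↥(szComm z) := Finset.univ.image f
  have hZ : Z.val ⊆ P.roots := by
    intro x hx
    have hx' : x ∈ Z := hx
    obtain ⟨s, -, rfl⟩ := Finset.mem_image.1 hx'
    rw [Polynomial.mem_roots hP0, Polynomial.IsRoot.def, Polynomial.eval_map_algebraMap]
    apply Subtype.ext
    show ((Polynomial.aeval (f s)) z.charpoly : ↥(szComm z)).1 = 0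
    have h1 : ((Polynomial.aeval (f s)) z.charpoly : ↥(szComm z)).1 = Polynomial.aeval (s.1 : M4 F) z.charpoly :=
      (Polynomial.aeval_algHom_apply (szComm z).val (f s) z.charpoly).symm
    rw [h1, ← (hS s.1 s.2).2, Matrix.aeval_self_charpoly]
  have h := Polynomial.card_le_degree_of_subset_roots hZ
  rw [hdeg, Finset.card_image_of_injective _ hfinj, Finset.card_univ, Fintype.card_coe] at h
  exact h

end

end Cfsg.Agent.H10
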