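import Mathlib
import Cfsg.Agent.Lib.H10.SzOdd
import Cfsg.Agent.Lib.H10.SzSchur

/-! The Suzuki group: elements according to their fixed points; centralisers. -/

set_option autoImplicit false
set_option linter.unusedSectionVars false
set_option linter.unusedSimpArgs false
set_option linter.style.haveILetI false

namespace Cfsg.Agent.H10

open Matrix Cfsg
open scoped Pointwise commutatorElement

variable {F : Type*} [Field F] [Fintype F] [CharP F 2] {m : ℕ}

/-- Fixed-point-free elements. -/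
def IsFpf (x : ↥(Sz F m)) : Prop := ∀ c ∈ suzukiOvoid F m, x • c ≠ c

/-- An element whose order is a power of a prime not dividing `q² + 1` fixes a point. -/
lemma exists_fix_of_pow (hF : Fintype.card F = 2 ^ (2 * m + 1)) (x : ↥(Sz F m)) {p n : ℕ} [Fact p.Prime]
    (h : x ^ (p ^ n) = 1) (hp : ¬ p ∣ (2 ^ (2 * m + 1)) ^ 2 + 1) : ∃ c ∈ suzukiOvoid F m, x • c = c := by
  have hP : IsPGroup p (Subgroup.zpowers x) := by
    rintro ⟨g, k, rfl⟩
    refine ⟨n, Subtype.ext ?_⟩
    show (x ^ k) ^ (p ^ n) = 1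
    rw [← zpow_natCast, ← _root_.zpow_mul, mul_comm, _root_.zpow_mul, zpow_natCast, h, _root_.one_zpow]
  obtain ⟨c, hc, hfix⟩ := exists_fixed_of_pGroup hF hp _ hP
  exact ⟨c, hc, hfix x (Subgroup.mem_zpowers x)⟩

lemma odd_q_sq_add_one (m : ℕ) : ¬ 2 ∣ (2 ^ (2 * m + 1)) ^ 2 + 1 := by
  have h1 : 2 ∣ (2 ^ (2 * m + 1)) ^ 2 := dvd_pow (dvd_pow_self 2 (by omega)) (by norm_num)
  omega

/-- Involutions fix a point. -/
lemma exists_fix_of_sq (hF : Fintype.card F = 2 ^ (2 * m + 1)) (x : ↥(Sz F m)) (h : x ^ 2 = 1) :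
    ∃ c ∈ suzukiOvoid F m, x • c = c :=
  exists_fix_of_pow hF x (p := 2) (n := 1) (by simpa using h) (odd_q_sq_add_one m)

/-- Two points can be moved to the standard pair. -/
lemma exists_pair_G (hF : Fintype.card F = 2 ^ (2 * m + 1)) {c d : Projectivization F (Fin 4 → F)}
    (hc : c ∈ suzukiOvoid F m) (hd : d ∈ suzukiOvoid F m) (hcd : c ≠ d) :
    ∃ k : ↥(Sz F m), k • suzukiPointInfinity F = c ∧ k • szPt m (0 : F) 0 = d := by
  obtain ⟨k, hk, h1, h2⟩ := exists_to_pair hF hc hd hcd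
  exact ⟨⟨k, hk⟩, h1, h2⟩

lemma exists_pt_G (hF : Fintype.card F = 2 ^ (2 * m + 1)) {c : Projectivization F (Fin 4 → F)}
    (hc : c ∈ suzukiOvoid F m) : ∃ k : ↥(Sz F m), k • suzukiPointInfinity F = c := by
  obtain ⟨k, hk, h1⟩ := exists_to_pt hF hc
  exact ⟨⟨k, hk⟩, h1⟩

lemma smul_mem_ovoid (x : ↥(Sz F m)) {c : Projectivization F (Fin 4 → F)} (hc : c ∈ suzukiOvoid F m) :
    x • c ∈ suzukiOvoid F m := (maps_of_mem x.2).2 hc

/-- An element fixing the standard pair is in the torus. -/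
lemma fix_two_G (hm : 1 ≤ m) (hF : Fintype.card F = 2 ^ (2 * m + 1)) {y : ↥(Sz F m)}
    (h1 : y • suzukiPointInfinity F = suzukiPointInfinity F) (h2 : y • szPt m (0 : F) 0 = szPt m (0 : F) 0) :
    ∃ l : Fˣ, y = hG hF l := by
  obtain ⟨l, hl⟩ := fix_two hm hF y.2 h1 h2
  exact ⟨l, Subtype.ext hl⟩

/-- An element swapping the standard pair. -/
lemma swap_G (hm : 1 ≤ m) (hF : Fintype.card F = 2 ^ (2 * m + 1)) {y : ↥(Sz F m)}
    (h1 : y • suzukiPointInfinity F = szPt m (0 : F) 0) (h2 : y • szPt m (0 : F) 0 = suzukiPointInfinity F) :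
    ∃ l : Fˣ, y = wG hF * hG hF l := by
  obtain ⟨l, hl⟩ := fix_two_G hm hF (y := wG hF * y) (by rw [mul_smul, h1, wG_zero]) (by rw [mul_smul, h2, wG_infty])
  refine ⟨l, ?_⟩
  rw [← hl, ← mul_assoc, wG_mul_self, one_mul]

/-- An element swapping two points is an involution. -/
lemma sq_of_swap (hm : 1 ≤ m) (hF : Fintype.card F = 2 ^ (2 * m + 1)) {x : ↥(Sz F m)}
    {c d : Projectivization F (Fin 4 → F)} (hc : c ∈ suzukiOvoid F m) (hd : d ∈ suzukiOvoid F m) (hcd : c ≠ d)
    (h1 : x • c = d) (h2 : x • d = c) : x ^ 2 = 1 := by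
  obtain ⟨k, hk1, hk2⟩ := exists_pair_G hF hc hd hcd
  obtain ⟨l, hl⟩ := swap_G hm hF (y := k⁻¹ * x * k) (by
      rw [mul_smul, mul_smul, hk1, h1, inv_smul_eq_iff, hk2]) (by
      rw [mul_smul, mul_smul, hk2, h2, inv_smul_eq_iff, hk1])
  have e1 : (wG hF * hG hF l) ^ 2 = 1 := by
    rw [sq]
    have e2 := wG_hG hF l
    calc wG hF * hG hF l * (wG hF * hG hF l) = (wG hF * hG hF l * wG hF) * hG hF l := by
          simp only [mul_assoc]
      _ = 1 := by rw [e2, hG_mul, inv_mul_cancel, hG_one]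
  have e3 : x = k * (wG hF * hG hF l) * k⁻¹ := by
    rw [← hl]
    group
  rw [e3, conj_pow, e1, mul_one, mul_inv_cancel]

/-- An element with no fixed points does not swap two points. -/
lemma fpf_no_swap (hm : 1 ≤ m) (hF : Fintype.card F = 2 ^ (2 * m + 1)) {x : ↥(Sz F m)} (hx : IsFpf x)
    {c : Projectivization F (Fin 4 → F)} (hc : c ∈ suzukiOvoid F m) : x • (x • c) ≠ c := by
  intro h
  have h1 : x ^ 2 = 1 := sq_of_swap hm hF hc (smul_mem_ovoid x hc) (hx c hc).symm rfl h
  obtain ⟨d, hd, h2⟩ := exists_fix_of_sq hF x h1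
  exact hx d hd h2

/-- Elements commuting with a fixed-point-free element have no fixed points. -/
theorem fpf_of_commute (hm : 1 ≤ m) (hF : Fintype.card F = 2 ^ (2 * m + 1)) {x y : ↥(Sz F m)} (hx : IsFpf x)
    (hxy : y * x = x * y) (hy : y ≠ 1) : IsFpf y := by
  intro c hc hyc
  have hyx : ∀ p : Projectivization F (Fin 4 → F), y • p = p → y • (x • p) = x • p := by
    intro p hp
    rw [← mul_smul, hxy, mul_smul, hp]
  have h1 := hyx c hyc
  have h2 := hyx _ h1
  have h3 : c ≠ x • c := (hx c hc).symm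
  have h4 : x • c ≠ x • (x • c) := (hx _ (smul_mem_ovoid x hc)).symm
  have h5 : c ≠ x • (x • c) := (fpf_no_swap hm hF hx hc).symm
  apply hy
  apply Subtype.ext
  exact eq_one_of_fix_three hm hF y.2 hc (smul_mem_ovoid x hc) (smul_mem_ovoid x (smul_mem_ovoid x hc)) h3 h4 h5 hyc h1 h2

lemma one_not_fpf (x : ↥(Sz F m)) (hx : IsFpf x) : x ≠ 1 := by
  rintro rfl
  exact hx _ inf_mem_ovoid (one_smul _ _)

/-- The embedding into matrices. -/
def mHom : ↥(Sz F m) →* M4 F where
  toFun g := ((g : SL4 F) : Matrix (Fin 4) (Fin 4) F)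
  map_one' := rfl
  map_mul' _ _ := rfl

lemma mHom_injective : Function.Injective (mHom (F := F) (m := m)) := by
  intro a b h
  apply Subtype.ext
  apply Subtype.ext
  exact h

/-- The prime-order element in the cyclic group generated by a fixed-point-free element acts irreducibly. -/
theorem exists_irr (hm : 1 ≤ m) (hF : Fintype.card F = 2 ^ (2 * m + 1)) {x : ↥(Sz F m)} (hx : IsFpf x) :
    ∃ (z : ↥(Sz F m)) (k : ℕ), z = x ^ k ∧ z ≠ 1 ∧ SzIrr (mHom z) := by
  have hx1 : x ≠ 1 := one_not_fpf x hx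
  have hord : orderOf x ≠ 1 := by
    rwa [Ne, orderOf_eq_one_iff]
  have hpos : 0 < orderOf x := orderOf_pos x
  set p := (orderOf x).minFac with hp
  have hpp : p.Prime := Nat.minFac_prime hord
  haveI : Fact p.Prime := ⟨hpp⟩
  have hpdvd : p ∣ orderOf x := Nat.minFac_dvd _
  set z := x ^ (orderOf x / p) with hz
  have hzord : orderOf z = p := orderOf_pow_orderOf_div hpos.ne' hpdvd
  have hz1 : z ≠ 1 := by
    intro h
    rw [h, orderOf_one] at hzord
    exact hpp.one_lt.ne hzord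
  have hzp : z ^ p = 1 := by
    rw [← hzord]
    exact pow_orderOf_eq_one z
  have hzfpf : IsFpf z := fpf_of_commute hm hF hx (by rw [hz, ← pow_succ, ← pow_succ']) hz1
  have hdvd : p ∣ (2 ^ (2 * m + 1)) ^ 2 + 1 := by
    by_contra hcon
    obtain ⟨c, hc, h⟩ := exists_fix_of_pow hF z (p := p) (n := 1) (by rwa [pow_one]) hcon
    exact hzfpf c hc h
  have hp2 : p ≠ 2 := by
    rintro h
    rw [h] at hdvd
    exact odd_q_sq_add_one m hdvd
  refine ⟨z, _, rfl, hz1, ?_⟩
  apply szIrr_of_prime_order (p := p)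
  · rw [← map_pow, hzp, map_one]
  · intro h
    apply hz1
    apply mHom_injective
    rw [h, map_one]
  · have h2 : (((2 ^ (2 * m + 1)) ^ 2 + 1 : ℕ) : ZMod p) = 0 := (ZMod.natCast_eq_zero_iff _ _).2 hdvd
    rw [hF]
    push_cast at h2 ⊢
    linear_combination h2
  · haveI : Fact (2 < p) := ⟨by
      have := hpp.two_le
      omega⟩
    exact ZMod.neg_one_ne_one

/-- The centraliser of a fixed-point-free element is abelian. -/
theorem comm_of_fpf (hm : 1 ≤ m) (hF : Fintype.card F = 2 ^ (2 * m + 1)) {x a b : ↥(Sz F m)} (hx : IsFpf x)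
    (ha : a * x = x * a) (hb : b * x = x * b) : a * b = b * a := by
  obtain ⟨z, k, rfl, -, hz⟩ := exists_irr hm hF hx
  apply mHom_injective
  rw [map_mul, map_mul]
  apply szComm_mul_comm hz
  · rw [← map_mul, ← map_mul, (Commute.pow_right (show Commute a x from ha) k).eq]
  · rw [← map_mul, ← map_mul, (Commute.pow_right (show Commute b x from hb) k).eq]

/-- The centraliser of a fixed-point-free element is cyclic. -/
theorem isCyclic_centralizer_fpf (hm : 1 ≤ m) (hF : Fintype.card F = 2 ^ (2 * m + 1)) {x : ↥(Sz F m)} (hx : IsFpf x) :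
    IsCyclic ↥(Subgroup.centralizer ({x} : Set ↥(Sz F m))) := by
  obtain ⟨z, k, rfl, -, hz⟩ := exists_irr hm hF hx
  apply isCyclic_of_comm hz ((mHom (F := F) (m := m)).comp (Subgroup.centralizer ({x} : Set ↥(Sz F m))).subtype)
  · intro a b h
    exact Subtype.ext (mHom_injective h)
  · rintro ⟨a, ha⟩
    have ha' : a * x = x * a := Subgroup.mem_centralizer_singleton_iff.1 ha
    show mHom a * mHom (x ^ k) = mHom (x ^ k) * mHom a
    rw [← map_mul, ← map_mul, (Commute.pow_right (show Commute a x from ha') k).eq]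

/-- The centraliser does not change on non-identity elements. -/
theorem centralizer_eq_of_fpf (hm : 1 ≤ m) (hF : Fintype.card F = 2 ^ (2 * m + 1)) {x y : ↥(Sz F m)} (hx : IsFpf x)
    (hxy : y * x = x * y) (hy : y ≠ 1) :
    Subgroup.centralizer ({y} : Set ↥(Sz F m)) = Subgroup.centralizer ({x} : Set ↥(Sz F m)) := by
  have hyf := fpf_of_commute hm hF hx hxy hy
  ext g
  rw [Subgroup.mem_centralizer_singleton_iff, Subgroup.mem_centralizer_singleton_iff]
  constructor
  · intro hg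
    exact comm_of_fpf hm hF hyf hg hxy.symm
  · intro hg
    exact comm_of_fpf hm hF hx hg hxy

/-- A group acting freely on the ovoid has order dividing `q² + 1`. -/
theorem card_dvd_of_free (hF : Fintype.card F = 2 ^ (2 * m + 1)) (H : Subgroup ↥(Sz F m))
    (hH : ∀ g ∈ H, g ≠ 1 → IsFpf g) : Nat.card H ∣ (2 ^ (2 * m + 1)) ^ 2 + 1 := by
  have hfree : ∀ b : ↥(suzukiOvoid F m), MulAction.stabilizer H b = ⊥ := by
    intro b
    rw [eq_bot_iff]
    rintro ⟨g, hg⟩ hgb
    rw [Subgroup.mem_bot]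
    by_contra hne
    have hg1 : g ≠ 1 := fun h => hne (Subtype.ext h)
    apply hH g hg hg1 b.1 b.2
    exact congrArg Subtype.val hgb
  have e := MulAction.selfEquivOrbitsQuotientProd hfree
  have h1 := Nat.card_congr e
  rw [card_ovoid, hF, Nat.card_prod] at h1
  exact ⟨_, h1.trans (mul_comm _ _)⟩

/-- The three kinds of non-trivial elements. -/
theorem fixed_cases (x : ↥(Sz F m)) :
    IsFpf x ∨ (∃ c ∈ suzukiOvoid F m, x • c = c ∧ ∀ d ∈ suzukiOvoid F m, x • d = d → d = c) ∨
      (∃ c ∈ suzukiOvoid F m, ∃ d ∈ suzukiOvoid F m, c ≠ d ∧ x • c = c ∧ x • d = d) := by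
  by_cases h : IsFpf x
  · exact Or.inl h
  right
  unfold IsFpf at h
  push Not at h
  obtain ⟨c, hc, hxc⟩ := h
  by_cases h2 : ∀ d ∈ suzukiOvoid F m, x • d = d → d = c
  · exact Or.inl ⟨c, hc, hxc, h2⟩
  · push Not at h2
    obtain ⟨d, hd, hxd, hne⟩ := h2
    exact Or.inr ⟨c, hc, d, hd, hne.symm, hxc, hxd⟩

/-- An element fixing two points has abelian centraliser; indeed the centraliser fixes both points. -/
theorem centralizer_fix_of_two (hm : 1 ≤ m) (hF : Fintype.card F = 2 ^ (2 * m + 1)) {x y : ↥(Sz F m)} (hx1 : x ≠ 1)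
    {c d : Projectivization F (Fin 4 → F)} (hc : c ∈ suzukiOvoid F m) (hd : d ∈ suzukiOvoid F m) (hcd : c ≠ d)
    (h1 : x • c = c) (h2 : x • d = d) (hy : y * x = x * y) : y • c = c ∧ y • d = d := by
  have hfix : ∀ p ∈ suzukiOvoid F m, x • p = p → p = c ∨ p = d := by
    intro p hp hxp
    by_contra hcon
    push Not at hcon
    apply hx1
    apply Subtype.ext
    exact eq_one_of_fix_three hm hF x.2 hc hd hp hcd (Ne.symm hcon.2) (Ne.symm hcon.1) h1 h2 hxp
  have hyx : ∀ p : Projectivization F (Fin 4 → F), x • p = p → x • (y • p) = y • p := by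
    intro p hp
    rw [← mul_smul, ← hy, mul_smul, hp]
  rcases hfix _ (smul_mem_ovoid y hc) (hyx c h1) with h3 | h3
  · refine ⟨h3, ?_⟩
    rcases hfix _ (smul_mem_ovoid y hd) (hyx d h2) with h4 | h4
    · exfalso
      exact hcd (smul_left_cancel y (h3.trans h4.symm))
    · exact h4
  · -- `y` swaps the points
    exfalso
    rcases hfix _ (smul_mem_ovoid y hd) (hyx d h2) with h4 | h4
    · -- reduce to the standard pair
      obtain ⟨k, hk1, hk2⟩ := exists_pair_G hF hc hd hcd
      obtain ⟨l, hl⟩ := fix_two_G hm hF (y := k⁻¹ * x * k) (by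
          rw [mul_smul, mul_smul, hk1, h1, inv_smul_eq_iff, hk1]) (by
          rw [mul_smul, mul_smul, hk2, h2, inv_smul_eq_iff, hk2])
      obtain ⟨e, he⟩ := swap_G hm hF (y := k⁻¹ * y * k) (by
          rw [mul_smul, mul_smul, hk1, h3, inv_smul_eq_iff, hk2]) (by
          rw [mul_smul, mul_smul, hk2, h4, inv_smul_eq_iff, hk1])
      have hcomm : (wG hF * hG hF e) * hG hF l = hG hF l * (wG hF * hG hF e) := by
        rw [← he, ← hl]
        calc k⁻¹ * y * k * (k⁻¹ * x * k) = k⁻¹ * (y * x) * k := by group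
          _ = k⁻¹ * (x * y) * k := by rw [hy]
          _ = _ := by group
      -- `w h(e) h(l) = h(l) w h(e)`
      have e1 : hG hF l * wG hF = wG hF * hG hF l⁻¹ := hG_wG hF l
      rw [mul_assoc, hG_mul, ← mul_assoc (hG hF l), e1, mul_assoc, hG_mul] at hcomm
      have e2 := mul_left_cancel hcomm
      have e3 := hG_inj hF e2
      have e4 : l = l⁻¹ := by
        have : e * l = e * l⁻¹ := by
          rw [e3]
          exact mul_comm _ _
        exact mul_left_cancel this
      have e5 : l = 1 := by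
        have h6 : (l : F) * l = 1 := by
          have : (l : F) = ((l⁻¹ : Fˣ) : F) := congrArg _ e4
          nth_rw 1 [this]
          simp
        have h7 : ((l : F) + 1) ^ (2 ^ 1) = 0 := by
          rw [sz_add_pow]
          norm_num
          rw [sq, h6, sz_add_self]
        have h8 : (l : F) + 1 = 0 := pow_eq_zero_iff (by norm_num) |>.1 h7
        apply Units.ext
        rw [Units.val_one]
        calc (l : F) = (l : F) + 1 + 1 := by rw [add_assoc, sz_add_self, add_zero]
          _ = 1 := by rw [h8, zero_add]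
      apply hx1
      have : x = k * (k⁻¹ * x * k) * k⁻¹ := by group
      rw [this, hl, e5, hG_one, mul_one, mul_inv_cancel]
    · exact hcd (smul_left_cancel y (h3.trans h4.symm))

end Cfsg.Agent.H10
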