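import Mathlib
import Cfsg.Agent.Lib.H10.SzFpf

/-! The Suzuki group is a CN-group. -/

set_option autoImplicit false
set_option linter.unusedSectionVars false
set_option linter.unusedSimpArgs false
set_option linter.style.haveILetI false

namespace Cfsg.Agent.H10

open Matrix Cfsg
open scoped Pointwise commutatorElement

variable {F : Type*} [Field F] [Fintype F] [CharP F 2] {m : ℕ}

/-- `u(a, b) h(l)`, for `l ≠ 1`, fixes an affine point. -/
lemma exists_affine_fix (hF : Fintype.card F = 2 ^ (2 * m + 1)) (a b : F) (l : Fˣ) (hl : l ≠ 1) :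
    ∃ x y : F, (uG hF a b * hG hF l) • szPt m x y = szPt m x y := by
  have h1 := sz_add_one_ne l hl
  have h2 := sz_pow_add_one_ne hF l hl
  have h5 : (2 : F) = 0 := sz_two
  set X := a / ((l : F) + 1) with hX
  set Y := (b + a ^ (2 ^ (m + 1)) * ((l : F) * X)) / ((l : F) ^ (2 ^ (m + 1) + 1) + 1) with hY
  refine ⟨X, Y, ?_⟩
  rw [mul_smul, hG_smul, uG_smul]
  have hXe : ((l : F) + 1) * X = a := by
    rw [hX]
    field_simp
  have hYe : ((l : F) ^ (2 ^ (m + 1) + 1) + 1) * Y = b + a ^ (2 ^ (m + 1)) * ((l : F) * X) := by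
    rw [hY]
    field_simp
  congr 1
  · linear_combination -hXe + ((l : F) * X) * h5
  · generalize (l : F) ^ (2 ^ (m + 1) + 1) = L at hYe ⊢
    linear_combination -hYe + (L * Y) * h5

/-- An element of `B` with a unique fixed point is in `U`. -/
lemma unique_fix_U (hm : 1 ≤ m) (hF : Fintype.card F = 2 ^ (2 * m + 1)) {x : ↥(Sz F m)}
    (h1 : x • suzukiPointInfinity F = suzukiPointInfinity F)
    (h2 : ∀ d ∈ suzukiOvoid F m, x • d = d → d = suzukiPointInfinity F) : ∃ a b : F, x = uG hF a b := by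
  obtain ⟨a, b, l, rfl⟩ := (mem_B_iff hm hF x).1 h1
  by_cases hl : l = 1
  · subst hl
    exact ⟨a, b, by rw [hG_one, mul_one]⟩
  · exfalso
    obtain ⟨X, Y, h3⟩ := exists_affine_fix hF a b l hl
    exact szPt_ne_inf X Y (h2 _ (szPt_mem_ovoid X Y) h3)

/-- An element commuting with a non-trivial element of `U` (and fixing `∞`) is in `U`. -/
lemma commute_uG (hF : Fintype.card F = 2 ^ (2 * m + 1)) {a b c d : F} {l : Fˣ} (hne : a ≠ 0 ∨ b ≠ 0)
    (h : uG hF c d * hG hF l * uG hF a b = uG hF a b * (uG hF c d * hG hF l)) : l = 1 := by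
  have e1 : uG hF c d * hG hF l * uG hF a b =
      uG hF c d * uG hF ((l : F) * a) ((l : F) ^ (2 ^ (m + 1) + 1) * b) * hG hF l := by
    rw [mul_assoc, hG_uG, mul_assoc]
  have e2 : uG hF a b * (uG hF c d * hG hF l) = uG hF a b * uG hF c d * hG hF l := by
    rw [mul_assoc]
  rw [e1, e2, uG_mul, uG_mul] at h
  have h3 := uG_inj hF (mul_right_cancel h)
  apply Units.ext
  rw [Units.val_one]
  by_cases ha : a = 0
  · subst ha
    have hb : b ≠ 0 := hne.resolve_left (fun h => h rfl)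
    have h4 := h3.2
    rw [mul_zero, mul_zero, add_zero, zero_pow (by positivity), zero_mul, add_zero] at h4
    apply sz_pow_eq_one hF l.ne_zero
    have h5 : d + ((l : F) ^ (2 ^ (m + 1) + 1) * b) = d + (1 * b) := by
      rw [one_mul]
      linear_combination h4
    exact mul_right_cancel₀ hb (add_left_cancel h5)
  · have h4 := h3.1
    have h5 : c + (l : F) * a = c + 1 * a := by
      rw [one_mul, h4, add_comm]
    exact mul_right_cancel₀ ha (add_left_cancel h5)

/-- The centraliser of an element with a unique fixed point has exponent dividing `4`. -/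
theorem centralizer_pow_four (hm : 1 ≤ m) (hF : Fintype.card F = 2 ^ (2 * m + 1)) {x y : ↥(Sz F m)} (hx1 : x ≠ 1)
    {c : Projectivization F (Fin 4 → F)} (hc : c ∈ suzukiOvoid F m) (h1 : x • c = c)
    (h2 : ∀ d ∈ suzukiOvoid F m, x • d = d → d = c) (hy : y * x = x * y) : y ^ 4 = 1 := by
  obtain ⟨k, hk⟩ := exists_pt_G hF hc
  have hyc : y • c = c := by
    apply h2 _ (smul_mem_ovoid y hc)
    rw [← mul_smul, ← hy, mul_smul, h1]
  obtain ⟨a, b, hab⟩ := unique_fix_U hm hF (x := k⁻¹ * x * k) (by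
      rw [mul_smul, mul_smul, hk, h1, inv_smul_eq_iff, hk]) (by
      intro d hd hxd
      have h3 : k • d = c := by
        apply h2 _ (smul_mem_ovoid k hd)
        conv_rhs => rw [← hxd]
        rw [mul_smul, mul_smul, smul_inv_smul]
      rw [← hk] at h3
      exact smul_left_cancel k h3)
  obtain ⟨c', d', l, hcd⟩ := (mem_B_iff hm hF (k⁻¹ * y * k)).1 (by
    show (k⁻¹ * y * k) • suzukiPointInfinity F = suzukiPointInfinity F
    rw [mul_smul, mul_smul, hk, hyc, inv_smul_eq_iff, hk])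
  have hne : a ≠ 0 ∨ b ≠ 0 := by
    by_contra hcon
    push Not at hcon
    obtain ⟨rfl, rfl⟩ := hcon
    rw [uG_zero] at hab
    apply hx1
    have : x = k * (k⁻¹ * x * k) * k⁻¹ := by group
    rw [this, hab, mul_one, mul_inv_cancel]
  have hcomm : uG hF c' d' * hG hF l * uG hF a b = uG hF a b * (uG hF c' d' * hG hF l) := by
    rw [← hcd, ← hab]
    calc k⁻¹ * y * k * (k⁻¹ * x * k) = k⁻¹ * (y * x) * k := by group
      _ = k⁻¹ * (x * y) * k := by rw [hy]
      _ = _ := by group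
  have hl := commute_uG hF hne hcomm
  rw [hl, hG_one, mul_one] at hcd
  have : y = k * (k⁻¹ * y * k) * k⁻¹ := by group
  rw [this, hcd, conj_pow, uG_pow_four, mul_one, mul_inv_cancel]

lemma nilpotent_of_comm {H : Type*} [Group H] (h : ∀ a b : H, a * b = b * a) : Group.IsNilpotent H := by
  letI : CommGroup H := { ‹Group H› with mul_comm := h }
  exact CommGroup.isNilpotent

/-- The CN property. -/
theorem isCN_Sz (hm : 1 ≤ m) (hF : Fintype.card F = 2 ^ (2 * m + 1)) : IsCNGroup ↥(Sz F m) := by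
  intro x hx1
  rcases fixed_cases x with hfpf | ⟨c, hc, h1, h2⟩ | ⟨c, hc, d, hd, hcd, h1, h2⟩
  · apply nilpotent_of_comm
    rintro ⟨a, ha⟩ ⟨b, hb⟩
    apply Subtype.ext
    exact comm_of_fpf hm hF hfpf (Subgroup.mem_centralizer_singleton_iff.1 ha) (Subgroup.mem_centralizer_singleton_iff.1 hb)
  · have hP : IsPGroup 2 ↥(Subgroup.centralizer ({x} : Set ↥(Sz F m))) := by
      rintro ⟨y, hy⟩
      refine ⟨2, Subtype.ext ?_⟩
      exact centralizer_pow_four hm hF hx1 hc h1 h2 (Subgroup.mem_centralizer_singleton_iff.1 hy)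
    exact hP.isNilpotent
  · apply nilpotent_of_comm
    rintro ⟨a, ha⟩ ⟨b, hb⟩
    apply Subtype.ext
    have ha' := centralizer_fix_of_two hm hF hx1 hc hd hcd h1 h2 (Subgroup.mem_centralizer_singleton_iff.1 ha)
    have hb' := centralizer_fix_of_two hm hF hx1 hc hd hcd h1 h2 (Subgroup.mem_centralizer_singleton_iff.1 hb)
    obtain ⟨k, hk1, hk2⟩ := exists_pair_G hF hc hd hcd
    have hstd : ∀ y : ↥(Sz F m), y • c = c ∧ y • d = d → ∃ l : Fˣ, y = k * hG hF l * k⁻¹ := by
      rintro y ⟨h3, h4⟩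
      obtain ⟨l, hl⟩ := fix_two_G hm hF (y := k⁻¹ * y * k) (by
        rw [mul_smul, mul_smul, hk1, h3, inv_smul_eq_iff, hk1]) (by
        rw [mul_smul, mul_smul, hk2, h4, inv_smul_eq_iff, hk2])
      refine ⟨l, ?_⟩
      rw [← hl]
      group
    obtain ⟨l, rfl⟩ := hstd a ha'
    obtain ⟨l', rfl⟩ := hstd b hb'
    have e : ∀ e e' : Fˣ, k * hG hF e * k⁻¹ * (k * hG hF e' * k⁻¹) = k * hG hF (e * e') * k⁻¹ := by
      intro e e'
      rw [← hG_mul]
      group
    show k * hG hF l * k⁻¹ * (k * hG hF l' * k⁻¹) = k * hG hF l' * k⁻¹ * (k * hG hF l * k⁻¹)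
    rw [e, e, mul_comm]

end Cfsg.Agent.H10
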