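import Mathlib
import Cfsg.Agent.Lib.H10.SzCN

/-! The Suzuki group: counting fixed-point-free elements. -/

set_option autoImplicit false
set_option linter.unusedSectionVars false
set_option linter.unusedSimpArgs false
set_option linter.style.haveILetI false

namespace Cfsg.Agent.H10

open Matrix Cfsg
open scoped Pointwise commutatorElement

section Burnside

variable {G Ω : Type*} [Group G] [Fintype G] [MulAction G Ω] [Fintype Ω]

/-- The number of fixed points. -/
noncomputable def fixN (Ω : Type*) [MulAction G Ω] (x : G) : ℕ :=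
  Nat.card (MulAction.fixedBy Ω x)

lemma sum_fixN (hT : MulAction.IsPretransitive G Ω) [Nonempty Ω] :
    ∑ x : G, fixN Ω x = Fintype.card G := by
  classical
  have h := MulAction.sum_card_fixedBy_eq_card_orbits_mul_card_group G Ω
  have h1 : Fintype.card (Quotient (MulAction.orbitRel G Ω)) = 1 := by
    obtain ⟨a⟩ := ‹Nonempty Ω›
    refine Fintype.card_eq_one_iff.2 ⟨Quotient.mk _ a, ?_⟩
    rintro ⟨b⟩
    apply Quotient.sound
    obtain ⟨g, hg⟩ := hT.exists_smul_eq a b
    exact ⟨g, hg⟩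
  rw [h1, one_mul] at h
  simp only [fixN, Nat.card_eq_fintype_card]
  convert h

lemma card_fixedBy_embedding [DecidableEq Ω] (x : G) :
    Nat.card (MulAction.fixedBy (Fin 2 ↪ Ω) x) = fixN Ω x * (fixN Ω x - 1) := by
  classical
  let e : MulAction.fixedBy (Fin 2 ↪ Ω) x ≃ (Fin 2 ↪ MulAction.fixedBy Ω x) :=
    { toFun := fun f => ⟨fun i => ⟨f.1 i, by
          have h : x • f.1 = f.1 := f.2
          have h2 := congrArg (fun g : Fin 2 ↪ Ω => g i) h
          exact h2⟩, by
          intro i j hij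
          exact f.1.injective (congrArg Subtype.val hij)⟩
      invFun := fun g => ⟨g.trans (Function.Embedding.subtype _), by
          show x • _ = _
          ext i
          exact (g i).2⟩
      left_inv := fun f => by
        apply Subtype.ext
        ext i
        rfl
      right_inv := fun g => by
        ext i
        rfl }
  rw [Nat.card_congr e, Nat.card_eq_fintype_card, Fintype.card_embedding_eq]
  simp only [Fintype.card_fin, fixN, Nat.card_eq_fintype_card]
  simp [Nat.descFactorial, mul_comm]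

lemma sum_fixN_two [DecidableEq Ω] (h2 : MulAction.IsMultiplyPretransitive G Ω 2) [Nonempty (Fin 2 ↪ Ω)] :
    ∑ x : G, fixN Ω x * (fixN Ω x - 1) = Fintype.card G := by
  classical
  have h := sum_fixN (G := G) (Ω := Fin 2 ↪ Ω) h2
  rw [← h]
  apply Finset.sum_congr rfl
  intro x _
  rw [← card_fixedBy_embedding]
  rfl

end Burnside

variable {F : Type*} [Field F] [Fintype F] [CharP F 2] {m : ℕ}

noncomputable instance instFintypeOvoid : Fintype ↥(suzukiOvoid F m) :=
  haveI : Finite ↥(suzukiOvoid F m) := Nat.finite_of_card_ne_zero (by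
    rw [card_ovoid]
    positivity)
  Fintype.ofFinite _

noncomputable instance instFintypeSz : Fintype ↥(Sz F m) := Fintype.ofFinite _

lemma card_ovoid' (hF : Fintype.card F = 2 ^ (2 * m + 1)) :
    Fintype.card ↥(suzukiOvoid F m) = (2 ^ (2 * m + 1)) ^ 2 + 1 := by
  rw [← Nat.card_eq_fintype_card, card_ovoid, hF]

lemma isTwoTrans (hF : Fintype.card F = 2 ^ (2 * m + 1)) :
    MulAction.IsMultiplyPretransitive ↥(Sz F m) ↥(suzukiOvoid F m) 2 := by
  rw [MulAction.is_two_pretransitive_iff]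
  intro a b c d hab hcd
  obtain ⟨g, hg, h1, h2⟩ := exists_pair_to_pair hF a.2 b.2 c.2 d.2
    (fun h => hab (Subtype.ext h)) (fun h => hcd (Subtype.ext h))
  exact ⟨⟨g, hg⟩, Subtype.ext h1, Subtype.ext h2⟩

lemma isTrans (hF : Fintype.card F = 2 ^ (2 * m + 1)) :
    MulAction.IsPretransitive ↥(Sz F m) ↥(suzukiOvoid F m) := by
  refine ⟨fun a b => ?_⟩
  obtain ⟨k₁, h1⟩ := exists_pt_G hF a.2
  obtain ⟨k₂, h2⟩ := exists_pt_G hF b.2
  refine ⟨k₂ * k₁⁻¹, Subtype.ext ?_⟩
  show (k₂ * k₁⁻¹) • a.1 = b.1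
  rw [mul_smul, inv_smul_eq_iff.2 h1.symm, h2]

lemma fixN_eq_zero_iff (x : ↥(Sz F m)) : fixN ↥(suzukiOvoid F m) x = 0 ↔ IsFpf x := by
  classical
  unfold fixN
  rw [Nat.card_eq_fintype_card, Fintype.card_eq_zero_iff, isEmpty_subtype]
  constructor
  · intro h c hc hx
    exact h ⟨c, hc⟩ (Subtype.ext hx)
  · intro h c hx
    exact h c.1 c.2 (congrArg Subtype.val hx)

lemma fixN_le_two (hm : 1 ≤ m) (hF : Fintype.card F = 2 ^ (2 * m + 1)) {x : ↥(Sz F m)} (hx : x ≠ 1) :
    fixN ↥(suzukiOvoid F m) x ≤ 2 := by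
  classical
  by_contra hcon
  push Not at hcon
  unfold fixN at hcon
  rw [Nat.card_eq_fintype_card] at hcon
  obtain ⟨a, b, c, hab, hac, hbc⟩ := Fintype.two_lt_card_iff.1 hcon
  apply hx
  apply Subtype.ext
  exact eq_one_of_fix_three hm hF x.2 a.1.2 b.1.2 c.1.2 (fun h => hab (Subtype.ext (Subtype.ext h)))
    (fun h => hbc (Subtype.ext (Subtype.ext h))) (fun h => hac (Subtype.ext (Subtype.ext h)))
    (congrArg Subtype.val a.2) (congrArg Subtype.val b.2) (congrArg Subtype.val c.2)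

lemma fixN_one : fixN ↥(suzukiOvoid F m) (1 : ↥(Sz F m)) = Fintype.card ↥(suzukiOvoid F m) := by
  classical
  unfold fixN
  rw [← Nat.card_eq_fintype_card]
  apply Nat.card_congr
  exact Equiv.subtypeUnivEquiv (fun a => by
    show (1 : ↥(Sz F m)) • a = a
    exact one_smul _ a)

open Classical in
/-- The number of fixed-point-free elements. -/
theorem count_fpf (hm : 1 ≤ m) (hF : Fintype.card F = 2 ^ (2 * m + 1)) :
    2 * Fintype.card {x : ↥(Sz F m) // IsFpf x} + ((2 ^ (2 * m + 1)) ^ 2 + 1) * (2 ^ (2 * m + 1)) ^ 2 + 2 =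
      Fintype.card ↥(Sz F m) + 2 * ((2 ^ (2 * m + 1)) ^ 2 + 1) := by
  set D := (2 ^ (2 * m + 1)) ^ 2 + 1 with hD
  have hcardΩ : Fintype.card ↥(suzukiOvoid F m) = D := card_ovoid' hF
  haveI hne : Nonempty ↥(suzukiOvoid F m) := ⟨⟨_, inf_mem_ovoid⟩⟩
  haveI hne2 : Nonempty (Fin 2 ↪ ↥(suzukiOvoid F m)) := by
    apply Function.Embedding.nonempty_of_card_le
    rw [hcardΩ, Fintype.card_fin]
    have : 1 ≤ (2 ^ (2 * m + 1)) ^ 2 := Nat.one_le_pow _ _ (by positivity)
    omega
  have h1 := sum_fixN (G := ↥(Sz F m)) (Ω := ↥(suzukiOvoid F m)) (isTrans hF)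
  have h2 := sum_fixN_two (G := ↥(Sz F m)) (Ω := ↥(suzukiOvoid F m)) (isTwoTrans hF)
  rw [← Finset.add_sum_erase Finset.univ _ (Finset.mem_univ (1 : ↥(Sz F m))), fixN_one, hcardΩ] at h1 h2
  set E := (Finset.univ : Finset ↥(Sz F m)).erase 1 with hE
  have h3 : ∑ x ∈ E, (2 * (if IsFpf x then 1 else 0) + 2 * fixN ↥(suzukiOvoid F m) x) =
      ∑ x ∈ E, (2 + fixN ↥(suzukiOvoid F m) x * (fixN ↥(suzukiOvoid F m) x - 1)) := by
    apply Finset.sum_congr rfl
    intro x hx
    have hx1 : x ≠ 1 := (Finset.mem_erase.1 hx).1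
    have h4 := fixN_le_two hm hF hx1
    have h5 := fixN_eq_zero_iff x
    by_cases h6 : IsFpf x
    · rw [if_pos h6, h5.2 h6]
    · rw [if_neg h6]
      have h7 : fixN ↥(suzukiOvoid F m) x ≠ 0 := fun h => h6 (h5.1 h)
      interval_cases fixN ↥(suzukiOvoid F m) x
      · exact absurd rfl h7
      · rfl
      · rfl
  rw [Finset.sum_add_distrib, Finset.sum_add_distrib, ← Finset.mul_sum, ← Finset.mul_sum] at h3
  have h8 : ∑ x ∈ E, (if IsFpf x then 1 else 0) = Fintype.card {x : ↥(Sz F m) // IsFpf x} := by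
    rw [Fintype.card_subtype, Finset.card_filter]
    rw [hE, ← Finset.add_sum_erase Finset.univ _ (Finset.mem_univ (1 : ↥(Sz F m)))]
    rw [if_neg (fun h => one_not_fpf _ h rfl), zero_add]
  have h9 : ∑ x ∈ E, 2 = 2 * (Fintype.card ↥(Sz F m) - 1) := by
    rw [Finset.sum_const, hE, Finset.card_erase_of_mem (Finset.mem_univ _), Finset.card_univ, smul_eq_mul, mul_comm]
  rw [h8, h9] at h3
  have hpos : 1 ≤ Fintype.card ↥(Sz F m) := Fintype.card_pos
  have hDD : D * (D - 1) = D * (2 ^ (2 * m + 1)) ^ 2 := by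
    rw [hD]
    simp
  rw [hDD] at h2
  omega

/-- Explicit form. -/
theorem count_fpf' (hm : 1 ≤ m) (hF : Fintype.card F = 2 ^ (2 * m + 1)) :
    2 * Nat.card {x : ↥(Sz F m) // IsFpf x} = (2 ^ (2 * m + 1)) ^ 3 * (2 ^ (2 * m + 1) - 1) ^ 2 := by
  classical
  have h := count_fpf hm hF
  rw [← Nat.card_eq_fintype_card, ← Nat.card_eq_fintype_card, card_Sz hm hF] at h
  set q := 2 ^ (2 * m + 1) with hq
  have hq1 : 1 ≤ q := Nat.one_le_two_pow
  obtain ⟨t, ht⟩ : ∃ t, q = t + 1 := ⟨q - 1, by omega⟩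
  rw [ht] at h ⊢
  simp only [Nat.add_sub_cancel] at h ⊢
  have e : Nat.card {x : ↥(Sz F m) // IsFpf x} = Nat.card {x : ↥(Sz F m) // IsFpf x} := rfl
  nlinarith [h]

end Cfsg.Agent.H10
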