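import Mathlib

/-! The numerical lemma behind the exceptional tori of the Suzuki group. -/

set_option autoImplicit false
set_option linter.unusedSectionVars false
set_option linter.unusedSimpArgs false
set_option linter.style.haveILetI false

namespace Cfsg.Agent.H10

/-- The final step: two numbers with the right sum and product. -/
lemma sz_two_values {q r d₁ d₂ : ℕ} (hqr : q = 2 * r ^ 2) (hsum : d₁ + d₂ = 2 * q + 2) (hprod : d₁ * d₂ = q ^ 2 + 1) :
    (d₁ = q + 2 * r + 1 ∧ d₂ + 2 * r = q + 1) ∨ (d₂ = q + 2 * r + 1 ∧ d₁ + 2 * r = q + 1) := by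
  have h : ((d₁ : ℤ) - (q + 1 + 2 * r)) * ((d₁ : ℤ) - (q + 1 - 2 * r)) = 0 := by
    have h1 : (d₁ : ℤ) + d₂ = 2 * q + 2 := by exact_mod_cast hsum
    have h2 : (d₁ : ℤ) * d₂ = q ^ 2 + 1 := by exact_mod_cast hprod
    have h3 : (q : ℤ) = 2 * r ^ 2 := by exact_mod_cast hqr
    have h4 : (d₂ : ℤ) = 2 * q + 2 - d₁ := by linarith
    rw [h4] at h2
    have h5 : (4 : ℤ) * r ^ 2 = 2 * q := by rw [h3]; ring
    nlinarith [h2, h5]
  rcases mul_eq_zero.1 h with h1 | h1
  · left
    have e : (d₁ : ℤ) = q + 1 + 2 * r := by linarith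
    have e' : d₁ = q + 1 + 2 * r := by exact_mod_cast e
    omega
  · right
    have e : (d₁ : ℤ) + 2 * r = q + 1 := by linarith
    have e' : d₁ + 2 * r = q + 1 := by exact_mod_cast e
    omega

/-- The numerical heart. -/
theorem sz_numeric {I : Type*} [Fintype I] [DecidableEq I] (q r : ℕ) (hqr : q = 2 * r ^ 2) (hq : 8 ≤ q) (d e : I → ℕ)
    (hd : ∀ i, 5 ≤ d i) (hdD : ∀ i, d i ∣ q ^ 2 + 1) (he : ∀ i, e i = 1 ∨ e i = 2 ∨ e i = 4)
    (hcop : ∀ i j, i ≠ j → Nat.Coprime (d i) (d j))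
    (hsum : ∑ i, ((d i : ℚ) - 1) / ((e i : ℚ) * d i) = (q : ℚ) * (q - 1) / (2 * ((q : ℚ) ^ 2 + 1))) :
    ∃ i j, i ≠ j ∧ (∀ k, k = i ∨ k = j) ∧ e i = 4 ∧ e j = 4 ∧ d i = q + 2 * r + 1 ∧ d j + 2 * r = q + 1 := by
  set t : I → ℚ := fun i => ((d i : ℚ) - 1) / ((e i : ℚ) * d i) with ht
  set T : ℚ := (q : ℚ) * (q - 1) / (2 * ((q : ℚ) ^ 2 + 1)) with hT
  have hq' : (8 : ℚ) ≤ q := by exact_mod_cast hq
  have hden : (0 : ℚ) < 2 * ((q : ℚ) ^ 2 + 1) := by positivity
  have hT2 : T < 1 / 2 := by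
    rw [hT, div_lt_iff₀ hden]
    nlinarith
  have hT4 : 1 / 4 ≤ T := by
    rw [hT, le_div_iff₀ hden]
    nlinarith
  have hd' : ∀ i, (5 : ℚ) ≤ d i := fun i => by exact_mod_cast hd i
  have hdpos : ∀ i, (0 : ℚ) < d i := fun i => by linarith [hd' i]
  have he' : ∀ i, (0 : ℚ) < e i := fun i => by
    rcases he i with h | h | h <;> rw [h] <;> norm_num
  have ht0 : ∀ i, 0 ≤ t i := fun i => by
    apply div_nonneg
    · linarith [hd' i]
    · exact (mul_pos (he' i) (hdpos i)).le
  have hle : ∀ i, 1 / 5 ≤ t i := by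
    intro i
    have h1 : (e i : ℚ) ≤ 4 := by
      rcases he i with h | h | h <;> rw [h] <;> norm_num
    show 1 / 5 ≤ ((d i : ℚ) - 1) / ((e i : ℚ) * d i)
    rw [le_div_iff₀ (mul_pos (he' i) (hdpos i))]
    nlinarith [hd' i, he' i, hdpos i]
  have hsum' : ∑ i, t i = T := hsum
  have hsingle : ∀ i, t i ≤ T := fun i => by
    rw [← hsum']
    exact Finset.single_le_sum (fun j _ => ht0 j) (Finset.mem_univ i)
  have hpair : ∀ i j, i ≠ j → t i + t j ≤ T := by
    intro i j hij
    rw [← hsum', ← Finset.sum_pair hij]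
    exact Finset.sum_le_sum_of_subset_of_nonneg (Finset.subset_univ _) (fun k _ _ => ht0 k)
  have htriple : ∀ i j k, i ≠ j → i ≠ k → j ≠ k → t i + t j + t k ≤ T := by
    intro i j k hij hik hjk
    rw [← hsum']
    have h : ∑ x ∈ ({i, j, k} : Finset I), t x = t i + t j + t k := by
      rw [Finset.sum_insert (by simp [hij, hik]), Finset.sum_pair hjk]
      ring
    rw [← h]
    exact Finset.sum_le_sum_of_subset_of_nonneg (Finset.subset_univ _) (fun x _ _ => ht0 x)
  -- no `e = 1`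
  have he1 : ∀ i, e i ≠ 1 := by
    intro i h
    have h1 := hsingle i
    have h2 : t i = ((d i : ℚ) - 1) / d i := by
      simp [ht, h]
    have h3 : 4 / 5 ≤ t i := by
      rw [h2, le_div_iff₀ (hdpos i)]
      linarith [hd' i]
    linarith
  -- no `e = 2`
  have he2 : ∀ i, e i ≠ 2 := by
    intro i h
    have h2 : t i = ((d i : ℚ) - 1) / (2 * d i) := by
      simp [ht, h]
    have h3 : 2 / 5 ≤ t i := by
      rw [h2, le_div_iff₀ (by linarith [hd' i])]
      linarith [hd' i]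
    have huniq : ∀ j, j = i := by
      intro j
      by_contra hj
      have := hpair i j (Ne.symm hj)
      linarith [hle j]
    have hs : ∑ k, t k = t i := by
      apply Fintype.sum_eq_single
      intro k hk
      exact absurd (huniq k) hk
    rw [hsum', h2, hT] at hs
    have hdq : ((d i : ℚ) - 1) * (2 * ((q : ℚ) ^ 2 + 1)) = (q : ℚ) * (q - 1) * (2 * d i) := by
      rw [div_eq_div_iff (by positivity) (by linarith [hd' i])] at hs
      linarith
    have hdq2 : (d i : ℚ) * (q + 1) = (q : ℚ) ^ 2 + 1 := by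
      nlinarith
    have hdq3 : d i * (q + 1) = q ^ 2 + 1 := by exact_mod_cast hdq2
    have h4 : q + 1 ∣ 2 := by
      have h5 : q + 1 ∣ q ^ 2 + 1 := ⟨d i, by rw [← hdq3]; ring⟩
      have h6 : q ^ 2 + 1 + 2 * q = (q + 1) * (q + 1) - 0 := by
        rw [Nat.sub_zero]
        ring
      have h7 : (q + 1) ∣ (q + 1) * (q - 1) + 2 := by
        have h8 : (q + 1) * (q - 1) + 2 = q ^ 2 + 1 := by
          obtain ⟨w, rfl⟩ : ∃ w, q = w + 1 := ⟨q - 1, by omega⟩
          simp only [Nat.add_sub_cancel]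
          ring
        rw [h8]
        exact h5
      exact (Nat.dvd_add_right (dvd_mul_right _ _)).1 h7
    have := Nat.le_of_dvd (by norm_num) h4
    omega
  have he4 : ∀ i, e i = 4 := fun i => by
    rcases he i with h | h | h
    · exact absurd h (he1 i)
    · exact absurd h (he2 i)
    · exact h
  have htform : ∀ i, t i = ((d i : ℚ) - 1) / (4 * d i) := fun i => by
    simp [ht, he4 i]
  have htlt : ∀ i, t i < 1 / 4 := by
    intro i
    rw [htform, div_lt_iff₀ (by linarith [hd' i])]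
    linarith
  -- non-empty
  have hne : Nonempty I := by
    by_contra hcon
    rw [not_nonempty_iff] at hcon
    rw [Fintype.sum_empty] at hsum'
    linarith
  obtain ⟨i⟩ := hne
  obtain ⟨j, hj⟩ : ∃ j, j ≠ i := by
    by_contra hcon
    push Not at hcon
    have hs : ∑ k, t k = t i := by
      apply Fintype.sum_eq_single
      intro k hk
      exact absurd (hcon k) hk
    rw [hsum'] at hs
    linarith [htlt i]
  have hall : ∀ k, k = i ∨ k = j := by
    intro k
    by_contra hcon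
    push Not at hcon
    have := htriple i j k (Ne.symm hj) (Ne.symm hcon.1) (Ne.symm hcon.2)
    linarith [hle i, hle j, hle k]
  have hs2 : t i + t j = T := by
    rw [← hsum']
    symm
    apply Fintype.sum_eq_add i j (Ne.symm hj)
    intro x hx
    rcases hall x with h | h
    · exact absurd h hx.1
    · exact absurd h hx.2
  -- the equation
  have hi := hdpos i
  have hj' := hdpos j
  rw [htform, htform, hT] at hs2
  have hqpos : (0 : ℚ) < (q : ℚ) ^ 2 + 1 := by positivity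
  have heq : ((d i : ℚ) + d j) * ((q : ℚ) ^ 2 + 1) = 2 * (q + 1) * (d i * d j) := by
    field_simp at hs2
    nlinarith [hs2]
  have heqN : (d i + d j) * (q ^ 2 + 1) = 2 * (q + 1) * (d i * d j) := by exact_mod_cast heq
  have hdvd : d i * d j ∣ q ^ 2 + 1 := Nat.Coprime.mul_dvd_of_dvd_of_dvd (hcop i j (Ne.symm hj)) (hdD i) (hdD j)
  obtain ⟨c, hc⟩ := hdvd
  have hdd : 0 < d i * d j := Nat.mul_pos (by linarith [hd i]) (by linarith [hd j])
  have hc1 : 2 * (q + 1) = (d i + d j) * c := by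
    apply Nat.eq_of_mul_eq_mul_right hdd
    rw [← heqN, hc]
    ring
  have hcpos : 0 < c := by
    rcases Nat.eq_zero_or_pos c with h | h
    · subst h
      omega
    · exact h
  have hc2 : c = 1 := by
    by_contra hcne
    have hc3 : 2 ≤ c := by omega
    -- `(d₁ + d₂)² ≥ 4 d₁ d₂`
    have h1 : 4 * (d i * d j) ≤ (d i + d j) ^ 2 := by
      nlinarith [sq_nonneg ((d i : ℤ) - d j), sq_abs ((d i : ℤ) - d j), Nat.sub_le (d i) (d j),
        (by
          have h := sq_nonneg ((d i : ℤ) - d j)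
          have h' : (4 * (d i * d j) : ℤ) ≤ (d i + d j) ^ 2 := by nlinarith
          exact_mod_cast h' : 4 * (d i * d j) ≤ (d i + d j) ^ 2)]
    have h2 : 4 * (q ^ 2 + 1) * c ≤ (2 * (q + 1)) ^ 2 := by
      rw [hc, hc1]
      calc 4 * (d i * d j * c) * c = (4 * (d i * d j)) * c ^ 2 := by ring
        _ ≤ (d i + d j) ^ 2 * c ^ 2 := Nat.mul_le_mul_right _ h1
        _ = _ := by ring
    have h3 : 4 * (q ^ 2 + 1) * 2 ≤ 4 * (q ^ 2 + 1) * c := Nat.mul_le_mul_left _ hc3
    nlinarith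
  subst hc2
  have hprod : d i * d j = q ^ 2 + 1 := by
    rw [hc, mul_one]
  have hs3 : d i + d j = 2 * q + 2 := by
    rw [mul_one] at hc1
    omega
  rcases sz_two_values hqr hs3 hprod with ⟨h1, h2⟩ | ⟨h1, h2⟩
  · exact ⟨i, j, Ne.symm hj, hall, he4 i, he4 j, h1, h2⟩
  · exact ⟨j, i, hj, fun k => (hall k).symm, he4 j, he4 i, h1, h2⟩

end Cfsg.Agent.H10
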