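import Mathlib
import Cfsg.Agent.Lib.H10.SzCount
import Cfsg.Agent.Lib.H10.SzNum
import Cfsg.Agent.Lib.H10.SzGen

/-! The Suzuki group: the centralisers of fixed-point-free elements. -/

set_option autoImplicit false
set_option linter.unusedSectionVars false
set_option linter.unusedSimpArgs false
set_option linter.style.haveILetI false

namespace Cfsg.Agent.H10

open Matrix Cfsg
open scoped Pointwise commutatorElement

variable {F : Type*} [Field F] [Fintype F] [CharP F 2] {m : ℕ}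

/-- The centralisers of fixed-point-free elements. -/
def IsSzA (A : Subgroup ↥(Sz F m)) : Prop :=
  ∃ x, IsFpf x ∧ A = Subgroup.centralizer ({x} : Set ↥(Sz F m))

section facts

variable {A : Subgroup ↥(Sz F m)}

lemma IsSzA.fpf (hm : 1 ≤ m) (hF : Fintype.card F = 2 ^ (2 * m + 1)) (hA : IsSzA A) {y : ↥(Sz F m)} (hy : y ∈ A)
    (hy1 : y ≠ 1) : IsFpf y := by
  obtain ⟨x, hx, rfl⟩ := hA
  exact fpf_of_commute hm hF hx (Subgroup.mem_centralizer_singleton_iff.1 hy) hy1

lemma IsSzA.centralizer_eq (hm : 1 ≤ m) (hF : Fintype.card F = 2 ^ (2 * m + 1)) (hA : IsSzA A) {y : ↥(Sz F m)}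
    (hy : y ∈ A) (hy1 : y ≠ 1) : Subgroup.centralizer ({y} : Set ↥(Sz F m)) = A := by
  obtain ⟨x, hx, rfl⟩ := hA
  exact centralizer_eq_of_fpf hm hF hx (Subgroup.mem_centralizer_singleton_iff.1 hy) hy1

lemma IsSzA.comm (hm : 1 ≤ m) (hF : Fintype.card F = 2 ^ (2 * m + 1)) (hA : IsSzA A) {a b : ↥(Sz F m)}
    (ha : a ∈ A) (hb : b ∈ A) : a * b = b * a := by
  obtain ⟨x, hx, rfl⟩ := hA
  exact comm_of_fpf hm hF hx (Subgroup.mem_centralizer_singleton_iff.1 ha) (Subgroup.mem_centralizer_singleton_iff.1 hb)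

lemma IsSzA.isCyclic (hm : 1 ≤ m) (hF : Fintype.card F = 2 ^ (2 * m + 1)) (hA : IsSzA A) : IsCyclic ↥A := by
  obtain ⟨x, hx, rfl⟩ := hA
  exact isCyclic_centralizer_fpf hm hF hx

lemma IsSzA.card_dvd (hm : 1 ≤ m) (hF : Fintype.card F = 2 ^ (2 * m + 1)) (hA : IsSzA A) :
    Nat.card A ∣ (2 ^ (2 * m + 1)) ^ 2 + 1 :=
  card_dvd_of_free hF A (fun _ hg hg1 => hA.fpf hm hF hg hg1)

lemma IsSzA.exists_ne (hA : IsSzA A) : ∃ y ∈ A, y ≠ 1 := by
  obtain ⟨x, hx, rfl⟩ := hA
  exact ⟨x, Subgroup.mem_centralizer_singleton_iff.2 rfl, one_not_fpf x hx⟩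

lemma three_not_dvd_D (m : ℕ) : ¬ 3 ∣ (2 ^ (2 * m + 1)) ^ 2 + 1 := by
  have h : ((2 ^ (2 * m + 1)) ^ 2) % 3 = 1 := by
    rw [show (2 ^ (2 * m + 1)) ^ 2 = 4 ^ (2 * m + 1) by
      rw [← pow_mul, mul_comm, pow_mul]
      norm_num]
    rw [Nat.pow_mod]
    simp
  omega

lemma three_not_dvd_card (m : ℕ) :
    ¬ 3 ∣ (2 ^ (2 * m + 1)) ^ 2 * ((2 ^ (2 * m + 1)) ^ 2 + 1) * (2 ^ (2 * m + 1) - 1) := by
  have h3 : Nat.Prime 3 := by norm_num
  have hq : (2 ^ (2 * m + 1)) % 3 = 2 := by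
    rw [pow_succ, pow_mul]
    norm_num [Nat.mul_mod, Nat.pow_mod]
  rw [h3.dvd_mul, h3.dvd_mul]
  have h1 : ¬ 3 ∣ (2 ^ (2 * m + 1)) ^ 2 := fun h => by
    have := h3.dvd_of_dvd_pow h
    omega
  have h2 := three_not_dvd_D m
  have h4 : ¬ 3 ∣ 2 ^ (2 * m + 1) - 1 := by
    have : 1 ≤ 2 ^ (2 * m + 1) := Nat.one_le_two_pow
    omega
  tauto

lemma IsSzA.five_le (hm : 1 ≤ m) (hF : Fintype.card F = 2 ^ (2 * m + 1)) (hA : IsSzA A) : 5 ≤ Nat.card A := by
  have h1 := hA.card_dvd hm hF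
  have h2 : 1 < Nat.card A := by
    obtain ⟨y, hy, hy1⟩ := hA.exists_ne
    rw [Finite.one_lt_card_iff_nontrivial]
    exact ⟨⟨⟨y, hy⟩, 1, fun h => hy1 (congrArg Subtype.val h)⟩⟩
  by_contra hcon
  have h3 : Nat.card A = 2 ∨ Nat.card A = 3 ∨ Nat.card A = 4 := by omega
  rcases h3 with h | h | h
  · rw [h] at h1
    exact odd_q_sq_add_one m h1
  · rw [h] at h1
    exact three_not_dvd_D m h1
  · rw [h] at h1
    exact odd_q_sq_add_one m (dvd_trans (by norm_num) h1)

end facts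

/-- Conjugates of fixed-point-free elements. -/
lemma isFpf_conj {x : ↥(Sz F m)} (hx : IsFpf x) (g : ↥(Sz F m)) : IsFpf (g * x * g⁻¹) := by
  intro c hc h
  apply hx _ (smul_mem_ovoid g⁻¹ hc)
  rw [mul_smul, mul_smul] at h
  exact eq_inv_smul_iff.2 h

lemma map_conj_centralizer (g x : ↥(Sz F m)) :
    (Subgroup.centralizer ({x} : Set ↥(Sz F m))).map (MulAut.conj g).toMonoidHom =
      Subgroup.centralizer ({g * x * g⁻¹} : Set ↥(Sz F m)) := by
  ext y
  rw [mem_map_conj, Subgroup.mem_centralizer_singleton_iff, Subgroup.mem_centralizer_singleton_iff]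
  constructor
  · intro h
    have e : y = g * (g⁻¹ * y * g) * g⁻¹ := by group
    calc y * (g * x * g⁻¹) = g * ((g⁻¹ * y * g) * x) * g⁻¹ := by group
      _ = g * (x * (g⁻¹ * y * g)) * g⁻¹ := by rw [h]
      _ = _ := by group
  · intro h
    calc g⁻¹ * y * g * x = g⁻¹ * (y * (g * x * g⁻¹)) * g := by group
      _ = g⁻¹ * ((g * x * g⁻¹) * y) * g := by rw [h]
      _ = _ := by group

lemma IsSzA.conj {A : Subgroup ↥(Sz F m)} (hA : IsSzA A) (g : ↥(Sz F m)) :
    IsSzA (A.map (MulAut.conj g).toMonoidHom) := by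
  obtain ⟨x, hx, rfl⟩ := hA
  exact ⟨_, isFpf_conj hx g, map_conj_centralizer g x⟩

/-- The set of all centralisers of fixed-point-free elements. -/
abbrev SzAs (F : Type*) [Field F] (m : ℕ) := {A : Subgroup ↥(Sz F m) // IsSzA A}

/-- Conjugation. -/
instance instActSzAs : MulAction ↥(Sz F m) (SzAs F m) where
  smul g A := ⟨A.1.map (MulAut.conj g).toMonoidHom, A.2.conj g⟩
  one_smul A := by
    apply Subtype.ext
    ext y
    show y ∈ A.1.map (MulAut.conj (1 : ↥(Sz F m))).toMonoidHom ↔ _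
    rw [mem_map_conj]
    simp
  mul_smul g h A := by
    apply Subtype.ext
    ext y
    show y ∈ A.1.map (MulAut.conj (g * h)).toMonoidHom ↔
      y ∈ (A.1.map (MulAut.conj h).toMonoidHom).map (MulAut.conj g).toMonoidHom
    rw [mem_map_conj, mem_map_conj, mem_map_conj]
    have e : (g * h)⁻¹ * y * (g * h) = h⁻¹ * (g⁻¹ * y * g) * h := by group
    rw [e]

lemma smul_val (g : ↥(Sz F m)) (A : SzAs F m) : (g • A).1 = A.1.map (MulAut.conj g).toMonoidHom := rfl

lemma card_smul_val (g : ↥(Sz F m)) (A : SzAs F m) : Nat.card (g • A).1 = Nat.card A.1 := by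
  rw [smul_val]
  exact Subgroup.card_map_of_injective (MulAut.conj g).injective

lemma mem_stabilizer_iff_normalizer (g : ↥(Sz F m)) (A : SzAs F m) :
    g ∈ MulAction.stabilizer ↥(Sz F m) A ↔ g ∈ Subgroup.normalizer (A.1 : Set ↥(Sz F m)) := by
  rw [MulAction.mem_stabilizer_iff, Subgroup.mem_normalizer_iff]
  constructor
  · intro h y
    have h1 : (g • A).1 = A.1 := congrArg Subtype.val h
    rw [smul_val] at h1
    constructor
    · intro hy
      rw [← h1, mem_map_conj]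
      simpa [mul_assoc] using hy
    · intro hy
      rw [← h1, mem_map_conj] at hy
      simpa [mul_assoc] using hy
  · intro h
    apply Subtype.ext
    rw [smul_val]
    ext y
    rw [mem_map_conj]
    constructor
    · intro hy
      have := (h _).1 hy
      simpa [mul_assoc] using this
    · intro hy
      apply (h _).2
      simpa [mul_assoc] using hy

/-- The orbit-stabiliser count. -/
lemma card_orbit_mul (A : SzAs F m) :
    Nat.card (MulAction.orbit ↥(Sz F m) A) * Nat.card (Subgroup.normalizer (A.1 : Set ↥(Sz F m))) =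
      Nat.card ↥(Sz F m) := by
  have h := Nat.card_congr (MulAction.orbitProdStabilizerEquivGroup ↥(Sz F m) A)
  rw [Nat.card_prod] at h
  have e : MulAction.stabilizer ↥(Sz F m) A = Subgroup.normalizer (A.1 : Set ↥(Sz F m)) := by
    ext g
    exact mem_stabilizer_iff_normalizer g A
  rwa [e] at h

/-- Sum over orbits. -/
lemma sum_over_orbits {G X : Type*} [Group G] [MulAction G X] [Fintype X]
    [Fintype (MulAction.orbitRel.Quotient G X)] (f : X → ℕ) (hf : ∀ (g : G) x, f (g • x) = f x) :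
    ∑ x, f x = ∑ ω : MulAction.orbitRel.Quotient G X, Nat.card (MulAction.orbit G ω.out) * f ω.out := by
  classical
  rw [← Equiv.sum_comp (MulAction.selfEquivSigmaOrbits G X).symm f, Fintype.sum_sigma]
  apply Finset.sum_congr rfl
  intro ω _
  have h : ∀ y : ↥(MulAction.orbit G ω.out), f ((MulAction.selfEquivSigmaOrbits G X).symm ⟨ω, y⟩) = f ω.out := by
    rintro ⟨y, g, rfl⟩
    exact hf g _
  simp only [h]
  rw [Finset.sum_const, Finset.card_univ, smul_eq_mul, Nat.card_eq_fintype_card]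

noncomputable instance instFintypeSzAs : Fintype (SzAs F m) := Fintype.ofFinite _

/-- The fixed-point-free elements are partitioned by the subgroups. -/
theorem card_fpf_eq (hm : 1 ≤ m) (hF : Fintype.card F = 2 ^ (2 * m + 1)) :
    Nat.card {x : ↥(Sz F m) // IsFpf x} = ∑ A : SzAs F m, (Nat.card A.1 - 1) := by
  classical
  let e : {x : ↥(Sz F m) // IsFpf x} ≃ Σ A : SzAs F m, {y : ↥A.1 // y ≠ 1} :=
    { toFun := fun x => ⟨⟨_, x.1, x.2, rfl⟩, ⟨⟨x.1, Subgroup.mem_centralizer_singleton_iff.2 rfl⟩, fun h =>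
          one_not_fpf x.1 x.2 (congrArg Subtype.val h)⟩⟩
      invFun := fun t => ⟨t.2.1.1, t.1.2.fpf hm hF t.2.1.2 (fun h => t.2.2 (Subtype.ext h))⟩
      left_inv := fun x => rfl
      right_inv := by
        rintro ⟨⟨B, hB⟩, ⟨y, hy⟩, hy1⟩
        have h1 : y ≠ 1 := fun h => hy1 (Subtype.ext h)
        have e1 := hB.centralizer_eq hm hF hy h1
        subst e1
        rfl }
  rw [Nat.card_congr e, Nat.card_sigma]
  apply Finset.sum_congr rfl
  intro A _
  rw [Nat.card_eq_fintype_card, Nat.card_eq_fintype_card, Fintype.card_subtype_compl, Fintype.card_subtype_eq]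

/-- The bound on the normaliser. -/
theorem IsSzA.card_normalizer_le (hm : 1 ≤ m) (hF : Fintype.card F = 2 ^ (2 * m + 1)) {A : Subgroup ↥(Sz F m)}
    (hA : IsSzA A) : Nat.card (Subgroup.normalizer (A : Set ↥(Sz F m))) ≤ 4 * Nat.card A := by
  classical
  obtain ⟨x, hx, hAx⟩ := id hA
  obtain ⟨z, k, hz, hz1, hirr⟩ := exists_irr hm hF hx
  have hzA : z ∈ A := by
    rw [hz, hAx, Subgroup.mem_centralizer_singleton_iff]
    exact pow_mul_comm' x k
  have hCz := hA.centralizer_eq hm hF hzA hz1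
  let f : ↥(Sz F m) → M4 F := fun g => mHom (g * z * g⁻¹)
  let N : Finset ↥(Sz F m) := Finset.univ.filter (· ∈ Subgroup.normalizer (A : Set ↥(Sz F m)))
  let AA : Finset ↥(Sz F m) := Finset.univ.filter (· ∈ A)
  have hNc : Nat.card (Subgroup.normalizer (A : Set ↥(Sz F m))) = N.card := by
    rw [Nat.card_eq_fintype_card, Fintype.card_subtype]
  have hAc : Nat.card A = AA.card := by
    rw [Nat.card_eq_fintype_card, Fintype.card_subtype]
  have hfib : ∀ b ∈ N.image f, (N.filter (fun g => f g = b)).card ≤ Nat.card A := by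
    intro b hb
    obtain ⟨g₀, hg₀, rfl⟩ := Finset.mem_image.1 hb
    rw [hAc]
    apply Finset.card_le_card_of_injOn (fun g => g₀⁻¹ * g)
    · intro g hg
      have hg' := (Finset.mem_filter.1 hg).2
      have h1 : g * z * g⁻¹ = g₀ * z * g₀⁻¹ := mHom_injective hg'
      simp only [AA, Finset.coe_filter, Finset.mem_univ, true_and, Set.mem_ofPred_eq]
      rw [← hCz, Subgroup.mem_centralizer_singleton_iff]
      calc g₀⁻¹ * g * z = g₀⁻¹ * (g * z * g⁻¹) * g := by group
        _ = g₀⁻¹ * (g₀ * z * g₀⁻¹) * g := by rw [h1]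
        _ = _ := by group
    · intro a _ b _ h
      exact mul_left_cancel h
  have himg : (N.image f).card ≤ 4 := by
    apply card_conj_le hirr
    intro s hs
    obtain ⟨g, hg, rfl⟩ := Finset.mem_image.1 hs
    have hgN := (Finset.mem_filter.1 hg).2
    have hmem : g * z * g⁻¹ ∈ A := (Subgroup.mem_normalizer_iff.1 hgN _).1 hzA
    constructor
    · show mHom _ * mHom _ = mHom _ * mHom _
      rw [← map_mul, ← map_mul, hA.comm hm hF hmem hzA]
    · let u : (M4 F)ˣ := ⟨mHom g, mHom g⁻¹, by rw [← map_mul, mul_inv_cancel, map_one], by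
        rw [← map_mul, inv_mul_cancel, map_one]⟩
      have hinv : ((u : M4 F))⁻¹ = mHom g⁻¹ := by
        rw [← Matrix.coe_units_inv]
        rfl
      have e : f g = (u : M4 F) * mHom z * ((u : M4 F))⁻¹ := by
        rw [hinv]
        show mHom _ = mHom g * mHom z * mHom g⁻¹
        rw [map_mul, map_mul]
      rw [e]
      exact Matrix.charpoly_units_conj u _
  have h := Finset.card_le_mul_card_image (f := f) N (Nat.card A) hfib
  rw [hNc]
  calc N.card ≤ Nat.card A * (N.image f).card := h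
    _ ≤ Nat.card A * 4 := Nat.mul_le_mul_left _ himg
    _ = _ := mul_comm _ _

/-- The index of the subgroup in its normaliser. -/
theorem IsSzA.exists_index (hm : 1 ≤ m) (hF : Fintype.card F = 2 ^ (2 * m + 1)) {A : Subgroup ↥(Sz F m)}
    (hA : IsSzA A) : ∃ e : ℕ, (e = 1 ∨ e = 2 ∨ e = 4) ∧
      Nat.card (Subgroup.normalizer (A : Set ↥(Sz F m))) = e * Nat.card A := by
  have hle : A ≤ Subgroup.normalizer (A : Set ↥(Sz F m)) := Subgroup.le_normalizer
  obtain ⟨e, he⟩ := Subgroup.card_dvd_of_le hle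
  have hApos : 0 < Nat.card A := Nat.card_pos
  have h1 := hA.card_normalizer_le hm hF
  have h2 : 0 < Nat.card (Subgroup.normalizer (A : Set ↥(Sz F m))) := Nat.card_pos
  have he1 : e ≤ 4 := by
    rw [he] at h1
    rw [mul_comm] at h1
    exact Nat.le_of_mul_le_mul_right h1 hApos
  have he0 : e ≠ 0 := by
    rintro rfl
    rw [he, mul_zero] at h2
    exact lt_irrefl _ h2
  have he3 : e ≠ 3 := by
    rintro rfl
    apply three_not_dvd_card m
    rw [← card_Sz hm hF]
    apply dvd_trans _ (Subgroup.card_subgroup_dvd_card (Subgroup.normalizer (A : Set ↥(Sz F m))))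
    rw [he]
    exact dvd_mul_left _ _
  refine ⟨e, ?_, by rw [he, mul_comm]⟩
  omega

/-- Elements of equal odd prime order are conjugate into each other's cyclic group. -/
lemma exists_conj_zpowers (hm : 1 ≤ m) (hF : Fintype.card F = 2 ^ (2 * m + 1)) {p : ℕ} [Fact p.Prime] (hp : p ≠ 2)
    {y y' : ↥(Sz F m)} (hy : orderOf y = p) (hy' : orderOf y' = p) :
    ∃ g : ↥(Sz F m), g * y * g⁻¹ ∈ Subgroup.zpowers y' := by
  classical
  have hpy : ∀ t : ↥(Sz F m), orderOf t = p → IsPGroup p (Subgroup.zpowers t) := by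
    intro t ht
    rw [IsPGroup.iff_card]
    exact ⟨1, by rw [Nat.card_zpowers, ht, pow_one]⟩
  obtain ⟨Q, hQ⟩ := (hpy y hy).exists_le_sylow
  obtain ⟨P, hP⟩ := (hpy y' hy').exists_le_sylow
  obtain ⟨g, hg⟩ := MulAction.exists_smul_eq ↥(Sz F m) Q P
  refine ⟨g, ?_⟩
  have hyQ : y ∈ (Q : Subgroup ↥(Sz F m)) := hQ (Subgroup.mem_zpowers y)
  have hy'P : y' ∈ (P : Subgroup ↥(Sz F m)) := hP (Subgroup.mem_zpowers y')
  have hgy : g * y * g⁻¹ ∈ (P : Subgroup ↥(Sz F m)) := by
    rw [← hg, Sylow.coe_subgroup_smul, Subgroup.mem_pointwise_smul_iff_inv_smul_mem]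
    simpa [MulAut.smul_def, MulAut.conj_apply, mul_assoc] using hyQ
  haveI hcyc : IsCyclic ↥(P : Subgroup ↥(Sz F m)) := isCyclic_sylow_odd hm hF hp _ P.isPGroup'
  -- counting solutions of `a ^ p = 1` in `P`
  have hle := IsCyclic.card_pow_eq_one_le (α := ↥(P : Subgroup ↥(Sz F m))) (n := p) (Fact.out : p.Prime).pos
  let S : Finset ↥(P : Subgroup ↥(Sz F m)) := Finset.univ.filter (fun a => a ^ p = 1)
  let y'' : ↥(P : Subgroup ↥(Sz F m)) := ⟨y', hy'P⟩
  have hy''ord : orderOf y'' = p := by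
    exact (Subgroup.orderOf_mk _ _).trans hy'
  let T : Finset ↥(P : Subgroup ↥(Sz F m)) := Finset.univ.filter (· ∈ Subgroup.zpowers y'')
  have hTS : T ⊆ S := by
    intro a ha
    simp only [T, Finset.mem_filter, Finset.mem_univ, true_and] at ha
    simp only [S, Finset.mem_filter, Finset.mem_univ, true_and]
    obtain ⟨i, rfl⟩ := ha
    show (y'' ^ i) ^ p = 1
    have hy''p : y'' ^ p = 1 := orderOf_dvd_iff_pow_eq_one.1 (dvd_of_eq hy''ord)
    rw [← zpow_natCast, ← _root_.zpow_mul, mul_comm, _root_.zpow_mul, zpow_natCast, hy''p, _root_.one_zpow]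
  have hTc : T.card = p := by
    have : T.card = Nat.card (Subgroup.zpowers y'') := by
      rw [Nat.card_eq_fintype_card, Fintype.card_subtype]
    rw [this, Nat.card_zpowers, hy''ord]
  have hST : S = T := (Finset.eq_of_subset_of_card_le hTS (by rw [hTc]; exact hle)).symm
  have hmemS : (⟨g * y * g⁻¹, hgy⟩ : ↥(P : Subgroup ↥(Sz F m))) ∈ S := by
    simp only [S, Finset.mem_filter, Finset.mem_univ, true_and]
    apply Subtype.ext
    show (g * y * g⁻¹) ^ p = 1
    have hyp : y ^ p = 1 := orderOf_dvd_iff_pow_eq_one.1 (dvd_of_eq hy)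
    rw [conj_pow, hyp, mul_one, mul_inv_cancel]
  rw [hST] at hmemS
  simp only [T, Finset.mem_filter, Finset.mem_univ, true_and] at hmemS
  obtain ⟨i, hi⟩ := hmemS
  refine ⟨i, ?_⟩
  have := congrArg Subtype.val hi
  simpa using this

/-- Different conjugacy classes have coprime orders. -/
theorem coprime_of_not_conj (hm : 1 ≤ m) (hF : Fintype.card F = 2 ^ (2 * m + 1)) (A A' : SzAs F m)
    (hne : ∀ g : ↥(Sz F m), g • A ≠ A') : Nat.Coprime (Nat.card A.1) (Nat.card A'.1) := by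
  rw [Nat.coprime_iff_gcd_eq_one]
  by_contra hcon
  obtain ⟨p, hpp, hp⟩ := Nat.exists_prime_and_dvd hcon
  haveI : Fact p.Prime := ⟨hpp⟩
  have hp1 : p ∣ Nat.card A.1 := dvd_trans hp (Nat.gcd_dvd_left _ _)
  have hp2 : p ∣ Nat.card A'.1 := dvd_trans hp (Nat.gcd_dvd_right _ _)
  have hp3 : p ≠ 2 := by
    rintro rfl
    exact odd_q_sq_add_one m (dvd_trans hp1 (A.2.card_dvd hm hF))
  obtain ⟨y, hy⟩ := exists_prime_orderOf_dvd_card' p hp1
  obtain ⟨y', hy'⟩ := exists_prime_orderOf_dvd_card' p hp2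
  have hyo : orderOf (y : ↥(Sz F m)) = p := by rw [← hy]; exact Subgroup.orderOf_coe y
  have hyo' : orderOf (y' : ↥(Sz F m)) = p := by rw [← hy']; exact Subgroup.orderOf_coe y'
  obtain ⟨g, hg⟩ := exists_conj_zpowers hm hF hp3 hyo hyo'
  apply hne g
  apply Subtype.ext
  -- the element `g y g⁻¹` lies in `A'`
  have h1 : g * y.1 * g⁻¹ ∈ A'.1 := (Subgroup.zpowers_le.2 y'.2) hg
  have hy1 : y.1 ≠ 1 := by
    intro h
    rw [h, orderOf_one] at hyo
    exact hpp.one_lt.ne hyo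
  have h2 : g * y.1 * g⁻¹ ≠ 1 := by
    intro h
    apply hy1
    have : y.1 = g⁻¹ * (g * y.1 * g⁻¹) * g := by group
    rw [this, h, mul_one, inv_mul_cancel]
  have e1 := A'.2.centralizer_eq hm hF h1 h2
  have e2 := A.2.centralizer_eq hm hF y.2 hy1
  rw [smul_val, ← e1, ← map_conj_centralizer]
  exact congrArg (fun B : Subgroup ↥(Sz F m) => B.map (MulAut.conj g).toMonoidHom) e2.symm

/-- The main theorem on the tori. -/
theorem exists_tori (hm : 1 ≤ m) (hF : Fintype.card F = 2 ^ (2 * m + 1)) :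
    ∃ A₁ A₂ : SzAs F m, Nat.card A₁.1 = 2 ^ (2 * m + 1) + 2 ^ (m + 1) + 1 ∧
      Nat.card A₂.1 + 2 ^ (m + 1) = 2 ^ (2 * m + 1) + 1 ∧
      Nat.card (Subgroup.normalizer (A₁.1 : Set ↥(Sz F m))) = 4 * Nat.card A₁.1 ∧
      Nat.card (Subgroup.normalizer (A₂.1 : Set ↥(Sz F m))) = 4 * Nat.card A₂.1 ∧
      ∀ A : SzAs F m, (∃ g : ↥(Sz F m), g • A₁ = A) ∨ (∃ g : ↥(Sz F m), g • A₂ = A) := by
  classical
  set q := 2 ^ (2 * m + 1) with hq
  set r := 2 ^ m with hr
  have hqr : q = 2 * r ^ 2 := by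
    rw [hq, hr, ← pow_mul, pow_succ]
    ring
  have hq8 : 8 ≤ q := by
    calc 8 = 2 ^ (2 * 1 + 1) := by norm_num
      _ ≤ 2 ^ (2 * m + 1) := Nat.pow_le_pow_right (by norm_num) (by omega)
  have h2r : 2 ^ (m + 1) = 2 * r := by
    rw [hr, pow_succ']
  let I := MulAction.orbitRel.Quotient ↥(Sz F m) (SzAs F m)
  letI : Fintype I := Fintype.ofFinite _
  let rep : I → SzAs F m := fun ω => Quotient.out ω
  let d : I → ℕ := fun ω => Nat.card (rep ω).1
  have hidx := fun ω => (rep ω).2.exists_index hm hF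
  choose e he heN using hidx
  -- the sum
  have hcount := count_fpf' (F := F) hm hF
  rw [card_fpf_eq hm hF] at hcount
  rw [sum_over_orbits (G := ↥(Sz F m)) (X := SzAs F m) (fun A => Nat.card A.1 - 1)
    (fun g A => by simp only [card_smul_val])] at hcount
  have hGpos : (0 : ℚ) < (Nat.card ↥(Sz F m) : ℚ) := by exact_mod_cast Nat.card_pos
  have hq1 : 1 ≤ q := by omega
  have hsum : ∑ i, ((d i : ℚ) - 1) / ((e i : ℚ) * d i) = (q : ℚ) * (q - 1) / (2 * ((q : ℚ) ^ 2 + 1)) := by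
    have h1 : ∀ ω : I, (Nat.card (MulAction.orbit ↥(Sz F m) (rep ω)) : ℚ) * ((e ω : ℚ) * d ω) = Nat.card ↥(Sz F m) := by
      intro ω
      have := card_orbit_mul (rep ω)
      rw [heN] at this
      exact_mod_cast this
    have h2 : ∀ ω : I, ((d ω : ℚ) - 1) / ((e ω : ℚ) * d ω) =
        (Nat.card (MulAction.orbit ↥(Sz F m) (rep ω)) : ℚ) * ((d ω : ℚ) - 1) / Nat.card ↥(Sz F m) := by
      intro ω
      have hed : (e ω : ℚ) * d ω ≠ 0 := by
        intro h0
        rw [← h1 ω, h0, mul_zero] at hGpos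
        exact lt_irrefl _ hGpos
      rw [← h1 ω]
      have horb : (Nat.card (MulAction.orbit ↥(Sz F m) (rep ω)) : ℚ) ≠ 0 := by
        intro h0
        rw [← h1 ω, h0, zero_mul] at hGpos
        exact lt_irrefl _ hGpos
      field_simp
    simp only [h2]
    rw [← Finset.sum_div]
    have hS : ∑ i, (Nat.card (MulAction.orbit ↥(Sz F m) (rep i)) : ℚ) * ((d i : ℚ) - 1) =
        ((∑ ω : I, Nat.card (MulAction.orbit ↥(Sz F m) (Quotient.out ω)) * (Nat.card ↥(Quotient.out ω).1 - 1) : ℕ) : ℚ) := by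
      push_cast
      apply Finset.sum_congr rfl
      intro ω _
      have h5 : 1 ≤ Nat.card ↥(Quotient.out ω).1 := Nat.card_pos
      rw [Nat.cast_sub h5]
      rfl
    rw [hS]
    set S := ∑ ω : I, Nat.card (MulAction.orbit ↥(Sz F m) (Quotient.out ω)) * (Nat.card ↥(Quotient.out ω).1 - 1) with hSdef
    have hG : Nat.card ↥(Sz F m) = q ^ 2 * (q ^ 2 + 1) * (q - 1) := card_Sz (F := F) hm hF
    have hcount' : 2 * S = q ^ 3 * (q - 1) ^ 2 := hcount
    have hS2 : 2 * (S : ℚ) = (q : ℚ) ^ 3 * ((q : ℚ) - 1) ^ 2 := by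
      have : ((2 * S : ℕ) : ℚ) = (((q ^ 3 * (q - 1) ^ 2 : ℕ)) : ℚ) := by
        rw [hcount']
      push_cast [Nat.cast_sub hq1] at this
      exact this
    have hG2 : (Nat.card ↥(Sz F m) : ℚ) = (q : ℚ) ^ 2 * ((q : ℚ) ^ 2 + 1) * ((q : ℚ) - 1) := by
      rw [hG]
      push_cast [Nat.cast_sub hq1]
      ring
    have hq0 : (q : ℚ) ≠ 0 := by
      have : (8 : ℚ) ≤ q := by exact_mod_cast hq8
      linarith
    have hq10 : (q : ℚ) - 1 ≠ 0 := by
      have : (8 : ℚ) ≤ q := by exact_mod_cast hq8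
      intro h
      linarith
    have hq20 : (q : ℚ) ^ 2 + 1 ≠ 0 := by positivity
    rw [hG2, div_eq_div_iff (mul_ne_zero (mul_ne_zero (pow_ne_zero _ hq0) hq20) hq10) (mul_ne_zero two_ne_zero hq20)]
    linear_combination ((q : ℚ) ^ 2 + 1) * hS2
  have hrepne : ∀ i j : I, i ≠ j → ∀ g : ↥(Sz F m), g • rep i ≠ rep j := by
    intro i j hij g h
    apply hij
    have h1 : (MulAction.orbitRel ↥(Sz F m) (SzAs F m)) (rep j) (rep i) := by
      rw [MulAction.orbitRel_apply]
      exact ⟨g, h⟩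
    have h2 : (Quotient.mk _ (rep j) : I) = Quotient.mk _ (rep i) := Quotient.sound h1
    have h3 : ∀ ω : I, (Quotient.mk _ (rep ω) : I) = ω := fun ω => Quotient.out_eq ω
    rw [h3, h3] at h2
    exact h2.symm
  obtain ⟨i, j, hij, hall, hei, hej, hdi, hdj⟩ := sz_numeric q r hqr hq8 d e
    (fun ω => (rep ω).2.five_le hm hF) (fun ω => (rep ω).2.card_dvd hm hF) he
    (fun i j hij => coprime_of_not_conj hm hF _ _ (hrepne i j hij)) hsum
  refine ⟨rep i, rep j, ?_, ?_, ?_, ?_, ?_⟩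
  · rw [h2r]
    exact hdi
  · rw [h2r]
    exact hdj
  · rw [heN, hei]
  · rw [heN, hej]
  · intro A
    have h1 : ∃ g : ↥(Sz F m), g • A = rep (Quotient.mk _ A) := by
      have h2 : (MulAction.orbitRel ↥(Sz F m) (SzAs F m)) (rep (Quotient.mk _ A)) A := Quotient.mk_out A
      rw [MulAction.orbitRel_apply] at h2
      obtain ⟨g, hg⟩ := h2
      exact ⟨g, hg⟩
    obtain ⟨g, hg⟩ := h1
    have h3 : g⁻¹ • rep (Quotient.mk _ A) = A := by
      rw [← hg, inv_smul_smul]
    rcases hall (Quotient.mk _ A) with h4 | h4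
    · left
      rw [h4] at h3
      exact ⟨_, h3⟩
    · right
      rw [h4] at h3
      exact ⟨_, h3⟩

end Cfsg.Agent.H10
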