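import Mathlib
import Cfsg.Agent.Lib.H10.SzTori

/-! The Suzuki group: the partition. -/

set_option autoImplicit false
set_option linter.unusedSectionVars false
set_option linter.unusedSimpArgs false
set_option linter.style.haveILetI false

namespace Cfsg.Agent.H10

open Matrix Cfsg
open scoped Pointwise commutatorElement

variable {F : Type*} [Field F] [Fintype F] [CharP F 2] {m : ℕ}

/-- The torus as a homomorphism. -/
def torusHom (hF : Fintype.card F = 2 ^ (2 * m + 1)) : Fˣ →* ↥(Sz F m) where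
  toFun := hG hF
  map_one' := hG_one hF
  map_mul' l l' := (hG_mul hF l l').symm

lemma torusHom_injective (hF : Fintype.card F = 2 ^ (2 * m + 1)) : Function.Injective (torusHom (m := m) hF) :=
  fun _ _ h => hG_inj hF h

/-- The stabiliser of two points. -/
def szTwo (c d : Projectivization F (Fin 4 → F)) : Subgroup ↥(Sz F m) :=
  MulAction.stabilizer ↥(Sz F m) c ⊓ MulAction.stabilizer ↥(Sz F m) d

lemma mem_szTwo {c d : Projectivization F (Fin 4 → F)} {y : ↥(Sz F m)} :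
    y ∈ szTwo (m := m) c d ↔ y • c = c ∧ y • d = d := Iff.rfl

/-- The stabiliser of two points is isomorphic to the multiplicative group. -/
theorem szTwo_equiv (hm : 1 ≤ m) (hF : Fintype.card F = 2 ^ (2 * m + 1)) {c d : Projectivization F (Fin 4 → F)}
    (hc : c ∈ suzukiOvoid F m) (hd : d ∈ suzukiOvoid F m) (hcd : c ≠ d) :
    Nonempty (↥(szTwo (m := m) c d) ≃* Fˣ) := by
  obtain ⟨k, hk1, hk2⟩ := exists_pair_G hF hc hd hcd
  have hmem : ∀ l : Fˣ, k * hG hF l * k⁻¹ ∈ szTwo (m := m) c d := by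
    intro l
    rw [mem_szTwo]
    constructor
    · rw [mul_smul, mul_smul, ← hk1, inv_smul_smul, hG_inf]
    · rw [mul_smul, mul_smul, ← hk2, inv_smul_smul]
      show k • (hS m l • szPt m (0 : F) 0) = _
      rw [hS_zero hF]
  let f : Fˣ →* ↥(szTwo (m := m) c d) :=
    { toFun := fun l => ⟨k * hG hF l * k⁻¹, hmem l⟩
      map_one' := by
        apply Subtype.ext
        show k * hG hF 1 * k⁻¹ = 1
        rw [hG_one, mul_one, mul_inv_cancel]
      map_mul' := fun l l' => by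
        apply Subtype.ext
        show k * hG hF (l * l') * k⁻¹ = k * hG hF l * k⁻¹ * (k * hG hF l' * k⁻¹)
        rw [← hG_mul]
        group }
  have hf : Function.Bijective f := by
    constructor
    · intro l l' h
      have h1 : k * hG hF l * k⁻¹ = k * hG hF l' * k⁻¹ := congrArg Subtype.val h
      have h2 : hG hF l = hG hF l' := mul_left_cancel (mul_right_cancel h1)
      exact hG_inj hF h2
    · rintro ⟨y, h1, h2⟩
      obtain ⟨l, hl⟩ := fix_two_G hm hF (y := k⁻¹ * y * k) (by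
        rw [mul_smul, mul_smul, hk1, h1, inv_smul_eq_iff, hk1]) (by
        rw [mul_smul, mul_smul, hk2, h2, inv_smul_eq_iff, hk2])
      refine ⟨l, Subtype.ext ?_⟩
      show k * hG hF l * k⁻¹ = y
      rw [← hl]
      group
  exact ⟨(MulEquiv.ofBijective f hf).symm⟩

lemma szTwo_isCyclic (hm : 1 ≤ m) (hF : Fintype.card F = 2 ^ (2 * m + 1)) {c d : Projectivization F (Fin 4 → F)}
    (hc : c ∈ suzukiOvoid F m) (hd : d ∈ suzukiOvoid F m) (hcd : c ≠ d) : IsCyclic ↥(szTwo (m := m) c d) := by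
  obtain ⟨e⟩ := szTwo_equiv hm hF hc hd hcd
  exact isCyclic_of_surjective e.symm e.symm.surjective

lemma szTwo_card (hm : 1 ≤ m) (hF : Fintype.card F = 2 ^ (2 * m + 1)) {c d : Projectivization F (Fin 4 → F)}
    (hc : c ∈ suzukiOvoid F m) (hd : d ∈ suzukiOvoid F m) (hcd : c ≠ d) :
    Nat.card ↥(szTwo (m := m) c d) = 2 ^ (2 * m + 1) - 1 := by
  classical
  obtain ⟨e⟩ := szTwo_equiv hm hF hc hd hcd
  rw [Nat.card_congr e.toEquiv, Nat.card_eq_fintype_card, Fintype.card_units, hF]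

/-! ### Numerics -/

lemma odd_q_sub_one (m : ℕ) : ¬ 2 ∣ 2 ^ (2 * m + 1) - 1 := by
  have h1 : 2 ∣ 2 ^ (2 * m + 1) := dvd_pow_self 2 (by omega)
  have h2 : 1 ≤ 2 ^ (2 * m + 1) := Nat.one_le_two_pow
  omega

lemma coprime_q_sub_one (m : ℕ) : Nat.Coprime (2 ^ (2 * m + 1) - 1) ((2 ^ (2 * m + 1)) ^ 2 + 1) := by
  rw [Nat.coprime_iff_gcd_eq_one]
  by_contra hcon
  obtain ⟨p, hpp, hp⟩ := Nat.exists_prime_and_dvd hcon
  have h1 : p ∣ 2 ^ (2 * m + 1) - 1 := dvd_trans hp (Nat.gcd_dvd_left _ _)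
  have h2 : p ∣ (2 ^ (2 * m + 1)) ^ 2 + 1 := dvd_trans hp (Nat.gcd_dvd_right _ _)
  set q := 2 ^ (2 * m + 1) with hq
  have hq1 : 1 ≤ q := Nat.one_le_two_pow
  obtain ⟨t, ht⟩ : ∃ t, q = t + 1 := ⟨q - 1, by omega⟩
  rw [ht] at h1 h2
  simp only [Nat.add_sub_cancel] at h1
  have h3 : (t + 1) ^ 2 + 1 = t * (t + 2) + 2 := by ring
  rw [h3] at h2
  have h4 : p ∣ 2 := (Nat.dvd_add_right (dvd_mul_of_dvd_left h1 _)).1 h2
  have h5 : p = 2 := (Nat.prime_dvd_prime_iff_eq hpp Nat.prime_two).1 h4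
  rw [h5] at h1
  apply odd_q_sub_one m
  rw [← hq, ht]
  simpa using h1

/-- The two orders are coprime. -/
lemma coprime_d {q r d₁ d₂ : ℕ} (hqr : q = 2 * r ^ 2) (hr : ∃ j, r = 2 ^ j) (h1 : d₁ = q + 2 * r + 1) (h2 : d₂ + 2 * r = q + 1) (hodd : ¬ 2 ∣ d₁) :
    Nat.Coprime d₁ d₂ := by
  rw [Nat.coprime_iff_gcd_eq_one]
  by_contra hcon
  obtain ⟨p, hpp, hp⟩ := Nat.exists_prime_and_dvd hcon
  have hp1 : p ∣ d₁ := dvd_trans hp (Nat.gcd_dvd_left _ _)
  have hp2 : p ∣ d₂ := dvd_trans hp (Nat.gcd_dvd_right _ _)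
  have h3 : d₁ = d₂ + 4 * r := by omega
  rw [h3] at hp1
  have h4 : p ∣ 4 * r := (Nat.dvd_add_right hp2).1 hp1
  obtain ⟨j, rfl⟩ := hr
  have h5 : p ∣ 2 := by
    rcases (hpp.dvd_mul).1 h4 with h | h
    · exact hpp.dvd_of_dvd_pow (show p ∣ 2 ^ 2 by simpa using h)
    · exact hpp.dvd_of_dvd_pow h
  have h6 : p = 2 := (Nat.prime_dvd_prime_iff_eq hpp Nat.prime_two).1 h5
  rw [h6, ← h3] at hp1
  exact hodd hp1

/-- The non-trivial elements of a Sylow 2-subgroup. -/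
lemma sylow_elt (hm : 1 ≤ m) (hF : Fintype.card F = 2 ^ (2 * m + 1)) (P : Sylow 2 ↥(Sz F m)) {x : ↥(Sz F m)}
    (hx : x ∈ (P : Subgroup ↥(Sz F m))) (hx1 : x ≠ 1) :
    ∃ (k : ↥(Sz F m)) (a b : F), (∀ y, y ∈ (P : Subgroup ↥(Sz F m)) ↔ k⁻¹ * y * k ∈ szUG hF) ∧
      k⁻¹ * x * k = uG hF a b ∧ (a ≠ 0 ∨ b ≠ 0) := by
  obtain ⟨k, hk⟩ := exists_conj_sylow hm hF P
  obtain ⟨a, b, hab⟩ := (hk x).1 hx
  refine ⟨k, a, b, hk, hab, ?_⟩
  by_contra hcon
  push Not at hcon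
  obtain ⟨rfl, rfl⟩ := hcon
  apply hx1
  have e : x = k * (k⁻¹ * x * k) * k⁻¹ := by group
  rw [e, hab, uG_zero, mul_one, mul_inv_cancel]

/-- The element `k u k⁻¹` has exactly one fixed point. -/
lemma conj_uG_fix (hF : Fintype.card F = 2 ^ (2 * m + 1)) {x k : ↥(Sz F m)} {a b : F} (hab : k⁻¹ * x * k = uG hF a b)
    (hne : a ≠ 0 ∨ b ≠ 0) :
    x • (k • suzukiPointInfinity F) = k • suzukiPointInfinity F ∧
      ∀ d ∈ suzukiOvoid F m, x • d = d → d = k • suzukiPointInfinity F := by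
  constructor
  · have h1 := uG_inf (m := m) hF a b
    rw [← hab, mul_smul, mul_smul, inv_smul_eq_iff] at h1
    exact h1
  · intro d hd hxd
    have h1 : uG hF a b • (k⁻¹ • d) = k⁻¹ • d := by
      rw [← hab, mul_smul, mul_smul, smul_inv_smul, hxd]
    have h2 := eq_inf_of_uG_fix hF hne (smul_mem_ovoid k⁻¹ hd) h1
    rw [inv_smul_eq_iff] at h2
    exact h2

lemma conj_uG_pow_four (hF : Fintype.card F = 2 ^ (2 * m + 1)) {x k : ↥(Sz F m)} {a b : F}
    (hab : k⁻¹ * x * k = uG hF a b) : x ^ 4 = 1 := by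
  have e : x = k * uG hF a b * k⁻¹ := by
    rw [← hab]
    group
  rw [e, conj_pow, uG_pow_four, mul_one, mul_inv_cancel]

/-- Two Sylow 2-subgroups meeting non-trivially are equal. -/
theorem sylow_eq_of_mem (hm : 1 ≤ m) (hF : Fintype.card F = 2 ^ (2 * m + 1)) (P P' : Sylow 2 ↥(Sz F m)) {x : ↥(Sz F m)}
    (hx : x ∈ (P : Subgroup ↥(Sz F m))) (hx' : x ∈ (P' : Subgroup ↥(Sz F m))) (hx1 : x ≠ 1) :
    (P : Subgroup ↥(Sz F m)) = P' := by
  obtain ⟨k, a, b, hk, hab, hne⟩ := sylow_elt hm hF P hx hx1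
  obtain ⟨k', a', b', hk', hab', hne'⟩ := sylow_elt hm hF P' hx' hx1
  obtain ⟨h1, h2⟩ := conj_uG_fix hF hab hne
  obtain ⟨h1', h2'⟩ := conj_uG_fix hF hab' hne'
  have h3 := h2' _ (smul_mem_ovoid k inf_mem_ovoid) h1
  -- `k'⁻¹ k ∈ B`
  have hB : k'⁻¹ * k ∈ szB F m := by
    show (k'⁻¹ * k) • suzukiPointInfinity F = suzukiPointInfinity F
    rw [mul_smul, h3, inv_smul_smul]
  rw [← normalizer_szUG hm hF, Subgroup.mem_normalizer_iff] at hB
  ext y
  rw [hk, hk', hB (k⁻¹ * y * k)]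
  have e : k'⁻¹ * k * (k⁻¹ * y * k) * (k'⁻¹ * k)⁻¹ = k'⁻¹ * y * k' := by group
  rw [e]

section numerics

lemma sz_d_facts (m : ℕ) (hm : 1 ≤ m) {d₁ d₂ : ℕ} (h1 : d₁ = 2 ^ (2 * m + 1) + 2 ^ (m + 1) + 1)
    (h2 : d₂ + 2 ^ (m + 1) = 2 ^ (2 * m + 1) + 1) :
    ¬ 2 ∣ d₁ ∧ ¬ 2 ∣ d₂ ∧ Nat.Coprime d₁ d₂ ∧ 2 ^ (2 * m + 1) - 1 < d₁ ∧ 1 < d₂ := by
  have hq2 : 2 ∣ 2 ^ (2 * m + 1) := dvd_pow_self 2 (by omega)
  have hr2 : 2 ∣ 2 ^ (m + 1) := dvd_pow_self 2 (by omega)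
  have hd1 : ¬ 2 ∣ d₁ := by omega
  have hd2 : ¬ 2 ∣ d₂ := by omega
  have hlt : 2 * 2 ^ (m + 1) ≤ 2 ^ (2 * m + 1) := by
    rw [← pow_succ']
    exact Nat.pow_le_pow_right (by norm_num) (by omega)
  have hrp : 4 ≤ 2 ^ (m + 1) := by
    calc 4 = 2 ^ 2 := by norm_num
      _ ≤ 2 ^ (m + 1) := Nat.pow_le_pow_right (by norm_num) (by omega)
  refine ⟨hd1, hd2, ?_, by omega, by omega⟩
  apply coprime_d (q := 2 ^ (2 * m + 1)) (r := 2 ^ m) (by rw [← pow_mul, pow_succ]; ring) ⟨m, rfl⟩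
  · rw [h1, pow_succ' 2 m]
  · rw [← h2, pow_succ' 2 m]
  · exact hd1

end numerics

/-- The set of admissible subgroups of the partition. -/
def SzCand (m : ℕ) (U : Subgroup ↥(Sz F m)) : Prop :=
  (∃ P : Sylow 2 ↥(Sz F m), U = (P : Subgroup ↥(Sz F m))) ∨
    (IsCyclic ↥U ∧ Nat.card ↥U ∈ ({2 ^ (2 * m + 1) - 1, 2 ^ (2 * m + 1) + 2 ^ (m + 1) + 1,
      2 ^ (2 * m + 1) - 2 ^ (m + 1) + 1} : Set ℕ))

/-- Any cyclic candidate containing `g ≠ 1` consists of commuting elements of odd order. -/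
lemma cand_cyclic_facts (hm : 1 ≤ m) {V : Subgroup ↥(Sz F m)} (hc : IsCyclic ↥V) {g : ↥(Sz F m)} (hg : g ∈ V) :
    ∀ v ∈ V, v * g = g * v := by
  intro v hv
  obtain ⟨t, ht⟩ := hc.exists_generator
  obtain ⟨i, hi⟩ := ht ⟨v, hv⟩
  obtain ⟨j, hj⟩ := ht ⟨g, hg⟩
  have e1 : v = (t : ↥(Sz F m)) ^ i := by
    have := congrArg Subtype.val hi
    simpa using this.symm
  have e2 : g = (t : ↥(Sz F m)) ^ j := by
    have := congrArg Subtype.val hj
    simpa using this.symm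
  rw [e1, e2, ← _root_.zpow_add, ← _root_.zpow_add, add_comm]

theorem partition (hm : 1 ≤ m) (hF : Fintype.card F = 2 ^ (2 * m + 1)) (g : ↥(Sz F m)) (hg : g ≠ 1) :
    ∃! U : Subgroup ↥(Sz F m), SzCand m U ∧ g ∈ U := by
  obtain ⟨A₁, A₂, hA1, hA2, -, -, hAll⟩ := exists_tori (F := F) hm hF
  obtain ⟨hd1, hd2, hcop, hlt, hd21⟩ := sz_d_facts m hm hA1 hA2
  have hle : 2 ^ (m + 1) ≤ 2 ^ (2 * m + 1) := Nat.pow_le_pow_right (by norm_num) (by omega)
  have hq2 : 2 ≤ 2 ^ (2 * m + 1) - 1 := by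
    have : 2 ^ (2 * 1 + 1) ≤ 2 ^ (2 * m + 1) := Nat.pow_le_pow_right (by norm_num) (by omega)
    omega
  -- the orders of the cyclic candidates
  have hcases : ∀ (V : Subgroup ↥(Sz F m)), Nat.card ↥V ∈ ({2 ^ (2 * m + 1) - 1, 2 ^ (2 * m + 1) + 2 ^ (m + 1) + 1,
      2 ^ (2 * m + 1) - 2 ^ (m + 1) + 1} : Set ℕ) →
      Nat.card ↥V = 2 ^ (2 * m + 1) - 1 ∨ Nat.card ↥V = Nat.card A₁.1 ∨ Nat.card ↥V = Nat.card A₂.1 := by
    intro V hV
    rcases hV with h | h | h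
    · exact Or.inl h
    · exact Or.inr (Or.inl (h.trans hA1.symm))
    · right
      right
      have h' : Nat.card ↥V = 2 ^ (2 * m + 1) - 2 ^ (m + 1) + 1 := h
      omega
  have hoddV : ∀ (V : Subgroup ↥(Sz F m)), Nat.card ↥V ∈ ({2 ^ (2 * m + 1) - 1, 2 ^ (2 * m + 1) + 2 ^ (m + 1) + 1,
      2 ^ (2 * m + 1) - 2 ^ (m + 1) + 1} : Set ℕ) → ¬ 2 ∣ Nat.card ↥V := by
    intro V hV
    rcases hcases V hV with h | h | h
    · rw [h]
      exact odd_q_sub_one m
    · rw [h, hA1]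
      rw [hA1] at hd1
      exact hd1
    · rw [h]
      exact hd2
  -- an element of odd order with `x⁴ = 1` is trivial
  have hno4 : ∀ (V : Subgroup ↥(Sz F m)), ¬ 2 ∣ Nat.card ↥V → g ∈ V → g ^ 4 ≠ 1 := by
    intro V hV hgV h4
    apply hg
    have h1 : orderOf g ∣ 4 := orderOf_dvd_of_pow_eq_one h4
    have h2 : orderOf (⟨g, hgV⟩ : ↥V) ∣ Nat.card ↥V := orderOf_dvd_natCard _
    have h3 : orderOf g ∣ Nat.card ↥V := by
      rw [← Subgroup.orderOf_mk g hgV]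
      exact h2
    have hcop2 : Nat.Coprime (Nat.card ↥V) 4 := by
      have h6 : Nat.Coprime (Nat.card ↥V) (2 ^ 2) :=
        Nat.Coprime.pow_right _ ((Nat.Prime.coprime_iff_not_dvd Nat.prime_two).2 hV).symm
      simpa using h6
    have h5 : orderOf g = 1 := Nat.eq_one_of_dvd_coprimes hcop2 h3 h1
    exact orderOf_eq_one_iff.1 h5
  rcases fixed_cases g with hfpf | ⟨c, hc, h1, h2⟩ | ⟨c, hc, d, hd, hcd, h1, h2⟩
  · -- fixed-point-free
    have hA : IsSzA (Subgroup.centralizer ({g} : Set ↥(Sz F m))) := ⟨g, hfpf, rfl⟩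
    have hcardA : Nat.card ↥(Subgroup.centralizer ({g} : Set ↥(Sz F m))) = Nat.card A₁.1 ∨
        Nat.card ↥(Subgroup.centralizer ({g} : Set ↥(Sz F m))) = Nat.card A₂.1 := by
      rcases hAll ⟨_, hA⟩ with ⟨h, hh⟩ | ⟨h, hh⟩
      · left
        rw [← card_smul_val h A₁, hh]
      · right
        rw [← card_smul_val h A₂, hh]
    refine ⟨Subgroup.centralizer ({g} : Set ↥(Sz F m)), ⟨Or.inr ⟨hA.isCyclic hm hF, ?_⟩,
      Subgroup.mem_centralizer_singleton_iff.2 rfl⟩, ?_⟩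
    · rcases hcardA with h | h
      · right
        left
        rw [h, hA1]
      · right
        right
        show _ = 2 ^ (2 * m + 1) - 2 ^ (m + 1) + 1
        omega
    · rintro V ⟨hV | ⟨hVc, hVcard⟩, hgV⟩
      · exfalso
        obtain ⟨P, rfl⟩ := hV
        obtain ⟨k, a, b, -, hab, hne⟩ := sylow_elt hm hF P hgV hg
        exact hfpf _ (smul_mem_ovoid k inf_mem_ovoid) (conj_uG_fix hF hab hne).1
      · have hle' : V ≤ Subgroup.centralizer ({g} : Set ↥(Sz F m)) := fun v hv =>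
          Subgroup.mem_centralizer_singleton_iff.2 (cand_cyclic_facts hm hVc hgV v hv)
        have hdvd := Subgroup.card_dvd_of_le hle'
        have hdvdD := hA.card_dvd hm hF
        apply Subgroup.eq_of_le_of_card_ge hle'
        rcases hcases V hVcard with h | h | h
        · exfalso
          have h3 : 2 ^ (2 * m + 1) - 1 ∣ (2 ^ (2 * m + 1)) ^ 2 + 1 := by
            rw [← h]
            exact dvd_trans hdvd hdvdD
          have h4 := Nat.Coprime.eq_one_of_dvd (coprime_q_sub_one m) h3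
          omega
        · rcases hcardA with h5 | h5
          · rw [h, h5]
          · exfalso
            rw [h, h5] at hdvd
            have h6 := Nat.Coprime.eq_one_of_dvd hcop hdvd
            omega
        · rcases hcardA with h5 | h5
          · exfalso
            rw [h, h5] at hdvd
            have h6 := Nat.Coprime.eq_one_of_dvd hcop.symm hdvd
            omega
          · rw [h, h5]
  · -- a unique fixed point
    obtain ⟨k, hk⟩ := exists_pt_G hF hc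
    obtain ⟨a, b, hab⟩ := unique_fix_U hm hF (x := k⁻¹ * g * k) (by
      rw [mul_smul, mul_smul, hk, h1, inv_smul_eq_iff, hk]) (by
      intro d hd hxd
      have h3 : k • d = c := by
        apply h2 _ (smul_mem_ovoid k hd)
        conv_rhs => rw [← hxd]
        rw [mul_smul, mul_smul, smul_inv_smul]
      rw [← hk] at h3
      exact smul_left_cancel k h3)
    have hmemP : g ∈ ((k • szSylow hm hF : Sylow 2 ↥(Sz F m)) : Subgroup ↥(Sz F m)) := by
      rw [Sylow.coe_subgroup_smul, Subgroup.mem_pointwise_smul_iff_inv_smul_mem, szSylow_coe]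
      have : (MulAut.conj k)⁻¹ • g = uG hF a b := by
        rw [← hab]
        simp [MulAut.smul_def, MulAut.conj_apply]
      rw [this]
      exact uG_mem hF a b
    refine ⟨_, ⟨Or.inl ⟨k • szSylow hm hF, rfl⟩, hmemP⟩, ?_⟩
    rintro V ⟨hV | ⟨hVc, hVcard⟩, hgV⟩
    · obtain ⟨P, rfl⟩ := hV
      exact sylow_eq_of_mem hm hF P _ hgV hmemP hg
    · exact absurd (conj_uG_pow_four hF hab) (hno4 V (hoddV V hVcard) hgV)
  · -- two fixed points
    refine ⟨szTwo c d, ⟨Or.inr ⟨szTwo_isCyclic hm hF hc hd hcd, Or.inl (szTwo_card hm hF hc hd hcd)⟩, h1, h2⟩, ?_⟩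
    rintro V ⟨hV | ⟨hVc, hVcard⟩, hgV⟩
    · exfalso
      obtain ⟨P, rfl⟩ := hV
      obtain ⟨k, a, b, -, hab, hne⟩ := sylow_elt hm hF P hgV hg
      have h3 := (conj_uG_fix hF hab hne).2
      exact hcd ((h3 c hc h1).trans (h3 d hd h2).symm)
    · have hle' : V ≤ szTwo c d := fun v hv =>
        centralizer_fix_of_two hm hF hg hc hd hcd h1 h2 (cand_cyclic_facts hm hVc hgV v hv)
      have hdvd := Subgroup.card_dvd_of_le hle'
      rw [szTwo_card hm hF hc hd hcd] at hdvd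
      apply Subgroup.eq_of_le_of_card_ge hle'
      rw [szTwo_card hm hF hc hd hcd]
      have hqpos : 0 < 2 ^ (2 * m + 1) - 1 := by omega
      rcases hcases V hVcard with h | h | h
      · rw [h]
      · exfalso
        rw [h] at hdvd
        have := Nat.le_of_dvd hqpos hdvd
        omega
      · exfalso
        rw [h] at hdvd
        have h6 := Nat.eq_one_of_dvd_coprimes (coprime_q_sub_one m) hdvd (A₂.2.card_dvd hm hF)
        omega

end Cfsg.Agent.H10
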