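import Mathlib
import Cfsg.Prelude.Def_Sz
import Cfsg.Agent.Lib.H10.SzPart

/-! The two descriptions of the Suzuki group agree. -/

set_option autoImplicit false
set_option linter.unusedSectionVars false
set_option linter.unusedSimpArgs false
set_option linter.style.haveILetI false

namespace Cfsg.Agent.H10

open Matrix Cfsg

variable {F : Type*} [Field F] [Fintype F] [CharP F 2] {m : ℕ}

/-- The map on entries. -/
abbrev thetaM (m : ℕ) (g : Matrix (Fin 4) (Fin 4) F) : Matrix (Fin 4) (Fin 4) F :=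
  g.map (fun x => x ^ (2 ^ (m + 1)))

lemma star4_szU (hF : Fintype.card F = 2 ^ (2 * m + 1)) (a b : F) :
    Lie.star4 (szU m a b) = thetaM m (szU m a b) := by
  have h2 : (2 : F) = 0 := sz_two
  have hA : (a ^ (2 ^ (m + 1))) ^ (2 ^ (m + 1)) = a ^ 2 := sz_frob2 hF a
  have hB : (b ^ (2 ^ (m + 1))) ^ (2 ^ (m + 1)) = b ^ 2 := sz_frob2 hF b
  have e1 : (b + a ^ (2 ^ (m + 1) + 1)) ^ (2 ^ (m + 1)) = b ^ (2 ^ (m + 1)) + a ^ 2 * a ^ (2 ^ (m + 1)) := by
    rw [sz_add_pow, pow_succ a (2 ^ (m + 1)), mul_pow, hA]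
  have e2 : (szf m a b) ^ (2 ^ (m + 1)) =
      a ^ (2 ^ (m + 1)) * b ^ (2 ^ (m + 1)) + a ^ 2 * (a ^ (2 ^ (m + 1))) ^ 2 + b ^ 2 := by
    rw [szf_eq, sz_add_pow, sz_add_pow, mul_pow, mul_pow, hB, hA, ← pow_mul, ← pow_mul, mul_comm 2 (2 ^ (m + 1))]
  ext i j
  fin_cases i <;> fin_cases j <;>
    simp [Lie.star4, Lie.pairOf, szU, thetaM, e1, e2, hA]
  all_goals
    (try rw [pow_succ a (2 ^ (m + 1))])
    (try rw [szf_eq])
    generalize a ^ (2 ^ (m + 1)) = A
    generalize b ^ (2 ^ (m + 1)) = B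
    first
      | ring1
      | linear_combination (-(A * a ^ 2 + B)) * h2
      | linear_combination (-(A ^ 2 * a ^ 2 + A * B)) * h2
      | linear_combination (-B) * h2

lemma sz_pow_q (hF : Fintype.card F = 2 ^ (2 * m + 1)) (x : F) : x ^ (2 ^ m * 2 ^ (m + 1)) = x := by
  have : 2 ^ m * 2 ^ (m + 1) = Fintype.card F := by
    rw [hF, ← pow_add]
    congr 1
    ring
  rw [this, FiniteField.pow_card]

lemma star4_szH (hF : Fintype.card F = 2 ^ (2 * m + 1)) (l : F) (hl : l ≠ 0) :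
    Lie.star4 (szH m l) = thetaM m (szH m l) := by
  have h1 := sz_pow_q (m := m) hF l
  have h1' := sz_pow_q (m := m) hF l⁻¹
  have hsp : 2 ^ (m + 1) = 2 * 2 ^ m := pow_succ' 2 m
  have e0 : (l ^ (2 ^ m + 1)) ^ (2 ^ (m + 1)) = l ^ (2 ^ m + 1) * l ^ (2 ^ m) := by
    rw [← pow_mul, add_mul, one_mul, pow_add, h1, hsp]
    ring
  have e1 : (l ^ (2 ^ m)) ^ (2 ^ (m + 1)) = l ^ (2 ^ m + 1) * (l ^ (2 ^ m))⁻¹ := by
    rw [← pow_mul, h1, pow_succ]
    field_simp
  rw [szH_eq]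
  ext i j
  fin_cases i <;> fin_cases j <;>
    simp [Lie.star4, Lie.pairOf, thetaM]
  · exact e0.symm
  · exact e1.symm
  · rw [e1, mul_inv, inv_inv, mul_comm]
  · rw [e0, mul_inv, mul_comm]

lemma star4_szW : Lie.star4 (szW : Matrix (Fin 4) (Fin 4) F) = thetaM m szW := by
  ext i j
  fin_cases i <;> fin_cases j <;>
    simp [Lie.star4, Lie.pairOf, thetaM, szW, sz_neg]

/-- The form as a dot product. -/
lemma altForm4_eq (u v : Fin 4 → F) : Lie.altForm4 u v = u ⬝ᵥ (suzukiForm F *ᵥ v) := by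
  simp [Lie.altForm4, suzukiForm, Matrix.mulVec, dotProduct, Fin.sum_univ_four]

lemma altForm4_mul (M : Matrix (Fin 4) (Fin 4) F) (u v : Fin 4 → F) :
    Lie.altForm4 (M *ᵥ u) (M *ᵥ v) = u ⬝ᵥ ((Mᵀ * suzukiForm F * M) *ᵥ v) := by
  have e : ∀ w : Fin 4 → F, (M *ᵥ u) ⬝ᵥ w = u ⬝ᵥ (Mᵀ *ᵥ w) := by
    intro w
    rw [dotProduct_comm, Matrix.dotProduct_mulVec, dotProduct_comm, Matrix.mulVec_transpose]
  rw [altForm4_eq, e, Matrix.mulVec_mulVec, Matrix.mulVec_mulVec, Matrix.mul_assoc]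

/-- Membership in `Sp₄` from the matrix identity. -/
lemma mem_Sp4_of_form {g : GL (Fin 4) F} (h : (g : Matrix (Fin 4) (Fin 4) F)ᵀ * suzukiForm F * (g : Matrix (Fin 4) (Fin 4) F) = suzukiForm F) :
    g ∈ Lie.Sp4 F := by
  intro u v
  show Lie.altForm4 ((g : Matrix (Fin 4) (Fin 4) F) *ᵥ u) ((g : Matrix (Fin 4) (Fin 4) F) *ᵥ v) = _
  rw [altForm4_mul, h, altForm4_eq]

/-- The matrix identity from membership in `Sp₄`. -/
lemma form_of_mem_Sp4 {g : GL (Fin 4) F} (h : g ∈ Lie.Sp4 F) :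
    (g : Matrix (Fin 4) (Fin 4) F)ᵀ * suzukiForm F * (g : Matrix (Fin 4) (Fin 4) F) = suzukiForm F := by
  have h' : ∀ u v : Fin 4 → F, Lie.altForm4 ((g : Matrix (Fin 4) (Fin 4) F) *ᵥ u) ((g : Matrix (Fin 4) (Fin 4) F) *ᵥ v) = Lie.altForm4 u v := h
  ext i j
  have h1 := h' (Pi.single i 1) (Pi.single j 1)
  rw [altForm4_mul, altForm4_eq] at h1
  simp only [Matrix.mulVec_single_one, single_one_dotProduct, Matrix.col_apply] at h1
  exact h1

lemma suzukiForm_mul_self : suzukiForm F * suzukiForm F = 1 := by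
  ext i j
  fin_cases i <;> fin_cases j <;> simp [suzukiForm, Matrix.mul_apply, Fin.sum_univ_four]

lemma form_dual {M : Matrix (Fin 4) (Fin 4) F} (h : Mᵀ * suzukiForm F * M = suzukiForm F) :
    M * suzukiForm F * Mᵀ = suzukiForm F := by
  have hJ := suzukiForm_mul_self (F := F)
  have h1 : (suzukiForm F * Mᵀ * suzukiForm F) * M = 1 := by
    calc (suzukiForm F * Mᵀ * suzukiForm F) * M = suzukiForm F * (Mᵀ * suzukiForm F * M) := by
          simp only [Matrix.mul_assoc]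
      _ = 1 := by rw [h, hJ]
  have h2 : M * (suzukiForm F * Mᵀ * suzukiForm F) = 1 := mul_eq_one_comm.1 h1
  calc M * suzukiForm F * Mᵀ = M * (suzukiForm F * Mᵀ * suzukiForm F) * suzukiForm F := by
        simp only [Matrix.mul_assoc, hJ, Matrix.mul_one]
    _ = suzukiForm F := by rw [h2, Matrix.one_mul]

/-- Cauchy-Binet for two-by-two minors. -/
lemma cauchy_binet_two (M N : Matrix (Fin 4) (Fin 4) F) (k l i j : Fin 4) :
    (M * N) k i * (M * N) l j - (M * N) l i * (M * N) k j =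
      (M k 0 * M l 1 - M l 0 * M k 1) * (N 0 i * N 1 j - N 1 i * N 0 j) +
      (M k 0 * M l 2 - M l 0 * M k 2) * (N 0 i * N 2 j - N 2 i * N 0 j) +
      (M k 1 * M l 3 - M l 1 * M k 3) * (N 1 i * N 3 j - N 3 i * N 1 j) +
      (M k 2 * M l 3 - M l 2 * M k 3) * (N 2 i * N 3 j - N 3 i * N 2 j) +
      (M k 0 * M l 3 - M l 0 * M k 3) * (N 0 i * N 3 j - N 3 i * N 0 j) +
      (M k 1 * M l 2 - M l 1 * M k 2) * (N 1 i * N 2 j - N 2 i * N 1 j) := by
  simp only [Matrix.mul_apply, Fin.sum_univ_four]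
  ring

lemma form_entry (M : Matrix (Fin 4) (Fin 4) F) (i j : Fin 4) :
    (Mᵀ * suzukiForm F * M) i j = M 0 i * M 3 j + M 1 i * M 2 j + M 2 i * M 1 j + M 3 i * M 0 j := by
  simp only [Matrix.mul_apply, Fin.sum_univ_four, suzukiForm, Matrix.transpose_apply]
  simp
  ring

lemma form_entry' (M : Matrix (Fin 4) (Fin 4) F) (i j : Fin 4) :
    (M * suzukiForm F * Mᵀ) i j = M i 0 * M j 3 + M i 1 * M j 2 + M i 2 * M j 1 + M i 3 * M j 0 := by
  simp only [Matrix.mul_apply, Fin.sum_univ_four, suzukiForm, Matrix.transpose_apply]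
  simp
  ring

/-- `star4` is multiplicative on `Sp₄`. -/
theorem star4_mul {M N : Matrix (Fin 4) (Fin 4) F} (hM : Mᵀ * suzukiForm F * M = suzukiForm F)
    (hN : Nᵀ * suzukiForm F * N = suzukiForm F) : Lie.star4 (M * N) = Lie.star4 M * Lie.star4 N := by
  have h2 : (2 : F) = 0 := sz_two
  have hM' := form_dual hM
  have hA : ∀ k l : Fin 4, suzukiForm F k l = 0 →
      M k 0 * M l 3 + M k 1 * M l 2 + M k 2 * M l 1 + M k 3 * M l 0 = 0 := by
    intro k l h
    rw [← form_entry', hM', h]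
  have hB : ∀ i j : Fin 4, suzukiForm F i j = 0 →
      N 0 i * N 3 j + N 1 i * N 2 j + N 2 i * N 1 j + N 3 i * N 0 j = 0 := by
    intro i j h
    rw [← form_entry, hN, h]
  have key : ∀ k l i j : Fin 4, suzukiForm F k l = 0 → suzukiForm F i j = 0 →
      (M * N) k i * (M * N) l j - (M * N) l i * (M * N) k j =
      (M k 0 * M l 1 - M l 0 * M k 1) * (N 0 i * N 1 j - N 1 i * N 0 j) +
      (M k 0 * M l 2 - M l 0 * M k 2) * (N 0 i * N 2 j - N 2 i * N 0 j) +
      (M k 1 * M l 3 - M l 1 * M k 3) * (N 1 i * N 3 j - N 3 i * N 1 j) +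
      (M k 2 * M l 3 - M l 2 * M k 3) * (N 2 i * N 3 j - N 3 i * N 2 j) := by
    intro k l i j hkl hij
    rw [cauchy_binet_two]
    have e1 := hA k l hkl
    have e2 := hB i j hij
    set a := M k 0 * M l 3 with ha
    set a' := M l 0 * M k 3 with ha'
    set b := M k 1 * M l 2 with hb
    set b' := M l 1 * M k 2 with hb'
    set c := N 0 i * N 3 j with hc
    set c' := N 3 i * N 0 j with hc'
    set d := N 1 i * N 2 j with hd
    set d' := N 2 i * N 1 j with hd'
    have e3 : a + a' + b + b' = 0 := by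
      rw [← e1, ha, ha', hb, hb']
      ring
    have e4 : c + c' + d + d' = 0 := by
      rw [← e2, hc, hc', hd, hd']
      ring
    linear_combination (c - c') * e3 + (b + b') * e4 - (a' * (c - c') + b' * (d - d') + (b + b') * (c + d')) * h2
  have hp : ∀ p : Fin 4, suzukiForm F (Lie.pairOf p).1 (Lie.pairOf p).2 = 0 := by
    intro p
    fin_cases p <;> simp [Lie.pairOf, suzukiForm]
  ext p r
  rw [Matrix.mul_apply, Fin.sum_univ_four]
  show (M * N) _ _ * (M * N) _ _ - (M * N) _ _ * (M * N) _ _ = _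
  rw [key _ _ _ _ (hp p) (hp r)]
  rfl

lemma thetaM_mul (M N : Matrix (Fin 4) (Fin 4) F) : thetaM m (M * N) = thetaM m M * thetaM m N := by
  ext i j
  simp [thetaM, Matrix.mul_apply, Fin.sum_univ_four, sz_add_pow, mul_pow]

/-- The matrices in the defining set of the group. -/
def InSzS (m : ℕ) (M : Matrix (Fin 4) (Fin 4) F) : Prop :=
  Mᵀ * suzukiForm F * M = suzukiForm F ∧ Lie.star4 M = thetaM m M

lemma InSzS.mul {M N : Matrix (Fin 4) (Fin 4) F} (hM : InSzS m M) (hN : InSzS m N) : InSzS m (M * N) :=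
  ⟨form_mul hM.1 hN.1, by rw [star4_mul hM.1 hN.1, hM.2, hN.2, thetaM_mul]⟩

lemma inSzS_szU (hF : Fintype.card F = 2 ^ (2 * m + 1)) (a b : F) : InSzS m (szU m a b) :=
  ⟨form_szU hF a b, star4_szU hF a b⟩

lemma inSzS_szH (hF : Fintype.card F = 2 ^ (2 * m + 1)) (l : F) (hl : l ≠ 0) : InSzS m (szH m l) :=
  ⟨form_szH l hl, star4_szH hF l hl⟩

lemma inSzS_szW : InSzS m (szW : Matrix (Fin 4) (Fin 4) F) :=
  ⟨form_szW, star4_szW⟩

/-- Elements of the group are in the defining set. -/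
lemma inSzS_of_mem (hm : 1 ≤ m) (hF : Fintype.card F = 2 ^ (2 * m + 1)) (g : ↥(Sz F m)) :
    InSzS m ((g : SL4 F) : Matrix (Fin 4) (Fin 4) F) := by
  have hb : ∀ b ∈ szB F m, InSzS m (((b : ↥(Sz F m)) : SL4 F) : Matrix (Fin 4) (Fin 4) F) := by
    intro b hb
    obtain ⟨a, c, l, rfl⟩ := (mem_B_iff hm hF b).1 hb
    exact (inSzS_szU hF a c).mul (inSzS_szH hF _ l.ne_zero)
  rcases bruhat hm hF g with h | ⟨a, b, b', hb', rfl⟩
  · exact hb g h
  · exact ((inSzS_szU hF a b).mul inSzS_szW).mul (hb b' hb')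

/-- The column equations. -/
lemma first_col {M : Matrix (Fin 4) (Fin 4) F} (hM : InSzS m M) :
    (M 3 0 = 0 ∧ M 2 0 = 0 ∧ M 1 0 = 0) ∨ (M 3 0 ≠ 0 ∧
      M 0 0 * (M 3 0) ^ (2 ^ (m + 1) + 1) = (M 2 0) ^ (2 ^ (m + 1) + 2) + M 1 0 * M 2 0 * (M 3 0) ^ (2 ^ (m + 1))
        + (M 1 0) ^ (2 ^ (m + 1)) * (M 3 0) ^ 2) := by
  have h2 : (2 : F) = 0 := sz_two
  have eq1 : M 0 0 * M 2 1 - M 2 0 * M 0 1 = (M 1 0) ^ (2 ^ (m + 1)) := by
    have := congrFun (congrFun hM.2 1) 0
    simpa [Lie.star4, Lie.pairOf, thetaM] using this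
  have eq2 : M 1 0 * M 3 1 - M 3 0 * M 1 1 = (M 2 0) ^ (2 ^ (m + 1)) := by
    have := congrFun (congrFun hM.2 2) 0
    simpa [Lie.star4, Lie.pairOf, thetaM] using this
  have eq3 : M 2 0 * M 3 1 - M 3 0 * M 2 1 = (M 3 0) ^ (2 ^ (m + 1)) := by
    have := congrFun (congrFun hM.2 3) 0
    simpa [Lie.star4, Lie.pairOf, thetaM] using this
  have eqf : M 0 0 * M 3 1 + M 1 0 * M 2 1 + M 2 0 * M 1 1 + M 3 0 * M 0 1 = 0 := by
    rw [← form_entry, hM.1]
    simp [suzukiForm]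
  generalize M 0 0 = c0 at *
  generalize M 1 0 = c1 at *
  generalize M 2 0 = c2 at *
  generalize M 3 0 = c3 at *
  generalize M 0 1 = d0 at *
  generalize M 1 1 = d1 at *
  generalize M 2 1 = d2 at *
  generalize M 3 1 = d3 at *
  by_cases hc3 : c3 = 0
  · left
    subst hc3
    have hpow : ∀ x : F, x ^ (2 ^ (m + 1)) = 0 → x = 0 := fun x hx => pow_eq_zero_iff (by positivity) |>.1 hx
    rw [zero_pow (by positivity)] at eq3
    simp only [zero_mul, sub_zero] at eq2 eq3 eqf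
    have hc2 : c2 = 0 := by
      rcases mul_eq_zero.1 eq3 with h | h
      · exact h
      · rw [h, mul_zero] at eq2
        exact hpow _ eq2.symm
    subst hc2
    refine ⟨rfl, rfl, ?_⟩
    simp only [zero_mul, sub_zero, add_zero] at eq1 eqf
    rw [zero_pow (by positivity)] at eq2
    rcases mul_eq_zero.1 eq2 with h | h
    · exact h
    · rw [h, mul_zero, zero_add] at eqf
      rcases mul_eq_zero.1 eqf with h' | h'
      · exact h'
      · rw [h', mul_zero] at eq1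
        exact hpow _ eq1.symm
  · right
    refine ⟨hc3, ?_⟩
    rw [pow_succ c3 (2 ^ (m + 1)), pow_add c2 (2 ^ (m + 1)) 2, ← eq1, ← eq2, ← eq3]
    linear_combination (-(c2 * c3)) * eqf + (c0 * c2 * d3 * c3 - c0 * c3 ^ 2 * d2 + c2 * c3 * d2 * c1 + c2 * c3 ^ 2 * d0 - c2 ^ 2 * d3 * c1 + c2 ^ 2 * c3 * d1) * h2

/-- The defining set sends the point at infinity into the ovoid. -/
lemma smul_inf_mem_of_inSzS (hF : Fintype.card F = 2 ^ (2 * m + 1)) (g : SL4 F)
    (hg : InSzS m (g : Matrix (Fin 4) (Fin 4) F)) : g • suzukiPointInfinity F ∈ suzukiOvoid F m := by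
  set M : Matrix (Fin 4) (Fin 4) F := g.1 with hM
  have hcol : M *ᵥ ![1, 0, 0, 0] = fun i => M i 0 := by
    ext i
    simp [Matrix.mulVec, dotProduct, Fin.sum_univ_four]
  have hne : (fun i => M i 0) ≠ 0 := by
    intro h
    have h1 : M *ᵥ ![1, 0, 0, 0] = 0 := by rw [hcol, h]
    have hdet : IsUnit M.det := by
      rw [hM, g.2]
      exact isUnit_one
    have := Matrix.eq_zero_of_mulVec_eq_zero hdet.ne_zero h1
    have h' := congrFun this 0
    simp at h'
  have hsm : g • suzukiPointInfinity F = Projectivization.mk F (fun i => M i 0) hne := by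
    unfold suzukiPointInfinity
    rw [Projectivization.smul_mk]
    apply (Projectivization.mk_eq_mk_iff F _ _ _ _).2
    refine ⟨1, ?_⟩
    rw [one_smul]
    exact hcol.symm
  rcases first_col hg with ⟨h3, h2, h1⟩ | ⟨h3, he⟩
  · rw [hsm, mem_ovoid_iff]
    left
    unfold suzukiPointInfinity
    apply (Projectivization.mk_eq_mk_iff F _ _ _ _).2
    have hc0 : M 0 0 ≠ 0 := by
      intro h0
      apply hne
      ext i
      fin_cases i <;> simp [h0, h1, h2, h3]
    refine ⟨Units.mk0 (M 0 0) hc0, ?_⟩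
    ext i
    rw [Units.smul_def]
    fin_cases i <;> simp [h1, h2, h3, hc0]
  · rw [hsm, mem_ovoid_iff]
    right
    refine ⟨M 2 0 / M 3 0, M 1 0 / M 3 0, ?_⟩
    unfold szPt
    apply (Projectivization.mk_eq_mk_iff F _ _ _ _).2
    refine ⟨Units.mk0 (M 3 0) h3, ?_⟩
    ext i
    rw [Units.smul_def]
    fin_cases i
    · show M 3 0 * szf m (M 2 0 / M 3 0) (M 1 0 / M 3 0) = M 0 0
      rw [szf_eq]
      have hne3 := h3
      have hp : (M 3 0) ^ (2 ^ (m + 1) + 1) ≠ 0 := pow_ne_zero _ h3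
      apply mul_right_cancel₀ hp
      rw [he, div_pow, div_pow, div_pow, pow_succ (M 3 0) (2 ^ (m + 1)), pow_add (M 2 0) (2 ^ (m + 1)) 2]
      have hT : (M 3 0) ^ (2 ^ (m + 1)) ≠ 0 := pow_ne_zero _ h3
      generalize (M 3 0) ^ (2 ^ (m + 1)) = T at *
      generalize (M 2 0) ^ (2 ^ (m + 1)) = A at *
      generalize (M 1 0) ^ (2 ^ (m + 1)) = B at *
      field_simp
      ring
    · simp [szVec, h3]
      field_simp
    · simp [szVec, h3]
      field_simp
    · simp [szVec, h3]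

/-- The defining set maps the ovoid into itself. -/
lemma smul_mem_of_inSzS (hF : Fintype.card F = 2 ^ (2 * m + 1)) (g : SL4 F)
    (hg : InSzS m (g : Matrix (Fin 4) (Fin 4) F)) {p : Projectivization F (Fin 4 → F)}
    (hp : p ∈ suzukiOvoid F m) : g • p ∈ suzukiOvoid F m := by
  rcases (mem_ovoid_iff p).1 hp with rfl | ⟨x, y, rfl⟩
  · exact smul_inf_mem_of_inSzS hF g hg
  · have e : szPt m x y = (uS m x y * wS : SL4 F) • suzukiPointInfinity F := by
      rw [mul_smul, wS_inf, uS_pt hF]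
      simp
    rw [e, ← mul_smul]
    exact smul_inf_mem_of_inSzS hF _ (hg.mul ((inSzS_szU hF x y).mul inSzS_szW))

/-- The defining set lies in the group. -/
lemma mem_Sz_of_inSzS (hF : Fintype.card F = 2 ^ (2 * m + 1)) (g : SL4 F)
    (hg : InSzS m (g : Matrix (Fin 4) (Fin 4) F)) : g ∈ Sz F m := by
  apply mem_Sz_of_maps g (fun p hp => smul_mem_of_inSzS hF g hg hp)
  haveI : Finite (suzukiOvoid F m) := by
    apply Nat.finite_of_card_ne_zero
    rw [card_ovoid]
    omega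
  let f : suzukiOvoid F m → suzukiOvoid F m := fun p => ⟨g • p.1, smul_mem_of_inSzS hF g hg p.2⟩
  have hinj : Function.Injective f := by
    intro p q h
    have : g • p.1 = g • q.1 := congrArg Subtype.val h
    exact Subtype.ext (smul_left_cancel g this)
  have hsurj := Finite.surjective_of_injective hinj
  intro p hp
  obtain ⟨q, hq⟩ := hsurj ⟨p, hp⟩
  have : g • q.1 = p := congrArg Subtype.val hq
  rw [← this, inv_smul_smul]
  exact q.2

lemma det_eq_one_of_form {M : Matrix (Fin 4) (Fin 4) F} (h : Mᵀ * suzukiForm F * M = suzukiForm F) :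
    M.det = 1 := by
  have hJ : (suzukiForm F).det * (suzukiForm F).det = 1 := by
    rw [← Matrix.det_mul, suzukiForm_mul_self, Matrix.det_one]
  have hJ0 : (suzukiForm F).det ≠ 0 := by
    intro h0
    rw [h0, mul_zero] at hJ
    exact zero_ne_one hJ
  have h1 := congrArg Matrix.det h
  rw [Matrix.det_mul, Matrix.det_mul, Matrix.det_transpose] at h1
  have h3 : M.det * M.det = 1 := by
    apply mul_right_cancel₀ hJ0
    rw [one_mul]
    calc M.det * M.det * (suzukiForm F).det = M.det * (suzukiForm F).det * M.det := by ring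
      _ = _ := h1
  have h2 : (2 : F) = 0 := sz_two
  have h4 : (M.det - 1) ^ 2 = 0 := by
    linear_combination h3 + (1 - M.det) * h2
  exact sub_eq_zero.1 (pow_eq_zero_iff two_ne_zero |>.1 h4)

/-- The map to `GL₄`. -/
noncomputable abbrev szToGL (F : Type*) [Field F] (m : ℕ) : ↥(Sz F m) →* GL (Fin 4) F :=
  Matrix.SpecialLinearGroup.toGL.comp (Sz F m).subtype

lemma szToGL_injective : Function.Injective (szToGL F m) := by
  intro a b h
  have : ((a : SL4 F) : Matrix (Fin 4) (Fin 4) F) = ((b : SL4 F) : Matrix (Fin 4) (Fin 4) F) :=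
    congrArg (fun x : GL (Fin 4) F => (x : Matrix (Fin 4) (Fin 4) F)) h
  exact Subtype.ext (Subtype.ext this)

theorem range_szToGL (hm : 1 ≤ m) (hF : Fintype.card F = 2 ^ (2 * m + 1)) :
    (szToGL F m).range = Lie.Sz F (2 ^ (m + 1)) := by
  apply le_antisymm
  · rintro _ ⟨g, rfl⟩
    apply Subgroup.subset_closure
    have hg := inSzS_of_mem hm hF g
    exact ⟨mem_Sp4_of_form hg.1, hg.2⟩
  · apply (Subgroup.closure_le _).2
    rintro x ⟨hx, hx'⟩
    have hf := form_of_mem_Sp4 hx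
    have hdet := det_eq_one_of_form hf
    let g : SL4 F := ⟨(x : Matrix (Fin 4) (Fin 4) F), hdet⟩
    have hg : InSzS m (g : Matrix (Fin 4) (Fin 4) F) := ⟨hf, hx'⟩
    refine ⟨⟨g, mem_Sz_of_inSzS hF g hg⟩, ?_⟩
    ext i j
    rfl

/-- The two descriptions of the Suzuki group are isomorphic. -/
noncomputable def szEquiv (hm : 1 ≤ m) (hF : Fintype.card F = 2 ^ (2 * m + 1)) :
    ↥(Sz F m) ≃* ↥(Lie.Sz F (2 ^ (m + 1))) :=
  (MonoidHom.ofInjective szToGL_injective).trans (MulEquiv.subgroupCongr (range_szToGL hm hF))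

end Cfsg.Agent.H10
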