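import Mathlib
import Cfsg.Agent.Lib.H10.SzBridge

/-! The order and the action of `Lie.Sz`, via the isomorphism. -/

set_option autoImplicit false
set_option linter.unusedSectionVars false
set_option linter.unusedSimpArgs false
set_option linter.style.haveILetI false

namespace Cfsg.Agent.H10

open Matrix Cfsg

variable {F : Type*} [Field F] [Fintype F] [CharP F 2] {m : ℕ}

/-- A transitivity criterion on a coset space. -/
theorem two_trans_quot {H : Type*} [Group H] (N U : Subgroup H) (hUN : U ≤ N)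
    (hreg : ∀ x y : H ⧸ N, x ≠ (QuotientGroup.mk 1 : H ⧸ N) → y ≠ (QuotientGroup.mk 1 : H ⧸ N) → ∃ s ∈ U, s • x = y) :
    MulAction.IsMultiplyPretransitive H (H ⧸ N) 2 := by
  rw [MulAction.is_two_pretransitive_iff]
  have hmove : ∀ a : H ⧸ N, ∃ g : H, g • a = (QuotientGroup.mk 1 : H ⧸ N) := by
    intro a
    induction a using QuotientGroup.induction_on with
    | H h =>
      refine ⟨h⁻¹, ?_⟩
      rw [MulAction.Quotient.smul_mk]
      simp
  intro a b c d hab hcd
  obtain ⟨g1, h1⟩ := hmove a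
  obtain ⟨g2, h2⟩ := hmove c
  have hb : g1 • b ≠ (QuotientGroup.mk 1 : H ⧸ N) := by
    intro h
    apply hab
    apply smul_left_cancel g1
    rw [h1, h]
  have hd : g2 • d ≠ (QuotientGroup.mk 1 : H ⧸ N) := by
    intro h
    apply hcd
    apply smul_left_cancel g2
    rw [h2, h]
  obtain ⟨s, hs, hs'⟩ := hreg _ _ hb hd
  refine ⟨g2⁻¹ * s * g1, ?_, ?_⟩
  · rw [mul_smul, mul_smul, h1, inv_smul_eq_iff, ← h2]
    rw [h2, MulAction.Quotient.smul_mk]
    apply QuotientGroup.eq.2
    simpa using hUN hs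
  · rw [mul_smul, mul_smul, hs', inv_smul_smul]

/-- `U` is regular on the affine points. -/
lemma exists_uG_smul (hF : Fintype.card F = 2 ^ (2 * m + 1)) (x y x' y' : F) :
    ∃ u : ↥(Sz F m), u ∈ szUG hF ∧ u • szPt m x y = szPt m x' y' := by
  refine ⟨uG hF (x + x') (y + y' + (x + x') ^ (2 ^ (m + 1)) * x), uG_mem hF _ _, ?_⟩
  rw [uG_smul]
  have h1 : x + (x + x') = x' := by rw [← add_assoc, sz_add_self, zero_add]
  have h2 : y + (y + y' + (x + x') ^ (2 ^ (m + 1)) * x) + (x + x') ^ (2 ^ (m + 1)) * x = y' := by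
    rw [add_assoc y y', ← add_assoc y, sz_add_self, zero_add, add_assoc, sz_add_self, add_zero]
  rw [h1, h2]

lemma uG_smul_unique (hF : Fintype.card F = 2 ^ (2 * m + 1)) {u v : ↥(Sz F m)} (hu : u ∈ szUG hF)
    (hv : v ∈ szUG hF) (x y : F) (h : u • szPt m x y = v • szPt m x y) : u = v := by
  obtain ⟨a, b, rfl⟩ := hu
  obtain ⟨c, d, rfl⟩ := hv
  rw [uG_smul, uG_smul] at h
  obtain ⟨h1, h2⟩ := szPt_inj h
  have hac : a = c := add_left_cancel h1
  subst hac
  have hbd : b = d := by
    have := add_right_cancel h2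
    exact add_left_cancel this
  rw [hbd]

lemma eq_szPt_of_ne (g : ↥(Sz F m)) (hg : g ∉ szB F m) : ∃ x y : F, g • suzukiPointInfinity F = szPt m x y := by
  have h2 : g • suzukiPointInfinity F ∈ suzukiOvoid F m := (maps_of_mem g.2).2 inf_mem_ovoid
  rcases (mem_ovoid_iff _).1 h2 with h3 | h3
  · exact absurd h3 hg
  · exact h3

/-- The structure of the isomorphic copy. -/
theorem sz_action_transport (hm : 1 ≤ m) (hF : Fintype.card F = 2 ^ (2 * m + 1)) {H : Type*} [Group H]
    (e : ↥(Sz F m) ≃* H) (x y : H ⧸ (szB F m).map e.toMonoidHom)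
    (hx : x ≠ (QuotientGroup.mk 1 : H ⧸ (szB F m).map e.toMonoidHom))
    (hy : y ≠ (QuotientGroup.mk 1 : H ⧸ (szB F m).map e.toMonoidHom)) :
    ∃! s : ↥((szUG hF).map e.toMonoidHom), (s : H) • x = y := by
  induction x using QuotientGroup.induction_on with
  | H h =>
  induction y using QuotientGroup.induction_on with
  | H h' =>
  have hkey : ∀ (a b : H), ((a : H ⧸ (szB F m).map e.toMonoidHom) = (b : H ⧸ (szB F m).map e.toMonoidHom)) ↔
      e.symm a • suzukiPointInfinity F = e.symm b • suzukiPointInfinity F := by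
    intro a b
    rw [QuotientGroup.eq]
    constructor
    · rintro ⟨c, hc, hc'⟩
      have h1 : c = (e.symm a)⁻¹ * e.symm b := by
        apply e.injective
        have : (e.toMonoidHom c) = a⁻¹ * b := hc'
        simpa using this
      have h2 : c • suzukiPointInfinity F = suzukiPointInfinity F := hc
      rw [h1, mul_smul, inv_smul_eq_iff] at h2
      exact h2.symm
    · intro h
      refine ⟨(e.symm a)⁻¹ * e.symm b, ?_, by simp⟩
      show ((e.symm a)⁻¹ * e.symm b) • suzukiPointInfinity F = suzukiPointInfinity F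
      rw [mul_smul, inv_smul_eq_iff]
      exact h.symm
  have hne : ∀ a : H, (a : H ⧸ (szB F m).map e.toMonoidHom) ≠ (QuotientGroup.mk 1 : H ⧸ (szB F m).map e.toMonoidHom) →
      e.symm a ∉ szB F m := by
    intro a ha hb
    apply ha
    apply (hkey a 1).2
    rw [map_one, one_smul]
    exact hb
  obtain ⟨p, q, hpq⟩ := eq_szPt_of_ne _ (hne h hx)
  obtain ⟨p', q', hpq'⟩ := eq_szPt_of_ne _ (hne h' hy)
  obtain ⟨u, hu, hu'⟩ := exists_uG_smul hF p q p' q'
  have hact : ∀ s : H, (s • (h : H ⧸ (szB F m).map e.toMonoidHom) = (h' : H ⧸ (szB F m).map e.toMonoidHom)) ↔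
      e.symm s • szPt m p q = szPt m p' q' := by
    intro s
    rw [MulAction.Quotient.smul_mk, hkey, smul_eq_mul, map_mul, mul_smul, hpq, hpq']
  refine ⟨⟨e u, ⟨u, hu, rfl⟩⟩, ?_, ?_⟩
  · show e u • _ = _
    rw [hact]
    simpa using hu'
  · rintro ⟨_, v, hv, rfl⟩ hv'
    have h1 : e.symm (e v) • szPt m p q = szPt m p' q' := (hact _).1 hv'
    rw [MulEquiv.symm_apply_apply] at h1
    have h2 : v = u := uG_smul_unique hF hv hu p q (h1.trans hu'.symm)
    subst h2
    rfl

/-- The full structure statement for any isomorphic copy. -/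
theorem sz_structure_transport (hm : 1 ≤ m) (hF : Fintype.card F = 2 ^ (2 * m + 1)) {H : Type*} [Group H]
    (e : ↥(Sz F m) ≃* H) :
    Nat.card H = (2 ^ (2 * m + 1)) ^ 2 * (2 ^ (2 * m + 1) - 1) * ((2 ^ (2 * m + 1)) ^ 2 + 1) ∧
    ∃ S : Sylow 2 H,
      Nat.card (Subgroup.normalizer ((S : Subgroup H) : Set H)) = (2 ^ (2 * m + 1)) ^ 2 * (2 ^ (2 * m + 1) - 1) ∧
      (Subgroup.normalizer ((S : Subgroup H) : Set H)).index = (2 ^ (2 * m + 1)) ^ 2 + 1 ∧
      MulAction.IsMultiplyPretransitive H (H ⧸ Subgroup.normalizer ((S : Subgroup H) : Set H)) 2 ∧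
      ∀ x y : H ⧸ Subgroup.normalizer ((S : Subgroup H) : Set H),
        x ≠ (QuotientGroup.mk 1) → y ≠ (QuotientGroup.mk 1) → ∃! s : ↥(S : Subgroup H), (s : H) • x = y := by
  have hcard : Nat.card H = Nat.card ↥(Sz F m) := (Nat.card_congr e.toEquiv).symm
  refine ⟨by rw [hcard, card_Sz hm hF]; ring, ?_⟩
  let S : Sylow 2 H := (szSylow hm hF).mapSurjective (f := e.toMonoidHom) e.surjective
  have hS : (S : Subgroup H) = (szUG hF).map e.toMonoidHom := rfl
  have hN : Subgroup.normalizer ((S : Subgroup H) : Set H) = (szB F m).map e.toMonoidHom := by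
    rw [hS, ← normalizer_szUG hm hF]
    exact (Subgroup.map_equiv_normalizer_eq _ e).symm
  refine ⟨S, ?_, ?_, ?_, ?_⟩
  · rw [hN]
    have : Nat.card ((szB F m).map e.toMonoidHom) = Nat.card (szB F m) :=
      Subgroup.card_map_of_injective e.injective
    rw [this, card_B hm hF]
  · rw [hN]
    have h1 := Subgroup.index_mul_card ((szB F m).map e.toMonoidHom)
    have h2 : Nat.card ((szB F m).map e.toMonoidHom) = Nat.card (szB F m) :=
      Subgroup.card_map_of_injective e.injective
    rw [h2, card_B hm hF, hcard, card_Sz hm hF] at h1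
    have h3 : 0 < (2 ^ (2 * m + 1)) ^ 2 * (2 ^ (2 * m + 1) - 1) := by
      have : 1 < 2 ^ (2 * m + 1) := Nat.one_lt_two_pow (by omega)
      apply Nat.mul_pos (by positivity)
      omega
    apply Nat.eq_of_mul_eq_mul_right h3
    rw [h1]
    ring
  · rw [hN]
    apply two_trans_quot _ ((szUG hF).map e.toMonoidHom) (Subgroup.map_mono (szUG_le_B hF))
    intro x y hx hy
    obtain ⟨s, hs, -⟩ := sz_action_transport hm hF e x y hx hy
    exact ⟨s.1, s.2, hs⟩
  · rw [hN]
    intro x y hx hy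
    exact sz_action_transport hm hF e x y hx hy

end Cfsg.Agent.H10
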