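import Mathlib
import Cfsg.Agent.Lib.H10.SzPart
import Cfsg.Agent.Lib.H10.SzTrans

/-! The Suzuki group: fixed sets of commuting elements, and nilpotent subgroups. -/

set_option autoImplicit false
set_option linter.unusedSectionVars false
set_option linter.unusedSimpArgs false
set_option linter.style.haveILetI false

namespace Cfsg.Agent.H10

open Matrix Cfsg

variable {F : Type*} [Field F] [Fintype F] [CharP F 2] {m : ℕ}

/-- The fixed points on the ovoid. -/
def fixS (x : ↥(Sz F m)) : Set (Projectivization F (Fin 4 → F)) := {c | c ∈ suzukiOvoid F m ∧ x • c = c}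

lemma isFpf_iff_fixS (x : ↥(Sz F m)) : IsFpf x ↔ fixS x = ∅ := by
  rw [Set.eq_empty_iff_forall_notMem]
  constructor
  · intro h c hc
    exact h c hc.1 hc.2
  · intro h c hc hxc
    exact h c ⟨hc, hxc⟩

/-- An element with a unique fixed point: the commuting elements are of the same kind. -/
lemma fixS_of_commute_unique (hm : 1 ≤ m) (hF : Fintype.card F = 2 ^ (2 * m + 1)) {x y : ↥(Sz F m)} (hx1 : x ≠ 1)
    (hy1 : y ≠ 1) {c : Projectivization F (Fin 4 → F)} (hc : c ∈ suzukiOvoid F m) (h1 : x • c = c)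
    (h2 : ∀ d ∈ suzukiOvoid F m, x • d = d → d = c) (hy : y * x = x * y) : fixS y = {c} := by
  obtain ⟨k, hk⟩ := exists_pt_G hF hc
  have hyc : y • c = c := by
    apply h2 _ (smul_mem_ovoid y hc)
    rw [← mul_smul, ← hy, mul_smul, h1]
  obtain ⟨a, b, hab⟩ := unique_fix_U hm hF (x := k⁻¹ * x * k) (by
      rw [mul_smul, mul_smul, hk, h1, inv_smul_eq_iff, hk]) (by
      intro d hd hxd
      have h3 : k • d = c := by
        apply h2 _ (smul_mem_ovoid k hd)
        conv_rhs => rw [← hxd]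
        rw [mul_smul, mul_smul, smul_inv_smul]
      rw [← hk] at h3
      exact smul_left_cancel k h3)
  obtain ⟨c', d', l, hcd⟩ := (mem_B_iff hm hF (k⁻¹ * y * k)).1 (by
    show (k⁻¹ * y * k) • suzukiPointInfinity F = suzukiPointInfinity F
    rw [mul_smul, mul_smul, hk, hyc, inv_smul_eq_iff, hk])
  have hne : a ≠ 0 ∨ b ≠ 0 := by
    by_contra hcon
    push Not at hcon
    obtain ⟨rfl, rfl⟩ := hcon
    rw [uG_zero] at hab
    apply hx1
    have : x = k * (k⁻¹ * x * k) * k⁻¹ := by group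
    rw [this, hab, mul_one, mul_inv_cancel]
  have hcomm : uG hF c' d' * hG hF l * uG hF a b = uG hF a b * (uG hF c' d' * hG hF l) := by
    rw [← hcd, ← hab]
    calc k⁻¹ * y * k * (k⁻¹ * x * k) = k⁻¹ * (y * x) * k := by group
      _ = k⁻¹ * (x * y) * k := by rw [hy]
      _ = _ := by group
  have hl := commute_uG hF hne hcomm
  rw [hl, hG_one, mul_one] at hcd
  have hne' : c' ≠ 0 ∨ d' ≠ 0 := by
    by_contra hcon
    push Not at hcon
    obtain ⟨rfl, rfl⟩ := hcon
    rw [uG_zero] at hcd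
    apply hy1
    have : y = k * (k⁻¹ * y * k) * k⁻¹ := by group
    rw [this, hcd, mul_one, mul_inv_cancel]
  ext p
  constructor
  · rintro ⟨hp, hyp⟩
    have h3 : k⁻¹ • p = suzukiPointInfinity F := by
      apply eq_inf_of_uG_fix hF hne' (smul_mem_ovoid _ hp)
      rw [← hcd, mul_smul, mul_smul, smul_inv_smul, hyp]
    show p = c
    rw [← hk, ← h3, smul_inv_smul]
  · intro hp
    have hp' : p = c := hp
    subst hp'
    exact ⟨hc, hyc⟩

/-- An element fixing two points. -/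
lemma fixS_of_commute_two (hm : 1 ≤ m) (hF : Fintype.card F = 2 ^ (2 * m + 1)) {x y : ↥(Sz F m)} (hx1 : x ≠ 1)
    (hy1 : y ≠ 1) {c d : Projectivization F (Fin 4 → F)} (hc : c ∈ suzukiOvoid F m) (hd : d ∈ suzukiOvoid F m)
    (hcd : c ≠ d) (h1 : x • c = c) (h2 : x • d = d) (hy : y * x = x * y) : fixS y = {c, d} := by
  obtain ⟨h3, h4⟩ := centralizer_fix_of_two hm hF hx1 hc hd hcd h1 h2 hy
  ext p
  constructor
  · rintro ⟨hp, hyp⟩
    by_contra hcon
    simp only [Set.mem_insert_iff, Set.mem_singleton_iff, not_or] at hcon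
    apply hy1
    apply Subtype.ext
    exact eq_one_of_fix_three hm hF y.2 hc hd hp hcd (Ne.symm hcon.2) (Ne.symm hcon.1) h3 h4 hyp
  · rintro (rfl | h)
    · exact ⟨hc, h3⟩
    · have h' : p = d := h
      subst h'
      exact ⟨hd, h4⟩

/-- Commuting non-identity elements have the same fixed points. -/
theorem fixS_eq_of_commute (hm : 1 ≤ m) (hF : Fintype.card F = 2 ^ (2 * m + 1)) {x y : ↥(Sz F m)} (hx1 : x ≠ 1)
    (hy1 : y ≠ 1) (hy : y * x = x * y) : fixS y = fixS x := by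
  rcases fixed_cases x with hfpf | ⟨c, hc, h1, h2⟩ | ⟨c, hc, d, hd, hcd, h1, h2⟩
  · rw [(isFpf_iff_fixS x).1 hfpf, ← isFpf_iff_fixS]
    exact fpf_of_commute hm hF hfpf hy hy1
  · rw [fixS_of_commute_unique hm hF hx1 hy1 hc h1 h2 hy]
    rw [fixS_of_commute_unique hm hF hx1 hx1 hc h1 h2 rfl]
  · rw [fixS_of_commute_two hm hF hx1 hy1 hc hd hcd h1 h2 hy]
    rw [fixS_of_commute_two hm hF hx1 hx1 hc hd hcd h1 h2 rfl]

/-- A non-trivial nilpotent group has non-trivial centre. -/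
lemma center_ne_bot_of_nilpotent {H : Type*} [Group H] [Nontrivial H] [Group.IsNilpotent H] :
    Subgroup.center H ≠ ⊥ := by
  intro h
  obtain ⟨n, hn⟩ := Group.IsNilpotent.nilpotent' (G := H)
  have hall : ∀ n, Subgroup.upperCentralSeries H n = ⊥ := by
    intro n
    induction n with
    | zero => exact Subgroup.upperCentralSeries_zero H
    | succ n ih =>
      rw [eq_bot_iff]
      intro x hx
      rw [Subgroup.mem_upperCentralSeries_succ_iff, ih] at hx
      rw [← h, Subgroup.mem_center_iff]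
      intro y
      have := hx y
      rw [Subgroup.mem_bot] at this
      have h2 : x * y * x⁻¹ * y⁻¹ = 1 := this
      have h3 : x * y = y * x := by
        have : x * y * x⁻¹ = y := mul_inv_eq_one.1 h2
        exact mul_inv_eq_iff_eq_mul.1 this
      exact h3.symm
  rw [hall n] at hn
  exact bot_ne_top hn

/-- All non-trivial elements of a nilpotent subgroup commute with a common non-trivial element. -/
lemma exists_central_of_nilpotent {G : Type*} [Group G] (N : Subgroup G) [Group.IsNilpotent N] {x : G} (hx : x ∈ N)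
    (hx1 : x ≠ 1) : ∃ z ∈ N, z ≠ 1 ∧ ∀ y ∈ N, y * z = z * y := by
  haveI : Nontrivial N := ⟨⟨⟨x, hx⟩, 1, fun h => hx1 (congrArg Subtype.val h)⟩⟩
  have h := center_ne_bot_of_nilpotent (H := N)
  obtain ⟨z, hz1⟩ := (Subgroup.ne_bot_iff_exists_ne_one).1 h
  refine ⟨(z : N).1, (z : N).2, fun h1 => hz1 (Subtype.ext (Subtype.ext h1)), ?_⟩
  intro y hy
  have := (Subgroup.mem_center_iff.1 z.2) ⟨y, hy⟩
  exact congrArg Subtype.val this

/-- The relation: same fixed set, and same centraliser if the fixed set is empty. -/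
def SzRel (x y : ↥(Sz F m)) : Prop :=
  fixS x = fixS y ∧ (fixS x = ∅ → Subgroup.centralizer ({x} : Set ↥(Sz F m)) = Subgroup.centralizer ({y} : Set ↥(Sz F m)))

lemma szRel_of_commute (hm : 1 ≤ m) (hF : Fintype.card F = 2 ^ (2 * m + 1)) {x y : ↥(Sz F m)} (hx1 : x ≠ 1)
    (hy1 : y ≠ 1) (hy : y * x = x * y) : SzRel x y := by
  refine ⟨(fixS_eq_of_commute hm hF hx1 hy1 hy).symm, ?_⟩
  intro h
  exact (centralizer_eq_of_fpf hm hF ((isFpf_iff_fixS x).2 h) hy hy1).symm

/-- Non-trivial elements of a nilpotent subgroup are related. -/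
theorem szRel_of_nilpotent (hm : 1 ≤ m) (hF : Fintype.card F = 2 ^ (2 * m + 1)) (N : Subgroup ↥(Sz F m))
    [Group.IsNilpotent N] {x y : ↥(Sz F m)} (hx : x ∈ N) (hy : y ∈ N) (hx1 : x ≠ 1) (hy1 : y ≠ 1) : SzRel x y := by
  obtain ⟨z, -, hz1, hz⟩ := exists_central_of_nilpotent N hx hx1
  have h1 := szRel_of_commute hm hF hz1 hx1 (hz x hx)
  have h2 := szRel_of_commute hm hF hz1 hy1 (hz y hy)
  refine ⟨h1.1.symm.trans h2.1, fun h => ?_⟩
  have h3 : fixS z = ∅ := by rw [h1.1, h]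
  exact (h1.2 h3).symm.trans (h2.2 h3)

/-- An element with exactly the given fixed point. -/
lemma exists_fixS_singleton (hF : Fintype.card F = 2 ^ (2 * m + 1)) {p : Projectivization F (Fin 4 → F)}
    (hp : p ∈ suzukiOvoid F m) : ∃ x : ↥(Sz F m), x ≠ 1 ∧ fixS x = {p} := by
  obtain ⟨k, hk⟩ := exists_pt_G hF hp
  have hne : (1 : F) ≠ 0 ∨ (0 : F) ≠ 0 := Or.inl one_ne_zero
  refine ⟨k * uG hF (1 : F) 0 * k⁻¹, ?_, ?_⟩
  · intro h
    have h1 : uG hF (1 : F) 0 = 1 := by
      have : uG hF (1 : F) 0 = k⁻¹ * (k * uG hF (1 : F) 0 * k⁻¹) * k := by group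
      rw [this, h]
      group
    rw [← uG_zero hF] at h1
    exact one_ne_zero (uG_inj hF h1).1
  · ext c
    constructor
    · rintro ⟨hc, h⟩
      have h2 : k⁻¹ • c = suzukiPointInfinity F := by
        apply eq_inf_of_uG_fix hF hne (smul_mem_ovoid _ hc)
        rw [← smul_left_cancel_iff k, smul_inv_smul, ← mul_smul, ← mul_smul]
        exact h
      show c = p
      rw [← hk, ← h2, smul_inv_smul]
    · intro hc
      have hc' : c = p := hc
      subst hc'
      refine ⟨hp, ?_⟩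
      rw [← hk, mul_smul, mul_smul, inv_smul_smul, uG_inf]

/-- An element with exactly two fixed points. -/
lemma exists_fixS_pair (hm : 1 ≤ m) (hF : Fintype.card F = 2 ^ (2 * m + 1)) :
    ∃ x : ↥(Sz F m), x ≠ 1 ∧ fixS x = {suzukiPointInfinity F, szPt m (0 : F) 0} := by
  obtain ⟨l, hl⟩ := exists_unit_ne_one (F := F) hm hF
  have h1 : hG hF l ≠ 1 := by
    intro h
    rw [← hG_one hF] at h
    exact hl (hG_inj hF h)
  have hne : suzukiPointInfinity F ≠ szPt m (0 : F) 0 := (szPt_ne_inf 0 0).symm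
  refine ⟨hG hF l, h1, ?_⟩
  have h0 : hG hF l • szPt m (0 : F) 0 = szPt m (0 : F) 0 := by
    rw [hG_smul]
    simp
  rw [fixS_of_commute_two hm hF h1 h1 inf_mem_ovoid (szPt_mem_ovoid 0 0) hne (hG_inf hF l) h0 rfl]

/-- Subgroups fixing a point are proper. -/
lemma stabilizer_ne_top (hF : Fintype.card F = 2 ^ (2 * m + 1)) {p : Projectivization F (Fin 4 → F)}
    (hp : p ∈ suzukiOvoid F m) : MulAction.stabilizer ↥(Sz F m) p ≠ ⊤ := by
  intro h
  obtain ⟨k, hk⟩ := exists_pt_G hF hp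
  have h1 : (k * wG hF * k⁻¹) ∈ MulAction.stabilizer ↥(Sz F m) p := by rw [h]; trivial
  have h2 : (k * wG hF * k⁻¹) • p = p := h1
  rw [← hk, mul_smul, mul_smul, inv_smul_smul, wG_infty] at h2
  exact szPt_ne_inf _ _ (smul_left_cancel k h2)

lemma centralizer_fpf_ne_top (hF : Fintype.card F = 2 ^ (2 * m + 1)) (hm : 1 ≤ m) {x : ↥(Sz F m)} (hx : IsFpf x) :
    Subgroup.centralizer ({x} : Set ↥(Sz F m)) ≠ ⊤ := by
  intro h
  have h1 : uG hF (1 : F) 0 ∈ Subgroup.centralizer ({x} : Set ↥(Sz F m)) := by rw [h]; trivial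
  rw [Subgroup.mem_centralizer_singleton_iff] at h1
  have hne : uG hF (1 : F) 0 ≠ 1 := by
    intro h
    rw [← uG_zero hF] at h
    exact one_ne_zero (uG_inj hF h).1
  have := fpf_of_commute hm hF hx h1 hne
  exact this _ inf_mem_ovoid (uG_inf hF _ _)

/-- The main counting statement for nilpotent covers. -/
theorem no_nilpotent_min_cover (hm : 1 ≤ m) (hF : Fintype.card F = 2 ^ (2 * m + 1))
    (𝓐 : Finset (Subgroup ↥(Sz F m))) (hcov : ∀ g : ↥(Sz F m), ∃ A ∈ 𝓐, g ∈ A)
    (hmin : ∀ 𝓑 : Finset (Subgroup ↥(Sz F m)), (∀ A ∈ 𝓑, A ≠ ⊤) ∧ (∀ g : ↥(Sz F m), ∃ A ∈ 𝓑, g ∈ A) → 𝓐.card ≤ 𝓑.card)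
    (hnil : ∀ A ∈ 𝓐, Group.IsNilpotent ↥A) : False := by
  classical
  haveI : Finite ↥(suzukiOvoid F m) := by
    apply Nat.finite_of_card_ne_zero
    rw [card_ovoid]
    omega
  letI : Fintype ↥(suzukiOvoid F m) := Fintype.ofFinite _
  letI : Fintype (SzAs F m) := Fintype.ofFinite _
  -- the big cover
  let fB : ↥(suzukiOvoid F m) ⊕ SzAs F m → Subgroup ↥(Sz F m) :=
    Sum.elim (fun p => MulAction.stabilizer ↥(Sz F m) p.1) (fun A => A.1)
  let 𝓑 : Finset (Subgroup ↥(Sz F m)) := Finset.univ.image fB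
  have hB1 : ∀ A ∈ 𝓑, A ≠ ⊤ := by
    intro A hA
    obtain ⟨i, -, rfl⟩ := Finset.mem_image.1 hA
    rcases i with p | ⟨A, x, hx, rfl⟩
    · exact stabilizer_ne_top hF p.2
    · exact centralizer_fpf_ne_top hF hm hx
  have hB2 : ∀ g : ↥(Sz F m), ∃ A ∈ 𝓑, g ∈ A := by
    intro g
    rcases fixed_cases g with hfpf | ⟨c, hc, h1, -⟩ | ⟨c, hc, d, -, -, h1, -⟩
    · refine ⟨fB (Sum.inr ⟨_, g, hfpf, rfl⟩), Finset.mem_image_of_mem _ (Finset.mem_univ _), ?_⟩
      show g ∈ Subgroup.centralizer ({g} : Set ↥(Sz F m))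
      rw [Subgroup.mem_centralizer_singleton_iff]
    · exact ⟨fB (Sum.inl ⟨c, hc⟩), Finset.mem_image_of_mem _ (Finset.mem_univ _), h1⟩
    · exact ⟨fB (Sum.inl ⟨c, hc⟩), Finset.mem_image_of_mem _ (Finset.mem_univ _), h1⟩
  have h1 : 𝓐.card ≤ Fintype.card ↥(suzukiOvoid F m) + Fintype.card (SzAs F m) := by
    calc 𝓐.card ≤ 𝓑.card := hmin 𝓑 ⟨hB1, hB2⟩
      _ ≤ (Finset.univ : Finset (↥(suzukiOvoid F m) ⊕ SzAs F m)).card := Finset.card_image_le
      _ = _ := by rw [Finset.card_univ, Fintype.card_sum]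
  -- the elements
  obtain ⟨x₀, hx₀1, hx₀⟩ := exists_fixS_pair (F := F) hm hF
  have hs : ∀ p : ↥(suzukiOvoid F m), ∃ x : ↥(Sz F m), x ≠ 1 ∧ fixS x = {p.1} := fun p => exists_fixS_singleton hF p.2
  choose xp hxp1 hxp using hs
  have ha : ∀ A : SzAs F m, ∃ x : ↥(Sz F m), x ≠ 1 ∧ IsFpf x ∧ A.1 = Subgroup.centralizer ({x} : Set ↥(Sz F m)) := by
    rintro ⟨A, x, hx, rfl⟩
    exact ⟨x, one_not_fpf x hx, hx, rfl⟩
  choose xa hxa1 hxa hxa' using ha
  let el : ↥(suzukiOvoid F m) ⊕ (Unit ⊕ SzAs F m) → ↥(Sz F m) :=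
    Sum.elim xp (Sum.elim (fun _ => x₀) xa)
  have hel1 : ∀ i, el i ≠ 1 := by
    rintro (p | _ | A)
    · exact hxp1 p
    · exact hx₀1
    · exact hxa1 A
  have hmem : ∀ i, ∃ A : ↥𝓐, el i ∈ A.1 := by
    intro i
    obtain ⟨A, hA, h⟩ := hcov (el i)
    exact ⟨⟨A, hA⟩, h⟩
  choose sel hsel using hmem
  have hinj : Function.Injective sel := by
    intro i j hij
    have hrel : SzRel (el i) (el j) := by
      haveI := hnil _ (sel i).2
      have hj : el j ∈ (sel i).1 := by
        rw [hij]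
        exact hsel j
      exact szRel_of_nilpotent hm hF (sel i).1 (hsel i) hj (hel1 i) (hel1 j)
    have hpair : ∀ p : Projectivization F (Fin 4 → F),
        ({p} : Set (Projectivization F (Fin 4 → F))) ≠ {suzukiPointInfinity F, szPt m (0 : F) 0} := by
      intro p h
      have h1 : suzukiPointInfinity F ∈ ({p} : Set (Projectivization F (Fin 4 → F))) := by rw [h]; simp
      have h2 : szPt m (0 : F) 0 ∈ ({p} : Set (Projectivization F (Fin 4 → F))) := by rw [h]; simp
      have h1' : suzukiPointInfinity F = p := h1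
      have h2' : szPt m (0 : F) 0 = p := h2
      exact szPt_ne_inf _ _ (h2'.trans h1'.symm)
    rcases i with p | _ | A <;> rcases j with p' | _ | A'
    · have h := hrel.1
      change fixS (xp p) = fixS (xp p') at h
      rw [hxp, hxp] at h
      have : p.1 = p'.1 := Set.singleton_injective h
      rw [Subtype.ext this]
    · exfalso
      have h := hrel.1
      change fixS (xp p) = fixS x₀ at h
      rw [hxp, hx₀] at h
      exact hpair _ h
    · exfalso
      have h := hrel.1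
      change fixS (xp p) = fixS (xa A') at h
      rw [hxp, (isFpf_iff_fixS _).1 (hxa A')] at h
      exact Set.singleton_ne_empty _ h
    · exfalso
      have h := hrel.1
      change fixS x₀ = fixS (xp p') at h
      rw [hxp, hx₀] at h
      exact hpair _ h.symm
    · rfl
    · exfalso
      have h := hrel.1
      change fixS x₀ = fixS (xa A') at h
      rw [hx₀, (isFpf_iff_fixS _).1 (hxa A')] at h
      exact (Set.insert_nonempty _ _).ne_empty h
    · exfalso
      have h := hrel.1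
      change fixS (xa A) = fixS (xp p') at h
      rw [hxp, (isFpf_iff_fixS _).1 (hxa A)] at h
      exact Set.singleton_ne_empty _ h.symm
    · exfalso
      have h := hrel.1
      change fixS (xa A) = fixS x₀ at h
      rw [hx₀, (isFpf_iff_fixS _).1 (hxa A)] at h
      exact (Set.insert_nonempty _ _).ne_empty h.symm
    · have h := hrel.2 ((isFpf_iff_fixS _).1 (hxa A))
      change Subgroup.centralizer ({xa A} : Set ↥(Sz F m)) = Subgroup.centralizer ({xa A'} : Set ↥(Sz F m)) at h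
      rw [← hxa', ← hxa'] at h
      rw [Subtype.ext h]
  have h2 := Fintype.card_le_of_injective sel hinj
  rw [Fintype.card_sum, Fintype.card_sum, Fintype.card_coe, Fintype.card_unit] at h2
  omega

end Cfsg.Agent.H10
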