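import Mathlib
import Cfsg.Agent.Lib.H10.SzEl

/-! The Suzuki group: transitive actions of fixity two. -/

set_option autoImplicit false
set_option linter.unusedSectionVars false
set_option linter.unusedSimpArgs false
set_option linter.style.haveILetI false

namespace Cfsg.Agent.H10

open Matrix Cfsg
open scoped Pointwise commutatorElement

variable {F : Type*} [Field F] [Fintype F] [CharP F 2] {m : ℕ}

/-- Fixity two as a condition on triples. -/
def FixTwo (S Ω : Type*) [Group S] [MulAction S Ω] : Prop :=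
  ∀ s : S, s ≠ 1 → ∀ a b c : Ω, s • a = a → s • b = b → s • c = c → a = b ∨ b = c ∨ a = c

section generic

variable {S Ω : Type*} [Group S] [MulAction S Ω]

lemma fix_of_commute {x c : S} {ω : Ω} (hxc : x * c = c * x) (h : x • ω = ω) : x • (c • ω) = c • ω := by
  rw [← mul_smul, hxc, mul_smul, h]

/-- The square of an element preserving the fixed set. -/
lemma sq_smul_of_fix (hfix : FixTwo S Ω) {x c : S} (hx : x ≠ 1) {ω : Ω} (h0 : x • ω = ω) (h1 : x • (c • ω) = c • ω)
    (h2 : x • (c • (c • ω)) = c • (c • ω)) : (c * c) • ω = ω := by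
  rw [mul_smul]
  rcases hfix x hx ω (c • ω) (c • (c • ω)) h0 h1 h2 with h | h | h
  · rw [← h, ← h]
  · have h' : ω = c • ω := smul_left_cancel c h
    rw [← h', ← h']
  · exact h.symm

lemma smul_of_sq_smul {c : S} {ω : Ω} (h : (c * c) • ω = ω) {n : ℕ} (hn : ¬ 2 ∣ n) (hc : c ^ n = 1) : c • ω = ω := by
  have hn' : n = 2 * (n / 2) + 1 := by omega
  have h1 : c = (c * c) ^ (n / 2 + 1) * c⁻¹ ^ 0 * 1 := by
    have : (c * c) ^ (n / 2 + 1) = c ^ (n + 1) := by
      rw [← sq, ← pow_mul]
      congr 1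
      omega
    rw [this, pow_succ, hc]
    simp
  have h2 : ∀ k : ℕ, (c * c) ^ k • ω = ω := by
    intro k
    induction k with
    | zero => simp
    | succ k ih => rw [pow_succ, mul_smul, h, ih]
  rw [h1]
  simp [h2]

end generic

/-- An involution of `B` is in the centre of `U`. -/
lemma involution_of_mem_B (hm : 1 ≤ m) (hF : Fintype.card F = 2 ^ (2 * m + 1)) {t : ↥(Sz F m)} (ht : t ∈ szB F m)
    (ht1 : t ≠ 1) (ht2 : t * t = 1) : ∃ b : F, b ≠ 0 ∧ t = uG hF 0 b := by
  obtain ⟨a, c, l, rfl⟩ := (mem_B_iff hm hF t).1 ht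
  have e1 : uG hF a c * hG hF l * (uG hF a c * hG hF l) =
      uG hF a c * uG hF ((l : F) * a) ((l : F) ^ (2 ^ (m + 1) + 1) * c) * hG hF (l * l) := by
    rw [← hG_mul, mul_assoc, ← mul_assoc (hG hF l), hG_uG, mul_assoc, mul_assoc]
  have ht2' := ht2
  rw [e1, uG_mul] at ht2
  have e2 : uG hF (a + (l : F) * a) (c + (l : F) ^ (2 ^ (m + 1) + 1) * c + a ^ (2 ^ (m + 1)) * ((l : F) * a)) * hG hF (l * l) =
      uG hF (0 : F) 0 * hG hF 1 := by
    rw [ht2, uG_zero, hG_one, mul_one]
  obtain ⟨-, -, h3⟩ := uG_hG_inj hF e2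
  have hl : l = 1 := by
    apply Units.ext
    have h4 : (l : F) * l = 1 := by
      have := congrArg (fun u : Fˣ => (u : F)) h3
      simpa using this
    have h5 : ((l : F) + 1) ^ 2 = 0 := by
      have h2 : (2 : F) = 0 := sz_two
      linear_combination h4 + ((l : F)) * h2 + (1 : F) * h2 * 0 + (1 : F) * h2
    have h6 := pow_eq_zero_iff (two_ne_zero) |>.1 h5
    rw [Units.val_one]
    linear_combination h6 - (1 : F) * (sz_two (F := F))
  subst hl
  rw [hG_one, mul_one] at ht1 ht2'
  rw [hG_one, mul_one]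
  have h7 : uG hF a c * uG hF a c = 1 := ht2'
  have h8 : a = 0 := by
    have h9 := uG_sq hF a c
    rw [sq, h7, ← uG_zero hF] at h9
    have h10 := (uG_inj hF h9).2
    exact pow_eq_zero_iff (by positivity) |>.1 h10.symm
  subst h8
  refine ⟨c, ?_, rfl⟩
  rintro rfl
  exact ht1 (uG_zero hF)

/-- Any involution in a point stabiliser, after conjugation. -/
lemma exists_conj_involution (hm : 1 ≤ m) (hF : Fintype.card F = 2 ^ (2 * m + 1)) {t : ↥(Sz F m)} (ht1 : t ≠ 1)
    (ht2 : t * t = 1) : ∃ (k : ↥(Sz F m)) (b : F), b ≠ 0 ∧ k⁻¹ * t * k = uG hF 0 b := by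
  obtain ⟨c, hc, htc⟩ := exists_fix_of_sq hF t (by rw [sq, ht2])
  obtain ⟨k, hk⟩ := exists_pt_G hF hc
  have hB : k⁻¹ * t * k ∈ szB F m := by
    show (k⁻¹ * t * k) • suzukiPointInfinity F = suzukiPointInfinity F
    rw [mul_smul, mul_smul, hk, htc, inv_smul_eq_iff, hk]
  obtain ⟨b, hb, h⟩ := involution_of_mem_B hm hF hB (by
      intro h
      apply ht1
      have : t = k * (k⁻¹ * t * k) * k⁻¹ := by group
      rw [this, h]
      group) (by
      calc k⁻¹ * t * k * (k⁻¹ * t * k) = k⁻¹ * (t * t) * k := by group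
        _ = 1 := by rw [ht2]; group)
  exact ⟨k, b, hb, h⟩

section action

variable {Ω : Type*} [MulAction ↥(Sz F m) Ω]

/-- If the central involution fixes a point, then all of `B` does. -/
theorem B_le_stabilizer (hm : 1 ≤ m) (hF : Fintype.card F = 2 ^ (2 * m + 1)) (hfix : FixTwo ↥(Sz F m) Ω) {α : Ω}
    {b : F} (hb : b ≠ 0) (ht : uG hF 0 b • α = α) : szB F m ≤ MulAction.stabilizer ↥(Sz F m) α := by
  have ht1 : uG hF (0 : F) b ≠ 1 := by
    intro h
    rw [← uG_zero hF] at h
    exact hb (uG_inj hF h).2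
  have hcomm : ∀ a c : F, uG hF 0 b * uG hF a c = uG hF a c * uG hF 0 b := by
    intro a c
    rw [uG_mul, uG_mul, zero_pow (by positivity), zero_mul, mul_zero, add_zero, add_zero, zero_add,
      add_comm b c, add_zero]
  -- squares in `U` fix the point
  have hU : ∀ a c : F, (uG hF a c * uG hF a c) • α = α := by
    intro a c
    apply sq_smul_of_fix hfix ht1 ht
    · exact fix_of_commute (hcomm a c) ht
    · exact fix_of_commute (hcomm a c) (fix_of_commute (hcomm a c) ht)
  have hZ : ∀ c : F, uG hF 0 c • α = α := by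
    intro c
    obtain ⟨a, rfl⟩ := exists_pow_eq hF c
    have := hU a 0
    rwa [← sq, uG_sq] at this
  -- moving the central involution by `B`
  have hB : ∀ y ∈ szB F m, ∃ c : F, uG hF 0 b * y = y * uG hF 0 c := by
    intro y hy
    obtain ⟨a, d, l, rfl⟩ := (mem_B_iff hm hF y).1 hy
    refine ⟨(((l⁻¹ : Fˣ) : F)) ^ (2 ^ (m + 1) + 1) * b, ?_⟩
    rw [mul_assoc (uG hF a d), hG_uG]
    have h1 : (l : F) * 0 = 0 := mul_zero _
    have h2 : (l : F) ^ (2 ^ (m + 1) + 1) * (((l⁻¹ : Fˣ) : F) ^ (2 ^ (m + 1) + 1) * b) = b := by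
      rw [← mul_assoc, ← mul_pow, Units.mul_inv, one_pow, one_mul]
    rw [h1, h2, ← mul_assoc, ← mul_assoc, hcomm]
  have hfixB : ∀ y ∈ szB F m, uG hF 0 b • (y • α) = y • α := by
    intro y hy
    obtain ⟨c, hc⟩ := hB y hy
    rw [← mul_smul, hc, mul_smul, hZ]
  have hsq : ∀ y ∈ szB F m, (y * y) • α = α := by
    intro y hy
    apply sq_smul_of_fix hfix ht1 ht (hfixB y hy)
    have := hfixB (y * y) (Subgroup.mul_mem _ hy hy)
    rwa [mul_smul] at this
  -- the torus
  have hH : ∀ l : Fˣ, hG hF l • α = α := by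
    intro l
    obtain ⟨l', rfl⟩ := exists_unit_sq hF l
    rw [← hG_mul]
    exact hsq _ (hG_mem_B hF l')
  -- commutators
  have hcomm2 : ∀ x ∈ szB F m, ∀ y ∈ szB F m, ⁅x, y⁆ • α = α := by
    intro x hx y hy
    have e : ⁅x, y⁆ = (x * x) * ((x⁻¹ * y) * (x⁻¹ * y)) * (y⁻¹ * y⁻¹) := by
      rw [commutatorElement_def]
      group
    have h1 : (y⁻¹ * y⁻¹) • α = α := hsq _ (Subgroup.inv_mem _ hy)
    have h2 : ((x⁻¹ * y) * (x⁻¹ * y)) • α = α := hsq _ (Subgroup.mul_mem _ (Subgroup.inv_mem _ hx) hy)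
    have h3 : (x * x) • α = α := hsq _ hx
    rw [e, mul_smul, mul_smul, h1, h2, h3]
  obtain ⟨l₀, hl₀⟩ := exists_unit_ne_one (F := F) hm hF
  intro y hy
  obtain ⟨a, d, l, rfl⟩ := (mem_B_iff hm hF y).1 hy
  show (uG hF a d * hG hF l) • α = α
  rw [mul_smul, hH]
  obtain ⟨c, e, he⟩ := uG_eq_comm hF l₀ hl₀ a d
  rw [← he]
  exact hcomm2 _ (hG_mem_B hF _) _ (uG_mem_B hF _ _)

/-- A point stabiliser containing `B`. -/
theorem stabilizer_eq_B (hm : 1 ≤ m) (hF : Fintype.card F = 2 ^ (2 * m + 1)) {α : Ω}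
    (hle : szB F m ≤ MulAction.stabilizer ↥(Sz F m) α) (hne : MulAction.stabilizer ↥(Sz F m) α ≠ ⊤) :
    MulAction.stabilizer ↥(Sz F m) α = szB F m := by
  by_contra hcon
  exact hne ((isCoatom_B hm hF).2 _ (lt_of_le_of_ne hle (Ne.symm hcon)))

/-- The action is `2`-transitive if the stabiliser is `B`. -/
theorem two_trans_of_stabilizer (hF : Fintype.card F = 2 ^ (2 * m + 1)) (htr : MulAction.IsPretransitive ↥(Sz F m) Ω) {α : Ω}
    (hS : MulAction.stabilizer ↥(Sz F m) α = szB F m) (a b c d : Ω) (hab : a ≠ b) (hcd : c ≠ d) :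
    ∃ s : ↥(Sz F m), s • a = c ∧ s • b = d := by
  have hreg : ∀ β γ : Ω, β ≠ α → γ ≠ α → ∃ u ∈ szB F m, u • β = γ := by
    intro β γ hβ hγ
    obtain ⟨g, rfl⟩ := MulAction.exists_smul_eq ↥(Sz F m) α β
    obtain ⟨g', rfl⟩ := MulAction.exists_smul_eq ↥(Sz F m) α γ
    have h1 : g ∉ szB F m := by
      intro h
      rw [← hS] at h
      exact hβ h
    have h2 : g' ∉ szB F m := by
      intro h
      rw [← hS] at h
      exact hγ h
    obtain ⟨x, y, hxy⟩ := eq_szPt_of_ne g h1
    obtain ⟨x', y', hxy'⟩ := eq_szPt_of_ne g' h2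
    obtain ⟨u, hu, hu'⟩ := exists_uG_smul hF x y x' y'
    refine ⟨u, szUG_le_B hF hu, ?_⟩
    have h3 : g'⁻¹ * (u * g) ∈ szB F m := by
      show (g'⁻¹ * (u * g)) • suzukiPointInfinity F = suzukiPointInfinity F
      rw [mul_smul, mul_smul, hxy, hu', inv_smul_eq_iff, hxy']
    rw [← hS] at h3
    have h4 : (g'⁻¹ * (u * g)) • α = α := h3
    rw [mul_smul, inv_smul_eq_iff, mul_smul] at h4
    exact h4
  obtain ⟨g1, h1⟩ := MulAction.exists_smul_eq ↥(Sz F m) a α
  obtain ⟨g2, h2⟩ := MulAction.exists_smul_eq ↥(Sz F m) c α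
  have hb : g1 • b ≠ α := by
    intro h
    apply hab
    apply smul_left_cancel g1
    rw [h1, h]
  have hd : g2 • d ≠ α := by
    intro h
    apply hcd
    apply smul_left_cancel g2
    rw [h2, h]
  obtain ⟨u, hu, hu'⟩ := hreg _ _ hb hd
  have hu2 : u • α = α := by
    rw [← hS] at hu
    exact hu
  refine ⟨g2⁻¹ * u * g1, ?_, ?_⟩
  · rw [mul_smul, mul_smul, h1, hu2, inv_smul_eq_iff, h2]
  · rw [mul_smul, mul_smul, hu', inv_smul_smul]

end action

/-- A solvable non-trivial group has a non-trivial abelian normal subgroup. -/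
lemma exists_abelian_normal {H : Type*} [Group H] [Nontrivial H] [Group.IsSolvable H] :
    ∃ D : Subgroup H, D.Normal ∧ D ≠ ⊥ ∧ ∀ x ∈ D, ∀ y ∈ D, x * y = y * x := by
  classical
  have hex : ∃ n, derivedSeries H n = ⊥ := Group.IsSolvable.solvable
  let n := Nat.find hex
  have hn : derivedSeries H n = ⊥ := Nat.find_spec hex
  have hn0 : n ≠ 0 := by
    intro h
    rw [h, derivedSeries_zero] at hn
    exact top_ne_bot hn
  obtain ⟨k, hk⟩ := Nat.exists_eq_succ_of_ne_zero hn0
  refine ⟨derivedSeries H k, derivedSeries_normal H k, ?_, ?_⟩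
  · have : ¬ derivedSeries H k = ⊥ := Nat.find_min hex (by omega)
    exact this
  · intro x hx y hy
    have h1 : ⁅x, y⁆ ∈ derivedSeries H n := by
      rw [hk, derivedSeries_succ]
      exact Subgroup.commutator_mem_commutator hx hy
    rw [hn, Subgroup.mem_bot, commutatorElement_eq_one_iff_mul_comm] at h1
    exact h1

lemma card_normalizer_smul (g : ↥(Sz F m)) (A : SzAs F m) :
    Nat.card (Subgroup.normalizer ((g • A).1 : Set ↥(Sz F m))) = Nat.card (Subgroup.normalizer (A.1 : Set ↥(Sz F m))) := by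
  rw [smul_val]
  have e : Subgroup.normalizer ((A.1.map (MulAut.conj g).toMonoidHom : Subgroup ↥(Sz F m)) : Set ↥(Sz F m)) =
      (Subgroup.normalizer (A.1 : Set ↥(Sz F m))).map (MulAut.conj g).toMonoidHom :=
    (Subgroup.map_equiv_normalizer_eq _ _).symm
  rw [e]
  exact Subgroup.card_map_of_injective (MulAut.conj g).injective

/-- The normaliser of a fixed-point-free centraliser has index `4`. -/
theorem IsSzA.card_normalizer (hm : 1 ≤ m) (hF : Fintype.card F = 2 ^ (2 * m + 1)) {A : Subgroup ↥(Sz F m)}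
    (hA : IsSzA A) : Nat.card (Subgroup.normalizer (A : Set ↥(Sz F m))) = 4 * Nat.card A := by
  obtain ⟨A₁, A₂, -, -, h1, h2, hAll⟩ := exists_tori (F := F) hm hF
  rcases hAll ⟨A, hA⟩ with ⟨g, hg⟩ | ⟨g, hg⟩
  · have e1 := card_normalizer_smul g A₁
    have e2 := card_smul_val g A₁
    rw [hg] at e1 e2
    exact e1.trans (h1.trans (by rw [e2]))
  · have e1 := card_normalizer_smul g A₂
    have e2 := card_smul_val g A₂
    rw [hg] at e1 e2
    exact e1.trans (h2.trans (by rw [e2]))

lemma IsSzA.pow_four_mem (hm : 1 ≤ m) (hF : Fintype.card F = 2 ^ (2 * m + 1)) {A : Subgroup ↥(Sz F m)}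
    (hA : IsSzA A) {x : ↥(Sz F m)} (hx : x ∈ Subgroup.normalizer (A : Set ↥(Sz F m))) : x ^ 4 ∈ A := by
  have hc := hA.card_normalizer hm hF
  set N := Subgroup.normalizer (A : Set ↥(Sz F m)) with hN
  haveI hn : (A.subgroupOf N).Normal := Subgroup.normal_in_normalizer
  have h1 := Subgroup.index_mul_card (A.subgroupOf N)
  have h2 : Nat.card (A.subgroupOf N) = Nat.card A :=
    Nat.card_congr (Subgroup.subgroupOfEquivOfLe Subgroup.le_normalizer).toEquiv
  rw [h2, hc] at h1
  have hpos : 0 < Nat.card A := Nat.card_pos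
  have h3 : (A.subgroupOf N).index = 4 := Nat.eq_of_mul_eq_mul_right hpos h1
  have h4 := Subgroup.pow_index_mem (A.subgroupOf N) (⟨x, hx⟩ : N)
  rw [h3] at h4
  exact h4

/-- Odd subgroups of the Suzuki group are Z-groups. -/
lemma isZGroup_of_odd (hm : 1 ≤ m) (hF : Fintype.card F = 2 ^ (2 * m + 1)) (H : Subgroup ↥(Sz F m))
    (hodd : ¬ 2 ∣ Nat.card H) : IsZGroup H := by
  refine ⟨fun p hp P => ?_⟩
  haveI := Fact.mk hp
  by_cases h2 : p = 2
  · subst h2
    obtain ⟨k, hk⟩ := IsPGroup.iff_card.1 P.isPGroup'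
    have hdvd : Nat.card P ∣ Nat.card H := Subgroup.card_subgroup_dvd_card _
    have hk0 : k = 0 := by
      by_contra hne
      apply hodd
      apply dvd_trans _ hdvd
      rw [hk]
      exact dvd_pow_self 2 hne
    subst hk0
    rw [pow_zero] at hk
    haveI : Subsingleton P := (Nat.card_eq_one_iff_unique.1 hk).1
    exact isCyclic_of_subsingleton
  · have h1 : IsPGroup p ((P : Subgroup H).map H.subtype) := P.isPGroup'.map _
    haveI := isCyclic_sylow_odd hm hF h2 _ h1
    let e := (P : Subgroup H).equivMapOfInjective H.subtype H.subtype_injective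
    exact isCyclic_of_surjective e.symm e.symm.surjective

section action

variable {Ω : Type*} [MulAction ↥(Sz F m) Ω]

lemma mem_of_mul_self_mem {S : Type*} [Group S] (A : Subgroup S) {c : S} (h : c * c ∈ A) {n : ℕ} (hn : ¬ 2 ∣ n)
    (hc : c ^ n = 1) : c ∈ A := by
  have h1 : c = (c * c) ^ (n / 2 + 1) := by
    have : (c * c) ^ (n / 2 + 1) = c ^ (n + 1) := by
      rw [← sq, ← pow_mul]
      congr 1
      omega
    rw [this, pow_succ, hc, one_mul]
  rw [h1]
  exact Subgroup.pow_mem _ h _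

lemma card_le_two_of_fixTwo {s : Set Ω} (hfin : s.Finite) (h : ∀ a ∈ s, ∀ b ∈ s, ∀ c ∈ s, a = b ∨ b = c ∨ a = c) :
    s.ncard ≤ 2 := by
  by_contra hcon
  push Not at hcon
  obtain ⟨a, ha, b, hb, c, hc, hab, hac, hbc⟩ := (Set.two_lt_ncard hfin).1 hcon
  rcases h a ha b hb c hc with h' | h' | h'
  · exact hab h'
  · exact hbc h'
  · exact hac h'

/-- Point stabilisers of odd order in an action of fixity two. -/
theorem odd_stabilizer (hm : 1 ≤ m) (hF : Fintype.card F = 2 ^ (2 * m + 1)) (hfix : FixTwo ↥(Sz F m) Ω) {α : Ω}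
    (hodd : ¬ 2 ∣ Nat.card (MulAction.stabilizer ↥(Sz F m) α)) (hne : MulAction.stabilizer ↥(Sz F m) α ≠ ⊥) :
    Nat.card (MulAction.stabilizer ↥(Sz F m) α) = 2 ^ (2 * m + 1) - 1 := by
  classical
  set H := MulAction.stabilizer ↥(Sz F m) α with hH
  haveI : Nontrivial H := (Subgroup.nontrivial_iff_ne_bot _).2 hne
  haveI := isZGroup_of_odd hm hF H hodd
  obtain ⟨D, hDn, hDne, hDc⟩ := exists_abelian_normal (H := H)
  obtain ⟨z, hz1⟩ := (Subgroup.ne_bot_iff_exists_ne_one).1 hDne
  set z0 : ↥(Sz F m) := ((z : H) : ↥(Sz F m)) with hz0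
  have hz01 : z0 ≠ 1 := fun h => hz1 (Subtype.ext (Subtype.ext h))
  have hz0H : z0 • α = α := (z : H).2
  have hoddx : ∀ x ∈ H, ¬ 2 ∣ orderOf x := by
    intro x hx h
    apply hodd
    apply dvd_trans h
    rw [← Subgroup.orderOf_mk x hx]
    exact orderOf_dvd_natCard _
  -- conjugates of `z0` commute with it
  have hconj : ∀ x ∈ H, (x * z0 * x⁻¹) * z0 = z0 * (x * z0 * x⁻¹) ∧ x * z0 * x⁻¹ ≠ 1 := by
    intro x hx
    have h1 : (⟨x, hx⟩ : H) * (z : H) * (⟨x, hx⟩ : H)⁻¹ ∈ D := hDn.conj_mem _ z.2 _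
    constructor
    · have := hDc _ h1 _ z.2
      exact congrArg Subtype.val this
    · intro h
      apply hz01
      have : z0 = x⁻¹ * (x * z0 * x⁻¹) * x := by group
      rw [this, h]
      group
  -- a general claim on subgroups containing `z0`, abelian, and of odd order
  have hodd_sub : ∀ c : ↥(Sz F m), c * z0 = z0 * c → ¬ 2 ∣ orderOf c → c • α = α := by
    intro c hc hc2
    have hc' : z0 * c = c * z0 := hc.symm
    have h1 : (c * c) • α = α := by
      apply sq_smul_of_fix hfix hz01 hz0H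
      · exact fix_of_commute hc' hz0H
      · exact fix_of_commute hc' (fix_of_commute hc' hz0H)
    exact smul_of_sq_smul h1 hc2 (pow_orderOf_eq_one c)
  rcases fixed_cases z0 with hfpf | ⟨c, hc, h1, h2⟩ | ⟨c, hc, d, hd, hcd, h1, h2⟩
  · -- the fixed-point-free case: a contradiction
    exfalso
    have hA : IsSzA (Subgroup.centralizer ({z0} : Set ↥(Sz F m))) := ⟨z0, hfpf, rfl⟩
    set A := Subgroup.centralizer ({z0} : Set ↥(Sz F m)) with hAdef
    have hH_le : H ≤ A := by
      intro x hx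
      obtain ⟨h3, h4⟩ := hconj x hx
      have h5 := centralizer_eq_of_fpf hm hF hfpf h3 h4
      have h6 : x ∈ Subgroup.normalizer (A : Set ↥(Sz F m)) := by
        rw [Subgroup.mem_normalizer_iff]
        intro y
        have e2 : x * y * x⁻¹ ∈ A ↔ y ∈ A := by
          rw [hAdef]
          conv_lhs => rw [← h5]
          rw [Subgroup.mem_centralizer_singleton_iff, Subgroup.mem_centralizer_singleton_iff]
          constructor
          · intro h
            have h8 : x * (y * z0) * x⁻¹ = x * (z0 * y) * x⁻¹ := by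
              calc x * (y * z0) * x⁻¹ = (x * y * x⁻¹) * (x * z0 * x⁻¹) := by group
                _ = (x * z0 * x⁻¹) * (x * y * x⁻¹) := h
                _ = _ := by group
            exact mul_left_cancel (mul_right_cancel h8)
          · intro h
            calc (x * y * x⁻¹) * (x * z0 * x⁻¹) = x * (y * z0) * x⁻¹ := by group
              _ = x * (z0 * y) * x⁻¹ := by rw [h]
              _ = _ := by group
        exact e2.symm
      have h7 := hA.pow_four_mem hm hF h6
      have hn := hoddx x hx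
      have h8 : x ^ 2 * x ^ 2 ∈ A := by
        rw [← pow_add]
        exact h7
      have h9 : x ^ 2 ∈ A := by
        apply mem_of_mul_self_mem A h8 hn
        rw [← pow_mul, mul_comm, pow_mul, pow_orderOf_eq_one, one_pow]
      have h10 : x * x ∈ A := by
        rw [← sq]
        exact h9
      exact mem_of_mul_self_mem A h10 hn (pow_orderOf_eq_one x)
    have hA_le : A ≤ H := by
      intro y hy
      have h3 : y * z0 = z0 * y := Subgroup.mem_centralizer_singleton_iff.1 hy
      apply hodd_sub y h3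
      intro h4
      have h5 : orderOf y ∣ Nat.card A := by
        rw [← Subgroup.orderOf_mk y hy]
        exact orderOf_dvd_natCard _
      exact odd_q_sq_add_one m (dvd_trans h4 (dvd_trans h5 (hA.card_dvd hm hF)))
    have hAH : A = H := le_antisymm hA_le hH_le
    have hz0A : z0 ∈ A := Subgroup.mem_centralizer_singleton_iff.2 rfl
    set N := Subgroup.normalizer (A : Set ↥(Sz F m)) with hN
    have hcardN := hA.card_normalizer hm hF
    have h8 := Subgroup.index_mul_card (MulAction.stabilizer ↥N α)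
    have h9 : MulAction.stabilizer ↥N α = A.subgroupOf N := by
      ext ⟨y, hy⟩
      rw [Subgroup.mem_subgroupOf]
      show y • α = α ↔ y ∈ A
      rw [hAH]
      rfl
    have h10 : Nat.card (A.subgroupOf N) = Nat.card A :=
      Nat.card_congr (Subgroup.subgroupOfEquivOfLe Subgroup.le_normalizer).toEquiv
    rw [MulAction.index_stabilizer, h9, h10] at h8
    have hsub : ∀ y ∈ MulAction.orbit ↥N α, z0 • y = y := by
      rintro _ ⟨⟨y, hy⟩, rfl⟩
      show z0 • (y • α) = y • α
      have h11 : y⁻¹ * z0 * y ∈ A := by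
        have := (Subgroup.mem_normalizer_iff.1 (N.inv_mem hy) z0).1 hz0A
        simpa using this
      rw [hAH] at h11
      have h12 : (y⁻¹ * z0 * y) • α = α := h11
      rw [mul_smul, mul_smul, inv_smul_eq_iff] at h12
      exact h12
    have hcard2 : (MulAction.orbit ↥N α).ncard ≤ 2 := by
      apply card_le_two_of_fixTwo (Set.finite_range _)
      intro a ha b hb c hc
      exact hfix z0 hz01 a b c (hsub a ha) (hsub b hb) (hsub c hc)
    have hpos : 0 < Nat.card A := Nat.card_pos
    have h13 : (MulAction.orbit ↥N α).ncard * Nat.card A ≤ 2 * Nat.card A := Nat.mul_le_mul_right _ hcard2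
    rw [h8, hcardN] at h13
    omega
  · exfalso
    have h3 : z0 ^ 4 = 1 := centralizer_pow_four hm hF hz01 hc h1 h2 rfl
    have h4 := hoddx z0 (z : H).2
    have h5 : orderOf z0 ∣ 4 := orderOf_dvd_of_pow_eq_one h3
    have h6 : orderOf z0 ∣ 2 ^ 2 := by simpa using h5
    obtain ⟨k, -, hk⟩ := (Nat.dvd_prime_pow Nat.prime_two).1 h6
    have hk0 : k = 0 := by
      by_contra hne0
      apply h4
      rw [hk]
      exact dvd_pow_self 2 hne0
    rw [hk0, pow_zero] at hk
    exact hz01 (orderOf_eq_one_iff.1 hk)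
  · have hT_cyc := szTwo_isCyclic (m := m) hm hF hc hd hcd
    have hT_card := szTwo_card (m := m) hm hF hc hd hcd
    have hzT : z0 ∈ szTwo (m := m) c d := mem_szTwo.2 ⟨h1, h2⟩
    have hT_le : szTwo (m := m) c d ≤ H := by
      intro y hy
      apply hodd_sub y
      · letI := IsCyclic.commGroup (α := ↥(szTwo (m := m) c d))
        have := mul_comm (⟨y, hy⟩ : ↥(szTwo (m := m) c d)) ⟨z0, hzT⟩
        exact congrArg Subtype.val this
      · intro h4
        have h5 : orderOf y ∣ Nat.card ↥(szTwo (m := m) c d) := by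
          rw [← Subgroup.orderOf_mk y hy]
          exact orderOf_dvd_natCard _
        rw [hT_card] at h5
        exact odd_q_sub_one m (dvd_trans h4 h5)
    have hfz : fixS z0 = {c, d} := fixS_of_commute_two hm hF hz01 hz01 hc hd hcd h1 h2 rfl
    have hH_le : H ≤ szTwo (m := m) c d := by
      intro x hx
      obtain ⟨h3, h4⟩ := hconj x hx
      have h5 : fixS (x * z0 * x⁻¹) = {c, d} := by
        rw [fixS_eq_of_commute hm hF hz01 h4 h3, hfz]
      have hmem : ∀ p, p ∈ suzukiOvoid F m → z0 • p = p → x • p = c ∨ x • p = d := by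
        intro p hp hzp
        have h6 : x • p ∈ fixS (x * z0 * x⁻¹) := by
          refine ⟨smul_mem_ovoid x hp, ?_⟩
          rw [mul_smul, mul_smul, inv_smul_smul, hzp]
        rw [h5] at h6
        exact h6
      have hxodd := hoddx x hx
      rcases hmem c hc h1 with h6 | h6
      · rcases hmem d hd h2 with h7 | h7
        · exact absurd (smul_left_cancel x (h6.trans h7.symm)) hcd
        · exact mem_szTwo.2 ⟨h6, h7⟩
      · exfalso
        rcases hmem d hd h2 with h7 | h7
        · have h8 := sq_of_swap hm hF hc hd hcd h6 h7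
          have h9 : orderOf x ∣ 2 := orderOf_dvd_of_pow_eq_one h8
          rcases (Nat.dvd_prime Nat.prime_two).1 h9 with h10 | h10
          · rw [orderOf_eq_one_iff] at h10
            rw [h10, one_smul] at h6
            exact hcd h6
          · exact hxodd (by rw [h10])
        · exact absurd (smul_left_cancel x (h6.trans h7.symm)) hcd
    rw [le_antisymm hH_le hT_le, hT_card]

/-- The main statement on fixity two. -/
theorem fixity_two [Fintype Ω] (hm : 1 ≤ m) (hF : Fintype.card F = 2 ^ (2 * m + 1)) (htr : MulAction.IsPretransitive ↥(Sz F m) Ω)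
    (hfix : FixTwo ↥(Sz F m) Ω) (hex : ∃ s : ↥(Sz F m), s ≠ 1 ∧ ∃ a b : Ω, a ≠ b ∧ s • a = a ∧ s • b = b) :
    (Fintype.card Ω = (2 ^ (2 * m + 1)) ^ 2 + 1 ∧ ∀ a b c d : Ω, a ≠ b → c ≠ d → ∃ s : ↥(Sz F m), s • a = c ∧ s • b = d) ∨
    (Fintype.card Ω = (2 ^ (2 * m + 1)) ^ 2 * ((2 ^ (2 * m + 1)) ^ 2 + 1) ∧
      ∀ α : Ω, Nat.card (MulAction.stabilizer ↥(Sz F m) α) = 2 ^ (2 * m + 1) - 1) := by
  classical
  obtain ⟨s, hs1, a, b, hab, hsa, hsb⟩ := hex
  have hcardΩ : ∀ α : Ω, (MulAction.stabilizer ↥(Sz F m) α).index = Fintype.card Ω := by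
    intro α
    rw [MulAction.index_stabilizer, MulAction.orbit_eq_univ, Set.ncard_univ, Nat.card_eq_fintype_card]
  by_cases heven : 2 ∣ Nat.card (MulAction.stabilizer ↥(Sz F m) a)
  · left
    haveI : Fact (Nat.Prime 2) := ⟨Nat.prime_two⟩
    obtain ⟨t, ht⟩ := exists_prime_orderOf_dvd_card' (G := MulAction.stabilizer ↥(Sz F m) a) 2 heven
    have ht1 : (t : ↥(Sz F m)) ≠ 1 := by
      intro h
      have h2 : t = 1 := Subtype.ext h
      rw [h2, orderOf_one] at ht
      omega
    have ht2 : (t : ↥(Sz F m)) * t = 1 := by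
      have : t ^ 2 = 1 := by
        rw [← ht]
        exact pow_orderOf_eq_one t
      have h3 := congrArg Subtype.val this
      simpa [sq] using h3
    obtain ⟨k, b₀, hb₀, hk⟩ := exists_conj_involution hm hF ht1 ht2
    have hfixk : uG hF 0 b₀ • (k⁻¹ • a) = k⁻¹ • a := by
      rw [← hk, mul_smul, mul_smul, smul_inv_smul]
      congr 1
      exact t.2
    have hle := B_le_stabilizer hm hF hfix hb₀ hfixk
    have hne : MulAction.stabilizer ↥(Sz F m) (k⁻¹ • a) ≠ ⊤ := by
      intro h
      have h1 : Fintype.card Ω = 1 := by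
        rw [← hcardΩ (k⁻¹ • a), h, Subgroup.index_top]
      have := Fintype.card_le_one_iff.1 h1.le a b
      exact hab this
    have hS := stabilizer_eq_B hm hF hle hne
    refine ⟨?_, two_trans_of_stabilizer hF htr hS⟩
    rw [← hcardΩ (k⁻¹ • a), hS, index_B hF]
  · right
    have hne : MulAction.stabilizer ↥(Sz F m) a ≠ ⊥ := by
      intro h
      have : s ∈ MulAction.stabilizer ↥(Sz F m) a := hsa
      rw [h, Subgroup.mem_bot] at this
      exact hs1 this
    have hcard := odd_stabilizer hm hF hfix heven hne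
    have hgp := Subgroup.index_mul_card (MulAction.stabilizer ↥(Sz F m) a)
    rw [hcardΩ, hcard, card_Sz hm hF] at hgp
    constructor
    · have hq : 0 < 2 ^ (2 * m + 1) - 1 := by
        have : 1 < 2 ^ (2 * m + 1) := Nat.one_lt_two_pow (by omega)
        omega
      exact Nat.eq_of_mul_eq_mul_right hq hgp
    · intro α
      obtain ⟨g, rfl⟩ := MulAction.exists_smul_eq ↥(Sz F m) a α
      rw [MulAction.stabilizer_smul_eq_stabilizer_map_conj]
      rw [← hcard]
      exact Subgroup.card_map_of_injective (MulAut.conj g).injective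

end action

end Cfsg.Agent.H10
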