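import Mathlib
import Cfsg.Agent.Lib.H10.SzFix
import Cfsg.Prelude.Def_KGroupFacts

/-! The automorphisms of the Suzuki group. -/

set_option autoImplicit false
set_option linter.unusedSectionVars false
set_option linter.unusedSimpArgs false
set_option linter.style.haveILetI false

namespace Cfsg.Agent.H10

open Matrix Cfsg

variable {F : Type*} [Field F] [Fintype F] [CharP F 2] {m : ℕ}

/-- Entrywise application of a ring automorphism. -/
noncomputable def slMap (τ : F ≃+* F) : SL4 F →* SL4 F :=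
  Matrix.SpecialLinearGroup.map (τ : F →+* F)

lemma slMap_coe (τ : F ≃+* F) (g : SL4 F) (i j : Fin 4) :
    ((slMap τ g : SL4 F) : Matrix (Fin 4) (Fin 4) F) i j = τ ((g : Matrix (Fin 4) (Fin 4) F) i j) := rfl

lemma slMap_uS (τ : F ≃+* F) (a b : F) : slMap τ (uS m a b) = uS m (τ a) (τ b) := by
  apply Subtype.ext
  ext i j
  rw [slMap_coe]
  fin_cases i <;> fin_cases j <;> simp [uS, szU, szf]

lemma slMap_hS (τ : F ≃+* F) (l : Fˣ) : slMap τ (hS m l) = hS m (Units.map (τ : F →* F) l) := by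
  apply Subtype.ext
  ext i j
  rw [slMap_coe]
  fin_cases i <;> fin_cases j <;> simp [hS, szH, Matrix.diagonal]

lemma slMap_wS (τ : F ≃+* F) : slMap τ (wS : SL4 F) = wS := by
  apply Subtype.ext
  ext i j
  rw [slMap_coe]
  fin_cases i <;> fin_cases j <;> simp [wS, szW]

lemma slMap_mem (hm : 1 ≤ m) (hF : Fintype.card F = 2 ^ (2 * m + 1)) (τ : F ≃+* F) (g : ↥(Sz F m)) :
    slMap τ g.1 ∈ Sz F m := by
  have hB : ∀ x ∈ szB F m, slMap τ ((x : ↥(Sz F m)) : SL4 F) ∈ Sz F m := by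
    intro x hx
    obtain ⟨a, b, l, rfl⟩ := (mem_B_iff hm hF x).1 hx
    show slMap τ (uS m a b * hS m l) ∈ Sz F m
    rw [map_mul, slMap_uS, slMap_hS]
    exact Subgroup.mul_mem _ (uS_mem hF _ _) (hS_mem hF _)
  rcases bruhat hm hF g with h | ⟨a, b, g', hg', rfl⟩
  · exact hB g h
  · show slMap τ (uS m a b * wS * (g' : SL4 F)) ∈ Sz F m
    rw [map_mul, map_mul, slMap_uS, slMap_wS]
    exact Subgroup.mul_mem _ (Subgroup.mul_mem _ (uS_mem hF _ _) (wS_mem hF)) (hB g' hg')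

/-- The field automorphisms of the group. -/
noncomputable def szFieldAut (hm : 1 ≤ m) (hF : Fintype.card F = 2 ^ (2 * m + 1)) (τ : F ≃+* F) : MulAut ↥(Sz F m) where
  toFun g := ⟨slMap τ g.1, slMap_mem hm hF τ g⟩
  invFun g := ⟨slMap τ.symm g.1, slMap_mem hm hF τ.symm g⟩
  left_inv g := by
    apply Subtype.ext
    apply Subtype.ext
    ext i j
    show τ.symm (τ _) = _
    simp
  right_inv g := by
    apply Subtype.ext
    apply Subtype.ext
    ext i j
    show τ (τ.symm _) = _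
    simp
  map_mul' a b := by
    apply Subtype.ext
    show slMap τ (a.1 * b.1) = slMap τ a.1 * slMap τ b.1
    rw [map_mul]

lemma szFieldAut_uG (hm : 1 ≤ m) (hF : Fintype.card F = 2 ^ (2 * m + 1)) (τ : F ≃+* F) (a b : F) :
    szFieldAut hm hF τ (uG hF a b) = uG hF (τ a) (τ b) := Subtype.ext (slMap_uS τ a b)

lemma szFieldAut_hG (hm : 1 ≤ m) (hF : Fintype.card F = 2 ^ (2 * m + 1)) (τ : F ≃+* F) (l : Fˣ) :
    szFieldAut hm hF τ (hG hF l) = hG hF (Units.map (τ : F →* F) l) := Subtype.ext (slMap_hS τ l)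

lemma szFieldAut_wG (hm : 1 ≤ m) (hF : Fintype.card F = 2 ^ (2 * m + 1)) (τ : F ≃+* F) :
    szFieldAut hm hF τ (wG hF) = wG hF := Subtype.ext (slMap_wS τ)

/-- Two automorphisms which agree on the generators are equal. -/
lemma mulAut_ext (hm : 1 ≤ m) (hF : Fintype.card F = 2 ^ (2 * m + 1)) {φ ψ : MulAut ↥(Sz F m)}
    (hu : ∀ a b, φ (uG hF a b) = ψ (uG hF a b)) (hh : ∀ l, φ (hG hF l) = ψ (hG hF l))
    (hw : φ (wG hF) = ψ (wG hF)) : φ = ψ := by
  ext g
  have hB : ∀ x ∈ szB F m, φ x = ψ x := by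
    intro x hx
    obtain ⟨a, b, l, rfl⟩ := (mem_B_iff hm hF x).1 hx
    rw [map_mul, map_mul, hu, hh]
  rcases bruhat hm hF g with h | ⟨a, b, g', hg', rfl⟩
  · rw [hB g h]
  · rw [map_mul, map_mul, map_mul, map_mul, hu, hw, hB g' hg']

/-- A fact about powers in the field. -/
lemma pow_div_pow_eq_inv (hF : Fintype.card F = 2 ^ (2 * m + 1)) {a : F} (ha : a ≠ 0) :
    a ^ (2 ^ (m + 1) + 1) / (a ^ (2 ^ (m + 1) + 1)) ^ (2 ^ (m + 1)) = a⁻¹ := by
  have h1 : (a ^ (2 ^ (m + 1) + 1)) ^ (2 ^ (m + 1)) = a ^ 2 * a ^ (2 ^ (m + 1)) := by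
    rw [pow_succ a (2 ^ (m + 1)), mul_pow, sz_frob2 hF]
  rw [h1, pow_succ a (2 ^ (m + 1))]
  have h2 : a ^ (2 ^ (m + 1)) ≠ 0 := pow_ne_zero _ ha
  field_simp

/-- The image of the point at infinity under a conjugate of the central element. -/
lemma w_uG_w_inf (hF : Fintype.card F = 2 ^ (2 * m + 1)) {b : F} (hb : b ≠ 0) :
    (wG hF * uG hF 0 b * wG hF) • suzukiPointInfinity F = szPt m (b / b ^ (2 ^ (m + 1))) 0 := by
  have hf : szf m (0 : F) b = b ^ (2 ^ (m + 1)) := by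
    rw [szf_eq]
    simp
  have hf0 : szf m (0 : F) b ≠ 0 := by
    rw [hf]
    exact pow_ne_zero _ hb
  rw [mul_smul, mul_smul, wG_infty, uG_smul]
  have e1 : (0 : F) + 0 = 0 := add_zero 0
  have e2 : (0 : F) + b + 0 ^ (2 ^ (m + 1)) * 0 = b := by simp
  rw [e1, e2, wG_smul hF 0 b hf0, hf]
  simp

/-- Automorphisms in normal form are field automorphisms. -/
theorem eq_fieldAut_of_nf (hm : 1 ≤ m) (hF : Fintype.card F = 2 ^ (2 * m + 1)) (φ : MulAut ↥(Sz F m))
    (hU : ∀ u ∈ szUG hF, φ u ∈ szUG hF) (hT : ∀ l, ∃ l', φ (hG hF l) = hG hF l') (hw : φ (wG hF) = wG hF) :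
    ∃ τ : F ≃+* F, φ = szFieldAut hm hF τ := by
  classical
  have h2 : (2 : F) = 0 := sz_two
  -- coordinates
  have hU' : ∀ a b : F, ∃ c d : F, φ (uG hF a b) = uG hF c d := by
    intro a b
    obtain ⟨c, d, h⟩ := hU _ (uG_mem hF a b)
    exact ⟨c, d, h⟩
  choose A C hAC using hU'
  choose ρ hρ using hT
  set α : F → F := fun a => A a 0 with hα
  -- the centre
  have hZ : ∀ b : F, ∃ b' : F, φ (uG hF 0 b) = uG hF 0 b' := by
    intro b
    obtain ⟨a, rfl⟩ := exists_pow_eq hF b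
    refine ⟨(α a) ^ (2 ^ (m + 1) + 1), ?_⟩
    rw [← uG_sq hF a 0, map_pow, hAC, uG_sq]
  choose β hβ using hZ
  have hβα : ∀ a, β (a ^ (2 ^ (m + 1) + 1)) = (α a) ^ (2 ^ (m + 1) + 1) := by
    intro a
    have h1 := hβ (a ^ (2 ^ (m + 1) + 1))
    rw [← uG_sq hF a 0, map_pow, hAC, uG_sq] at h1
    exact (uG_inj hF h1).2.symm
  have hβ0 : ∀ b, b ≠ 0 → β b ≠ 0 := by
    intro b hb h0
    have h1 := hβ b
    rw [h0, uG_zero] at h1
    have h3 : uG hF (0 : F) b = 1 := φ.injective (by rw [h1, map_one])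
    rw [← uG_zero hF] at h3
    exact hb (uG_inj hF h3).2
  -- `B` is preserved
  have hB : ∀ x ∈ szB F m, φ x ∈ szB F m := by
    intro x hx
    obtain ⟨a, b, l, rfl⟩ := (mem_B_iff hm hF x).1 hx
    rw [map_mul, hAC, hρ]
    exact Subgroup.mul_mem _ (uG_mem_B hF _ _) (hG_mem_B hF _)
  -- the key relation
  have hkey : ∀ b : F, b ≠ 0 → α (b / b ^ (2 ^ (m + 1))) = β b / (β b) ^ (2 ^ (m + 1)) ∧ C (b / b ^ (2 ^ (m + 1))) 0 = 0 := by
    intro b hb
    set a' := b / b ^ (2 ^ (m + 1)) with ha'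
    have h1 : (wG hF * (uG hF a' 0)⁻¹ * (wG hF * uG hF 0 b * wG hF)) ∈ szB F m := by
      show (wG hF * (uG hF a' 0)⁻¹ * (wG hF * uG hF 0 b * wG hF)) • suzukiPointInfinity F = suzukiPointInfinity F
      rw [mul_smul, mul_smul, w_uG_w_inf hF hb, ← ha', inv_smul_eq_iff.2]
      · exact wG_zero hF
      · rw [uG_smul]
        simp
    have h3 := hB _ h1
    rw [map_mul, map_mul, map_inv, map_mul, map_mul, hw, hAC, hβ] at h3
    have h4 : (wG hF * (uG hF (A a' 0) (C a' 0))⁻¹ * (wG hF * uG hF 0 (β b) * wG hF)) • suzukiPointInfinity F =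
        suzukiPointInfinity F := h3
    rw [mul_smul, mul_smul, w_uG_w_inf hF (hβ0 b hb)] at h4
    have h5 : (uG hF (A a' 0) (C a' 0))⁻¹ • szPt m (β b / β b ^ (2 ^ (m + 1))) 0 = szPt m (0 : F) 0 := by
      rw [← smul_left_cancel_iff (wG hF), h4, wG_zero]
    rw [inv_smul_eq_iff, uG_smul] at h5
    have h6 := szPt_inj h5
    constructor
    · rw [h6.1]
      simp [hα]
    · have := h6.2
      simpa using this.symm
  -- the values on inverses
  have hαne : ∀ a, a ≠ 0 → α a ≠ 0 := by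
    intro a ha h0
    have hne := hβ0 _ (pow_ne_zero (2 ^ (m + 1) + 1) ha)
    rw [hβα, h0, zero_pow (by positivity)] at hne
    exact hne rfl
  have hinv : ∀ a, a ≠ 0 → α a⁻¹ = (α a)⁻¹ ∧ C a⁻¹ 0 = 0 := by
    intro a ha
    have h1 := hkey _ (pow_ne_zero (2 ^ (m + 1) + 1) ha)
    rw [pow_div_pow_eq_inv hF ha, hβα, pow_div_pow_eq_inv hF (hαne a ha)] at h1
    exact h1
  have hC : ∀ a, C a 0 = 0 := by
    intro a
    by_cases ha : a = 0
    · subst ha
      have h1 := hAC 0 0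
      rw [uG_zero, map_one, ← uG_zero hF] at h1
      exact (uG_inj hF h1).2.symm
    · have := (hinv a⁻¹ (inv_ne_zero ha)).2
      rwa [inv_inv] at this
  have hu0 : ∀ a, φ (uG hF a 0) = uG hF (α a) 0 := by
    intro a
    rw [hAC, hC]
  have hα0 : α 0 = 0 := by
    have h1 := hu0 0
    rw [uG_zero, map_one, ← uG_zero hF] at h1
    exact (uG_inj hF h1).1.symm
  have hα1 : α 1 = 1 := by
    have h1 := (hinv 1 one_ne_zero).1
    rw [inv_one] at h1
    have h3 := hαne 1 one_ne_zero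
    have h4 : (α 1 + 1) ^ 2 = 0 := by
      have h5 : α 1 * α 1 = 1 := by
        nth_rw 1 [h1]
        exact inv_mul_cancel₀ h3
      linear_combination h5 + (α 1 + 1) * h2
    have h5 := pow_eq_zero_iff (two_ne_zero) |>.1 h4
    linear_combination h5 - h2
  -- additivity
  have hadd : ∀ a c, α (a + c) = α a + α c := by
    intro a c
    have e1 : uG hF a 0 * uG hF c 0 = uG hF (a + c) 0 * uG hF 0 (a ^ (2 ^ (m + 1)) * c) := by
      rw [uG_mul, uG_mul]
      simp
    have e2 := congrArg φ e1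
    rw [map_mul, map_mul, hu0, hu0, hu0, hβ, uG_mul, uG_mul] at e2
    have e3 := (uG_inj hF e2).1
    rw [e3, add_zero]
  -- multiplicativity
  have hmul_unit : ∀ (l : Fˣ) (a : F), ((ρ l : Fˣ) : F) * α a = α ((l : F) * a) := by
    intro l a
    have e1 := hG_uG hF l a 0
    rw [mul_zero] at e1
    have e2 := congrArg φ e1
    rw [map_mul, map_mul, hρ, hu0, hu0, hG_uG, mul_zero] at e2
    exact (uG_hG_inj hF e2).1
  have hρα : ∀ l : Fˣ, ((ρ l : Fˣ) : F) = α l := by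
    intro l
    have := hmul_unit l 1
    rwa [hα1, mul_one, mul_one] at this
  have hmul : ∀ x y : F, α (x * y) = α x * α y := by
    intro x y
    by_cases hx : x = 0
    · subst hx
      rw [zero_mul, hα0, zero_mul]
    · have := hmul_unit (Units.mk0 x hx) y
      rw [hρα] at this
      exact this.symm
  -- the ring automorphism
  let τ₀ : F →+* F :=
    { toFun := α, map_one' := hα1, map_mul' := hmul, map_zero' := hα0, map_add' := hadd }
  have hbij : Function.Bijective τ₀ := Finite.injective_iff_bijective.1 τ₀.injective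
  let τ : F ≃+* F := RingEquiv.ofBijective τ₀ hbij
  have hτ : ∀ x, τ x = α x := fun _ => rfl
  have hβeq : ∀ b, β b = α b := by
    intro b
    obtain ⟨a, rfl⟩ := exists_pow_eq hF b
    rw [hβα]
    exact (map_pow τ₀ a _).symm
  refine ⟨τ, mulAut_ext hm hF ?_ ?_ ?_⟩
  · intro a b
    have e1 : uG hF a b = uG hF a 0 * uG hF 0 b := by
      rw [uG_mul]
      simp
    rw [szFieldAut_uG, e1, map_mul, hu0, hβ, uG_mul, hβeq, hτ, hτ]
    simp
  · intro l
    rw [szFieldAut_hG, hρ]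
    congr 1
    apply Units.ext
    exact hρα l
  · rw [szFieldAut_wG, hw]

end Cfsg.Agent.H10
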