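import Mathlib
import Cfsg.Agent.Lib.H10.SzAut

/-! The automorphisms of the Suzuki group: the normal form. -/

set_option autoImplicit false
set_option linter.unusedSectionVars false
set_option linter.unusedSimpArgs false
set_option linter.style.haveILetI false

namespace Cfsg.Agent.H10

open Matrix Cfsg

variable {F : Type*} [Field F] [Fintype F] [CharP F 2] {m : ℕ}

lemma hG_pow (hF : Fintype.card F = 2 ^ (2 * m + 1)) (l : Fˣ) (n : ℕ) : hG hF (l ^ n) = hG hF l ^ n := by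
  induction n with
  | zero => rw [pow_zero, pow_zero, hG_one]
  | succ n ih => rw [pow_succ, pow_succ, ← hG_mul, ih]

lemma unit_eq_one_of_sq (l : Fˣ) (h : l * l = 1) : l = 1 := by
  have h2 : (2 : F) = 0 := sz_two
  have h3 : ((l : F) + 1) ^ 2 = 0 := by
    have h4 : (l : F) * l = 1 := by
      rw [← Units.val_mul, h, Units.val_one]
    linear_combination h4 + ((l : F) + 1) * h2
  have h5 := pow_eq_zero_iff (two_ne_zero) |>.1 h3
  apply Units.ext
  rw [Units.val_one]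
  linear_combination h5 - h2

lemma unit_eq_one_of_pow_four (l : Fˣ) (h : l ^ 4 = 1) : l = 1 := by
  apply unit_eq_one_of_sq
  apply unit_eq_one_of_sq
  rw [← h]
  simp only [pow_succ, pow_zero, one_mul, mul_assoc]

lemma hG_ne_one (hF : Fintype.card F = 2 ^ (2 * m + 1)) {l : Fˣ} (hl : l ≠ 1) : hG hF l ≠ 1 := by
  intro h
  rw [← hG_one hF] at h
  exact hl (hG_inj hF h)

lemma wG_ne_one (hm : 1 ≤ m) (hF : Fintype.card F = 2 ^ (2 * m + 1)) : wG hF ≠ 1 := by
  intro h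
  have h1 := wG_infty hF
  rw [h, one_smul] at h1
  exact szPt_ne_inf _ _ h1.symm

/-- First reduction: the automorphism may be taken to preserve `U`. -/
lemma exists_sylow_step (hm : 1 ≤ m) (hF : Fintype.card F = 2 ^ (2 * m + 1)) (φ : MulAut ↥(Sz F m)) :
    ∃ k : ↥(Sz F m), ∀ x, x ∈ szUG hF ↔ (MulAut.conj k * φ) x ∈ szUG hF := by
  obtain ⟨k, hk⟩ := exists_conj_sylow hm hF (φ • szSylow hm hF)
  refine ⟨k⁻¹, fun x => ?_⟩
  have h1 := hk (φ x)
  rw [Sylow.pointwise_smul_def, Subgroup.mem_pointwise_smul_iff_inv_smul_mem, szSylow_coe] at h1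
  rw [MulAut.smul_def, MulAut.inv_apply_self] at h1
  rw [h1]
  simp [MulAut.conj_apply]

/-- `U`-preserving automorphisms preserve `B`. -/
lemma map_B_of_U (hm : 1 ≤ m) (hF : Fintype.card F = 2 ^ (2 * m + 1)) {φ : MulAut ↥(Sz F m)}
    (hU : ∀ x, x ∈ szUG hF ↔ φ x ∈ szUG hF) {x : ↥(Sz F m)} (hx : x ∈ szB F m) : φ x ∈ szB F m := by
  rw [← normalizer_szUG hm hF] at hx ⊢
  rw [Subgroup.mem_normalizer_iff] at hx ⊢
  intro h
  obtain ⟨h', rfl⟩ := φ.surjective h
  have e : φ x * φ h' * (φ x)⁻¹ = φ (x * h' * x⁻¹) := by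
    rw [map_mul, map_mul, map_inv]
  rw [e]
  show (φ h' ∈ (szUG hF : Set ↥(Sz F m))) ↔ φ (x * h' * x⁻¹) ∈ (szUG hF : Set ↥(Sz F m))
  simp only [SetLike.mem_coe]
  rw [← hU, ← hU]
  exact hx h'

/-- Second reduction: the torus may be preserved. -/
lemma exists_torus_step (hm : 1 ≤ m) (hF : Fintype.card F = 2 ^ (2 * m + 1)) {φ : MulAut ↥(Sz F m)}
    (hU : ∀ x, x ∈ szUG hF ↔ φ x ∈ szUG hF) :
    ∃ v ∈ szUG hF, ∀ l : Fˣ, ∃ l' : Fˣ, (MulAut.conj v * φ) (hG hF l) = hG hF l' := by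
  classical
  obtain ⟨l₀, hl₀⟩ := IsCyclic.exists_generator (α := Fˣ)
  have hy := map_B_of_U hm hF hU (hG_mem_B hF l₀)
  obtain ⟨a, b, l₁, hab⟩ := (mem_B_iff hm hF _).1 hy
  have hl₁ : l₁ ≠ 1 := by
    rintro rfl
    rw [hG_one, mul_one] at hab
    have h4 : φ (hG hF (l₀ ^ 4)) = 1 := by
      rw [hG_pow, map_pow, hab, uG_pow_four]
    have h5 : hG hF (l₀ ^ 4) = 1 := φ.injective (by rw [h4, map_one])
    rw [← hG_one hF] at h5
    have h6 := unit_eq_one_of_pow_four _ (hG_inj hF h5)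
    obtain ⟨l, hl⟩ := exists_unit_ne_one hm hF
    obtain ⟨n, hn⟩ := Submonoid.mem_powers_iff _ _ |>.1 ((mem_powers_iff_mem_zpowers).2 (hl₀ l))
    rw [h6, one_pow] at hn
    exact hl hn.symm
  obtain ⟨x, y, hxy⟩ := exists_affine_fix hF a b l₁ hl₁
  obtain ⟨v, hv, hvxy⟩ := exists_uG_smul hF x y 0 0
  refine ⟨v, hv, ?_⟩
  have hvB : v ∈ szB F m := szUG_le_B hF hv
  have hfix : ∃ l₂ : Fˣ, (MulAut.conj v * φ) (hG hF l₀) = hG hF l₂ := by
    apply fix_two_G hm hF
    · have h1 : (MulAut.conj v * φ) (hG hF l₀) ∈ szB F m := by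
        show v * φ (hG hF l₀) * v⁻¹ ∈ szB F m
        exact Subgroup.mul_mem _ (Subgroup.mul_mem _ hvB hy) (Subgroup.inv_mem _ hvB)
      exact h1
    · show (v * φ (hG hF l₀) * v⁻¹) • szPt m (0 : F) 0 = szPt m (0 : F) 0
      rw [hab, mul_smul, mul_smul, ← hvxy, inv_smul_smul, hxy]
  obtain ⟨l₂, hl₂⟩ := hfix
  intro l
  obtain ⟨n, hn⟩ := Submonoid.mem_powers_iff _ _ |>.1 ((mem_powers_iff_mem_zpowers).2 (hl₀ l))
  refine ⟨l₂ ^ n, ?_⟩
  rw [← hn, hG_pow, hG_pow, map_pow, hl₂]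

/-- Third reduction: the Weyl element may be fixed. -/
lemma exists_weyl_step (hm : 1 ≤ m) (hF : Fintype.card F = 2 ^ (2 * m + 1)) {φ : MulAut ↥(Sz F m)}
    (hT : ∀ l : Fˣ, ∃ l' : Fˣ, φ (hG hF l) = hG hF l') :
    ∃ l₄ : Fˣ, (MulAut.conj (hG hF l₄) * φ) (wG hF) = wG hF := by
  classical
  obtain ⟨l₀, hl₀⟩ := exists_unit_ne_one hm hF
  obtain ⟨l₂, hl₂⟩ := hT l₀
  have hl₂1 : l₂ ≠ 1 := by
    rintro rfl
    rw [hG_one] at hl₂
    have h5 : hG hF l₀ = 1 := φ.injective (by rw [hl₂, map_one])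
    exact hG_ne_one hF hl₀ h5
  set y := φ (wG hF) with hy
  have hyy : y * y = 1 := by
    rw [hy, ← map_mul, wG_mul_self, map_one]
  have hyne : y ≠ 1 := by
    intro h
    apply wG_ne_one hm hF
    exact φ.injective (by rw [← hy, h, map_one])
  have hyh : y * hG hF l₂ * y = hG hF l₂⁻¹ := by
    have h1 := wG_hG hF l₀
    have h2 := congrArg φ h1
    rw [map_mul, map_mul, hl₂, ← hy, ← hG_inv, map_inv, hl₂, hG_inv] at h2
    exact h2
  have hfixS := fixS_of_commute_two hm hF (x := hG hF l₂) (y := hG hF l₂) (hG_ne_one hF hl₂1) (hG_ne_one hF hl₂1)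
    inf_mem_ovoid (szPt_mem_ovoid (0 : F) 0) (szPt_ne_inf _ _).symm (hG_inf hF l₂) (by
      rw [hG_smul]
      simp) rfl
  -- `y` permutes the fixed points
  have hperm : ∀ p ∈ fixS (hG hF l₂), y • p ∈ fixS (hG hF l₂) := by
    rintro p ⟨hp1, hp2⟩
    refine ⟨smul_mem_ovoid y hp1, ?_⟩
    have h1 : hG hF l₂ * y = y * hG hF l₂⁻¹ := by
      rw [← hyh, ← mul_assoc, ← mul_assoc, hyy, one_mul]
    rw [← mul_smul, h1, mul_smul]
    congr 1
    rw [← hG_inv, inv_smul_eq_iff, hp2]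
  have hinf : suzukiPointInfinity F ∈ fixS (hG hF l₂) := by
    rw [hfixS]
    exact Or.inl rfl
  have hzero : szPt m (0 : F) 0 ∈ fixS (hG hF l₂) := by
    rw [hfixS]
    exact Or.inr rfl
  have h1 := hperm _ hinf
  have h2 := hperm _ hzero
  rw [hfixS] at h1 h2
  have hinj : Function.Injective (fun p : Projectivization F (Fin 4 → F) => y • p) := MulAction.injective y
  have hsw : y • suzukiPointInfinity F = szPt m (0 : F) 0 := by
    rcases h1 with h1 | h1
    · exfalso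
      rcases h2 with h2 | h2
      · have := hinj (h1.trans h2.symm)
        exact szPt_ne_inf _ _ this.symm
      · obtain ⟨l, hl⟩ := fix_two_G hm hF h1 h2
        rw [hl, hG_mul, ← hG_one hF] at hyy
        have := unit_eq_one_of_sq l (hG_inj hF hyy)
        rw [hl, this, hG_one] at hyne
        exact hyne rfl
    · exact h1
  have hsw2 : y • szPt m (0 : F) 0 = suzukiPointInfinity F := by
    rw [← hsw, ← mul_smul, hyy, one_smul]
  obtain ⟨l₃, hl₃⟩ := swap_G hm hF hsw hsw2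
  obtain ⟨l₄, hl₄⟩ := exists_unit_sq hF l₃
  refine ⟨l₄, ?_⟩
  show hG hF l₄ * y * (hG hF l₄)⁻¹ = wG hF
  rw [hl₃, ← mul_assoc, hG_wG, ← hl₄, ← hG_mul, ← hG_inv]
  group

/-- The normal form. -/
theorem exists_normal_form (hm : 1 ≤ m) (hF : Fintype.card F = 2 ^ (2 * m + 1)) (φ : MulAut ↥(Sz F m)) :
    ∃ (g : ↥(Sz F m)) (τ : F ≃+* F), MulAut.conj g * φ = szFieldAut hm hF τ := by
  obtain ⟨k, hk⟩ := exists_sylow_step hm hF φ
  set φ₁ := MulAut.conj k * φ with hφ₁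
  obtain ⟨v, hv, hv2⟩ := exists_torus_step hm hF hk
  set φ₂ := MulAut.conj v * φ₁ with hφ₂
  obtain ⟨l₄, hl₄⟩ := exists_weyl_step hm hF hv2
  set φ₃ := MulAut.conj (hG hF l₄) * φ₂ with hφ₃
  have hU₂ : ∀ u ∈ szUG hF, φ₂ u ∈ szUG hF := by
    intro u hu
    show v * φ₁ u * v⁻¹ ∈ szUG hF
    exact Subgroup.mul_mem _ (Subgroup.mul_mem _ hv ((hk u).1 hu)) (Subgroup.inv_mem _ hv)
  have hU₃ : ∀ u ∈ szUG hF, φ₃ u ∈ szUG hF := by
    intro u hu
    have h1 : hG hF l₄ ∈ Subgroup.normalizer ((szUG hF : Subgroup ↥(Sz F m)) : Set ↥(Sz F m)) := by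
      rw [normalizer_szUG hm hF]
      exact hG_mem_B hF l₄
    exact (Subgroup.mem_normalizer_iff.1 h1 _).1 (hU₂ u hu)
  have hT₃ : ∀ l : Fˣ, ∃ l' : Fˣ, φ₃ (hG hF l) = hG hF l' := by
    intro l
    obtain ⟨l', hl'⟩ := hv2 l
    refine ⟨l₄ * l' * l₄⁻¹, ?_⟩
    show hG hF l₄ * φ₂ (hG hF l) * (hG hF l₄)⁻¹ = _
    rw [hl', hG_inv, ← hG_mul, ← hG_mul]
  obtain ⟨τ, hτ⟩ := eq_fieldAut_of_nf hm hF φ₃ hU₃ hT₃ hl₄
  refine ⟨hG hF l₄ * v * k, τ, ?_⟩
  rw [← hτ, hφ₃, hφ₂, hφ₁, map_mul, map_mul, mul_assoc, mul_assoc]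

/-- A field automorphism which is inner is trivial. -/
theorem eq_refl_of_inner (hm : 1 ≤ m) (hF : Fintype.card F = 2 ^ (2 * m + 1)) (τ : F ≃+* F) (g : ↥(Sz F m))
    (h : szFieldAut hm hF τ = MulAut.conj g) : τ = RingEquiv.refl F := by
  have hu : g * uG hF (1 : F) 0 * g⁻¹ = uG hF (1 : F) 0 := by
    have h1 := congrArg (fun f => f (uG hF (1 : F) 0)) h
    simp only [szFieldAut_uG, MulAut.conj_apply, map_one, map_zero] at h1
    exact h1.symm
  have hw : g * wG hF * g⁻¹ = wG hF := by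
    have h1 := congrArg (fun f => f (wG hF)) h
    simp only [szFieldAut_wG, MulAut.conj_apply] at h1
    exact h1.symm
  have hc : g * uG hF (1 : F) 0 = uG hF (1 : F) 0 * g := by
    nth_rw 2 [← hu]
    group
  have hc2 : g * wG hF = wG hF * g := by
    nth_rw 2 [← hw]
    group
  have h1 : g • suzukiPointInfinity F = suzukiPointInfinity F := by
    apply eq_inf_of_uG_fix hF (a := 1) (b := 0) (Or.inl one_ne_zero) (smul_mem_ovoid g inf_mem_ovoid)
    rw [← mul_smul, ← hc, mul_smul, uG_inf]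
  have h2 : g • szPt m (0 : F) 0 = szPt m (0 : F) 0 := by
    rw [← wG_infty hF, ← mul_smul, hc2, mul_smul, h1]
  obtain ⟨l, rfl⟩ := fix_two_G hm hF h1 h2
  have h3 : hG hF l = hG hF l⁻¹ := by
    have h4 := hG_wG hF l
    rw [hc2] at h4
    exact mul_left_cancel h4
  have h4 := hG_inj hF h3
  have h5 : l * l = 1 := by
    nth_rw 2 [h4]
    group
  have h6 := unit_eq_one_of_sq l h5
  subst h6
  ext a
  have h7 := congrArg (fun f => f (uG hF a 0)) h
  simp only [szFieldAut_uG, MulAut.conj_apply, map_zero, hG_one, one_mul, inv_one, mul_one] at h7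
  exact (uG_inj hF h7).1

lemma szFieldAut_trans (hm : 1 ≤ m) (hF : Fintype.card F = 2 ^ (2 * m + 1)) (τ τ' : F ≃+* F) :
    (szFieldAut hm hF τ)⁻¹ * szFieldAut hm hF τ' = szFieldAut hm hF (τ'.trans τ.symm) := by
  ext g : 1
  rw [MulAut.mul_apply, MulAut.inv_def]
  rw [MulEquiv.symm_apply_eq]
  apply Subtype.ext
  apply Subtype.ext
  ext i j
  show τ' _ = τ ((τ'.trans τ.symm) _)
  simp

/-- Isomorphic groups have outer automorphism groups of the same order. -/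
lemma card_out_congr {G H : Type*} [Group G] [Group H] (e : G ≃* H) : Nat.card (Out G) = Nat.card (Out H) := by
  have h : (Inn G).map (MulAut.congr e).toMonoidHom = Inn H := by
    apply le_antisymm
    · rintro _ ⟨_, ⟨g, rfl⟩, rfl⟩
      refine ⟨e g, ?_⟩
      ext x
      simp [MulAut.congr, MulAut.conj_apply]
    · rintro _ ⟨h, rfl⟩
      refine ⟨_, ⟨e.symm h, rfl⟩, ?_⟩
      ext x
      simp [MulAut.congr, MulAut.conj_apply]
  exact Nat.card_congr (QuotientGroup.congr _ _ (MulAut.congr e) h).toEquiv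

/-- The number of field automorphisms. -/
lemma card_ringEquiv (hF : Fintype.card F = 2 ^ (2 * m + 1)) : Nat.card (F ≃+* F) = 2 * m + 1 := by
  classical
  letI : Algebra (ZMod 2) F := ZMod.algebra F 2
  have h1 : Nat.card (F ≃ₐ[ZMod 2] F) = Module.finrank (ZMod 2) F := IsGalois.card_aut_eq_finrank (ZMod 2) F
  have h2 : Nat.card (F ≃+* F) = Nat.card (F ≃ₐ[ZMod 2] F) := by
    apply Nat.card_congr
    refine Equiv.symm
      { toFun := AlgEquiv.toRingEquiv
        invFun := fun τ => AlgEquiv.ofRingEquiv (f := τ) (fun r => ?_)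
        left_inv := fun τ => ?_
        right_inv := fun τ => ?_ }
    · have : (τ : F →+* F).comp (algebraMap (ZMod 2) F) = algebraMap (ZMod 2) F := Subsingleton.elim _ _
      exact congrArg (fun f => f r) this
    · ext x
      rfl
    · ext x
      rfl
  rw [h2, h1]
  have h3 := Module.card_eq_pow_finrank (K := ZMod 2) (V := F)
  rw [hF, ZMod.card] at h3
  exact (Nat.pow_right_injective (le_refl 2) h3).symm

/-- The order of the outer automorphism group of the Suzuki group. -/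
theorem card_out_Sz (hm : 1 ≤ m) (hF : Fintype.card F = 2 ^ (2 * m + 1)) :
    Nat.card (Out ↥(Sz F m)) = 2 * m + 1 := by
  rw [← card_ringEquiv hF]
  symm
  refine Nat.card_congr (Equiv.ofBijective (fun τ : F ≃+* F => (QuotientGroup.mk (szFieldAut hm hF τ) : Out ↥(Sz F m))) ⟨?_, ?_⟩)
  · intro τ τ' h
    have h1 := QuotientGroup.eq.1 h
    rw [szFieldAut_trans] at h1
    obtain ⟨g, hg⟩ := h1
    have h2 := eq_refl_of_inner hm hF _ g hg.symm
    ext x
    have h3 := congrArg (fun f : F ≃+* F => τ (f x)) h2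
    simpa using h3.symm
  · intro x
    obtain ⟨φ, rfl⟩ := QuotientGroup.mk_surjective x
    obtain ⟨g, τ, h⟩ := exists_normal_form hm hF φ
    refine ⟨τ, ?_⟩
    show (QuotientGroup.mk (szFieldAut hm hF τ) : Out ↥(Sz F m)) = QuotientGroup.mk φ
    have h1 : (QuotientGroup.mk (MulAut.conj g) : Out ↥(Sz F m)) = 1 :=
      (QuotientGroup.eq_one_iff (MulAut.conj g)).2 (MonoidHom.mem_range.2 ⟨g, rfl⟩)
    rw [← h, QuotientGroup.mk_mul, h1, one_mul]

end Cfsg.Agent.H10
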