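import Mathlib
import Cfsg.Agent.Lib.H10.SzAut2

/-! Subfield subgroups of the Suzuki groups. -/

set_option autoImplicit false
set_option linter.unusedSectionVars false
set_option linter.unusedSimpArgs false
set_option linter.style.haveILetI false

namespace Cfsg.Agent.H10

open Matrix Cfsg

section compat

variable {K : Type*} [Field K] [Fintype K] {k m : ℕ}

lemma sz_iter_eq (hK : Fintype.card K = 2 ^ (2 * k + 1)) (a : K) (j : ℕ) : a ^ (2 ^ (j * (2 * k + 1))) = a := by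
  induction j with
  | zero => simp
  | succ j ih =>
    rw [Nat.succ_mul, pow_add, pow_mul, ih, ← hK, FiniteField.pow_card]

lemma sz_pow_compat (hK : Fintype.card K = 2 ^ (2 * k + 1)) (hdiv : 2 * k + 1 ∣ 2 * m + 1) (a : K) :
    a ^ (2 ^ m) = a ^ (2 ^ k) := by
  obtain ⟨d, hd⟩ := hdiv
  have hdodd : d % 2 = 1 := by
    by_contra h
    have h1 : d % 2 = 0 := by omega
    obtain ⟨e, rfl⟩ : ∃ e, d = 2 * e := ⟨d / 2, by omega⟩
    have h2 : 2 * m + 1 = 2 * ((2 * k + 1) * e) := by rw [hd]; ring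
    omega
  obtain ⟨j, rfl⟩ : ∃ j, d = 2 * j + 1 := ⟨d / 2, by omega⟩
  have h1 : 2 * m = 2 * (k + j * (2 * k + 1)) := by
    have : 2 * m + 1 = 2 * (k + j * (2 * k + 1)) + 1 := by rw [hd]; ring
    omega
  have h2 : m = k + j * (2 * k + 1) := by omega
  rw [h2, pow_add, mul_comm, pow_mul, sz_iter_eq hK]

lemma sz_pow_compat' (hK : Fintype.card K = 2 ^ (2 * k + 1)) (hdiv : 2 * k + 1 ∣ 2 * m + 1) (a : K) :
    a ^ (2 ^ (m + 1)) = a ^ (2 ^ (k + 1)) := by
  rw [pow_succ 2 m, pow_succ 2 k, pow_mul, pow_mul, sz_pow_compat hK hdiv]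

end compat

variable {F K : Type*} [Field F] [Fintype F] [CharP F 2] [Field K] [Fintype K] [CharP K 2] {m k : ℕ}

/-- Entrywise application of a ring homomorphism. -/
noncomputable def slEmb (α : K →+* F) : SL4 K →* SL4 F := Matrix.SpecialLinearGroup.map α

lemma slEmb_coe (α : K →+* F) (g : SL4 K) (i j : Fin 4) :
    ((slEmb α g : SL4 F) : Matrix (Fin 4) (Fin 4) F) i j = α ((g : Matrix (Fin 4) (Fin 4) K) i j) := rfl

lemma slEmb_uS (hK : Fintype.card K = 2 ^ (2 * k + 1)) (hdiv : 2 * k + 1 ∣ 2 * m + 1) (α : K →+* F) (a b : K) :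
    slEmb α (uS k a b) = uS m (α a) (α b) := by
  have e1 : ∀ x : K, α x ^ (2 ^ (m + 1)) = α (x ^ (2 ^ (k + 1))) := fun x => by
    rw [← sz_pow_compat' hK hdiv, map_pow]
  apply Subtype.ext
  ext i j
  rw [slEmb_coe]
  fin_cases i <;> fin_cases j <;> simp [uS, szU, szf, pow_succ _ (2 ^ (k + 1)), pow_succ _ (2 ^ (m + 1)), e1, pow_add _ (2 ^ (k + 1)) 2, pow_add _ (2 ^ (m + 1)) 2]

lemma slEmb_hS (hK : Fintype.card K = 2 ^ (2 * k + 1)) (hdiv : 2 * k + 1 ∣ 2 * m + 1) (α : K →+* F) (l : Kˣ) :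
    slEmb α (hS k l) = hS m (Units.map (α : K →* F) l) := by
  have e1 : ∀ x : K, α x ^ (2 ^ m) = α (x ^ (2 ^ k)) := fun x => by
    rw [← sz_pow_compat hK hdiv, map_pow]
  apply Subtype.ext
  ext i j
  rw [slEmb_coe]
  fin_cases i <;> fin_cases j <;> simp [hS, szH, Matrix.diagonal, pow_succ _ (2 ^ k), pow_succ _ (2 ^ m), e1]

lemma slEmb_wS (α : K →+* F) : slEmb α (wS : SL4 K) = wS := by
  apply Subtype.ext
  ext i j
  rw [slEmb_coe]
  fin_cases i <;> fin_cases j <;> simp [wS, szW]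

lemma slEmb_mem (hk : 1 ≤ k) (hK : Fintype.card K = 2 ^ (2 * k + 1)) (hF : Fintype.card F = 2 ^ (2 * m + 1))
    (hdiv : 2 * k + 1 ∣ 2 * m + 1) (α : K →+* F) (g : ↥(Sz K k)) : slEmb α g.1 ∈ Sz F m := by
  have hB : ∀ x ∈ szB K k, slEmb α ((x : ↥(Sz K k)) : SL4 K) ∈ Sz F m := by
    intro x hx
    obtain ⟨a, b, l, rfl⟩ := (mem_B_iff hk hK x).1 hx
    show slEmb α (uS k a b * hS k l) ∈ Sz F m
    rw [map_mul, slEmb_uS hK hdiv, slEmb_hS hK hdiv]
    exact Subgroup.mul_mem _ (uS_mem hF _ _) (hS_mem hF _)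
  rcases bruhat hk hK g with h | ⟨a, b, g', hg', rfl⟩
  · exact hB g h
  · show slEmb α (uS k a b * wS * (g' : SL4 K)) ∈ Sz F m
    rw [map_mul, map_mul, slEmb_uS hK hdiv, slEmb_wS]
    exact Subgroup.mul_mem _ (Subgroup.mul_mem _ (uS_mem hF _ _) (wS_mem hF)) (hB g' hg')

/-- The embedding of the subfield group. -/
noncomputable def szEmb (hk : 1 ≤ k) (hK : Fintype.card K = 2 ^ (2 * k + 1)) (hF : Fintype.card F = 2 ^ (2 * m + 1))
    (hdiv : 2 * k + 1 ∣ 2 * m + 1) (α : K →+* F) : ↥(Sz K k) →* ↥(Sz F m) where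
  toFun g := ⟨slEmb α g.1, slEmb_mem hk hK hF hdiv α g⟩
  map_one' := by
    apply Subtype.ext
    show slEmb α 1 = 1
    rw [map_one]
  map_mul' a b := by
    apply Subtype.ext
    show slEmb α (a.1 * b.1) = slEmb α a.1 * slEmb α b.1
    rw [map_mul]

lemma szEmb_coe (hk : 1 ≤ k) (hK : Fintype.card K = 2 ^ (2 * k + 1)) (hF : Fintype.card F = 2 ^ (2 * m + 1))
    (hdiv : 2 * k + 1 ∣ 2 * m + 1) (α : K →+* F) (g : ↥(Sz K k)) (i j : Fin 4) :
    (((szEmb hk hK hF hdiv α g : ↥(Sz F m)) : SL4 F) : Matrix (Fin 4) (Fin 4) F) i j =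
      α (((g : SL4 K) : Matrix (Fin 4) (Fin 4) K) i j) := rfl

lemma szEmb_inj (hk : 1 ≤ k) (hK : Fintype.card K = 2 ^ (2 * k + 1)) (hF : Fintype.card F = 2 ^ (2 * m + 1))
    (hdiv : 2 * k + 1 ∣ 2 * m + 1) (α : K →+* F) : Function.Injective (szEmb hk hK hF hdiv α) := by
  intro x y h
  apply Subtype.ext
  apply Subtype.ext
  ext i j
  apply α.injective
  rw [← szEmb_coe hk hK hF hdiv, ← szEmb_coe hk hK hF hdiv, h]

lemma szEmb_uG (hk : 1 ≤ k) (hK : Fintype.card K = 2 ^ (2 * k + 1)) (hF : Fintype.card F = 2 ^ (2 * m + 1))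
    (hdiv : 2 * k + 1 ∣ 2 * m + 1) (α : K →+* F) (a b : K) :
    szEmb hk hK hF hdiv α (uG hK a b) = uG hF (α a) (α b) := Subtype.ext (slEmb_uS hK hdiv α a b)

lemma szEmb_hG (hk : 1 ≤ k) (hK : Fintype.card K = 2 ^ (2 * k + 1)) (hF : Fintype.card F = 2 ^ (2 * m + 1))
    (hdiv : 2 * k + 1 ∣ 2 * m + 1) (α : K →+* F) (l : Kˣ) :
    szEmb hk hK hF hdiv α (hG hK l) = hG hF (Units.map (α : K →* F) l) := Subtype.ext (slEmb_hS hK hdiv α l)

lemma szEmb_wG (hk : 1 ≤ k) (hK : Fintype.card K = 2 ^ (2 * k + 1)) (hF : Fintype.card F = 2 ^ (2 * m + 1))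
    (hdiv : 2 * k + 1 ∣ 2 * m + 1) (α : K →+* F) :
    szEmb hk hK hF hdiv α (wG hK) = wG hF := Subtype.ext (slEmb_wS α)

/-- Two homomorphisms which agree on the generators are equal. -/
lemma szHom_ext (hk : 1 ≤ k) (hK : Fintype.card K = 2 ^ (2 * k + 1)) {φ ψ : ↥(Sz K k) →* ↥(Sz F m)}
    (hu : ∀ a b, φ (uG hK a b) = ψ (uG hK a b)) (hh : ∀ l, φ (hG hK l) = ψ (hG hK l))
    (hw : φ (wG hK) = ψ (wG hK)) : φ = ψ := by
  ext g : 1
  have hB : ∀ x ∈ szB K k, φ x = ψ x := by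
    intro x hx
    obtain ⟨a, b, l, rfl⟩ := (mem_B_iff hk hK x).1 hx
    rw [map_mul, map_mul, hu, hh]
  rcases bruhat hk hK g with h | ⟨a, b, g', hg', rfl⟩
  · rw [hB g h]
  · rw [map_mul, map_mul, map_mul, map_mul, hu, hw, hB g' hg']

/-- Homomorphisms in normal form come from ring homomorphisms. -/
theorem eq_szEmb_of_nf (hk : 1 ≤ k) (hK : Fintype.card K = 2 ^ (2 * k + 1)) (hF : Fintype.card F = 2 ^ (2 * m + 1))
    (hdiv : 2 * k + 1 ∣ 2 * m + 1) (φ : ↥(Sz K k) →* ↥(Sz F m)) (hinj : Function.Injective φ)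
    (hU : ∀ u ∈ szUG hK, φ u ∈ szUG hF) (hT : ∀ l : Kˣ, ∃ l' : Fˣ, φ (hG hK l) = hG hF l') (hw : φ (wG hK) = wG hF) :
    ∃ α : K →+* F, φ = szEmb hk hK hF hdiv α := by
  classical
  have h2 : (2 : F) = 0 := sz_two
  -- coordinates
  have hU' : ∀ a b : K, ∃ c d : F, φ (uG hK a b) = uG hF c d := by
    intro a b
    obtain ⟨c, d, h⟩ := hU _ (uG_mem hK a b)
    exact ⟨c, d, h⟩
  choose A C hAC using hU'
  choose ρ hρ using hT
  set α : K → F := fun a => A a 0 with hα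
  -- the centre
  have hZ : ∀ b : K, ∃ b' : F, φ (uG hK 0 b) = uG hF 0 b' := by
    intro b
    obtain ⟨a, rfl⟩ := exists_pow_eq hK b
    refine ⟨(α a) ^ (2 ^ (m + 1) + 1), ?_⟩
    rw [← uG_sq hK a 0, map_pow, hAC, uG_sq]
  choose β hβ using hZ
  have hβα : ∀ a, β (a ^ (2 ^ (k + 1) + 1)) = (α a) ^ (2 ^ (m + 1) + 1) := by
    intro a
    have h1 := hβ (a ^ (2 ^ (k + 1) + 1))
    rw [← uG_sq hK a 0, map_pow, hAC, uG_sq] at h1
    exact (uG_inj hF h1).2.symm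
  have hβ0 : ∀ b, b ≠ 0 → β b ≠ 0 := by
    intro b hb h0
    have h1 := hβ b
    rw [h0, uG_zero] at h1
    have h3 : uG hK (0 : K) b = 1 := hinj (by rw [h1, map_one])
    rw [← uG_zero hK] at h3
    exact hb (uG_inj hK h3).2
  -- `B` is preserved
  have hB : ∀ x ∈ szB K k, φ x ∈ szB F m := by
    intro x hx
    obtain ⟨a, b, l, rfl⟩ := (mem_B_iff hk hK x).1 hx
    rw [map_mul, hAC, hρ]
    exact Subgroup.mul_mem _ (uG_mem_B hF _ _) (hG_mem_B hF _)
  -- the key relation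
  have hkey : ∀ b : K, b ≠ 0 → α (b / b ^ (2 ^ (k + 1))) = β b / (β b) ^ (2 ^ (m + 1)) ∧ C (b / b ^ (2 ^ (k + 1))) 0 = 0 := by
    intro b hb
    set a' := b / b ^ (2 ^ (k + 1)) with ha'
    have h1 : (wG hK * (uG hK a' 0)⁻¹ * (wG hK * uG hK 0 b * wG hK)) ∈ szB K k := by
      show (wG hK * (uG hK a' 0)⁻¹ * (wG hK * uG hK 0 b * wG hK)) • suzukiPointInfinity K = suzukiPointInfinity K
      rw [mul_smul, mul_smul, w_uG_w_inf hK hb, ← ha', inv_smul_eq_iff.2]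
      · exact wG_zero hK
      · rw [uG_smul]
        simp
    have h3 := hB _ h1
    rw [map_mul, map_mul, map_inv, map_mul, map_mul, hw, hAC, hβ] at h3
    have h4 : (wG hF * (uG hF (A a' 0) (C a' 0))⁻¹ * (wG hF * uG hF 0 (β b) * wG hF)) • suzukiPointInfinity F =
        suzukiPointInfinity F := h3
    rw [mul_smul, mul_smul, w_uG_w_inf hF (hβ0 b hb)] at h4
    have h5 : (uG hF (A a' 0) (C a' 0))⁻¹ • szPt m (β b / β b ^ (2 ^ (m + 1))) 0 = szPt m (0 : F) 0 := by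
      rw [← smul_left_cancel_iff (wG hF), h4, wG_zero]
    rw [inv_smul_eq_iff, uG_smul] at h5
    have h6 := szPt_inj h5
    constructor
    · rw [h6.1]
      simp [hα]
    · have := h6.2
      simpa using this.symm
  -- the values on inverses
  have hαne : ∀ a, a ≠ 0 → α a ≠ 0 := by
    intro a ha h0
    have hne := hβ0 _ (pow_ne_zero (2 ^ (k + 1) + 1) ha)
    rw [hβα, h0, zero_pow (by positivity)] at hne
    exact hne rfl
  have hinv : ∀ a, a ≠ 0 → α a⁻¹ = (α a)⁻¹ ∧ C a⁻¹ 0 = 0 := by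
    intro a ha
    have h1 := hkey _ (pow_ne_zero (2 ^ (k + 1) + 1) ha)
    rw [pow_div_pow_eq_inv hK ha, hβα, pow_div_pow_eq_inv hF (hαne a ha)] at h1
    exact h1
  have hC : ∀ a, C a 0 = 0 := by
    intro a
    by_cases ha : a = 0
    · subst ha
      have h1 := hAC 0 0
      rw [uG_zero, map_one, ← uG_zero hF] at h1
      exact (uG_inj hF h1).2.symm
    · have := (hinv a⁻¹ (inv_ne_zero ha)).2
      rwa [inv_inv] at this
  have hu0 : ∀ a, φ (uG hK a 0) = uG hF (α a) 0 := by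
    intro a
    rw [hAC, hC]
  have hα0 : α 0 = 0 := by
    have h1 := hu0 0
    rw [uG_zero, map_one, ← uG_zero hF] at h1
    exact (uG_inj hF h1).1.symm
  have hα1 : α 1 = 1 := by
    have h1 := (hinv 1 one_ne_zero).1
    rw [inv_one] at h1
    have h3 := hαne 1 one_ne_zero
    have h4 : (α 1 + 1) ^ 2 = 0 := by
      have h5 : α 1 * α 1 = 1 := by
        nth_rw 1 [h1]
        exact inv_mul_cancel₀ h3
      linear_combination h5 + (α 1 + 1) * h2
    have h5 := pow_eq_zero_iff (two_ne_zero) |>.1 h4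
    linear_combination h5 - h2
  -- additivity
  have hadd : ∀ a c, α (a + c) = α a + α c := by
    intro a c
    have e1 : uG hK a 0 * uG hK c 0 = uG hK (a + c) 0 * uG hK 0 (a ^ (2 ^ (k + 1)) * c) := by
      rw [uG_mul, uG_mul]
      simp
    have e2 := congrArg φ e1
    rw [map_mul, map_mul, hu0, hu0, hu0, hβ, uG_mul, uG_mul] at e2
    have e3 := (uG_inj hF e2).1
    rw [e3, add_zero]
  -- multiplicativity
  have hmul_unit : ∀ (l : Kˣ) (a : K), ((ρ l : Fˣ) : F) * α a = α ((l : K) * a) := by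
    intro l a
    have e1 := hG_uG hK l a 0
    rw [mul_zero] at e1
    have e2 := congrArg φ e1
    rw [map_mul, map_mul, hρ, hu0, hu0, hG_uG, mul_zero] at e2
    exact (uG_hG_inj hF e2).1
  have hρα : ∀ l : Kˣ, ((ρ l : Fˣ) : F) = α l := by
    intro l
    have := hmul_unit l 1
    rwa [hα1, mul_one, mul_one] at this
  have hmul : ∀ x y : K, α (x * y) = α x * α y := by
    intro x y
    by_cases hx : x = 0
    · subst hx
      rw [zero_mul, hα0, zero_mul]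
    · have := hmul_unit (Units.mk0 x hx) y
      rw [hρα] at this
      exact this.symm
  -- the ring homomorphism
  let τ₀ : K →+* F :=
    { toFun := α, map_one' := hα1, map_mul' := hmul, map_zero' := hα0, map_add' := hadd }
  have hτ : ∀ x, τ₀ x = α x := fun _ => rfl
  have hβeq : ∀ b, β b = α b := by
    intro b
    obtain ⟨a, rfl⟩ := exists_pow_eq hK b
    rw [hβα, ← hτ, ← hτ, map_pow, pow_succ _ (2 ^ (m + 1)), pow_succ _ (2 ^ (k + 1)), ← map_pow,
      sz_pow_compat' hK hdiv, map_pow]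
  refine ⟨τ₀, szHom_ext hk hK ?_ ?_ ?_⟩
  · intro a b
    have e1 : uG hK a b = uG hK a 0 * uG hK 0 b := by
      rw [uG_mul]
      simp
    rw [szEmb_uG, e1, map_mul, hu0, hβ, uG_mul, hβeq, hτ, hτ]
    simp
  · intro l
    rw [szEmb_hG, hρ]
    congr 1
    apply Units.ext
    exact hρα l
  · rw [szEmb_wG, hw]

end Cfsg.Agent.H10
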