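import Mathlib
import Cfsg.Agent.Lib.H10.SzSub

/-! Subfield subgroups of the Suzuki groups: the conjugacy theorem. -/

set_option autoImplicit false
set_option linter.unusedSectionVars false
set_option linter.unusedSimpArgs false
set_option linter.style.haveILetI false

namespace Cfsg.Agent.H10

open Matrix Cfsg

variable {F K : Type*} [Field F] [Fintype F] [CharP F 2] [Field K] [Fintype K] [CharP K 2] {m k : ℕ}

/-- Conjugating a homomorphism. -/
noncomputable def conjHom {G H : Type*} [Group G] [Group H] (g : H) (φ : G →* H) : G →* H :=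
  (MulAut.conj g).toMonoidHom.comp φ

lemma conjHom_apply {G H : Type*} [Group G] [Group H] (g : H) (φ : G →* H) (x : G) :
    conjHom g φ x = g * φ x * g⁻¹ := rfl

lemma conjHom_inj {G H : Type*} [Group G] [Group H] (g : H) {φ : G →* H} (h : Function.Injective φ) :
    Function.Injective (conjHom g φ) := by
  intro x y hxy
  apply h
  rw [conjHom_apply, conjHom_apply] at hxy
  exact mul_left_cancel (mul_right_cancel hxy)

lemma exists_sylow_step' (hm : 1 ≤ m) (hF : Fintype.card F = 2 ^ (2 * m + 1)) (hK : Fintype.card K = 2 ^ (2 * k + 1))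
    (φ : ↥(Sz K k) →* ↥(Sz F m)) :
    ∃ g : ↥(Sz F m), ∀ u ∈ szUG hK, conjHom g φ u ∈ szUG hF := by
  have h1 : IsPGroup 2 ((szUG hK).map φ) := (isPGroup_szUG hK).map φ
  obtain ⟨Q, hQ⟩ := h1.exists_le_sylow
  obtain ⟨g, hg⟩ := exists_conj_sylow hm hF Q
  refine ⟨g⁻¹, fun u hu => ?_⟩
  have h2 := (hg (φ u)).1 (hQ (Subgroup.mem_map_of_mem φ hu))
  rw [conjHom_apply, inv_inv]
  exact h2

lemma map_B_of_U' (hk : 1 ≤ k) (hF : Fintype.card F = 2 ^ (2 * m + 1)) (hK : Fintype.card K = 2 ^ (2 * k + 1))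
    {φ : ↥(Sz K k) →* ↥(Sz F m)} (hinj : Function.Injective φ) (hU : ∀ u ∈ szUG hK, φ u ∈ szUG hF)
    {x : ↥(Sz K k)} (hx : x ∈ szB K k) : φ x ∈ szB F m := by
  have hn : x ∈ Subgroup.normalizer ((szUG hK : Subgroup ↥(Sz K k)) : Set ↥(Sz K k)) := by
    rw [normalizer_szUG hk hK]
    exact hx
  have hxinv : x⁻¹ ∈ Subgroup.normalizer ((szUG hK : Subgroup ↥(Sz K k)) : Set ↥(Sz K k)) :=
    Subgroup.inv_mem _ hn
  have h1 := (Subgroup.mem_normalizer_iff.1 hxinv (uG hK (1 : K) 0)).1 (uG_mem hK _ _)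
  rw [inv_inv] at h1
  obtain ⟨a, b, hab⟩ := hU _ h1
  obtain ⟨c, d, hcd⟩ := hU _ (uG_mem hK (1 : K) 0)
  have hne : c ≠ 0 ∨ d ≠ 0 := by
    by_contra hcon
    have hc0 : c = 0 := by
      by_contra h
      exact hcon (Or.inl h)
    have hd0 : d = 0 := by
      by_contra h
      exact hcon (Or.inr h)
    subst hc0 hd0
    rw [uG_zero] at hcd
    have h3 : uG hK (1 : K) 0 = 1 := hinj (by rw [map_one]; exact hcd)
    rw [← uG_zero hK] at h3
    exact one_ne_zero (uG_inj hK h3).1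
  apply eq_inf_of_uG_fix hF (a := c) (b := d) hne (smul_mem_ovoid (φ x) inf_mem_ovoid)
  -- `u • (y • ∞) = y • (y⁻¹ u y • ∞) = y • ∞`
  have e1 : uG hF c d * φ x = φ x * uG hF a b := by
    rw [← hcd, ← hab, ← map_mul, ← map_mul]
    congr 1
    group
  rw [← mul_smul, e1, mul_smul, uG_inf]

/-- Second reduction: the torus may be preserved. -/
lemma exists_torus_step' (hm : 1 ≤ m) (hk : 1 ≤ k) (hF : Fintype.card F = 2 ^ (2 * m + 1)) (hK : Fintype.card K = 2 ^ (2 * k + 1))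
    {φ : ↥(Sz K k) →* ↥(Sz F m)} (hinj : Function.Injective φ) (hB : ∀ x ∈ szB K k, φ x ∈ szB F m) :
    ∃ v ∈ szUG hF, ∀ l : Kˣ, ∃ l' : Fˣ, conjHom v φ (hG hK l) = hG hF l' := by
  classical
  obtain ⟨l₀, hl₀⟩ := IsCyclic.exists_generator (α := Kˣ)
  have hy := hB _ (hG_mem_B hK l₀)
  obtain ⟨a, b, l₁, hab⟩ := (mem_B_iff hm hF _).1 hy
  have hl₁ : l₁ ≠ 1 := by
    rintro rfl
    rw [hG_one, mul_one] at hab
    have h4 : φ (hG hK (l₀ ^ 4)) = 1 := by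
      rw [hG_pow, map_pow, hab, uG_pow_four]
    have h5 : hG hK (l₀ ^ 4) = 1 := hinj (by rw [h4, map_one])
    rw [← hG_one hK] at h5
    have h6 := unit_eq_one_of_pow_four _ (hG_inj hK h5)
    obtain ⟨l, hl⟩ := exists_unit_ne_one hk hK
    obtain ⟨n, hn⟩ := Submonoid.mem_powers_iff _ _ |>.1 ((mem_powers_iff_mem_zpowers).2 (hl₀ l))
    rw [h6, one_pow] at hn
    exact hl hn.symm
  obtain ⟨x, y, hxy⟩ := exists_affine_fix hF a b l₁ hl₁
  obtain ⟨v, hv, hvxy⟩ := exists_uG_smul hF x y 0 0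
  refine ⟨v, hv, ?_⟩
  have hvB : v ∈ szB F m := szUG_le_B hF hv
  have hfix : ∃ l₂ : Fˣ, conjHom v φ (hG hK l₀) = hG hF l₂ := by
    apply fix_two_G hm hF
    · have h1 : conjHom v φ (hG hK l₀) ∈ szB F m := by
        show v * φ (hG hK l₀) * v⁻¹ ∈ szB F m
        exact Subgroup.mul_mem _ (Subgroup.mul_mem _ hvB hy) (Subgroup.inv_mem _ hvB)
      exact h1
    · show (v * φ (hG hK l₀) * v⁻¹) • szPt m (0 : F) 0 = szPt m (0 : F) 0
      rw [hab, mul_smul, mul_smul, ← hvxy, inv_smul_smul, hxy]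
  obtain ⟨l₂, hl₂⟩ := hfix
  intro l
  obtain ⟨n, hn⟩ := Submonoid.mem_powers_iff _ _ |>.1 ((mem_powers_iff_mem_zpowers).2 (hl₀ l))
  refine ⟨l₂ ^ n, ?_⟩
  rw [← hn, hG_pow, hG_pow, map_pow, hl₂]

/-- Third reduction: the Weyl element may be fixed. -/
lemma exists_weyl_step' (hm : 1 ≤ m) (hk : 1 ≤ k) (hF : Fintype.card F = 2 ^ (2 * m + 1)) (hK : Fintype.card K = 2 ^ (2 * k + 1))
    {φ : ↥(Sz K k) →* ↥(Sz F m)} (hinj : Function.Injective φ)
    (hT : ∀ l : Kˣ, ∃ l' : Fˣ, φ (hG hK l) = hG hF l') :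
    ∃ l₄ : Fˣ, conjHom (hG hF l₄) φ (wG hK) = wG hF := by
  classical
  obtain ⟨l₀, hl₀⟩ := exists_unit_ne_one hk hK
  obtain ⟨l₂, hl₂⟩ := hT l₀
  have hl₂1 : l₂ ≠ 1 := by
    rintro rfl
    rw [hG_one] at hl₂
    have h5 : hG hK l₀ = 1 := hinj (by rw [hl₂, map_one])
    exact hG_ne_one hK hl₀ h5
  set y := φ (wG hK) with hy
  have hyy : y * y = 1 := by
    rw [hy, ← map_mul, wG_mul_self, map_one]
  have hyne : y ≠ 1 := by
    intro h
    apply wG_ne_one hk hK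
    exact hinj (by rw [← hy, h, map_one])
  have hyh : y * hG hF l₂ * y = hG hF l₂⁻¹ := by
    have h1 := wG_hG hK l₀
    have h2 := congrArg φ h1
    rw [map_mul, map_mul, hl₂, ← hy, ← hG_inv, map_inv, hl₂, hG_inv] at h2
    exact h2
  have hfixS := fixS_of_commute_two hm hF (x := hG hF l₂) (y := hG hF l₂) (hG_ne_one hF hl₂1) (hG_ne_one hF hl₂1)
    inf_mem_ovoid (szPt_mem_ovoid (0 : F) 0) (szPt_ne_inf _ _).symm (hG_inf hF l₂) (by
      rw [hG_smul]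
      simp) rfl
  -- `y` permutes the fixed points
  have hperm : ∀ p ∈ fixS (hG hF l₂), y • p ∈ fixS (hG hF l₂) := by
    rintro p ⟨hp1, hp2⟩
    refine ⟨smul_mem_ovoid y hp1, ?_⟩
    have h1 : hG hF l₂ * y = y * hG hF l₂⁻¹ := by
      rw [← hyh, ← mul_assoc, ← mul_assoc, hyy, one_mul]
    rw [← mul_smul, h1, mul_smul]
    congr 1
    rw [← hG_inv, inv_smul_eq_iff, hp2]
  have hinf : suzukiPointInfinity F ∈ fixS (hG hF l₂) := by
    rw [hfixS]
    exact Or.inl rfl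
  have hzero : szPt m (0 : F) 0 ∈ fixS (hG hF l₂) := by
    rw [hfixS]
    exact Or.inr rfl
  have h1 := hperm _ hinf
  have h2 := hperm _ hzero
  rw [hfixS] at h1 h2
  have hinj' : Function.Injective (fun p : Projectivization F (Fin 4 → F) => y • p) := MulAction.injective y
  have hsw : y • suzukiPointInfinity F = szPt m (0 : F) 0 := by
    rcases h1 with h1 | h1
    · exfalso
      rcases h2 with h2 | h2
      · have := hinj' (h1.trans h2.symm)
        exact szPt_ne_inf _ _ this.symm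
      · obtain ⟨l, hl⟩ := fix_two_G hm hF h1 h2
        rw [hl, hG_mul, ← hG_one hF] at hyy
        have := unit_eq_one_of_sq l (hG_inj hF hyy)
        rw [hl, this, hG_one] at hyne
        exact hyne rfl
    · exact h1
  have hsw2 : y • szPt m (0 : F) 0 = suzukiPointInfinity F := by
    rw [← hsw, ← mul_smul, hyy, one_smul]
  obtain ⟨l₃, hl₃⟩ := swap_G hm hF hsw hsw2
  obtain ⟨l₄, hl₄⟩ := exists_unit_sq hF l₃
  refine ⟨l₄, ?_⟩
  show hG hF l₄ * y * (hG hF l₄)⁻¹ = wG hF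
  rw [hl₃, ← mul_assoc, hG_wG, ← hl₄, ← hG_mul, ← hG_inv]
  group

/-- Every embedding is conjugate to a subfield embedding. -/
theorem exists_conj_szEmb (hm : 1 ≤ m) (hk : 1 ≤ k) (hF : Fintype.card F = 2 ^ (2 * m + 1))
    (hK : Fintype.card K = 2 ^ (2 * k + 1)) (hdiv : 2 * k + 1 ∣ 2 * m + 1)
    (φ : ↥(Sz K k) →* ↥(Sz F m)) (hinj : Function.Injective φ) :
    ∃ (g : ↥(Sz F m)) (α : K →+* F), conjHom g φ = szEmb hk hK hF hdiv α := by
  obtain ⟨g₁, hg₁⟩ := exists_sylow_step' hm hF hK φ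
  set φ₁ := conjHom g₁ φ with hφ₁
  have hinj₁ : Function.Injective φ₁ := conjHom_inj g₁ hinj
  have hB₁ : ∀ x ∈ szB K k, φ₁ x ∈ szB F m := fun x hx => map_B_of_U' hk hF hK hinj₁ hg₁ hx
  obtain ⟨v, hv, hv2⟩ := exists_torus_step' hm hk hF hK hinj₁ hB₁
  set φ₂ := conjHom v φ₁ with hφ₂
  have hinj₂ : Function.Injective φ₂ := conjHom_inj v hinj₁
  obtain ⟨l₄, hl₄⟩ := exists_weyl_step' hm hk hF hK hinj₂ hv2
  set φ₃ := conjHom (hG hF l₄) φ₂ with hφ₃
  have hinj₃ : Function.Injective φ₃ := conjHom_inj _ hinj₂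
  have hU₂ : ∀ u ∈ szUG hK, φ₂ u ∈ szUG hF := by
    intro u hu
    show v * φ₁ u * v⁻¹ ∈ szUG hF
    exact Subgroup.mul_mem _ (Subgroup.mul_mem _ hv (hg₁ u hu)) (Subgroup.inv_mem _ hv)
  have hU₃ : ∀ u ∈ szUG hK, φ₃ u ∈ szUG hF := by
    intro u hu
    have h1 : hG hF l₄ ∈ Subgroup.normalizer ((szUG hF : Subgroup ↥(Sz F m)) : Set ↥(Sz F m)) := by
      rw [normalizer_szUG hm hF]
      exact hG_mem_B hF l₄
    exact (Subgroup.mem_normalizer_iff.1 h1 _).1 (hU₂ u hu)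
  have hT₃ : ∀ l : Kˣ, ∃ l' : Fˣ, φ₃ (hG hK l) = hG hF l' := by
    intro l
    obtain ⟨l', hl'⟩ := hv2 l
    refine ⟨l₄ * l' * l₄⁻¹, ?_⟩
    show hG hF l₄ * φ₂ (hG hK l) * (hG hF l₄)⁻¹ = _
    rw [hl', hG_inv, hG_mul, hG_mul]
  obtain ⟨α, hα⟩ := eq_szEmb_of_nf hk hK hF hdiv φ₃ hinj₃ hU₃ hT₃ hl₄
  refine ⟨hG hF l₄ * v * g₁, α, ?_⟩
  rw [← hα]
  ext x : 1
  show (hG hF l₄ * v * g₁) * φ x * (hG hF l₄ * v * g₁)⁻¹ = hG hF l₄ * (v * (g₁ * φ x * g₁⁻¹) * v⁻¹) * (hG hF l₄)⁻¹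
  group

/-- The ranges of two subfield embeddings agree. -/
lemma range_szEmb_le (hk : 1 ≤ k) (hF : Fintype.card F = 2 ^ (2 * m + 1))
    (hK : Fintype.card K = 2 ^ (2 * k + 1)) (hdiv : 2 * k + 1 ∣ 2 * m + 1) (α₁ α₂ : K →+* F) :
    (szEmb hk hK hF hdiv α₁).range ≤ (szEmb hk hK hF hdiv α₂).range := by
  classical
  -- the images are the same set
  have hroot : ∀ (x : F), x ^ Fintype.card K = x → x ∈ Set.range α₂ := by
    intro x hx
    let P : Polynomial F := Polynomial.X ^ Fintype.card K - Polynomial.X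
    have hP : P ≠ 0 := FiniteField.X_pow_card_sub_X_ne_zero F Fintype.one_lt_card
    have hdeg : P.natDegree = Fintype.card K := FiniteField.X_pow_card_sub_X_natDegree_eq F Fintype.one_lt_card
    have hsub : (Finset.univ.image α₂) ⊆ P.roots.toFinset := by
      intro y hy
      obtain ⟨z, -, rfl⟩ := Finset.mem_image.1 hy
      rw [Multiset.mem_toFinset, Polynomial.mem_roots hP]
      simp [P, ← map_pow, FiniteField.pow_card]
    have hcard : (Finset.univ.image α₂).card = Fintype.card K := by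
      rw [Finset.card_image_of_injective _ α₂.injective, Finset.card_univ]
    have hle : P.roots.toFinset.card ≤ (Finset.univ.image α₂).card := by
      rw [hcard]
      exact (Multiset.toFinset_card_le _).trans ((Polynomial.card_roots' P).trans hdeg.le)
    have heq := Finset.eq_of_subset_of_card_le hsub hle
    have hxr : x ∈ P.roots.toFinset := by
      rw [Multiset.mem_toFinset, Polynomial.mem_roots hP]
      simp [P, hx]
    rw [← heq] at hxr
    obtain ⟨z, -, rfl⟩ := Finset.mem_image.1 hxr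
    exact ⟨z, rfl⟩
  have hex : ∀ z : K, ∃ y : K, α₂ y = α₁ z := by
    intro z
    have := hroot (α₁ z) (by rw [← map_pow, FiniteField.pow_card])
    exact this
  choose γ hγ using hex
  have γ_add : ∀ a b, γ (a + b) = γ a + γ b := fun a b => α₂.injective (by rw [hγ, map_add, map_add, hγ, hγ])
  have γ_mul : ∀ a b, γ (a * b) = γ a * γ b := fun a b => α₂.injective (by rw [hγ, map_mul, map_mul, hγ, hγ])
  have γ_one : γ 1 = 1 := α₂.injective (by rw [hγ, map_one, map_one])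
  have γ_zero : γ 0 = 0 := α₂.injective (by rw [hγ, map_zero, map_zero])
  let γ₀ : K →+* K := { toFun := γ, map_one' := γ_one, map_mul' := γ_mul, map_zero' := γ_zero, map_add' := γ_add }
  have hbij : Function.Bijective γ₀ := Finite.injective_iff_bijective.1 γ₀.injective
  let τ : K ≃+* K := RingEquiv.ofBijective γ₀ hbij
  rintro _ ⟨x, rfl⟩
  refine ⟨szFieldAut hk hK τ x, ?_⟩
  apply Subtype.ext
  apply Subtype.ext
  ext i j
  rw [szEmb_coe, szEmb_coe]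
  exact hγ _

/-- The subfield exists. -/
lemma exists_ringHom_of_dvd (hF : Fintype.card F = 2 ^ (2 * m + 1)) (hK : Fintype.card K = 2 ^ (2 * k + 1))
    (hdiv : 2 * k + 1 ∣ 2 * m + 1) : Nonempty (K →+* F) := by
  letI : Algebra (ZMod 2) K := ZMod.algebra K 2
  letI : Algebra (ZMod 2) F := ZMod.algebra F 2
  have h1 := Module.card_eq_pow_finrank (K := ZMod 2) (V := F)
  have h2 := Module.card_eq_pow_finrank (K := ZMod 2) (V := K)
  rw [hF, ZMod.card] at h1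
  rw [hK, ZMod.card] at h2
  have h3 := Nat.pow_right_injective (le_refl 2) h1
  have h4 := Nat.pow_right_injective (le_refl 2) h2
  have h5 : Module.finrank (ZMod 2) K ∣ Module.finrank (ZMod 2) F := by
    rw [← h3, ← h4]
    exact hdiv
  obtain ⟨f⟩ := FiniteField.nonempty_algHom_of_finrank_dvd (F := ZMod 2) (K := K) (L := F) h5
  exact ⟨f.toRingHom⟩

/-- Existence and conjugacy of subfield subgroups. -/
theorem subfield_subgroups (hm : 1 ≤ m) (hk : 1 ≤ k) (hF : Fintype.card F = 2 ^ (2 * m + 1))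
    (hK : Fintype.card K = 2 ^ (2 * k + 1)) (hdiv : 2 * k + 1 ∣ 2 * m + 1) :
    (∃ S : Subgroup ↥(Sz F m), Nonempty (↥S ≃* ↥(Sz K k))) ∧
    ∀ S₁ S₂ : Subgroup ↥(Sz F m), Nonempty (↥S₁ ≃* ↥(Sz K k)) → Nonempty (↥S₂ ≃* ↥(Sz K k)) →
      ∃ g : ↥(Sz F m), S₂ = S₁.map (MulAut.conj g).toMonoidHom := by
  constructor
  · obtain ⟨α⟩ := exists_ringHom_of_dvd hF hK hdiv
    exact ⟨_, ⟨(MonoidHom.ofInjective (szEmb_inj hk hK hF hdiv α)).symm⟩⟩
  · rintro S₁ S₂ ⟨f₁⟩ ⟨f₂⟩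
    let φ₁ : ↥(Sz K k) →* ↥(Sz F m) := S₁.subtype.comp f₁.symm.toMonoidHom
    let φ₂ : ↥(Sz K k) →* ↥(Sz F m) := S₂.subtype.comp f₂.symm.toMonoidHom
    have hφ₁ : Function.Injective φ₁ := S₁.subtype_injective.comp f₁.symm.injective
    have hφ₂ : Function.Injective φ₂ := S₂.subtype_injective.comp f₂.symm.injective
    obtain ⟨g₁, α₁, h₁⟩ := exists_conj_szEmb hm hk hF hK hdiv φ₁ hφ₁
    obtain ⟨g₂, α₂, h₂⟩ := exists_conj_szEmb hm hk hF hK hdiv φ₂ hφ₂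
    have hr₁ : ∀ y, y ∈ S₁ → g₁ * y * g₁⁻¹ ∈ (szEmb hk hK hF hdiv α₁).range := by
      intro y hy
      refine ⟨f₁ ⟨y, hy⟩, ?_⟩
      rw [← h₁, conjHom_apply]
      simp [φ₁]
    have hr₂ : ∀ y, y ∈ S₂ → g₂ * y * g₂⁻¹ ∈ (szEmb hk hK hF hdiv α₂).range := by
      intro y hy
      refine ⟨f₂ ⟨y, hy⟩, ?_⟩
      rw [← h₂, conjHom_apply]
      simp [φ₂]
    have hs₁ : ∀ z ∈ (szEmb hk hK hF hdiv α₁).range, ∃ y ∈ S₁, g₁ * y * g₁⁻¹ = z := by
      rintro _ ⟨x, rfl⟩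
      refine ⟨φ₁ x, (f₁.symm x).2, ?_⟩
      rw [← h₁, conjHom_apply]
    have hs₂ : ∀ z ∈ (szEmb hk hK hF hdiv α₂).range, ∃ y ∈ S₂, g₂ * y * g₂⁻¹ = z := by
      rintro _ ⟨x, rfl⟩
      refine ⟨φ₂ x, (f₂.symm x).2, ?_⟩
      rw [← h₂, conjHom_apply]
    have h12 := range_szEmb_le hk hF hK hdiv α₁ α₂
    have h21 := range_szEmb_le hk hF hK hdiv α₂ α₁
    refine ⟨g₂⁻¹ * g₁, ?_⟩
    ext x
    constructor
    · intro hx
      obtain ⟨y, hy, hyx⟩ := hs₁ _ (h21 (hr₂ x hx))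
      refine ⟨y, hy, ?_⟩
      show (g₂⁻¹ * g₁) * y * (g₂⁻¹ * g₁)⁻¹ = x
      have : x = g₂⁻¹ * (g₂ * x * g₂⁻¹) * g₂ := by group
      rw [this, ← hyx]
      group
    · rintro ⟨y, hy, rfl⟩
      obtain ⟨z, hz, hzy⟩ := hs₂ _ (h12 (hr₁ y hy))
      have : ((MulAut.conj (g₂⁻¹ * g₁)).toMonoidHom : ↥(Sz F m) →* ↥(Sz F m)) y = z := by
        show (g₂⁻¹ * g₁) * y * (g₂⁻¹ * g₁)⁻¹ = z
        have h3 : z = g₂⁻¹ * (g₂ * z * g₂⁻¹) * g₂ := by group
        rw [h3, hzy]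
        group
      rw [this]
      exact hz

end Cfsg.Agent.H10
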