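import Mathlib
import Cfsg.Agent.Lib.H10.SzSub2
import Cfsg.Agent.Lib.H10.TorCount

/-! The solubilizers of the Suzuki groups: subgroups and their structure. -/

set_option autoImplicit false
set_option linter.unusedSectionVars false
set_option linter.unusedSimpArgs false
set_option linter.style.haveILetI false

namespace Cfsg.Agent.H10

open Matrix Cfsg

variable {F : Type*} [Field F] [Fintype F] [CharP F 2] {m : ℕ}

lemma fix_three_G (hm : 1 ≤ m) (hF : Fintype.card F = 2 ^ (2 * m + 1)) {x : ↥(Sz F m)} (hx : x ≠ 1)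
    {p q r : Projectivization F (Fin 4 → F)} (hp : p ∈ suzukiOvoid F m) (hq : q ∈ suzukiOvoid F m)
    (hr : r ∈ suzukiOvoid F m) (h1 : x • p = p) (h2 : x • q = q) (h3 : x • r = r) : p = q ∨ q = r ∨ p = r := by
  by_contra hcon
  push Not at hcon
  obtain ⟨h4, h5, h6⟩ := hcon
  exact hx (Subtype.ext (eq_one_of_fix_three hm hF x.2 hp hq hr h4 h5 h6 h1 h2 h3))

lemma pow_four_of_unique_fix (hm : 1 ≤ m) (hF : Fintype.card F = 2 ^ (2 * m + 1)) {x : ↥(Sz F m)}
    {c : Projectivization F (Fin 4 → F)} (hc : c ∈ suzukiOvoid F m) (h1 : x • c = c)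
    (h2 : ∀ d ∈ suzukiOvoid F m, x • d = d → d = c) : x ^ 4 = 1 := by
  obtain ⟨k, hk⟩ := exists_pt_G hF hc
  set y := k⁻¹ * x * k with hy
  have hB : y ∈ szB F m := by
    show y • suzukiPointInfinity F = _
    rw [hy, mul_smul, mul_smul, hk, h1, ← hk, inv_smul_smul]
  obtain ⟨a, b, l, hab⟩ := (mem_B_iff hm hF y).1 hB
  have hl : l = 1 := by
    by_contra hl
    obtain ⟨X, Y, hXY⟩ := exists_affine_fix hF a b l hl
    rw [← hab] at hXY
    have h3 : x • (k • szPt m X Y) = k • szPt m X Y := by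
      have : x * k = k * y := by
        rw [hy]
        group
      rw [← mul_smul, this, mul_smul, hXY]
    have h4 := h2 _ (smul_mem_ovoid k (szPt_mem_ovoid X Y)) h3
    rw [← hk] at h4
    exact szPt_ne_inf X Y (MulAction.injective k h4)
  subst hl
  rw [hG_one, mul_one] at hab
  have hy4 : y ^ 4 = 1 := by
    rw [hab, uG_pow_four]
  have e : x = k * y * k⁻¹ := by
    rw [hy]
    group
  rw [e, conj_pow, hy4]
  group

/-- An element of odd order with a fixed point has a second one. -/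
lemma exists_other_fix (hm : 1 ≤ m) (hF : Fintype.card F = 2 ^ (2 * m + 1)) {x : ↥(Sz F m)} (hx : x ≠ 1) {n : ℕ}
    (hn : ¬ 2 ∣ n) (hxn : x ^ n = 1) {c : Projectivization F (Fin 4 → F)} (hc : c ∈ suzukiOvoid F m)
    (h1 : x • c = c) : ∃ d ∈ suzukiOvoid F m, d ≠ c ∧ x • d = d := by
  by_contra hcon
  push Not at hcon
  have h4 := pow_four_of_unique_fix hm hF hc h1 (fun d hd hxd => by
    by_contra hne
    exact hcon d hd hne hxd)
  have h5 : orderOf x ∣ Nat.gcd 4 n := Nat.dvd_gcd (orderOf_dvd_of_pow_eq_one h4) (orderOf_dvd_of_pow_eq_one hxn)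
  have h6 : Nat.gcd 4 n = 1 := by
    have h7 : Nat.Coprime (2 ^ 2) n := Nat.Coprime.pow_left 2 ((Nat.Prime.coprime_iff_not_dvd Nat.prime_two).2 hn)
    simpa using h7
  rw [h6, Nat.dvd_one, orderOf_eq_one_iff] at h5
  exact hx h5

/-- An element fixing two points has order dividing `q - 1`. -/
lemma pow_eq_one_of_two_fix (hm : 1 ≤ m) (hF : Fintype.card F = 2 ^ (2 * m + 1)) {x : ↥(Sz F m)}
    {c d : Projectivization F (Fin 4 → F)} (hc : c ∈ suzukiOvoid F m) (hd : d ∈ suzukiOvoid F m) (hcd : c ≠ d)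
    (h1 : x • c = c) (h2 : x • d = d) : x ^ (2 ^ (2 * m + 1) - 1) = 1 := by
  have h3 := pow_card_eq_one' (x := (⟨x, mem_szTwo.2 ⟨h1, h2⟩⟩ : ↥(szTwo (m := m) c d)))
  rw [szTwo_card hm hF hc hd hcd] at h3
  exact congrArg Subtype.val h3

/-- Elements of order dividing four have a unique fixed point. -/
lemma unique_fix_of_pow_four (hm : 1 ≤ m) (hF : Fintype.card F = 2 ^ (2 * m + 1)) {x : ↥(Sz F m)} (hx : x ≠ 1)
    (h4 : x ^ 4 = 1) : ∃ c ∈ suzukiOvoid F m, x • c = c ∧ ∀ d ∈ suzukiOvoid F m, x • d = d → d = c := by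
  haveI : Fact (Nat.Prime 2) := ⟨Nat.prime_two⟩
  obtain ⟨c, hc, h1⟩ := exists_fix_of_pow hF x (p := 2) (n := 2) h4 (odd_q_sq_add_one m)
  refine ⟨c, hc, h1, fun d hd h2 => ?_⟩
  by_contra hne
  have h3 := pow_eq_one_of_two_fix hm hF hc hd (Ne.symm hne) h1 h2
  have h5 : orderOf x ∣ Nat.gcd 4 (2 ^ (2 * m + 1) - 1) :=
    Nat.dvd_gcd (orderOf_dvd_of_pow_eq_one h4) (orderOf_dvd_of_pow_eq_one h3)
  have h6 : Nat.gcd 4 (2 ^ (2 * m + 1) - 1) = 1 := by
    have h7 : Nat.Coprime (2 ^ 2) (2 ^ (2 * m + 1) - 1) :=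
      Nat.Coprime.pow_left 2 ((Nat.Prime.coprime_iff_not_dvd Nat.prime_two).2 (odd_q_sub_one m))
    simpa using h7
  rw [h6, Nat.dvd_one, orderOf_eq_one_iff] at h5
  exact hx h5

/-! ### The stabilisers of two points -/

section two

variable {c d : Projectivization F (Fin 4 → F)}

lemma szTwo_comm (hm : 1 ≤ m) (hF : Fintype.card F = 2 ^ (2 * m + 1)) (hc : c ∈ suzukiOvoid F m)
    (hd : d ∈ suzukiOvoid F m) (hcd : c ≠ d) {a b : ↥(Sz F m)} (ha : a ∈ szTwo (m := m) c d)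
    (hb : b ∈ szTwo (m := m) c d) : a * b = b * a :=
  cand_cyclic_facts hm (szTwo_isCyclic hm hF hc hd hcd) hb a ha

lemma szTwo_cent (hm : 1 ≤ m) (hF : Fintype.card F = 2 ^ (2 * m + 1)) (hc : c ∈ suzukiOvoid F m)
    (hd : d ∈ suzukiOvoid F m) (hcd : c ≠ d) {a : ↥(Sz F m)} (ha : a ∈ szTwo (m := m) c d) (ha1 : a ≠ 1) :
    Subgroup.centralizer ({a} : Set ↥(Sz F m)) = szTwo (m := m) c d := by
  ext y
  rw [Subgroup.mem_centralizer_singleton_iff]
  constructor
  · intro hy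
    exact mem_szTwo.2 (centralizer_fix_of_two hm hF ha1 hc hd hcd (mem_szTwo.1 ha).1 (mem_szTwo.1 ha).2 hy)
  · intro hy
    exact szTwo_comm hm hF hc hd hcd hy ha

lemma exists_swap (hF : Fintype.card F = 2 ^ (2 * m + 1)) (hc : c ∈ suzukiOvoid F m)
    (hd : d ∈ suzukiOvoid F m) (hcd : c ≠ d) : ∃ s : ↥(Sz F m), s • c = d ∧ s • d = c := by
  obtain ⟨k, hk1, hk2⟩ := exists_pair_G hF hc hd hcd
  refine ⟨k * wG hF * k⁻¹, ?_, ?_⟩
  · rw [← hk1, ← hk2, mul_smul, mul_smul, inv_smul_smul, wG_infty]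
  · rw [← hk1, ← hk2, mul_smul, mul_smul, inv_smul_smul, wG_zero]

lemma exists_szTwo_ne (hm : 1 ≤ m) (hF : Fintype.card F = 2 ^ (2 * m + 1)) (hc : c ∈ suzukiOvoid F m)
    (hd : d ∈ suzukiOvoid F m) (hcd : c ≠ d) : ∃ a ∈ szTwo (m := m) c d, a ≠ 1 := by
  by_contra hcon
  push Not at hcon
  have h1 : szTwo (m := m) c d = ⊥ := (Subgroup.eq_bot_iff_forall _).2 hcon
  have h2 := szTwo_card (m := m) hm hF hc hd hcd
  rw [h1, Subgroup.card_bot] at h2
  have h3 : 2 ^ (2 * 1 + 1) ≤ 2 ^ (2 * m + 1) := Nat.pow_le_pow_right (by norm_num) (by omega)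
  omega

/-- Preserving the pair. -/
def PrePair (c d : Projectivization F (Fin 4 → F)) (y : ↥(Sz F m)) : Prop :=
  (y • c = c ∧ y • d = d) ∨ (y • c = d ∧ y • d = c)

lemma PrePair.inv {y : ↥(Sz F m)} (h : PrePair c d y) : PrePair c d y⁻¹ := by
  rcases h with ⟨h1, h2⟩ | ⟨h1, h2⟩
  · left
    exact ⟨inv_smul_eq_iff.2 h1.symm, inv_smul_eq_iff.2 h2.symm⟩
  · right
    exact ⟨inv_smul_eq_iff.2 h2.symm, inv_smul_eq_iff.2 h1.symm⟩

lemma conj_mem_szTwo_of_prePair {y h : ↥(Sz F m)} (hy : PrePair c d y) (hh : h ∈ szTwo (m := m) c d) :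
    y * h * y⁻¹ ∈ szTwo (m := m) c d := by
  obtain ⟨h1, h2⟩ := mem_szTwo.1 hh
  rw [mem_szTwo]
  rcases hy with ⟨h3, h4⟩ | ⟨h3, h4⟩
  · constructor
    · rw [mul_smul, mul_smul, inv_smul_eq_iff.2 h3.symm, h1, h3]
    · rw [mul_smul, mul_smul, inv_smul_eq_iff.2 h4.symm, h2, h4]
  · constructor
    · rw [mul_smul, mul_smul, inv_smul_eq_iff.2 h4.symm, h2, h4]
    · rw [mul_smul, mul_smul, inv_smul_eq_iff.2 h3.symm, h1, h3]

lemma mem_normalizer_of_prePair {y : ↥(Sz F m)} (hy : PrePair c d y) :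
    y ∈ Subgroup.normalizer ((szTwo (m := m) c d : Subgroup ↥(Sz F m)) : Set ↥(Sz F m)) := by
  rw [Subgroup.mem_normalizer_iff]
  intro h
  constructor
  · exact conj_mem_szTwo_of_prePair hy
  · intro h1
    have h2 := conj_mem_szTwo_of_prePair hy.inv h1
    have e : y⁻¹ * (y * h * y⁻¹) * y⁻¹⁻¹ = h := by group
    rwa [e] at h2

lemma prePair_of_normalizer (hm : 1 ≤ m) (hF : Fintype.card F = 2 ^ (2 * m + 1)) (hc : c ∈ suzukiOvoid F m)
    (hd : d ∈ suzukiOvoid F m) (hcd : c ≠ d) {y : ↥(Sz F m)}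
    (hy : y ∈ Subgroup.normalizer ((szTwo (m := m) c d : Subgroup ↥(Sz F m)) : Set ↥(Sz F m))) : PrePair c d y := by
  obtain ⟨a, ha, ha1⟩ := exists_szTwo_ne hm hF hc hd hcd
  obtain ⟨h1, h2⟩ := mem_szTwo.1 ha
  have hyi : y⁻¹ ∈ Subgroup.normalizer ((szTwo (m := m) c d : Subgroup ↥(Sz F m)) : Set ↥(Sz F m)) :=
    Subgroup.inv_mem _ hy
  have ha' : y⁻¹ * a * y⁻¹⁻¹ ∈ szTwo (m := m) c d := (Subgroup.mem_normalizer_iff.1 hyi a).1 ha
  rw [inv_inv] at ha'
  obtain ⟨h3, h4⟩ := mem_szTwo.1 ha'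
  have hfix : ∀ p : Projectivization F (Fin 4 → F), (y⁻¹ * a * y) • p = p → a • (y • p) = y • p := by
    intro p hp
    rw [mul_smul, mul_smul, inv_smul_eq_iff] at hp
    exact hp
  have hc1 := hfix c h3
  have hd1 := hfix d h4
  have hyc : y • c = c ∨ y • c = d := by
    rcases fix_three_G hm hF ha1 hc hd (smul_mem_ovoid y hc) h1 h2 hc1 with h | h | h
    · exact absurd h hcd
    · exact Or.inr h.symm
    · exact Or.inl h.symm
  have hyd : y • d = c ∨ y • d = d := by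
    rcases fix_three_G hm hF ha1 hc hd (smul_mem_ovoid y hd) h1 h2 hd1 with h | h | h
    · exact absurd h hcd
    · exact Or.inr h.symm
    · exact Or.inl h.symm
  rcases hyc with h5 | h5 <;> rcases hyd with h6 | h6
  · exact absurd (MulAction.injective y (h5.trans h6.symm)) hcd
  · exact Or.inl ⟨h5, h6⟩
  · exact Or.inr ⟨h5, h6⟩
  · exact absurd (MulAction.injective y (h5.trans h6.symm)) hcd

lemma isTor_szTwo (hm : 1 ≤ m) (hF : Fintype.card F = 2 ^ (2 * m + 1)) (hc : c ∈ suzukiOvoid F m)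
    (hd : d ∈ suzukiOvoid F m) (hcd : c ≠ d) : IsTor (szTwo (m := m) c d) 2 where
  cent := fun a ha ha1 => szTwo_cent hm hF hc hd hcd ha ha1
  odd := by
    rw [szTwo_card hm hF hc hd hcd]
    exact odd_q_sub_one m
  card := by
    set K := szTwo (m := m) c d with hK
    set N := Subgroup.normalizer ((K : Subgroup ↥(Sz F m)) : Set ↥(Sz F m)) with hN
    have h1 := Subgroup.index_mul_card (K.subgroupOf N)
    have h2 : Nat.card (K.subgroupOf N) = Nat.card K :=
      Nat.card_congr (Subgroup.subgroupOfEquivOfLe Subgroup.le_normalizer).toEquiv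
    rw [h2] at h1
    rw [← h1]
    congr 1
    obtain ⟨s, hs1, hs2⟩ := exists_swap (m := m) hF hc hd hcd
    have hsP : PrePair c d s := Or.inr ⟨hs1, hs2⟩
    rw [Subgroup.index_eq_two_iff]
    refine ⟨⟨s, mem_normalizer_of_prePair hsP⟩, fun b => ?_⟩
    rw [Subgroup.mem_subgroupOf, Subgroup.mem_subgroupOf]
    show Xor (b.1 * s ∈ K) (b.1 ∈ K)
    rcases prePair_of_normalizer hm hF hc hd hcd b.2 with ⟨h3, h4⟩ | ⟨h3, h4⟩
    · right
      refine ⟨mem_szTwo.2 ⟨h3, h4⟩, fun h5 => ?_⟩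
      have h6 := (mem_szTwo.1 h5).1
      rw [mul_smul, hs1, h4] at h6
      exact hcd h6.symm
    · left
      refine ⟨mem_szTwo.2 ⟨?_, ?_⟩, fun h5 => ?_⟩
      · rw [mul_smul, hs1, h4]
      · rw [mul_smul, hs2, h3]
      · exact hcd ((mem_szTwo.1 h5).1.symm.trans h3)
  ne := exists_szTwo_ne hm hF hc hd hcd
  he := Or.inl rfl

end two

lemma isTor_isSzA (hm : 1 ≤ m) (hF : Fintype.card F = 2 ^ (2 * m + 1)) {A : Subgroup ↥(Sz F m)} (hA : IsSzA A) :
    IsTor A 4 where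
  cent := fun a ha ha1 => hA.centralizer_eq hm hF ha ha1
  odd := fun h => odd_q_sq_add_one m (dvd_trans h (hA.card_dvd hm hF))
  card := hA.card_normalizer hm hF
  ne := hA.exists_ne
  he := Or.inr rfl

/-! ### Solvable subgroups -/

lemma isSolvable_stabilizer (hm : 1 ≤ m) (hF : Fintype.card F = 2 ^ (2 * m + 1))
    {p : Projectivization F (Fin 4 → F)} (hp : p ∈ suzukiOvoid F m) :
    Group.IsSolvable (MulAction.stabilizer ↥(Sz F m) p) := by
  obtain ⟨k, rfl⟩ := exists_pt_G hF hp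
  rw [MulAction.stabilizer_smul_eq_stabilizer_map_conj]
  haveI := isSolvable_B (F := F) hm hF
  let e := (szB F m).equivMapOfInjective (MulAut.conj k).toMonoidHom (MulAut.conj k).injective
  exact Group.isSolvable_of_surjective (f := e.toMonoidHom) e.surjective

lemma IsTor.isSolvable {G : Type*} [Group G] [Finite G] {K : Subgroup G} {e : ℕ} (h : IsTor K e) :
    Group.IsSolvable (Subgroup.normalizer (K : Set G)) := by
  set N := Subgroup.normalizer (K : Set G) with hN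
  haveI hn : (K.subgroupOf N).Normal := Subgroup.normal_in_normalizer
  haveI h1 : Group.IsSolvable (K.subgroupOf N) := Group.isSolvable_of_comm (by
    rintro ⟨a, ha⟩ ⟨b, hb⟩
    apply Subtype.ext
    apply Subtype.ext
    exact h.comm (Subgroup.mem_subgroupOf.1 ha) (Subgroup.mem_subgroupOf.1 hb))
  have h3 : Nat.card (↥N ⧸ K.subgroupOf N) = e := h.index_eq
  have h4 : IsPGroup 2 (↥N ⧸ K.subgroupOf N) := by
    rcases h.he with rfl | rfl
    · exact IsPGroup.of_card (n := 1) (by rw [h3]; norm_num)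
    · exact IsPGroup.of_card (n := 2) (by rw [h3]; norm_num)
  haveI : Group.IsNilpotent (↥N ⧸ K.subgroupOf N) := h4.isNilpotent
  exact Group.isSolvable_of_ker_le_range (K.subgroupOf N).subtype (QuotientGroup.mk' (K.subgroupOf N)) (by
    intro x hx
    rw [QuotientGroup.ker_mk'] at hx
    exact ⟨⟨x, hx⟩, rfl⟩)

lemma solvable_of_mem {G : Type*} [Group G] {x y : G} {M : Subgroup G} (hM : Group.IsSolvable M) (hx : x ∈ M)
    (hy : y ∈ M) : Group.IsSolvable ↥(Subgroup.closure ({x, y} : Set G)) := by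
  have hle : Subgroup.closure ({x, y} : Set G) ≤ M := by
    rw [Subgroup.closure_le]
    rintro z (rfl | rfl)
    · exact hx
    · exact hy
  exact Group.isSolvable_of_isSolvable_injective (Subgroup.inclusion_injective hle)

/-- The structure of solvable two-generated subgroups. -/
theorem exists_of_solvable (hm : 1 ≤ m) (hF : Fintype.card F = 2 ^ (2 * m + 1)) {x y : ↥(Sz F m)} (hx : x ≠ 1)
    (hs : Group.IsSolvable ↥(Subgroup.closure ({x, y} : Set ↥(Sz F m)))) :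
    (∃ p ∈ suzukiOvoid F m, x • p = p ∧ y • p = p) ∨
      (∃ c d, c ∈ suzukiOvoid F m ∧ d ∈ suzukiOvoid F m ∧ c ≠ d ∧
        x ∈ Subgroup.normalizer ((szTwo (m := m) c d : Subgroup ↥(Sz F m)) : Set ↥(Sz F m)) ∧
        y ∈ Subgroup.normalizer ((szTwo (m := m) c d : Subgroup ↥(Sz F m)) : Set ↥(Sz F m))) ∨
      (∃ A : Subgroup ↥(Sz F m), IsSzA A ∧ x ∈ Subgroup.normalizer (A : Set ↥(Sz F m)) ∧
        y ∈ Subgroup.normalizer (A : Set ↥(Sz F m))) := by
  set H := Subgroup.closure ({x, y} : Set ↥(Sz F m)) with hH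
  have hxH : x ∈ H := Subgroup.subset_closure (Or.inl rfl)
  have hyH : y ∈ H := Subgroup.subset_closure (Or.inr rfl)
  haveI : Nontrivial H := ⟨⟨⟨x, hxH⟩, 1, fun h => hx (congrArg Subtype.val h)⟩⟩
  obtain ⟨D, hDn, hD1, hDc⟩ := exists_abelian_normal (H := H)
  obtain ⟨z₀, hz₀⟩ := Subgroup.ne_bot_iff_exists_ne_one.1 hD1
  set z : ↥(Sz F m) := (z₀ : H).1 with hz
  have hz1 : z ≠ 1 := by
    intro h
    apply hz₀
    apply Subtype.ext
    apply Subtype.ext
    exact h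
  have hcomm : ∀ k ∈ H, (k * z * k⁻¹) * z = z * (k * z * k⁻¹) := by
    intro k hk
    have h1 := hDn.conj_mem z₀.1 z₀.2 ⟨k, hk⟩
    have h2 := hDc _ h1 _ z₀.2
    exact congrArg Subtype.val h2
  have hne : ∀ k, k * z * k⁻¹ ≠ 1 := by
    intro k h
    apply hz1
    have e : z = k⁻¹ * (k * z * k⁻¹) * k := by group
    rw [e, h]
    group
  rcases fixed_cases z with hfpf | ⟨c, hc, h1, h2⟩ | ⟨c, hc, d, hd, hcd, h1, h2⟩
  · right
    right
    refine ⟨Subgroup.centralizer ({z} : Set ↥(Sz F m)), ⟨z, hfpf, rfl⟩, ?_⟩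
    have hN : ∀ k ∈ H, k ∈ Subgroup.normalizer ((Subgroup.centralizer ({z} : Set ↥(Sz F m)) : Subgroup ↥(Sz F m)) : Set ↥(Sz F m)) := by
      intro k hk
      apply mem_normalizer_of_map_eq
      rw [← centralizer_conj]
      exact centralizer_eq_of_fpf hm hF hfpf (hcomm k hk) (hne k)
    exact ⟨hN x hxH, hN y hyH⟩
  · left
    have hfix : fixS z = {c} := fixS_of_commute_unique hm hF hz1 hz1 hc h1 h2 rfl
    have hk : ∀ k ∈ H, k • c = c := by
      intro k hk
      have h3 := fixS_eq_of_commute hm hF hz1 (hne k) (hcomm k hk)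
      have h4 : k • c ∈ fixS (k * z * k⁻¹) := by
        refine ⟨smul_mem_ovoid k hc, ?_⟩
        rw [mul_smul, mul_smul, inv_smul_smul, h1]
      rw [h3, hfix] at h4
      exact h4
    exact ⟨c, hc, hk x hxH, hk y hyH⟩
  · right
    left
    refine ⟨c, d, hc, hd, hcd, ?_⟩
    have hfix : fixS z = {c, d} := fixS_of_commute_two hm hF hz1 hz1 hc hd hcd h1 h2 rfl
    have hk : ∀ k ∈ H, PrePair c d k := by
      intro k hk
      have h3 := fixS_eq_of_commute hm hF hz1 (hne k) (hcomm k hk)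
      have h4 : k • c ∈ fixS (k * z * k⁻¹) := by
        refine ⟨smul_mem_ovoid k hc, ?_⟩
        rw [mul_smul, mul_smul, inv_smul_smul, h1]
      have h5 : k • d ∈ fixS (k * z * k⁻¹) := by
        refine ⟨smul_mem_ovoid k hd, ?_⟩
        rw [mul_smul, mul_smul, inv_smul_smul, h2]
      rw [h3, hfix] at h4 h5
      rcases h4 with h4 | h4 <;> rcases h5 with h5 | h5
      · exact absurd (MulAction.injective k (h4.trans h5.symm)) hcd
      · exact Or.inl ⟨h4, h5⟩
      · exact Or.inr ⟨h4, h5⟩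
      · exact absurd (MulAction.injective k (h4.trans h5.symm)) hcd
    exact ⟨mem_normalizer_of_prePair (hk x hxH), mem_normalizer_of_prePair (hk y hyH)⟩

/-- The converse. -/
theorem solvable_of_exists (hm : 1 ≤ m) (hF : Fintype.card F = 2 ^ (2 * m + 1)) {x y : ↥(Sz F m)}
    (h : (∃ p ∈ suzukiOvoid F m, x • p = p ∧ y • p = p) ∨
      (∃ c d, c ∈ suzukiOvoid F m ∧ d ∈ suzukiOvoid F m ∧ c ≠ d ∧
        x ∈ Subgroup.normalizer ((szTwo (m := m) c d : Subgroup ↥(Sz F m)) : Set ↥(Sz F m)) ∧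
        y ∈ Subgroup.normalizer ((szTwo (m := m) c d : Subgroup ↥(Sz F m)) : Set ↥(Sz F m))) ∨
      (∃ A : Subgroup ↥(Sz F m), IsSzA A ∧ x ∈ Subgroup.normalizer (A : Set ↥(Sz F m)) ∧
        y ∈ Subgroup.normalizer (A : Set ↥(Sz F m)))) :
    Group.IsSolvable ↥(Subgroup.closure ({x, y} : Set ↥(Sz F m))) := by
  rcases h with ⟨p, hp, h1, h2⟩ | ⟨c, d, hc, hd, hcd, h1, h2⟩ | ⟨A, hA, h1, h2⟩
  · exact solvable_of_mem (isSolvable_stabilizer hm hF hp) h1 h2
  · exact solvable_of_mem (isTor_szTwo hm hF hc hd hcd).isSolvable h1 h2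
  · exact solvable_of_mem (isTor_isSzA hm hF hA).isSolvable h1 h2

end Cfsg.Agent.H10
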