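import Mathlib
import Cfsg.Agent.Lib.H10.SzSol

/-! The solubilizers of the Suzuki groups: elements of `2`-power order. -/

set_option autoImplicit false
set_option linter.unusedSectionVars false
set_option linter.unusedSimpArgs false
set_option linter.style.haveILetI false

namespace Cfsg.Agent.H10

open Matrix Cfsg

variable {F : Type*} [Field F] [Fintype F] [CharP F 2] {m : ℕ}

/-- The involution in the cyclic group generated by an element of order dividing four. -/
lemma exists_invol_pow {G : Type*} [Group G] {x : G} (hx1 : x ≠ 1) (h4 : x ^ 4 = 1) :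
    ∃ n : ℕ, x ^ n * x ^ n = 1 ∧ x ^ n ≠ 1 := by
  by_cases h : x * x = 1
  · exact ⟨1, by simpa using h, by simpa using hx1⟩
  · refine ⟨2, ?_, ?_⟩
    · rw [← pow_add]
      exact h4
    · rwa [sq]

section two_element

variable {p : Projectivization F (Fin 4 → F)} {K K' : Subgroup ↥(Sz F m)} {e e' : ℕ} {x : ↥(Sz F m)}

/-- Non-identity elements of the torus do not fix the point of an involution normalising it. -/
lemma torus_no_fix (hm : 1 ≤ m) (hF : Fintype.card F = 2 ^ (2 * m + 1)) (hK : IsTor K e) {t : ↥(Sz F m)}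
    (ht : t ∈ Subgroup.normalizer (K : Set ↥(Sz F m))) (ht2 : t * t = 1) (ht1 : t ≠ 1)
    (hp : p ∈ suzukiOvoid F m) (h1 : t • p = p) (h2 : ∀ d ∈ suzukiOvoid F m, t • d = d → d = p)
    {a : ↥(Sz F m)} (ha : a ∈ K) (ha1 : a ≠ 1) : a • p ≠ p := by
  intro hap
  have hn : a ^ Nat.card K = 1 := by
    have := pow_card_eq_one' (x := (⟨a, ha⟩ : K))
    exact congrArg Subtype.val this
  obtain ⟨d, hd, hdp, had⟩ := exists_other_fix hm hF ha1 hK.odd hn hp hap
  have hinv : t⁻¹ = t := inv_eq_of_mul_eq_one_left ht2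
  have h3 := hK.inv ht ht2 ht1 ha
  rw [hinv] at h3
  have h4 : a * t = t * a⁻¹ := by
    rw [← h3]
    calc a * t = (t * t) * a * t := by rw [ht2, one_mul]
      _ = t * (t * a * t) := by group
  have h5 : a • (t • d) = t • d := by
    rw [← mul_smul, h4, mul_smul, inv_smul_eq_iff.2 had.symm]
  rcases fix_three_G hm hF ha1 hp hd (smul_mem_ovoid t hd) hap had h5 with h6 | h6 | h6
  · exact hdp h6.symm
  · exact hdp (h2 d hd h6.symm)
  · apply hdp
    apply MulAction.injective t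
    show t • d = t • p
    rw [h1]
    exact h6.symm

lemma card_inter_le (hm : 1 ≤ m) (hF : Fintype.card F = 2 ^ (2 * m + 1)) (hK : IsTor K e) {t : ↥(Sz F m)}
    (ht : t ∈ Subgroup.normalizer (K : Set ↥(Sz F m))) (ht2 : t * t = 1) (ht1 : t ≠ 1)
    (hp : p ∈ suzukiOvoid F m) (h1 : t • p = p) (h2 : ∀ d ∈ suzukiOvoid F m, t • d = d → d = p) :
    Nat.card ↥(Subgroup.normalizer (K : Set ↥(Sz F m)) ⊓ MulAction.stabilizer ↥(Sz F m) p) ≤ e := by
  set N := Subgroup.normalizer (K : Set ↥(Sz F m)) with hN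
  set H := N ⊓ MulAction.stabilizer ↥(Sz F m) p with hH
  let f : ↥H × ↥K → ↥N := fun s => ⟨s.1.1 * s.2.1, N.mul_mem s.1.2.1 (Subgroup.le_normalizer s.2.2)⟩
  have hf : Function.Injective f := by
    rintro ⟨⟨h, hh⟩, ⟨a, ha⟩⟩ ⟨⟨h', hh'⟩, ⟨a', ha'⟩⟩ hs
    have e1 : h * a = h' * a' := congrArg Subtype.val hs
    have e2 : h'⁻¹ * h = a' * a⁻¹ := by
      calc h'⁻¹ * h = h'⁻¹ * (h * a) * a⁻¹ := by group
        _ = h'⁻¹ * (h' * a') * a⁻¹ := by rw [e1]
        _ = _ := by group
    have e3 : a' * a⁻¹ = 1 := by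
      by_contra hne
      apply torus_no_fix hm hF hK ht ht2 ht1 hp h1 h2 (K.mul_mem ha' (K.inv_mem ha)) hne
      rw [← e2]
      have h3 := (hh.2 : h • p = p)
      have h4 := (hh'.2 : h' • p = p)
      rw [mul_smul, h3, inv_smul_eq_iff, h4]
    have e4 : a' = a := by
      calc a' = a' * a⁻¹ * a := by group
        _ = a := by rw [e3, one_mul]
    subst e4
    have e5 := mul_right_cancel e1
    subst e5
    rfl
  have h3 := Nat.card_le_card_of_injective f hf
  rw [Nat.card_prod, hK.card] at h3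
  exact Nat.le_of_mul_le_mul_right h3 Nat.card_pos

lemma card_inter_ge (hF : Fintype.card F = 2 ^ (2 * m + 1)) (hK : IsTor K e) 
    (hx : x ∈ Subgroup.normalizer (K : Set ↥(Sz F m))) (h4 : x ^ 4 = 1)
    (h2 : ∀ d ∈ suzukiOvoid F m, x • d = d → d = p) :
    e ≤ Nat.card ↥(Subgroup.normalizer (K : Set ↥(Sz F m)) ⊓ MulAction.stabilizer ↥(Sz F m) p) := by
  haveI : Fact (Nat.Prime 2) := ⟨Nat.prime_two⟩
  set N := Subgroup.normalizer (K : Set ↥(Sz F m)) with hN
  have hP : IsPGroup 2 (Subgroup.zpowers (⟨x, hx⟩ : ↥N)) := by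
    rintro ⟨g, k, rfl⟩
    refine ⟨2, Subtype.ext (Subtype.ext ?_)⟩
    show (x ^ k) ^ (2 ^ 2) = 1
    rw [← zpow_natCast, ← _root_.zpow_mul, mul_comm, _root_.zpow_mul, zpow_natCast]
    show (x ^ 4) ^ k = 1
    rw [h4, _root_.one_zpow]
  obtain ⟨Q, hQ⟩ := hP.exists_le_sylow
  have hcQ : Nat.card (Q : Subgroup ↥N) = e := by
    rw [Sylow.card_eq_multiplicity, hK.card]
    have hne : Nat.card K ≠ 0 := Nat.card_pos.ne'
    have hz : (Nat.card K).factorization 2 = 0 := Nat.factorization_eq_zero_of_not_dvd hK.odd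
    rcases hK.he with rfl | rfl
    · rw [Nat.factorization_mul (by norm_num) hne, Finsupp.add_apply, hz, add_zero,
        Nat.Prime.factorization_self Nat.prime_two]
      norm_num
    · have : (4 : ℕ) = 2 ^ 2 := by norm_num
      rw [Nat.factorization_mul (by norm_num) hne, Finsupp.add_apply, hz, add_zero, this,
        Nat.factorization_pow, Finsupp.smul_apply, Nat.Prime.factorization_self Nat.prime_two]
      norm_num
  set Q' := (Q : Subgroup ↥N).map N.subtype with hQ'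
  have hQ'P : IsPGroup 2 Q' := Q.isPGroup'.map _
  obtain ⟨c, hc, hfix⟩ := exists_fixed_of_pGroup hF (odd_q_sq_add_one m) Q' hQ'P
  have hxQ : x ∈ Q' := ⟨⟨x, hx⟩, hQ (Subgroup.mem_zpowers _), rfl⟩
  have hcp := h2 c hc (hfix x hxQ)
  subst hcp
  have hle : Q' ≤ N ⊓ MulAction.stabilizer ↥(Sz F m) c := by
    rintro _ ⟨g, hg, rfl⟩
    exact ⟨g.2, hfix _ ⟨g, hg, rfl⟩⟩
  have h5 := Subgroup.card_le_of_le hle
  rwa [hQ', Subgroup.card_map_of_injective N.subtype_injective, hcQ] at h5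

/-- The intersection of the normaliser of a torus with a point stabiliser. -/
lemma card_inter_eq (hm : 1 ≤ m) (hF : Fintype.card F = 2 ^ (2 * m + 1)) (hK : IsTor K e)
    (hx1 : x ≠ 1) (hx : x ∈ Subgroup.normalizer (K : Set ↥(Sz F m))) (h4 : x ^ 4 = 1)
    (hp : p ∈ suzukiOvoid F m) (h1 : x • p = p) (h2 : ∀ d ∈ suzukiOvoid F m, x • d = d → d = p) :
    Nat.card ↥(Subgroup.normalizer (K : Set ↥(Sz F m)) ⊓ MulAction.stabilizer ↥(Sz F m) p) = e := by
  obtain ⟨n, hn, hn1⟩ := exists_invol_pow hx1 h4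
  have hfixn : fixS (x ^ n) = fixS x := fixS_eq_of_commute hm hF hx1 hn1 (pow_mul_comm' x n)
  apply le_antisymm
  · refine card_inter_le hm hF hK (t := x ^ n) (Subgroup.pow_mem _ hx n) hn hn1 hp ?_ ?_
    · have h6 : x • p ∈ fixS x := ⟨smul_mem_ovoid x hp, by rw [h1, h1]⟩
      have h7 : p ∈ fixS (x ^ n) := by
        rw [hfixn]
        exact ⟨hp, h1⟩
      exact h7.2
    · intro d hd h5
      have h6 : d ∈ fixS x := by
        rw [← hfixn]
        exact ⟨hd, h5⟩
      exact h2 d hd h6.2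
  · exact card_inter_ge hF hK hx h4 h2

/-- An element of a power of two order which lies outside a stabiliser determines the torus. -/
lemma tor_eq_of_common (hm : 1 ≤ m) (hF : Fintype.card F = 2 ^ (2 * m + 1)) (hK : IsTor K e) (hK' : IsTor K' e')
    (hx1 : x ≠ 1) (h4 : x ^ 4 = 1) (hp : p ∈ suzukiOvoid F m) (h1 : x • p = p)
    (hx : x ∈ Subgroup.normalizer (K : Set ↥(Sz F m))) (hx' : x ∈ Subgroup.normalizer (K' : Set ↥(Sz F m)))
    {y : ↥(Sz F m)} (hy : y ∈ Subgroup.normalizer (K : Set ↥(Sz F m)))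
    (hy' : y ∈ Subgroup.normalizer (K' : Set ↥(Sz F m))) (hyp : y • p ≠ p) : K = K' := by
  have hy1 : y ≠ 1 := by
    rintro rfl
    exact hyp (one_smul _ _)
  by_cases hyK : y ∈ K
  · have hn : y ^ Nat.card K = 1 := by
      have := pow_card_eq_one' (x := (⟨y, hyK⟩ : K))
      exact congrArg Subtype.val this
    have hyK' := hK'.mem_of_odd hy' hK.odd hn
    rw [← hK.cent y hyK hy1, hK'.cent y hyK' hy1]
  · have hye := hK.pow_eq_one hy hyK
    have hy4 : y ^ 4 = 1 := by
      rcases hK.he with rfl | rfl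
      · calc y ^ 4 = (y ^ 2) ^ 2 := by rw [← pow_mul]
          _ = 1 := by rw [hye, one_pow]
      · exact hye
    obtain ⟨n, hn, hn1⟩ := exists_invol_pow hx1 h4
    obtain ⟨n', hn', hn1'⟩ := exists_invol_pow hy1 hy4
    have hfixn : fixS (x ^ n) = fixS x := fixS_eq_of_commute hm hF hx1 hn1 (pow_mul_comm' x n)
    have hfixn' : fixS (y ^ n') = fixS y := fixS_eq_of_commute hm hF hy1 hn1' (pow_mul_comm' y n')
    have hne : x ^ n ≠ y ^ n' := by
      intro h
      have h5 : p ∈ fixS x := ⟨hp, h1⟩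
      rw [← hfixn, h, hfixn'] at h5
      exact hyp h5.2
    have hmem := hK.mul_mem_of_invol (Subgroup.pow_mem _ hx n) hn hn1 (Subgroup.pow_mem _ hy n') hn' hn1'
    have hmem' := hK'.mul_mem_of_invol (Subgroup.pow_mem _ hx' n) hn hn1 (Subgroup.pow_mem _ hy' n') hn' hn1'
    have hne1 : x ^ n * y ^ n' ≠ 1 := by
      intro h
      apply hne
      have h5 : y ^ n' = (x ^ n)⁻¹ := eq_inv_of_mul_eq_one_right h
      rw [h5, inv_eq_of_mul_eq_one_left hn]
    rw [← hK.cent _ hmem hne1, hK'.cent _ hmem' hne1]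

/-- The count of the solubilizer of a non-trivial element of order dividing four. -/
theorem card_sol_two (hm : 1 ≤ m) (hF : Fintype.card F = 2 ^ (2 * m + 1)) (hx1 : x ≠ 1) (h4 : x ^ 4 = 1)
    (hp : p ∈ suzukiOvoid F m) (h1 : x • p = p) (h2 : ∀ d ∈ suzukiOvoid F m, x • d = d → d = p)
    (𝓣 : Finset (Subgroup ↥(Sz F m))) (eK : Subgroup ↥(Sz F m) → ℕ) (h𝓣 : ∀ K ∈ 𝓣, IsTor K (eK K))
    [DecidablePred (fun K : Subgroup ↥(Sz F m) => x ∈ Subgroup.normalizer (K : Set ↥(Sz F m)))]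
    (hsol : ∀ y, Group.IsSolvable ↥(Subgroup.closure ({x, y} : Set ↥(Sz F m))) ↔
      y • p = p ∨ ∃ K ∈ 𝓣, x ∈ Subgroup.normalizer (K : Set ↥(Sz F m)) ∧ y ∈ Subgroup.normalizer (K : Set ↥(Sz F m))) :
    Nat.card {y : ↥(Sz F m) // Group.IsSolvable ↥(Subgroup.closure ({x, y} : Set ↥(Sz F m)))} =
      Nat.card (MulAction.stabilizer ↥(Sz F m) p) +
        ∑ K ∈ 𝓣.filter (fun K : Subgroup ↥(Sz F m) => x ∈ Subgroup.normalizer (K : Set ↥(Sz F m))), eK K * (Nat.card K - 1) := by
  classical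
  haveI : Fintype ↥(Sz F m) := Fintype.ofFinite _
  set 𝓚 := 𝓣.filter (fun K : Subgroup ↥(Sz F m) => x ∈ Subgroup.normalizer (K : Set ↥(Sz F m))) with h𝓚
  let B : Finset ↥(Sz F m) := Finset.univ.filter (fun y => y • p = p)
  let D : Subgroup ↥(Sz F m) → Finset ↥(Sz F m) := fun K =>
    Finset.univ.filter (fun y => y ∈ Subgroup.normalizer (K : Set ↥(Sz F m)) ∧ y • p ≠ p)
  have hY : Finset.univ.filter (fun y => Group.IsSolvable ↥(Subgroup.closure ({x, y} : Set ↥(Sz F m)))) =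
      B ∪ 𝓚.biUnion D := by
    ext y
    simp only [Finset.mem_filter, Finset.mem_univ, true_and, Finset.mem_union, Finset.mem_biUnion, B, D]
    rw [hsol y]
    constructor
    · rintro (h | ⟨K, hK, h5, h6⟩)
      · exact Or.inl h
      · by_cases h7 : y • p = p
        · exact Or.inl h7
        · exact Or.inr ⟨K, Finset.mem_filter.2 ⟨hK, h5⟩, h6, h7⟩
    · rintro (h | ⟨K, hK, h5, h6⟩)
      · exact Or.inl h
      · obtain ⟨h7, h8⟩ := Finset.mem_filter.1 hK
        exact Or.inr ⟨K, h7, h8, h5⟩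
  have hdisj1 : Disjoint B (𝓚.biUnion D) := by
    rw [Finset.disjoint_left]
    intro y hy hy2
    obtain ⟨K, -, hK⟩ := Finset.mem_biUnion.1 hy2
    exact (Finset.mem_filter.1 hK).2.2 (Finset.mem_filter.1 hy).2
  have hdisj2 : ∀ K ∈ 𝓚, ∀ K' ∈ 𝓚, K ≠ K' → Disjoint (D K) (D K') := by
    intro K hK K' hK' hne
    rw [Finset.disjoint_left]
    intro y hy hy2
    obtain ⟨h5, h6⟩ := Finset.mem_filter.1 hK
    obtain ⟨h7, h8⟩ := Finset.mem_filter.1 hK'
    obtain ⟨-, h9, h10⟩ := Finset.mem_filter.1 hy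
    obtain ⟨-, h11, -⟩ := Finset.mem_filter.1 hy2
    exact hne (tor_eq_of_common hm hF (h𝓣 K h5) (h𝓣 K' h7) hx1 h4 hp h1 h6 h8 h9 h11 h10)
  have hcardD : ∀ K ∈ 𝓚, (D K).card = eK K * (Nat.card K - 1) := by
    intro K hK
    obtain ⟨h5, h6⟩ := Finset.mem_filter.1 hK
    have hT := h𝓣 K h5
    have h7 := card_inter_eq hm hF hT hx1 h6 h4 hp h1 h2
    have h8 : (Finset.univ.filter (fun y => y ∈ Subgroup.normalizer (K : Set ↥(Sz F m)))).card = eK K * Nat.card K := by
      rw [← hT.card, Nat.card_eq_fintype_card, Fintype.card_subtype]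
    have h9 : (Finset.univ.filter (fun y => y ∈ Subgroup.normalizer (K : Set ↥(Sz F m)) ⊓ MulAction.stabilizer ↥(Sz F m) p)).card = eK K := by
      rw [← h7, Nat.card_eq_fintype_card, Fintype.card_subtype]
    have h10 : (Finset.univ.filter (fun y => y ∈ Subgroup.normalizer (K : Set ↥(Sz F m)))).card =
        (Finset.univ.filter (fun y => y ∈ Subgroup.normalizer (K : Set ↥(Sz F m)) ⊓ MulAction.stabilizer ↥(Sz F m) p)).card + (D K).card := by
      rw [← Finset.card_union_of_disjoint]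
      · congr 1
        ext y
        simp only [Finset.mem_filter, Finset.mem_univ, true_and, Finset.mem_union, D]
        constructor
        · intro h
          by_cases h12 : y • p = p
          · exact Or.inl ⟨h, h12⟩
          · exact Or.inr ⟨h, h12⟩
        · rintro (h | h)
          · exact h.1
          · exact h.1
      · rw [Finset.disjoint_left]
        intro y hy hy2
        exact (Finset.mem_filter.1 hy2).2.2 (Finset.mem_filter.1 hy).2.2
    rw [h8, h9] at h10
    have hpos : 1 ≤ Nat.card K := Nat.card_pos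
    rw [Nat.mul_sub, mul_one, h10, Nat.add_sub_cancel_left]
  have hcardB : B.card = Nat.card (MulAction.stabilizer ↥(Sz F m) p) := by
    rw [Nat.card_eq_fintype_card, Fintype.card_subtype]
    rfl
  rw [Nat.card_eq_fintype_card, Fintype.card_subtype, hY, Finset.card_union_of_disjoint hdisj1,
    Finset.card_biUnion hdisj2, hcardB, Finset.sum_congr rfl hcardD]

end two_element

end Cfsg.Agent.H10
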