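import Mathlib
import Cfsg.Agent.Lib.H10.SzSub2
import Cfsg.Prelude.Def_Transfer

/-! Elementary abelian TI-subgroups of the Suzuki groups. -/

set_option autoImplicit false
set_option linter.unusedSectionVars false
set_option linter.unusedSimpArgs false
set_option linter.style.haveILetI false

namespace Cfsg.Agent.H10

open Matrix Cfsg

variable {F : Type*} [Field F] [Fintype F] [CharP F 2] {m : ℕ}

/-- Conjugation of a central element by an element of the Borel subgroup. -/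
lemma conj_central (hF : Fintype.card F = 2 ^ (2 * m + 1)) (A B : F) (l : Fˣ) (e : F) :
    (uG hF A B * hG hF l) * uG hF 0 e * (uG hF A B * hG hF l)⁻¹ = uG hF 0 ((l : F) ^ (2 ^ (m + 1) + 1) * e) := by
  have h1 := hG_uG hF l 0 e
  rw [mul_zero] at h1
  calc (uG hF A B * hG hF l) * uG hF 0 e * (uG hF A B * hG hF l)⁻¹
      = uG hF A B * (hG hF l * uG hF 0 e) * (hG hF l)⁻¹ * (uG hF A B)⁻¹ := by group
    _ = uG hF A B * uG hF 0 ((l : F) ^ (2 ^ (m + 1) + 1) * e) * (uG hF A B)⁻¹ := by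
        rw [h1]
        group
    _ = uG hF 0 ((l : F) ^ (2 ^ (m + 1) + 1) * e) := by
        rw [← uG_zero_mem_center hF]
        group

/-- The subgroup of the centre of `U` attached to an additive subgroup. -/
def szZ (hF : Fintype.card F = 2 ^ (2 * m + 1)) (W : AddSubgroup F) : Subgroup ↥(Sz F m) where
  carrier := {x | ∃ b ∈ W, x = uG hF 0 b}
  mul_mem' := by
    rintro _ _ ⟨a, ha, rfl⟩ ⟨b, hb, rfl⟩
    refine ⟨a + b, W.add_mem ha hb, ?_⟩
    rw [uG_mul]
    simp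
  one_mem' := ⟨0, W.zero_mem, (uG_zero hF).symm⟩
  inv_mem' := by
    rintro _ ⟨a, ha, rfl⟩
    refine ⟨a, ha, ?_⟩
    rw [uG_inv]
    simp

lemma card_szZ (hF : Fintype.card F = 2 ^ (2 * m + 1)) (W : AddSubgroup F) : Nat.card (szZ hF W) = Nat.card W := by
  symm
  refine Nat.card_congr (Equiv.ofBijective (fun b : W => (⟨uG hF 0 b.1, b.1, b.2, rfl⟩ : szZ hF W)) ⟨?_, ?_⟩)
  · intro a b h
    have h1 := congrArg Subtype.val h
    exact Subtype.ext (uG_inj hF h1).2
  · rintro ⟨_, b, hb, rfl⟩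
    exact ⟨⟨b, hb⟩, rfl⟩

lemma elem_szZ (hF : Fintype.card F = 2 ^ (2 * m + 1)) (W : AddSubgroup F) : IsElementaryAbelian 2 (szZ hF W) := by
  refine ⟨⟨⟨?_⟩⟩, ?_⟩
  · rintro ⟨_, a, ha, rfl⟩ ⟨_, b, hb, rfl⟩
    apply Subtype.ext
    exact uG_zero_mem_center hF a 0 b
  · rintro _ ⟨a, ha, rfl⟩
    rw [uG_sq, zero_pow (by positivity), uG_zero]

/-- Subfields give TI-subgroups. -/
theorem exists_TI_of_dvd (hF : Fintype.card F = 2 ^ (2 * m + 1)) (n : ℕ) (hn : 2 ≤ n) (hdiv : n ∣ 2 * m + 1) :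
    ∃ E : Subgroup ↥(Sz F m), IsElementaryAbelian 2 E ∧ Nat.card ↥E = 2 ^ n ∧
      ∀ x : ↥(Sz F m), E ⊓ E.map (MulAut.conj x).toMonoidHom ≠ ⊥ → x ∈ Subgroup.normalizer (E : Set ↥(Sz F m)) := by
  classical
  -- the subfield
  have hnodd : n % 2 = 1 := by
    obtain ⟨d, hd⟩ := hdiv
    by_contra h
    have h1 : n % 2 = 0 := by omega
    obtain ⟨e, rfl⟩ : ∃ e, n = 2 * e := ⟨n / 2, by omega⟩
    have h2 : 2 * m + 1 = 2 * (e * d) := by rw [hd]; ring
    omega
  obtain ⟨k, rfl⟩ : ∃ k, n = 2 * k + 1 := ⟨n / 2, by omega⟩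
  haveI : Fact (Nat.Prime 2) := ⟨Nat.prime_two⟩
  let K := GaloisField 2 (2 * k + 1)
  haveI : Fintype K := Fintype.ofFinite K
  have hK : Fintype.card K = 2 ^ (2 * k + 1) := by
    rw [← Nat.card_eq_fintype_card]
    exact GaloisField.card 2 (2 * k + 1) (by omega)
  haveI : CharP K 2 := sz_charP hK
  obtain ⟨α⟩ := exists_ringHom_of_dvd hF hK hdiv
  let L : Subfield F := α.fieldRange
  let W : AddSubgroup F := L.toAddSubgroup
  have hW : ∀ b, b ∈ W ↔ b ∈ L := fun b => Iff.rfl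
  have hL : ∀ b, b ∈ L ↔ ∃ z, α z = b := fun b => RingHom.mem_fieldRange
  have hcard : Nat.card W = 2 ^ (2 * k + 1) := by
    rw [← hK, ← Nat.card_eq_fintype_card]
    symm
    refine Nat.card_congr (Equiv.ofBijective (fun z : K => (⟨α z, (hL _).2 ⟨z, rfl⟩⟩ : W)) ⟨?_, ?_⟩)
    · intro a b h
      exact α.injective (congrArg Subtype.val h)
    · rintro ⟨b, hb⟩
      obtain ⟨z, rfl⟩ := (hL b).1 hb
      exact ⟨z, rfl⟩
  refine ⟨szZ hF W, elem_szZ hF W, by rw [card_szZ, hcard], ?_⟩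
  intro x hx
  obtain ⟨t, ht⟩ := Subgroup.ne_bot_iff_exists_ne_one.1 hx
  obtain ⟨⟨b, hb, hb2⟩, ⟨_, ⟨c, hc, rfl⟩, hc2⟩⟩ := t.2
  have htne : (t : ↥(Sz F m)) ≠ 1 := fun h => ht (Subtype.ext h)
  have hb0 : b ≠ 0 := by
    rintro rfl
    rw [uG_zero] at hb2
    exact htne hb2
  have hconj : x * uG hF 0 c * x⁻¹ = uG hF 0 b := by
    rw [← hb2]
    exact hc2
  have hcomm : uG hF 0 b * x = x * uG hF 0 c := by
    rw [← hconj]
    group
  have hc0 : c ≠ 0 := by
    rintro rfl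
    rw [uG_zero, mul_one, mul_inv_cancel, ← uG_zero hF] at hconj
    exact hb0 (uG_inj hF hconj).2.symm
  have hxinf : x • suzukiPointInfinity F = suzukiPointInfinity F := by
    apply eq_inf_of_uG_fix hF (a := 0) (b := b) (Or.inr hb0) (smul_mem_ovoid x inf_mem_ovoid)
    rw [← mul_smul, hcomm, mul_smul, uG_inf]
  have hm1 : 1 ≤ m := by
    rcases Nat.eq_zero_or_pos m with rfl | h
    · exfalso
      have h3 : 2 * k + 1 ≤ 2 * 0 + 1 := Nat.le_of_dvd (by omega) hdiv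
      omega
    · exact h
  obtain ⟨A, B, l, rfl⟩ := (mem_B_iff hm1 hF x).1 hxinf
  rw [conj_central] at hconj
  have hd : (l : F) ^ (2 ^ (m + 1) + 1) * c = b := (uG_inj hF hconj).2
  set d := (l : F) ^ (2 ^ (m + 1) + 1) with hd_def
  have hdne : d ≠ 0 := pow_ne_zero _ l.ne_zero
  have hdL : d ∈ L := by
    have : d = b / c := by
      field_simp
      exact hd
    rw [this]
    exact L.div_mem hb hc
  rw [Subgroup.mem_normalizer_iff]
  intro h
  constructor
  · rintro ⟨e, he, rfl⟩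
    refine ⟨d * e, L.mul_mem hdL he, ?_⟩
    rw [conj_central]
  · rintro ⟨e, he, h2⟩
    refine ⟨e / d, L.div_mem he hdL, ?_⟩
    have h3 := conj_central hF A B l (e / d)
    rw [← hd_def, mul_div_cancel₀ _ hdne, ← h2] at h3
    exact (mul_left_cancel (mul_right_cancel h3)).symm

/-- TI-subgroups come from subfields. -/
theorem dvd_of_exists_TI (hm : 1 ≤ m) (hF : Fintype.card F = 2 ^ (2 * m + 1)) (n : ℕ) (hn : 2 ≤ n)
    (h : ∃ E : Subgroup ↥(Sz F m), IsElementaryAbelian 2 E ∧ Nat.card ↥E = 2 ^ n ∧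
      ∀ x : ↥(Sz F m), E ⊓ E.map (MulAut.conj x).toMonoidHom ≠ ⊥ → x ∈ Subgroup.normalizer (E : Set ↥(Sz F m))) :
    n ∣ 2 * m + 1 := by
  classical
  obtain ⟨E, ⟨-, hE2⟩, hEc, hTI⟩ := h
  have hp : IsPGroup 2 E := by
    intro y
    refine ⟨1, ?_⟩
    apply Subtype.ext
    simpa using hE2 y.1 y.2
  obtain ⟨Q, hQ⟩ := hp.exists_le_sylow
  obtain ⟨k, hk⟩ := exists_conj_sylow hm hF Q
  -- the elements of `E`
  have hform : ∀ y ∈ E, ∃ b, k⁻¹ * y * k = uG hF 0 b := by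
    intro y hy
    obtain ⟨a, b, hab⟩ := (hk y).1 (hQ hy)
    have h1 : (uG hF a b) ^ 2 = 1 := by
      have h5 : k⁻¹ * y * k = uG hF a b := hab
      rw [← h5]
      have h3 : (k⁻¹ * y * k) ^ 2 = k⁻¹ * y ^ 2 * k := by
        rw [sq, sq]
        group
      rw [h3, hE2 y hy]
      group
    rw [uG_sq, ← uG_zero hF] at h1
    have h2 := (uG_inj hF h1).2
    have h3 : a = 0 := by
      by_contra h4
      exact pow_ne_zero _ h4 h2
    subst h3
    exact ⟨b, hab⟩
  let f : F → ↥(Sz F m) := fun b => k * uG hF 0 b * k⁻¹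
  have hf : Function.Injective f := by
    intro a b h
    have h1 : uG hF 0 a = uG hF 0 b := mul_left_cancel (mul_right_cancel h)
    exact (uG_inj hF h1).2
  let W : Set F := {b | f b ∈ E}
  have himg : f '' W = (E : Set ↥(Sz F m)) := by
    ext y
    constructor
    · rintro ⟨b, hb, rfl⟩
      exact hb
    · intro hy
      obtain ⟨b, hb⟩ := hform y hy
      have : f b = y := by
        show k * uG hF 0 b * k⁻¹ = y
        rw [← hb]
        group
      exact ⟨b, by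
        show f b ∈ E
        rw [this]
        exact hy, this⟩
  have hWc : W.ncard = 2 ^ n := by
    rw [← Set.ncard_image_of_injective W hf, himg, ← hEc]
    exact Nat.card_coe_set_eq (E : Set ↥(Sz F m))
  have h0W : (0 : F) ∈ W := by
    show f 0 ∈ E
    have : f 0 = 1 := by
      show k * uG hF 0 0 * k⁻¹ = 1
      rw [uG_zero]
      group
    rw [this]
    exact E.one_mem
  -- multipliers
  let D : Subgroup Fˣ :=
    { carrier := {c | ∀ b, b ∈ W ↔ (c : F) * b ∈ W}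
      mul_mem' := by
        intro a b ha hb e
        rw [hb e, ha ((b : F) * e), Units.val_mul, mul_assoc]
      one_mem' := by
        intro e
        rw [Units.val_one, one_mul]
      inv_mem' := by
        intro a ha e
        rw [ha ((a⁻¹ : Fˣ) * e), ← mul_assoc, Units.mul_inv, one_mul] }
  have hTI' : ∀ c : Fˣ, ∀ b₀ ∈ W, b₀ ≠ 0 → (c : F) * b₀ ∈ W → c ∈ D := by
    intro c b₀ hb₀ hb₀' hcb₀ b
    obtain ⟨a, ha⟩ := exists_pow_eq hF (c : F)
    have ha0 : a ≠ 0 := by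
      rintro rfl
      rw [zero_pow (by positivity)] at ha
      exact c.ne_zero ha.symm
    let l : Fˣ := Units.mk0 a ha0
    let x : ↥(Sz F m) := k * hG hF l * k⁻¹
    have hxf : ∀ e, x * f e * x⁻¹ = f ((c : F) * e) := by
      intro e
      have h1 := conj_central hF 0 0 l e
      rw [uG_zero, one_mul] at h1
      have h2 : (l : F) ^ (2 ^ (m + 1) + 1) = c := ha
      rw [h2] at h1
      show (k * hG hF l * k⁻¹) * (k * uG hF 0 e * k⁻¹) * (k * hG hF l * k⁻¹)⁻¹ = k * uG hF 0 ((c : F) * e) * k⁻¹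
      rw [← h1]
      group
    have hne : E ⊓ E.map (MulAut.conj x).toMonoidHom ≠ ⊥ := by
      apply Subgroup.ne_bot_iff_exists_ne_one.2
      refine ⟨⟨f ((c : F) * b₀), hcb₀, ⟨f b₀, hb₀, hxf b₀⟩⟩, ?_⟩
      intro h1
      have h2 : f ((c : F) * b₀) = 1 := congrArg Subtype.val h1
      have h3 : f ((c : F) * b₀) = f 0 := by
        rw [h2]
        show 1 = k * uG hF 0 0 * k⁻¹
        rw [uG_zero]
        group
      have h4 := hf h3
      exact mul_ne_zero c.ne_zero hb₀' h4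
    have hN := hTI x hne
    rw [Subgroup.mem_normalizer_iff] at hN
    have h5 := hN (f b)
    rw [hxf] at h5
    exact h5
  obtain ⟨w₀, hw₀, hw₀'⟩ := Set.exists_ne_of_one_lt_ncard (by
    rw [hWc]
    exact Nat.one_lt_two_pow (by omega)) (0 : F)
  have himgD : (fun c : Fˣ => (c : F) * w₀) '' (D : Set Fˣ) = W \ {0} := by
    ext b
    constructor
    · rintro ⟨c, hc, rfl⟩
      refine ⟨(hc w₀).1 hw₀, ?_⟩
      exact mul_ne_zero c.ne_zero hw₀'
    · rintro ⟨hb, hb0⟩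
      have hb0' : b ≠ 0 := hb0
      refine ⟨Units.mk0 (b / w₀) (div_ne_zero hb0' hw₀'), ?_, ?_⟩
      · apply hTI' _ w₀ hw₀ hw₀'
        show b / w₀ * w₀ ∈ W
        rw [div_mul_cancel₀ _ hw₀']
        exact hb
      · show b / w₀ * w₀ = b
        rw [div_mul_cancel₀ _ hw₀']
  have hinjD : Function.Injective (fun c : Fˣ => (c : F) * w₀) := by
    intro a b h
    apply Units.ext
    exact mul_right_cancel₀ hw₀' h
  have hDc : Nat.card D = 2 ^ n - 1 := by
    have h1 : (D : Set Fˣ).ncard = 2 ^ n - 1 := by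
      rw [← Set.ncard_image_of_injective _ hinjD, himgD, Set.ncard_sdiff_singleton_of_mem h0W, hWc]
    rw [← h1]
    exact (Nat.card_coe_set_eq (D : Set Fˣ))
  have hdvd : Nat.card D ∣ Nat.card Fˣ := Subgroup.card_subgroup_dvd_card D
  have hF' : Nat.card Fˣ = 2 ^ (2 * m + 1) - 1 := by
    rw [Nat.card_eq_fintype_card, Fintype.card_units, hF]
  rw [hDc, hF'] at hdvd
  have h6 := Nat.pow_sub_one_gcd_pow_sub_one 2 n (2 * m + 1)
  rw [Nat.gcd_eq_left hdvd] at h6
  have h7 : 2 ^ n = 2 ^ Nat.gcd n (2 * m + 1) := by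
    have h8 : 1 ≤ 2 ^ n := Nat.one_le_two_pow
    have h9 : 1 ≤ 2 ^ Nat.gcd n (2 * m + 1) := Nat.one_le_two_pow
    omega
  have h10 := Nat.pow_right_injective (le_refl 2) h7
  rw [h10]
  exact Nat.gcd_dvd_right _ _

end Cfsg.Agent.H10
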