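import Mathlib
import Cfsg.Agent.Lib.H10.SzSol2
import Cfsg.Agent.Lib.H10.SzTI

/-! The solubilizers of the Suzuki groups: classes of involutions and elements of order four. -/

set_option autoImplicit false
set_option linter.unusedSectionVars false
set_option linter.unusedSimpArgs false
set_option linter.style.haveILetI false

namespace Cfsg.Agent.H10

open Matrix Cfsg
open scoped commutatorElement

variable {F : Type*} [Field F] [Fintype F] [CharP F 2] {m : ℕ}

/-- The image of the map `e ↦ e^σ + e` and its translate cover the field. -/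
lemma exists_add_pow_eq (hF : Fintype.card F = 2 ^ (2 * m + 1)) (b : F) :
    ∃ e : F, e ^ (2 ^ (m + 1)) + e = b ∨ e ^ (2 ^ (m + 1)) + e = b + 1 := by
  classical
  have h2 : (2 : F) = 0 := sz_two
  let φ : F → F := fun e => e ^ (2 ^ (m + 1)) + e
  have hφadd : ∀ a c, φ (a + c) = φ a + φ c := by
    intro a c
    simp only [φ, sz_add_pow]
    ring
  let A : Finset F := Finset.univ.image φ
  have hfib : ∀ a ∈ A, (Finset.univ.filter (fun x => φ x = a)).card ≤ 2 := by
    intro a ha
    obtain ⟨e₀, -, rfl⟩ := Finset.mem_image.1 ha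
    have hsub : Finset.univ.filter (fun x => φ x = φ e₀) ⊆ {e₀, e₀ + 1} := by
      intro x hx
      have hx' : φ x = φ e₀ := (Finset.mem_filter.1 hx).2
      set t := x + e₀ with ht
      have h3 : φ t = 0 := by
        rw [ht, hφadd, hx']
        linear_combination φ e₀ * h2
      have h4 : t ^ (2 ^ (m + 1)) = t := by
        have : t ^ (2 ^ (m + 1)) + t = 0 := h3
        linear_combination this - t * h2
      have h5 : t ^ 2 = t := by
        have := sz_frob2 hF t
        rw [h4, h4] at this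
        exact this.symm
      have h6 : t * (t + 1) = 0 := by
        linear_combination h5 + t * h2
      rcases mul_eq_zero.1 h6 with h7 | h7
      · have : x = e₀ := by
          linear_combination h7 - e₀ * h2
        simp [this]
      · have : x = e₀ + 1 := by
          linear_combination h7 - (e₀ + 1) * h2
        simp [this]
    exact (Finset.card_le_card hsub).trans Finset.card_le_two
  have h1 := Finset.card_le_mul_card_image (f := φ) Finset.univ 2 hfib
  let A' : Finset F := A.image (· + 1)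
  have hA' : A'.card = A.card := Finset.card_image_of_injective _ (add_left_injective 1)
  have hdisj : Disjoint A A' := by
    rw [Finset.disjoint_left]
    intro a ha ha'
    obtain ⟨e₁, -, rfl⟩ := Finset.mem_image.1 ha
    obtain ⟨c, hc, hc2⟩ := Finset.mem_image.1 ha'
    obtain ⟨e₂, -, rfl⟩ := Finset.mem_image.1 hc
    have h3 : φ (e₁ + e₂) = 1 := by
      rw [hφadd, ← hc2]
      linear_combination (φ e₂) * h2
    exact sz_no_sol hF (m + 1) (e₁ + e₂) h3
  have hall : A ∪ A' = Finset.univ := by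
    apply Finset.eq_univ_of_card
    rw [Finset.card_union_of_disjoint hdisj, hA']
    have h3 : (A ∪ A').card ≤ Fintype.card F := Finset.card_le_univ _
    rw [Finset.card_union_of_disjoint hdisj, hA'] at h3
    rw [Finset.card_univ] at h1
    have h4 : A.card = (Finset.univ.image φ).card := rfl
    omega
  have hb := Finset.mem_univ b
  rw [← hall, Finset.mem_union] at hb
  rcases hb with hb | hb
  · obtain ⟨e, -, he⟩ := Finset.mem_image.1 hb
    exact ⟨e, Or.inl he⟩
  · obtain ⟨c, hc, hc2⟩ := Finset.mem_image.1 hb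
    obtain ⟨e, -, rfl⟩ := Finset.mem_image.1 hc
    refine ⟨e, Or.inr ?_⟩
    show φ e = b + 1
    rw [← hc2]
    linear_combination - (φ e) * h2 * 0 - h2

/-- All involutions are conjugate. -/
lemma invol_conj (hm : 1 ≤ m) (hF : Fintype.card F = 2 ^ (2 * m + 1)) {y : ↥(Sz F m)} (h1 : y * y = 1) (hy : y ≠ 1) :
    ∃ g : ↥(Sz F m), g * y * g⁻¹ = uG hF 0 1 := by
  obtain ⟨k, b, hb, hk⟩ := exists_conj_involution hm hF hy h1
  obtain ⟨c, hc⟩ := exists_pow_eq hF b⁻¹
  have hc0 : c ≠ 0 := by
    rintro rfl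
    rw [zero_pow (by positivity)] at hc
    exact inv_ne_zero hb hc.symm
  let l : Fˣ := Units.mk0 c hc0
  have h2 := conj_central hF 0 0 l b
  have h3 : (l : F) ^ (2 ^ (m + 1) + 1) = b⁻¹ := hc
  rw [h3, inv_mul_cancel₀ hb, uG_zero, one_mul] at h2
  refine ⟨hG hF l * k⁻¹, ?_⟩
  rw [← h2, ← hk]
  group

/-- Elements of order dividing four in the Borel subgroup. -/
lemma eq_uG_of_mem_B (hm : 1 ≤ m) (hF : Fintype.card F = 2 ^ (2 * m + 1)) {y : ↥(Sz F m)} (hy1 : y ≠ 1)
    (hy : y ∈ szB F m) (h4 : y ^ 4 = 1) : ∃ a b : F, y = uG hF a b := by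
  obtain ⟨a, b, l, rfl⟩ := (mem_B_iff hm hF y).1 hy
  have hl : l = 1 := by
    by_contra hl
    obtain ⟨X, Y, hXY⟩ := exists_affine_fix hF a b l hl
    obtain ⟨c, hc, h5, h6⟩ := unique_fix_of_pow_four hm hF hy1 h4
    have h7 := h6 _ inf_mem_ovoid hy
    have h8 := h6 _ (szPt_mem_ovoid X Y) hXY
    exact szPt_ne_inf X Y (h8.trans h7.symm)
  subst hl
  exact ⟨a, b, by rw [hG_one, mul_one]⟩

lemma uG_order_four (hF : Fintype.card F = 2 ^ (2 * m + 1)) {a : F} (ha : a ≠ 0) (b : F) :
    orderOf (uG hF a b) = 4 := by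
  haveI : Fact (Nat.Prime 2) := ⟨Nat.prime_two⟩
  have h1 : ¬ uG hF a b ^ 2 ^ 1 = 1 := by
    rw [pow_one, uG_sq, ← uG_zero hF]
    intro h
    exact pow_ne_zero _ ha (uG_inj hF h).2
  have h2 : uG hF a b ^ 2 ^ (1 + 1) = 1 := uG_pow_four hF a b
  have h3 := orderOf_eq_prime_pow h1 h2
  rw [h3]
  norm_num

lemma eq_zero_of_order_four (hF : Fintype.card F = 2 ^ (2 * m + 1)) {a b : F} (h : orderOf (uG hF a b) = 4) : a ≠ 0 := by
  rintro rfl
  have h1 : uG hF (0 : F) b ^ 2 = 1 := by
    rw [uG_sq, zero_pow (by positivity), uG_zero]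
  have h2 := orderOf_dvd_of_pow_eq_one h1
  rw [h] at h2
  omega

lemma conj_uG_one (hF : Fintype.card F = 2 ^ (2 * m + 1)) (e b : F) :
    uG hF e 0 * uG hF 1 b * (uG hF e 0)⁻¹ = uG hF 1 (b + e ^ (2 ^ (m + 1)) + e) := by
  have h2 : (2 : F) = 0 := sz_two
  rw [uG_inv, uG_mul, uG_mul]
  have e1 : (e + 1) ^ (2 ^ (m + 1)) = e ^ (2 ^ (m + 1)) + 1 := by
    rw [sz_add_pow, one_pow]
  rw [e1, pow_succ e (2 ^ (m + 1))]
  generalize e ^ (2 ^ (m + 1)) = E
  congr 1
  · linear_combination e * h2
  · linear_combination (E * e) * h2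

/-- The elements of order four form at most two classes, one inverse to the other. -/
lemma order_four_conj (hm : 1 ≤ m) (hF : Fintype.card F = 2 ^ (2 * m + 1)) {y : ↥(Sz F m)} (hy : orderOf y = 4) :
    ∃ g : ↥(Sz F m), g * y * g⁻¹ = uG hF 1 0 ∨ g * y * g⁻¹ = (uG hF 1 0)⁻¹ := by
  have h2 : (2 : F) = 0 := sz_two
  have hy1 : y ≠ 1 := by
    rintro rfl
    rw [orderOf_one] at hy
    omega
  have hy4 : y ^ 4 = 1 := by
    have := pow_orderOf_eq_one y
    rwa [hy] at this
  obtain ⟨c, hc, h5, h6⟩ := unique_fix_of_pow_four hm hF hy1 hy4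
  obtain ⟨k, hk⟩ := exists_pt_G hF hc
  have hB : k⁻¹ * y * k ∈ szB F m := by
    show (k⁻¹ * y * k) • suzukiPointInfinity F = _
    rw [mul_smul, mul_smul, hk, h5, ← hk, inv_smul_smul]
  have hne : k⁻¹ * y * k ≠ 1 := by
    intro h
    apply hy1
    have e : y = k * (k⁻¹ * y * k) * k⁻¹ := by group
    rw [e, h]
    group
  have h4' : (k⁻¹ * y * k) ^ 4 = 1 := by
    have e : k⁻¹ * y * k = k⁻¹ * y * k⁻¹⁻¹ := by rw [inv_inv]
    rw [e, conj_pow, hy4]
    group
  obtain ⟨a, b, hab⟩ := eq_uG_of_mem_B hm hF hne hB h4'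
  have hord : orderOf (uG hF a b) = 4 := by
    rw [← hab]
    have h7 := (MulAut.conj k⁻¹).orderOf_eq y
    rw [MulAut.conj_apply, inv_inv] at h7
    exact h7.trans hy
  have ha := eq_zero_of_order_four hF hord
  let l : Fˣ := Units.mk0 a⁻¹ (inv_ne_zero ha)
  have h8 := hG_uG hF l a b
  have h9 : (l : F) * a = 1 := inv_mul_cancel₀ ha
  rw [h9] at h8
  set b' := (l : F) ^ (2 ^ (m + 1) + 1) * b with hb'
  obtain ⟨e, he⟩ := exists_add_pow_eq hF b'
  have h10 : (uG hF e 0 * hG hF l * k⁻¹) * y * (uG hF e 0 * hG hF l * k⁻¹)⁻¹ = uG hF 1 (b' + e ^ (2 ^ (m + 1)) + e) := by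
    rw [← conj_uG_one]
    have h11 : hG hF l * uG hF a b * (hG hF l)⁻¹ = uG hF 1 b' := by
      rw [h8]
      group
    rw [← h11, ← hab]
    group
  refine ⟨uG hF e 0 * hG hF l * k⁻¹, ?_⟩
  rw [h10]
  rcases he with he | he
  · left
    congr 1
    linear_combination he + b' * h2
  · right
    rw [uG_inv]
    congr 1
    rw [one_pow]
    linear_combination he + b' * h2

/-! ### Counting involutions and elements of order four -/

lemma exists_ovoid_finset (hF : Fintype.card F = 2 ^ (2 * m + 1)) :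
    ∃ 𝓟 : Finset (Projectivization F (Fin 4 → F)), 𝓟.card = (2 ^ (2 * m + 1)) ^ 2 + 1 ∧
      ∀ p, p ∈ 𝓟 ↔ p ∈ suzukiOvoid F m := by
  have hfin : (suzukiOvoid F m).Finite := by
    apply Nat.finite_of_card_ne_zero (α := ↥(suzukiOvoid F m))
    rw [card_ovoid]
    positivity
  refine ⟨hfin.toFinset, ?_, fun p => hfin.mem_toFinset⟩
  rw [← Set.ncard_eq_toFinset_card _ hfin, ← Nat.card_coe_set_eq, card_ovoid, hF]

/-- The number of elements of a class-closed set all of whose elements have a unique fixed point. -/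
lemma card_of_unique_fix (hF : Fintype.card F = 2 ^ (2 * m + 1)) (C : Finset ↥(Sz F m))
    [DecidablePred (fun y : ↥(Sz F m) => y • suzukiPointInfinity F = suzukiPointInfinity F)]
    (hC : ∀ g : ↥(Sz F m), ∀ y ∈ C, g * y * g⁻¹ ∈ C)
    (hu : ∀ y ∈ C, ∃ c ∈ suzukiOvoid F m, y • c = c ∧ ∀ d ∈ suzukiOvoid F m, y • d = d → d = c) :
    C.card = ((2 ^ (2 * m + 1)) ^ 2 + 1) * (C.filter (fun y => y • suzukiPointInfinity F = suzukiPointInfinity F)).card := by
  classical
  obtain ⟨𝓟, h𝓟c, h𝓟⟩ := exists_ovoid_finset (F := F) (m := m) hF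
  have h := double_count (G := ↥(Sz F m)) 𝓟 (suzukiPointInfinity F) (fun p => by
      rw [h𝓟]
      constructor
      · intro hp
        obtain ⟨k, hk⟩ := exists_pt_G hF hp
        exact ⟨k, hk.symm⟩
      · rintro ⟨g, rfl⟩
        exact smul_mem_ovoid g inf_mem_ovoid) C hC (fun y p => y • p = p) (by
      intro g y p hp
      show (g * y * g⁻¹) • (g • p) = g • p
      rw [mul_smul, mul_smul, inv_smul_smul, hp]) 1 (by
      intro y hy
      obtain ⟨c, hc, h1, h2⟩ := hu y hy
      rw [Finset.card_eq_one]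
      refine ⟨c, ?_⟩
      ext p
      simp only [Finset.mem_filter, Finset.mem_singleton, h𝓟]
      constructor
      · rintro ⟨h3, h4⟩
        exact h2 p h3 h4
      · rintro rfl
        exact ⟨hc, h1⟩)
  rw [mul_one, h𝓟c] at h
  convert h

/-- The number of involutions. -/
lemma card_invol_Sz (hm : 1 ≤ m) (hF : Fintype.card F = 2 ^ (2 * m + 1))
    [DecidablePred (fun y : ↥(Sz F m) => y * y = 1 ∧ y ≠ 1)] [Fintype ↥(Sz F m)] :
    (Finset.univ.filter (fun y : ↥(Sz F m) => y * y = 1 ∧ y ≠ 1)).card =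
      ((2 ^ (2 * m + 1)) ^ 2 + 1) * (2 ^ (2 * m + 1) - 1) := by
  classical
  rw [card_of_unique_fix hF _ ?_ ?_]
  · congr 1
    have : (Finset.univ.filter (fun y : ↥(Sz F m) => y * y = 1 ∧ y ≠ 1)).filter
        (fun y => y • suzukiPointInfinity F = suzukiPointInfinity F) =
        (Finset.univ.filter (fun b : F => b ≠ 0)).image (fun b => uG hF 0 b) := by
      ext y
      simp only [Finset.mem_filter, Finset.mem_univ, true_and, Finset.mem_image]
      constructor
      · rintro ⟨⟨h1, h2⟩, h3⟩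
        obtain ⟨b, hb, rfl⟩ := involution_of_mem_B hm hF h3 h2 h1
        exact ⟨b, hb, rfl⟩
      · rintro ⟨b, hb, rfl⟩
        refine ⟨⟨?_, ?_⟩, uG_inf hF _ _⟩
        · have := uG_sq hF (0 : F) b
          rw [zero_pow (by positivity), uG_zero, sq] at this
          exact this
        · rw [← uG_zero hF]
          intro h
          exact hb (uG_inj hF h).2
    rw [this, Finset.card_image_of_injective _ (fun a b h => (uG_inj hF h).2), Finset.filter_ne',
      Finset.card_erase_of_mem (Finset.mem_univ _), Finset.card_univ, hF]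
  · intro g y hy
    obtain ⟨h1, h2⟩ := (Finset.mem_filter.1 hy).2
    refine Finset.mem_filter.2 ⟨Finset.mem_univ _, ?_, ?_⟩
    · calc g * y * g⁻¹ * (g * y * g⁻¹) = g * (y * y) * g⁻¹ := by group
        _ = 1 := by rw [h1]; group
    · intro h
      apply h2
      have e : y = g⁻¹ * (g * y * g⁻¹) * g := by group
      rw [e, h]
      group
  · intro y hy
    obtain ⟨h1, h2⟩ := (Finset.mem_filter.1 hy).2
    apply unique_fix_of_pow_four hm hF h2
    calc y ^ 4 = (y * y) * (y * y) := by simp only [pow_succ, pow_zero, one_mul, mul_assoc]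
      _ = 1 := by rw [h1, one_mul]

/-- The number of elements of order four. -/
lemma card_order_four_Sz (hm : 1 ≤ m) (hF : Fintype.card F = 2 ^ (2 * m + 1))
    [DecidablePred (fun y : ↥(Sz F m) => orderOf y = 4)] [Fintype ↥(Sz F m)] :
    (Finset.univ.filter (fun y : ↥(Sz F m) => orderOf y = 4)).card =
      ((2 ^ (2 * m + 1)) ^ 2 + 1) * ((2 ^ (2 * m + 1) - 1) * 2 ^ (2 * m + 1)) := by
  classical
  rw [card_of_unique_fix hF _ ?_ ?_]
  · congr 1
    have : (Finset.univ.filter (fun y : ↥(Sz F m) => orderOf y = 4)).filter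
        (fun y => y • suzukiPointInfinity F = suzukiPointInfinity F) =
        ((Finset.univ.filter (fun b : F => b ≠ 0)) ×ˢ (Finset.univ : Finset F)).image (fun s => uG hF s.1 s.2) := by
      ext y
      simp only [Finset.mem_filter, Finset.mem_univ, true_and, Finset.mem_image, Finset.mem_product, and_true, Prod.exists]
      constructor
      · rintro ⟨h1, h3⟩
        have hy1 : y ≠ 1 := by
          rintro rfl
          rw [orderOf_one] at h1
          omega
        have hy4 : y ^ 4 = 1 := by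
          have := pow_orderOf_eq_one y
          rwa [h1] at this
        obtain ⟨a, b, rfl⟩ := eq_uG_of_mem_B hm hF hy1 h3 hy4
        exact ⟨a, b, eq_zero_of_order_four hF h1, rfl⟩
      · rintro ⟨a, b, ha, rfl⟩
        exact ⟨uG_order_four hF ha b, uG_inf hF _ _⟩
    rw [this, Finset.card_image_of_injective _ (fun a b h => Prod.ext (uG_inj hF h).1 (uG_inj hF h).2),
      Finset.card_product, Finset.filter_ne', Finset.card_erase_of_mem (Finset.mem_univ _), Finset.card_univ, hF]
  · intro g y hy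
    have h1 := (Finset.mem_filter.1 hy).2
    refine Finset.mem_filter.2 ⟨Finset.mem_univ _, ?_⟩
    have h7 := (MulAut.conj g).orderOf_eq y
    rw [MulAut.conj_apply] at h7
    exact h7.trans h1
  · intro y hy
    have h1 := (Finset.mem_filter.1 hy).2
    have hy1 : y ≠ 1 := by
      rintro rfl
      rw [orderOf_one] at h1
      omega
    apply unique_fix_of_pow_four hm hF hy1
    have := pow_orderOf_eq_one y
    rwa [h1] at this

end Cfsg.Agent.H10
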