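import Mathlib
import Cfsg.Agent.Lib.H10.SzSol3

/-! The solubilizers of the Suzuki groups: the data of the tori. -/

set_option autoImplicit false
set_option linter.unusedSectionVars false
set_option linter.unusedSimpArgs false
set_option linter.style.haveILetI false

namespace Cfsg.Agent.H10

open Matrix Cfsg

variable {F : Type*} [Field F] [Fintype F] [CharP F 2] {m : ℕ}

lemma map_szTwo (c d : Projectivization F (Fin 4 → F)) (g : ↥(Sz F m)) :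
    (szTwo (m := m) c d).map (MulAut.conj g).toMonoidHom = szTwo (m := m) (g • c) (g • d) := by
  ext y
  rw [mem_map_conj_iff, mem_szTwo, mem_szTwo, mul_smul, mul_smul, mul_smul, mul_smul, inv_smul_eq_iff, inv_smul_eq_iff]

lemma card_stabilizer (hm : 1 ≤ m) (hF : Fintype.card F = 2 ^ (2 * m + 1)) {p : Projectivization F (Fin 4 → F)}
    (hp : p ∈ suzukiOvoid F m) :
    Nat.card (MulAction.stabilizer ↥(Sz F m) p) = (2 ^ (2 * m + 1)) ^ 2 * (2 ^ (2 * m + 1) - 1) := by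
  obtain ⟨k, rfl⟩ := exists_pt_G hF hp
  rw [MulAction.stabilizer_smul_eq_stabilizer_map_conj, Subgroup.card_map_of_injective (MulAut.conj k).injective]
  exact card_B hm hF

/-- The data of the three classes of tori. -/
structure SzTD (hF : Fintype.card F = 2 ^ (2 * m + 1)) where
  A₁ : Subgroup ↥(Sz F m)
  A₂ : Subgroup ↥(Sz F m)
  𝓞T : Finset (Subgroup ↥(Sz F m))
  𝓞₁ : Finset (Subgroup ↥(Sz F m))
  𝓞₂ : Finset (Subgroup ↥(Sz F m))
  hA₁ : IsSzA A₁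
  hA₂ : IsSzA A₂
  c₁ : Nat.card A₁ = 2 ^ (2 * m + 1) + 2 ^ (m + 1) + 1
  c₂ : Nat.card A₂ + 2 ^ (m + 1) = 2 ^ (2 * m + 1) + 1
  hT : ∀ K, K ∈ 𝓞T ↔ ∃ g : ↥(Sz F m), K = (szTwo (m := m) (suzukiPointInfinity F) (szPt m (0 : F) 0)).map (MulAut.conj g).toMonoidHom
  h₁ : ∀ K, K ∈ 𝓞₁ ↔ ∃ g : ↥(Sz F m), K = A₁.map (MulAut.conj g).toMonoidHom
  h₂ : ∀ K, K ∈ 𝓞₂ ↔ ∃ g : ↥(Sz F m), K = A₂.map (MulAut.conj g).toMonoidHom
  hS : ∀ K, (K ∈ 𝓞₁ ∨ K ∈ 𝓞₂) ↔ IsSzA K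
  hT' : ∀ K, K ∈ 𝓞T ↔ ∃ c d, c ∈ suzukiOvoid F m ∧ d ∈ suzukiOvoid F m ∧ c ≠ d ∧ K = szTwo (m := m) c d

theorem exists_szTD (hm : 1 ≤ m) (hF : Fintype.card F = 2 ^ (2 * m + 1)) : Nonempty (SzTD (F := F) (m := m) hF) := by
  obtain ⟨A₁, A₂, c₁, c₂, -, -, hAll⟩ := exists_tori (F := F) hm hF
  obtain ⟨𝓞T, hT⟩ := exists_conj_orbit (szTwo (m := m) (suzukiPointInfinity F) (szPt m (0 : F) 0))
  obtain ⟨𝓞₁, h₁⟩ := exists_conj_orbit A₁.1
  obtain ⟨𝓞₂, h₂⟩ := exists_conj_orbit A₂.1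
  exact ⟨{
    A₁ := A₁.1, A₂ := A₂.1, 𝓞T := 𝓞T, 𝓞₁ := 𝓞₁, 𝓞₂ := 𝓞₂, hA₁ := A₁.2, hA₂ := A₂.2, c₁ := c₁, c₂ := c₂,
    hT := hT, h₁ := h₁, h₂ := h₂,
    hS := by
      intro K
      rw [h₁, h₂]
      constructor
      · rintro (⟨g, rfl⟩ | ⟨g, rfl⟩)
        · exact A₁.2.conj g
        · exact A₂.2.conj g
      · intro hK
        rcases hAll ⟨K, hK⟩ with ⟨g, hg⟩ | ⟨g, hg⟩
        · left
          exact ⟨g, (congrArg Subtype.val hg).symm⟩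
        · right
          exact ⟨g, (congrArg Subtype.val hg).symm⟩
    hT' := by
      intro K
      rw [hT]
      constructor
      · rintro ⟨g, rfl⟩
        refine ⟨g • suzukiPointInfinity F, g • szPt m (0 : F) 0, smul_mem_ovoid g inf_mem_ovoid,
          smul_mem_ovoid g (szPt_mem_ovoid _ _), ?_, map_szTwo _ _ g⟩
        intro h
        exact (szPt_ne_inf (m := m) (0 : F) 0) (MulAction.injective g h).symm
      · rintro ⟨c, d, hc, hd, hcd, rfl⟩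
        obtain ⟨k, hk1, hk2⟩ := exists_pair_G hF hc hd hcd
        refine ⟨k, ?_⟩
        rw [map_szTwo, hk1, hk2] }⟩

section data

variable {hF : Fintype.card F = 2 ^ (2 * m + 1)} (D : SzTD (F := F) (m := m) hF)

lemma SzTD.tor_T (hm : 1 ≤ m) {K : Subgroup ↥(Sz F m)} (hK : K ∈ D.𝓞T) :
    IsTor K 2 ∧ Nat.card K = 2 ^ (2 * m + 1) - 1 := by
  obtain ⟨c, d, hc, hd, hcd, rfl⟩ := (D.hT' K).1 hK
  exact ⟨isTor_szTwo hm hF hc hd hcd, szTwo_card hm hF hc hd hcd⟩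

lemma SzTD.tor_1 (hm : 1 ≤ m) {K : Subgroup ↥(Sz F m)} (hK : K ∈ D.𝓞₁) :
    IsTor K 4 ∧ Nat.card K = 2 ^ (2 * m + 1) + 2 ^ (m + 1) + 1 := by
  obtain ⟨g, rfl⟩ := (D.h₁ K).1 hK
  exact ⟨isTor_isSzA hm hF (D.hA₁.conj g), by rw [card_map_conj, D.c₁]⟩

lemma SzTD.tor_2 (hm : 1 ≤ m) {K : Subgroup ↥(Sz F m)} (hK : K ∈ D.𝓞₂) :
    IsTor K 4 ∧ Nat.card K + 2 ^ (m + 1) = 2 ^ (2 * m + 1) + 1 := by
  obtain ⟨g, rfl⟩ := (D.h₂ K).1 hK
  exact ⟨isTor_isSzA hm hF (D.hA₂.conj g), by rw [card_map_conj, D.c₂]⟩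

lemma sz_q_bounds (hm : 1 ≤ m) : 2 ^ (m + 1) + 2 ≤ 2 ^ (2 * m + 1) ∧ 4 ≤ 2 ^ (m + 1) := by
  have h1 : 2 ^ (m + 1) + 2 ^ (m + 1) ≤ 2 ^ (2 * m + 1) := by
    have : 2 ^ (m + 1) + 2 ^ (m + 1) = 2 ^ (m + 2) := by ring
    rw [this]
    exact Nat.pow_le_pow_right (by norm_num) (by omega)
  have h2 : 2 ^ (1 + 1) ≤ 2 ^ (m + 1) := Nat.pow_le_pow_right (by norm_num) (by omega)
  norm_num at h2
  omega

/-- The formula for the solubilizer of a non-trivial element of order dividing four. -/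
theorem SzTD.card_sol (hm : 1 ≤ m) {x : ↥(Sz F m)} (hx1 : x ≠ 1) (h4 : x ^ 4 = 1)
    [DecidablePred (fun K : Subgroup ↥(Sz F m) => x ∈ Subgroup.normalizer (K : Set ↥(Sz F m)))] :
    Nat.card {y : ↥(Sz F m) // Group.IsSolvable ↥(Subgroup.closure ({x, y} : Set ↥(Sz F m)))} =
      (2 ^ (2 * m + 1)) ^ 2 * (2 ^ (2 * m + 1) - 1) +
      (D.𝓞T.filter (fun K : Subgroup ↥(Sz F m) => x ∈ Subgroup.normalizer (K : Set ↥(Sz F m)))).card * (2 * (2 ^ (2 * m + 1) - 2)) +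
      (D.𝓞₁.filter (fun K : Subgroup ↥(Sz F m) => x ∈ Subgroup.normalizer (K : Set ↥(Sz F m)))).card * (4 * (2 ^ (2 * m + 1) + 2 ^ (m + 1))) +
      (D.𝓞₂.filter (fun K : Subgroup ↥(Sz F m) => x ∈ Subgroup.normalizer (K : Set ↥(Sz F m)))).card * (4 * (2 ^ (2 * m + 1) - 2 ^ (m + 1))) := by
  classical
  obtain ⟨hb1, hb2⟩ := sz_q_bounds hm
  obtain ⟨p, hp, h1, h2⟩ := unique_fix_of_pow_four hm hF hx1 h4
  let eK : Subgroup ↥(Sz F m) → ℕ := fun K => if K ∈ D.𝓞T then 2 else 4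
  have hdT1 : Disjoint D.𝓞T D.𝓞₁ := by
    rw [Finset.disjoint_left]
    intro K h5 h6
    have h7 := (D.tor_T hm h5).2
    have h8 := (D.tor_1 hm h6).2
    omega
  have hdT2 : Disjoint D.𝓞T D.𝓞₂ := by
    rw [Finset.disjoint_left]
    intro K h5 h6
    have h7 := (D.tor_T hm h5).2
    have h8 := (D.tor_2 hm h6).2
    omega
  have hd12 : Disjoint D.𝓞₁ D.𝓞₂ := by
    rw [Finset.disjoint_left]
    intro K h5 h6
    have h7 := (D.tor_1 hm h5).2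
    have h8 := (D.tor_2 hm h6).2
    omega
  have heT : ∀ K ∈ D.𝓞T, eK K = 2 := fun K hK => if_pos hK
  have he1 : ∀ K ∈ D.𝓞₁, eK K = 4 := fun K hK => if_neg (fun h => Finset.disjoint_left.1 hdT1 h hK)
  have he2 : ∀ K ∈ D.𝓞₂, eK K = 4 := fun K hK => if_neg (fun h => Finset.disjoint_left.1 hdT2 h hK)
  set 𝓣 := D.𝓞T ∪ (D.𝓞₁ ∪ D.𝓞₂) with h𝓣def
  have h𝓣 : ∀ K ∈ 𝓣, IsTor K (eK K) := by
    intro K hK
    rcases Finset.mem_union.1 hK with h | h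
    · rw [heT K h]
      exact (D.tor_T hm h).1
    · rcases Finset.mem_union.1 h with h | h
      · rw [he1 K h]
        exact (D.tor_1 hm h).1
      · rw [he2 K h]
        exact (D.tor_2 hm h).1
  have hsol : ∀ y, Group.IsSolvable ↥(Subgroup.closure ({x, y} : Set ↥(Sz F m))) ↔
      y • p = p ∨ ∃ K ∈ 𝓣, x ∈ Subgroup.normalizer (K : Set ↥(Sz F m)) ∧ y ∈ Subgroup.normalizer (K : Set ↥(Sz F m)) := by
    intro y
    constructor
    · intro hs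
      rcases exists_of_solvable hm hF hx1 hs with ⟨p', hp', h5, h6⟩ | ⟨c, d, hc, hd, hcd, h5, h6⟩ | ⟨A, hA, h5, h6⟩
      · left
        rw [← h2 p' hp' h5]
        exact h6
      · right
        exact ⟨_, Finset.mem_union_left _ ((D.hT' _).2 ⟨c, d, hc, hd, hcd, rfl⟩), h5, h6⟩
      · right
        exact ⟨A, Finset.mem_union_right _ (Finset.mem_union.2 ((D.hS A).2 hA)), h5, h6⟩
    · rintro (h5 | ⟨K, hK, h5, h6⟩)
      · exact solvable_of_mem (isSolvable_stabilizer hm hF hp) h1 h5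
      · exact solvable_of_mem (h𝓣 K hK).isSolvable h5 h6
  have hd1 : Disjoint (D.𝓞T.filter (fun K : Subgroup ↥(Sz F m) => x ∈ Subgroup.normalizer (K : Set ↥(Sz F m))))
      (D.𝓞₁.filter (fun K : Subgroup ↥(Sz F m) => x ∈ Subgroup.normalizer (K : Set ↥(Sz F m))) ∪
        D.𝓞₂.filter (fun K : Subgroup ↥(Sz F m) => x ∈ Subgroup.normalizer (K : Set ↥(Sz F m)))) := by
    rw [← Finset.filter_union]
    exact Finset.disjoint_filter_filter (by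
      rw [Finset.disjoint_union_right]
      exact ⟨hdT1, hdT2⟩)
  have hd2 : Disjoint (D.𝓞₁.filter (fun K : Subgroup ↥(Sz F m) => x ∈ Subgroup.normalizer (K : Set ↥(Sz F m))))
      (D.𝓞₂.filter (fun K : Subgroup ↥(Sz F m) => x ∈ Subgroup.normalizer (K : Set ↥(Sz F m)))) :=
    Finset.disjoint_filter_filter hd12
  rw [card_sol_two hm hF hx1 h4 hp h1 h2 𝓣 eK h𝓣 hsol, card_stabilizer hm hF hp, h𝓣def, Finset.filter_union, Finset.filter_union,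
    Finset.sum_union hd1, Finset.sum_union hd2]
  have hs1 : ∑ K ∈ D.𝓞T.filter (fun K : Subgroup ↥(Sz F m) => x ∈ Subgroup.normalizer (K : Set ↥(Sz F m))), eK K * (Nat.card K - 1) =
      (D.𝓞T.filter (fun K : Subgroup ↥(Sz F m) => x ∈ Subgroup.normalizer (K : Set ↥(Sz F m)))).card * (2 * (2 ^ (2 * m + 1) - 2)) := by
    rw [Finset.sum_const_nat]
    intro K hK
    have h5 := (Finset.mem_filter.1 hK).1
    rw [heT K h5, (D.tor_T hm h5).2]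
    rfl
  have hs2 : ∑ K ∈ D.𝓞₁.filter (fun K : Subgroup ↥(Sz F m) => x ∈ Subgroup.normalizer (K : Set ↥(Sz F m))), eK K * (Nat.card K - 1) =
      (D.𝓞₁.filter (fun K : Subgroup ↥(Sz F m) => x ∈ Subgroup.normalizer (K : Set ↥(Sz F m)))).card * (4 * (2 ^ (2 * m + 1) + 2 ^ (m + 1))) := by
    rw [Finset.sum_const_nat]
    intro K hK
    have h5 := (Finset.mem_filter.1 hK).1
    rw [he1 K h5, (D.tor_1 hm h5).2]
    rfl
  have hs3 : ∑ K ∈ D.𝓞₂.filter (fun K : Subgroup ↥(Sz F m) => x ∈ Subgroup.normalizer (K : Set ↥(Sz F m))), eK K * (Nat.card K - 1) =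
      (D.𝓞₂.filter (fun K : Subgroup ↥(Sz F m) => x ∈ Subgroup.normalizer (K : Set ↥(Sz F m)))).card * (4 * (2 ^ (2 * m + 1) - 2 ^ (m + 1))) := by
    rw [Finset.sum_const_nat]
    intro K hK
    have h5 := (Finset.mem_filter.1 hK).1
    have h6 := (D.tor_2 hm h5).2
    have h7 : Nat.card K - 1 = 2 ^ (2 * m + 1) - 2 ^ (m + 1) := by omega
    rw [he2 K h5, h7]
  rw [hs1, hs2, hs3]
  ring

end data

end Cfsg.Agent.H10
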